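import Mathlib

set_option autoImplicit false

namespace Cfsg.Agent.Lib.Helper70

open Subgroup

/-- the `n`-torsion subgroup of a commutative group -/
def tors (G : Type*) [CommGroup G] (n : ℕ) : Subgroup G := (powMonoidHom n : G →* G).ker

theorem mem_tors {G : Type*} [CommGroup G] (n : ℕ) (g : G) : g ∈ tors G n ↔ g ^ n = 1 := by
  rw [tors, MonoidHom.mem_ker]; rfl

theorem card_tors_mul_le {G : Type*} [CommGroup G] [Finite G] (p m : ℕ) :
    Nat.card (tors G (p * m)) ≤ Nat.card (tors G p) * Nat.card (tors G m) := by
  let ψ : tors G (p * m) →* G := (powMonoidHom p).comp (tors G (p * m)).subtype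
  have h1 : Nat.card ψ.ker * Nat.card ψ.range = Nat.card (tors G (p * m)) := by
    rw [← Subgroup.index_ker, Subgroup.card_mul_index]
  have h2 : Nat.card ψ.range ≤ Nat.card (tors G m) := by
    apply Subgroup.card_le_of_le
    rintro _ ⟨a, rfl⟩
    rw [mem_tors]
    show ((a : G) ^ p) ^ m = 1
    rw [← pow_mul]
    exact (mem_tors _ _).mp a.2
  have h3 : Nat.card ψ.ker ≤ Nat.card (tors G p) := by
    let f : ψ.ker → tors G p := fun a => ⟨a.1.1, by
      rw [mem_tors]
      exact MonoidHom.mem_ker.mp a.2⟩
    apply Nat.card_le_card_of_injective f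
    intro a b hab
    apply Subtype.ext
    apply Subtype.ext
    exact congrArg (fun t : tors G p => (t : G)) hab
  calc Nat.card (tors G (p * m)) = Nat.card ψ.ker * Nat.card ψ.range := h1.symm
    _ ≤ Nat.card (tors G p) * Nat.card (tors G m) := Nat.mul_le_mul h3 h2

/-- A finite abelian group all of whose `p`-torsion subgroups (p prime) have at most `p` elements is cyclic. -/
theorem isCyclic_of_card_tors_prime_le {G : Type*} [CommGroup G] [Finite G]
    (h : ∀ p : ℕ, p.Prime → Nat.card (tors G p) ≤ p) : IsCyclic G := by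
  have key : ∀ n : ℕ, 0 < n → Nat.card (tors G n) ≤ n := by
    intro n
    induction n using Nat.strong_induction_on with
    | _ n ih =>
      intro hn
      rcases Nat.lt_or_ge 1 n with h1 | h1
      · set p := n.minFac with hp
        have hpp : p.Prime := Nat.minFac_prime (by omega)
        obtain ⟨m, hm⟩ := Nat.minFac_dvd n
        rw [← hp] at hm
        have hm0 : 0 < m := by
          rcases Nat.eq_zero_or_pos m with h0 | h0
          · rw [h0] at hm; omega
          · exact h0
        have hmn : m < n := by
          rw [hm]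
          have := hpp.two_le
          nlinarith
        calc Nat.card (tors G n) = Nat.card (tors G (p * m)) := by rw [← hm]
          _ ≤ Nat.card (tors G p) * Nat.card (tors G m) := card_tors_mul_le p m
          _ ≤ p * m := Nat.mul_le_mul (h p hpp) (ih m hmn hm0)
          _ = n := hm.symm
      · have : n = 1 := by omega
        subst this
        have : tors G 1 = ⊥ := by
          rw [eq_bot_iff]
          intro g hg
          rw [mem_tors, pow_one] at hg
          rw [Subgroup.mem_bot]; exact hg
        rw [this]
        simp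
  cases nonempty_fintype G
  classical
  apply isCyclic_of_card_pow_eq_one_le
  intro n hn
  have := key n hn
  rw [Nat.card_eq_fintype_card] at this
  convert this using 1
  rw [Fintype.card_subtype]
  congr 1

theorem exists_prime_lt_card_tors {G : Type*} [CommGroup G] [Finite G] (h : ¬ IsCyclic G) :
    ∃ p : ℕ, p.Prime ∧ p < Nat.card (tors G p) := by
  by_contra hcon
  push Not at hcon
  exact h (isCyclic_of_card_tors_prime_le hcon)

theorem exists_surj_prod_of_card {K V : Type*} [Field K] [Finite K] [AddCommGroup V] [Module K V] [Finite V]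
    (h : Nat.card K < Nat.card V) : ∃ L : V →ₗ[K] K × K, Function.Surjective L := by
  haveI : Module.Finite K V := Module.Finite.of_finite
  have hfin : 2 ≤ Module.finrank K V := by
    have := Module.natCard_eq_pow_finrank (K := K) (V := V)
    rw [this] at h
    by_contra hcon
    push Not at hcon
    have h1 : 0 < Nat.card K := Nat.card_pos
    have : Nat.card K ^ Module.finrank K V ≤ Nat.card K ^ 1 :=
      Nat.pow_le_pow_right h1 (by omega)
    rw [pow_one] at this
    omega
  let b := Module.finBasis K V
  let i0 : Fin (Module.finrank K V) := ⟨0, by omega⟩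
  let i1 : Fin (Module.finrank K V) := ⟨1, by omega⟩
  have h01 : i0 ≠ i1 := by
    intro h
    have := congrArg Fin.val h
    simp [i0, i1] at this
  refine ⟨(b.coord i0).prod (b.coord i1), ?_⟩
  rintro ⟨x, y⟩
  refine ⟨x • b i0 + y • b i1, ?_⟩
  simp only [LinearMap.prod_apply, map_add, map_smul]
  simp [h01, h01.symm]

theorem exists_surj_zmod_prod_add {A : Type*} [AddCommGroup A] [Finite A] (p : ℕ) [hp : Fact p.Prime]
    (h : p < Nat.card (nsmulAddMonoidHom p : A →+ A).ker) :
    ∃ q : A →+ ZMod p × ZMod p, Function.Surjective q := by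
  let f : A →+ A := nsmulAddMonoidHom p
  let S : AddSubgroup A := f.range
  have hS : ∀ x : A, p • x ∈ S := fun x => ⟨x, rfl⟩
  letI inst1 : Module (ZMod p) (A ⧸ S) := QuotientAddGroup.zmodModule hS
  have hidx : S.index = Nat.card f.ker := by
    have h1 := AddSubgroup.card_mul_index S
    have h2 := AddSubgroup.card_mul_index f.ker
    rw [AddSubgroup.index_ker] at h2
    have h3 : Nat.card S * S.index = Nat.card S * Nat.card f.ker := by
      rw [h1, ← h2, mul_comm]
    exact Nat.eq_of_mul_eq_mul_left Nat.card_pos h3
  have hcardV : Nat.card (ZMod p) < Nat.card (A ⧸ S) := by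
    rw [Nat.card_zmod]
    show p < S.index
    rw [hidx]; exact h
  obtain ⟨L, hL⟩ := @exists_surj_prod_of_card (ZMod p) (A ⧸ S) _ _ _ inst1 _ hcardV
  refine ⟨(@LinearMap.toAddMonoidHom _ _ _ _ _ _ _ _ inst1 _ _ L).comp (QuotientAddGroup.mk' S), ?_⟩
  exact hL.comp (QuotientAddGroup.mk'_surjective S)

theorem exists_surj_zmod_prod {G : Type*} [CommGroup G] [Finite G] (p : ℕ) [hp : Fact p.Prime]
    (h : p < Nat.card (tors G p)) :
    ∃ q : G →* Multiplicative (ZMod p × ZMod p), Function.Surjective q := by
  have hker : Nat.card (nsmulAddMonoidHom p : Additive G →+ Additive G).ker = Nat.card (tors G p) := by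
    apply Nat.card_congr
    refine ⟨fun a => ⟨Additive.toMul a.1, ?_⟩, fun g => ⟨Additive.ofMul g.1, ?_⟩, ?_, ?_⟩
    · rw [mem_tors]
      have := a.2
      rw [AddMonoidHom.mem_ker] at this
      exact this
    · rw [AddMonoidHom.mem_ker]
      exact (mem_tors p g.1).mp g.2
    · intro a; rfl
    · intro g; rfl
  obtain ⟨q₀, hq₀⟩ := exists_surj_zmod_prod_add (A := Additive G) p (by rw [hker]; exact h)
  refine ⟨AddMonoidHom.toMultiplicativeRight q₀, ?_⟩
  intro t
  obtain ⟨a, ha⟩ := hq₀ (Multiplicative.toAdd t)
  exact ⟨Additive.toMul a, by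
    show Multiplicative.ofAdd (q₀ (Additive.ofMul (Additive.toMul a))) = t
    rw [ofMul_toMul, ha]; rfl⟩

end Cfsg.Agent.Lib.Helper70
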