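import Mathlib
import Cfsg.Agent.S1403
import Cfsg.Agent.Lib.Helper55.Uniq
import Cfsg.Agent.Lib.Helper55.SylowIn
import Cfsg.Agent.Lib.Helper16.BG124Defs

/-!
# K-S1416-K4 `exists_good_of_alpha` (BG Lemma 12.4, case `p ∈ α(M)`)
-/

set_option autoImplicit false

namespace Cfsg.Agent.Lib.Helper70.BG124

open Cfsg Cfsg.Agent.Lib.Helper16.BG124 Cfsg.Agent.Lib.Helper55

variable {G : Type*} [Group G] [Finite G]

variable {M A : Subgroup G} {p : ℕ} [Fact p.Prime]

/-- In case II (`r_p(C_G(A)) ≤ 2`) an element of order dividing `p` centralizing `A` lies in `A`. -/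
theorem mem_of_rank2 (hAe : IsElementaryAbelian p A) (hA2 : Nat.card A = p ^ 2)
    (h2 : PRankLE p 2 ↥(Subgroup.centralizer (A : Set G))) (z : G)
    (hzc : z ∈ Subgroup.centralizer (A : Set G)) (hzp : z ^ p = 1) : z ∈ A := by
  have hAc : ∀ a ∈ A, ∀ b ∈ A, a * b = b * a := fun a ha b hb =>
    congrArg Subtype.val (hAe.1.is_comm.comm ⟨a, ha⟩ ⟨b, hb⟩)
  let S : Set G := insert z (A : Set G)
  have hScomm : ∀ a ∈ S, ∀ b ∈ S, a * b = b * a := by
    intro a ha b hb
    rcases Set.mem_insert_iff.mp ha with ha1 | ha2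
    · rcases Set.mem_insert_iff.mp hb with hb1 | hb2
      · rw [ha1, hb1]
      · rw [ha1]; exact (Subgroup.mem_centralizer_iff.mp hzc b hb2).symm
    · rcases Set.mem_insert_iff.mp hb with hb1 | hb2
      · rw [hb1]; exact Subgroup.mem_centralizer_iff.mp hzc a ha2
      · exact hAc a ha2 b hb2
  have hEc : ∀ a ∈ Subgroup.closure S, ∀ b ∈ Subgroup.closure S, a * b = b * a := by
    have hc := Subgroup.isMulCommutative_closure hScomm
    intro a ha b hb
    exact congrArg Subtype.val ((isMulCommutative_iff.mp hc) ⟨a, ha⟩ ⟨b, hb⟩)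
  have hEp : ∀ a ∈ Subgroup.closure S, a ^ p = 1 := by
    intro a ha
    induction ha using Subgroup.closure_induction with
    | mem x hx =>
      rcases Set.mem_insert_iff.mp hx with hx1 | hx2
      · rw [hx1]; exact hzp
      · exact hAe.2 x hx2
    | one => exact one_pow p
    | mul x y hx hy hxp hyp =>
      rw [Commute.mul_pow (hEc x hx y hy) p, hxp, hyp, mul_one]
    | inv x _ hxp => rw [inv_pow, hxp, inv_one]
  have hEle : Subgroup.closure S ≤ Subgroup.centralizer (A : Set G) := by
    rw [Subgroup.closure_le]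
    intro x hx
    rcases Set.mem_insert_iff.mp hx with hx1 | hx2
    · rw [hx1]; exact hzc
    · exact Subgroup.mem_centralizer_iff.mpr fun b hb => hAc b hb x hx2
  have hcard := pRankLE_sub_iff.mp h2 (Subgroup.closure S) hEle hEc hEp
  have hAE : A ≤ Subgroup.closure S := fun a ha => Subgroup.subset_closure (Set.mem_insert_of_mem _ ha)
  have hEA : A = Subgroup.closure S := Subgroup.eq_of_le_of_card_ge hAE (by rw [hA2]; exact hcard)
  rw [hEA]
  exact Subgroup.subset_closure (Set.mem_insert _ _)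

/-- K4. CASE II and `p ∈ α(M)` ⇒ some `A₀ ≤ A` is good. -/
theorem exists_good_of_alpha (hG : IsMinSimpleOddOrder G) (hM : IsCoatom M) (hAM : A ≤ M)
    (hAe : IsElementaryAbelian p A) (hA2 : Nat.card A = p ^ 2)
    (h2 : PRankLE p 2 ↥(Subgroup.centralizer (A : Set G))) (hα : p ∈ alpha M) :
    ∃ A₀ : Subgroup G, A₀ ≤ A ∧ Nat.card A₀ = p ∧ Good M A₀ := by
  have hp : p.Prime := Fact.out
  -- a Sylow p-subgroup of M containing A
  have hcardA : Nat.card (A.subgroupOf M) = p ^ 2 := by
    rw [← hA2]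
    exact Nat.card_congr (Subgroup.subgroupOfEquivOfLe hAM).toEquiv
  have hApg : IsPGroup p (A.subgroupOf M) := IsPGroup.of_card hcardA
  obtain ⟨P, hP⟩ := hApg.exists_le_sylow
  set PG : Subgroup G := (P : Subgroup M).map M.subtype with hPG
  have hAP : A ≤ PG := by
    intro a ha
    exact ⟨⟨a, hAM ha⟩, hP (Subgroup.mem_subgroupOf.mpr ha), rfl⟩
  have hSyl : IsSylowIn p M PG := isSylowIn_of_sylow P
  have hPGM : PG ≤ M := hSyl.1
  have hPGp : IsPGroup p PG := hSyl.2.1
  -- rank at least three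
  have hr3 : ¬ PRankLE p 2 ↥PG := fun h => hα.2 (pRankLE_of_isSylowIn hSyl h)
  have hK3 : ¬ RankLE 2 ↥PG := fun h => hr3 (h p hp)
  have hK2 : ¬ RankLE 1 ↥PG := by
    intro h
    apply hr3
    intro B hBc hBp
    have := h p hp B hBc hBp
    exact this.trans (Nat.pow_le_pow_right hp.pos (by norm_num))
  have hPGtop : PG ≠ ⊤ := by
    intro h
    apply hM.1
    rw [eq_top_iff, ← h]
    exact hPGM
  have huniq := Cfsg.Agent.S1403.result hG PG hPGtop hK2 (Or.inl hK3)
  have hU : ∀ L : Subgroup G, IsCoatom L → PG ≤ L → L = M :=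
    fun L hL hPL => huniq.unique ⟨hL, hPL⟩ ⟨hM, hPGM⟩
  -- a central element of order p of PG
  have hnt : Nontrivial ↥PG := by
    have h1 : 1 < Nat.card ↥PG := by
      have : Nat.card A ≤ Nat.card ↥PG := Subgroup.card_le_of_le hAP
      rw [hA2] at this
      have : 1 < p ^ 2 := Nat.one_lt_pow (by norm_num) hp.one_lt
      omega
    exact Finite.one_lt_card_iff_nontrivial.mp h1
  have hcnt : Nontrivial (Subgroup.center ↥PG) := hPGp.center_nontrivial
  have hcp : IsPGroup p (Subgroup.center ↥PG) := hPGp.to_subgroup _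
  have hdvd : p ∣ Nat.card (Subgroup.center ↥PG) := by
    obtain ⟨n, hn⟩ := hcp.exists_card_eq
    have h1 : 1 < Nat.card (Subgroup.center ↥PG) := Finite.one_lt_card_iff_nontrivial.mpr hcnt
    rw [hn] at h1 ⊢
    have hn0 : n ≠ 0 := by
      rintro rfl
      simp at h1
    exact dvd_pow_self p hn0
  obtain ⟨x, hx⟩ := exists_prime_orderOf_dvd_card' (G := Subgroup.center ↥PG) p hdvd
  set z : G := ((x : ↥PG) : G) with hz
  have hzo : orderOf z = p := by
    rw [hz, Subgroup.orderOf_coe, Subgroup.orderOf_coe, hx]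
  have hzp : z ^ p = 1 := by rw [← hzo]; exact pow_orderOf_eq_one z
  have hzPG : z ∈ PG := (x : ↥PG).2
  have hzcomm : ∀ g ∈ PG, g * z = z * g := by
    intro g hg
    have := Subgroup.mem_center_iff.mp x.2 ⟨g, hg⟩
    exact congrArg Subtype.val this
  have hzcA : z ∈ Subgroup.centralizer (A : Set G) :=
    Subgroup.mem_centralizer_iff.mpr fun a ha => hzcomm a (hAP ha)
  have hzA : z ∈ A := mem_of_rank2 hAe hA2 h2 z hzcA hzp
  refine ⟨Subgroup.zpowers z, (Subgroup.zpowers_le).mpr hzA, ?_, ?_⟩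
  · rw [Nat.card_zpowers, hzo]
  · -- normalizer contains PG
    have hPN : PG ≤ Subgroup.normalizer ((Subgroup.zpowers z : Subgroup G) : Set G) := by
      intro g hg
      have hcz : g ∈ Subgroup.centralizer ((Subgroup.zpowers z : Subgroup G) : Set G) := by
        rw [Subgroup.mem_centralizer_iff]
        intro y hy
        obtain ⟨k, rfl⟩ := Subgroup.mem_zpowers_iff.mp hy
        exact ((Commute.zpow_left (hzcomm g hg).symm k)).eq
      exact Subgroup.centralizer_le_normalizer _ hcz
    have hNtop : Subgroup.normalizer ((Subgroup.zpowers z : Subgroup G) : Set G) ≠ ⊤ := by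
      intro h
      have hn : (Subgroup.zpowers z).Normal := Subgroup.normalizer_eq_top_iff.mp h
      have hs : IsSimpleGroup G := hG.2.1
      rcases hn.eq_bot_or_eq_top with h0 | h1
      · have : Nat.card (Subgroup.zpowers z) = 1 := by rw [h0]; exact Subgroup.card_bot
        rw [Nat.card_zpowers, hzo] at this
        exact hp.one_lt.ne' this
      · apply hG.2.2.1
        have hcyc : IsCyclic G := by
          refine ⟨⟨z, fun g => ?_⟩⟩
          have : g ∈ Subgroup.zpowers z := by rw [h1]; exact Subgroup.mem_top g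
          exact this
        exact hcyc.isMulCommutative
    obtain ⟨L, hL, hNL⟩ := (eq_top_or_exists_le_coatom _).resolve_left hNtop
    have hLM : L = M := hU L hL (hPN.trans hNL)
    refine ⟨hLM ▸ hNL, fun L' hL' hNL' => hU L' hL' (hPN.trans hNL')⟩

end Cfsg.Agent.Lib.Helper70.BG124
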