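import Mathlib
import Cfsg.Agent.S1350
import Cfsg.Agent.S1415
import Cfsg.Agent.Lib.Helper31.BG134Defs
import Cfsg.Agent.Lib.Helper31.BG12a
import Cfsg.Agent.Lib.Helper55.SylowIn
import Cfsg.Agent.Lib.Helper13.BG12B
import Cfsg.Agent.Lib.Helper71.BG10Sub

/-!
# K-S1428-G2 `le_commutator_of_mem_tau3`: for `s ∈ τ₃(H)` every `s`-subgroup of `H` lies in `H'`.
-/

set_option autoImplicit false

namespace Cfsg.Agent.Lib.Helper70.BG134

open Cfsg Cfsg.Agent.Lib.Helper55

variable {G : Type*} [Group G] [Finite G]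

theorem le_commutator_of_mem_tau3 (hG : IsMinSimpleOddOrder G) {H : Subgroup G} (hH : IsCoatom H)
    {s : ℕ} [Fact s.Prime] (hs : s ∈ tau3 H) {X : Subgroup G} (hXH : X ≤ H) (hXs : IsPGroup s X) :
    X ≤ ⁅H, H⁆ := by
  have hsp : s.Prime := Fact.out
  have hHall := (Cfsg.Agent.S1350.result hG H hH).1
  -- primes dividing |X|
  have hXp : ∀ p : ℕ, p.Prime → p ∣ Nat.card X → p = s := by
    intro p hp hpd
    obtain ⟨k, hk⟩ := IsPGroup.iff_card.mp hXs
    rw [hk] at hpd
    exact (Nat.prime_dvd_prime_iff_eq hp hsp).mp (hp.dvd_of_dvd_pow hpd)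
  obtain ⟨E, hE, hXE⟩ := Cfsg.Agent.Lib.Helper13.BG12.exists_complIn_ge hG hH hHall hXH
    (fun p hp hpd => by rw [hXp p hp hpd]; exact hs.2.1)
  have hEH : E ≤ H := hE.1
  have hEtop : E ≠ ⊤ := by
    intro h
    apply hH.1
    rw [eq_top_iff, ← h]
    exact hEH
  haveI : Group.IsSolvable ↥E := ms_solvable hG hEtop
  obtain ⟨L, hXL, hL1, hL2⟩ := Cfsg.Agent.Lib.Helper71.BG10.exists_hall_ge (tau3 H) (X.subgroupOf E)
    (fun p hp hpd => by
      rw [Nat.card_congr (Subgroup.subgroupOfEquivOfLe hXE).toEquiv] at hpd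
      rw [hXp p hp hpd]; exact hs)
  have hE3 : IsPiHallOf (tau3 H) (L.map E.subtype) E := by
    refine ⟨Subgroup.map_subtype_le _, ?_, ?_⟩
    · intro p hp hpd
      rw [Subgroup.card_map_of_injective E.subtype_injective] at hpd
      exact hL1 p hp hpd
    · intro p hp hpτ hpd
      have : (L.map E.subtype).relIndex E = L.index := by
        unfold Subgroup.relIndex Subgroup.subgroupOf
        rw [Subgroup.comap_map_eq_self_of_injective E.subtype_injective]
      rw [this] at hpd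
      exact hL2 p hp hpd hpτ
  have h15 := (Cfsg.Agent.S1415.result hG H hH E hE).2.2 (L.map E.subtype) hE3
  have hXE3 : X ≤ L.map E.subtype := by
    intro x hx
    exact ⟨⟨x, hXE hx⟩, hXL (Subgroup.mem_subgroupOf.mpr hx), rfl⟩
  exact hXE3.trans (h15.2.1.trans (Subgroup.commutator_mono hEH hEH))

end Cfsg.Agent.Lib.Helper70.BG134
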