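import Mathlib
import Cfsg.Prelude

/-!
# Shared definitions for S4016 (cyclic Sylow `p`-subgroup, abelian `p'`-subgroups)
-/

namespace Cfsg.Agent.Lib.Helper70.CycSyl

universe u

/-- hypotheses of S4016: cyclic Sylow `p`-subgroups and abelian `p'`-subgroups -/
def Hyp (p : ℕ) (G : Type u) [Group G] : Prop :=
  (∀ P : Sylow p G, IsCyclic (P : Subgroup G)) ∧
    ∀ H : Subgroup G, ¬ p ∣ Nat.card H → IsMulCommutative H

/-- conclusion of S4016: a normal `p`-complement or normal Sylow `p`-subgroups -/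
def Concl (p : ℕ) (G : Type u) [Group G] : Prop :=
  Cfsg.HasNormalPComplement p G ∨ ∀ P : Sylow p G, (P : Subgroup G).Normal

end Cfsg.Agent.Lib.Helper70.CycSyl
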