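import Mathlib

/-!
# Coprime automorphisms of cyclic `p`-groups (for S4016)
-/

namespace Cfsg.Agent.Lib.Helper70.CycSyl

open Subgroup

/-- In a cyclic `p`-group two nontrivial elements have a common nontrivial power. -/
theorem exists_pow_mem_zpowers {Q : Type*} [Group Q] [Finite Q] [IsCyclic Q] {p : ℕ} [hp : Fact p.Prime]
    (hQ : IsPGroup p Q) {a b : Q} (ha : a ≠ 1) (hb : b ≠ 1) :
    ∃ k : ℕ, a ^ k ≠ 1 ∧ a ^ k ∈ zpowers b := by
  classical
  let _ : CommGroup Q := IsCyclic.commGroup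
  -- elements of order p
  have key : ∀ c : Q, c ≠ 1 → ∃ k : ℕ, orderOf (c ^ k) = p := by
    intro c hc
    obtain ⟨n, hn⟩ := IsPGroup.iff_orderOf.mp hQ c
    have hn0 : n ≠ 0 := by
      rintro rfl
      simp at hn
      exact hc hn
    refine ⟨p ^ (n - 1), ?_⟩
    rw [orderOf_pow' _ (pow_ne_zero _ hp.out.ne_zero), hn]
    have : p ^ n = p ^ (n - 1) * p := by
      rw [← pow_succ]; congr 1; omega
    rw [Nat.gcd_eq_right (Dvd.intro _ this.symm), this, Nat.mul_div_cancel_left _ (pow_pos hp.out.pos _)]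
  obtain ⟨k, hk⟩ := key a ha
  obtain ⟨j, hj⟩ := key b hb
  set Ω : Subgroup Q := (powMonoidHom p : Q →* Q).ker with hΩ
  have hcardΩ : Nat.card Ω ≤ p := by
    rw [hΩ, IsCyclic.card_powMonoidHom_ker]
    exact Nat.le_of_dvd hp.out.pos (Nat.gcd_dvd_right _ _)
  have hbΩ : zpowers (b ^ j) ≤ Ω := by
    rw [zpowers_le]
    simp only [hΩ, MonoidHom.mem_ker, powMonoidHom_apply]
    rw [← hj]; exact pow_orderOf_eq_one _
  have hcardb : Nat.card (zpowers (b ^ j)) = p := by rw [Nat.card_zpowers, hj]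
  have heq : zpowers (b ^ j) = Ω :=
    Subgroup.eq_of_le_of_card_ge hbΩ (by rw [hcardb]; exact hcardΩ)
  refine ⟨k, ?_, ?_⟩
  · intro h
    rw [h, orderOf_one] at hk
    exact hp.out.one_lt.ne hk
  · have : a ^ k ∈ Ω := by
      simp only [hΩ, MonoidHom.mem_ker, powMonoidHom_apply]
      rw [← hk]; exact pow_orderOf_eq_one _
    rw [← heq] at this
    exact (zpowers_le.mpr (Subgroup.pow_mem _ (mem_zpowers b) j)) this

/-- telescoping: if `c = v⁻¹ (y v y⁻¹)` is fixed by `y` then `c ^ k = v⁻¹ (y ^ k v y ^ (-k))`. -/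
theorem comm_pow_of_fixed {G : Type*} [Group G] (y v : G)
    (hfix : y * (v⁻¹ * (y * v * y⁻¹)) * y⁻¹ = v⁻¹ * (y * v * y⁻¹)) (k : ℕ) :
    (v⁻¹ * (y * v * y⁻¹)) ^ k = v⁻¹ * (y ^ k * v * (y ^ k)⁻¹) := by
  induction k with
  | zero => simp
  | succ k ih =>
    -- conjugating by y^k fixes c
    have hk : ∀ j : ℕ, y ^ j * (v⁻¹ * (y * v * y⁻¹)) * (y ^ j)⁻¹ = v⁻¹ * (y * v * y⁻¹) := by
      intro j
      induction j with
      | zero => simp
      | succ j ihj =>
        rw [pow_succ']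
        calc y * y ^ j * (v⁻¹ * (y * v * y⁻¹)) * (y * y ^ j)⁻¹
            = y * (y ^ j * (v⁻¹ * (y * v * y⁻¹)) * (y ^ j)⁻¹) * y⁻¹ := by group
          _ = _ := by rw [ihj, hfix]
    rw [pow_succ, ih]
    have h2 := hk k
    -- c = (y^k v y^-k)⁻¹ (y^(k+1) v y^-(k+1))
    have h3 : v⁻¹ * (y * v * y⁻¹) = (y ^ k * v * (y ^ k)⁻¹)⁻¹ * (y ^ (k + 1) * v * (y ^ (k + 1))⁻¹) := by
      rw [← h2, pow_succ]; group
    calc v⁻¹ * (y ^ k * v * (y ^ k)⁻¹) * (v⁻¹ * (y * v * y⁻¹))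
        = v⁻¹ * (y ^ k * v * (y ^ k)⁻¹) * ((y ^ k * v * (y ^ k)⁻¹)⁻¹ * (y ^ (k + 1) * v * (y ^ (k + 1))⁻¹)) := by
          rw [← h3]
      _ = _ := by group

/-- **cyclic coprime lemma**: an element of order prime to `p` normalizing a cyclic `p`-group `P` and
centralizing a nontrivial element of `P` centralizes `P`. -/
theorem mem_centralizer_of_commute {G : Type*} [Group G] [Finite G] {p : ℕ} [hp : Fact p.Prime]
    (P : Subgroup G) (hcyc : IsCyclic P) (hP : IsPGroup p P) {y : G}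
    (hy : y ∈ normalizer (P : Set G)) (hcop : (orderOf y).Coprime p) {u : G} (hu : u ∈ P) (hu1 : u ≠ 1)
    (hc : y * u = u * y) : y ∈ centralizer (P : Set G) := by
  classical
  have hPcomm : ∀ a ∈ P, ∀ b ∈ P, a * b = b * a := by
    intro a ha b hb
    let _ : CommGroup P := IsCyclic.commGroup
    have := mul_comm (⟨a, ha⟩ : P) ⟨b, hb⟩
    exact congrArg Subtype.val this
  have hconj : ∀ v ∈ P, y * v * y⁻¹ ∈ P := fun v hv => (mem_normalizer_iff.mp hy v).mp hv
  -- all commutators are trivial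
  have hall : ∀ v ∈ P, v⁻¹ * (y * v * y⁻¹) = 1 := by
    intro v hv
    by_contra hne
    have hcP : v⁻¹ * (y * v * y⁻¹) ∈ P := P.mul_mem (P.inv_mem hv) (hconj v hv)
    obtain ⟨k, hk1, hk2⟩ := exists_pow_mem_zpowers (Q := P) hP
      (a := ⟨_, hcP⟩) (b := ⟨u, hu⟩) (by simpa [Subtype.ext_iff] using hne)
      (by simpa [Subtype.ext_iff] using hu1)
    -- w = c^k
    set c := v⁻¹ * (y * v * y⁻¹) with hcdef
    have hw1 : c ^ k ≠ 1 := by
      intro h; apply hk1; ext; simpa using h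
    have hwu : c ^ k ∈ zpowers u := by
      rw [mem_zpowers_iff] at hk2
      obtain ⟨j, hj⟩ := hk2
      rw [mem_zpowers_iff]
      refine ⟨j, ?_⟩
      have := congrArg Subtype.val hj
      simpa using this
    -- y commutes with w
    have hyw : y * c ^ k = c ^ k * y := by
      obtain ⟨j, hj⟩ := mem_zpowers_iff.mp hwu
      rw [← hj]
      exact ((Commute.zpow_right (show Commute y u from hc) j)).eq
    -- w = (v^k)⁻¹ (y v^k y⁻¹)
    have hwform : c ^ k = (v ^ k)⁻¹ * (y * v ^ k * y⁻¹) := by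
      have hcomm : Commute v⁻¹ (y * v * y⁻¹) := hPcomm _ (P.inv_mem hv) _ (hconj v hv)
      rw [hcdef, hcomm.mul_pow, inv_pow]
      congr 1
      rw [← conj_pow]
    have hfix : y * ((v ^ k)⁻¹ * (y * v ^ k * y⁻¹)) * y⁻¹ = (v ^ k)⁻¹ * (y * v ^ k * y⁻¹) := by
      rw [← hwform, hyw]; group
    have hpow := comm_pow_of_fixed y (v ^ k) hfix (orderOf y)
    rw [pow_orderOf_eq_one, ← hwform] at hpow
    have hpow1 : (c ^ k) ^ orderOf y = 1 := by rw [hpow]; group
    -- c^k is a p-element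
    have hcP' : c ^ k ∈ P := P.pow_mem hcP k
    obtain ⟨n, hn⟩ := hP ⟨c ^ k, hcP'⟩
    have hn' : (c ^ k) ^ p ^ n = 1 := by
      have := congrArg Subtype.val hn; simpa using this
    have hdvd1 : orderOf (c ^ k) ∣ orderOf y := orderOf_dvd_of_pow_eq_one hpow1
    have hdvd2 : orderOf (c ^ k) ∣ p ^ n := orderOf_dvd_of_pow_eq_one hn'
    have : orderOf (c ^ k) = 1 :=
      Nat.eq_one_of_dvd_coprimes (Nat.Coprime.pow_right n hcop) hdvd1 hdvd2
    exact hw1 (orderOf_eq_one_iff.mp this)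
  rw [mem_centralizer_iff]
  intro v hv
  have := hall v hv
  -- v⁻¹ (y v y⁻¹) = 1 → y v = v y
  have h2 : y * v * y⁻¹ = v := by
    have := congrArg (fun t => v * t) this
    simpa [mul_assoc] using this
  calc v * y = (y * v * y⁻¹) * y := by rw [h2]
    _ = y * v := by group

end Cfsg.Agent.Lib.Helper70.CycSyl
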