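import Mathlib
import Cfsg.Prelude
import Cfsg.Agent.Lib.Helper70.CycSylDefs
import Cfsg.Agent.Lib.Helper70.CycSylL
import Cfsg.Agent.Lib.Helper01.Coprime
import Cfsg.Agent.Lib.Helper03.NormalPComplement
import Cfsg.Agent.Lib.Helper09.SqFCovering

/-!
# General lemmas for S4016
-/

namespace Cfsg.Agent.Lib.Helper70.CycSyl

open Subgroup
open scoped Pointwise

universe u

variable {G : Type u} [Group G] [Finite G] {p : ℕ} [hp : Fact p.Prime]

/-- `Hyp` passes to subgroups. -/
theorem hyp_subgroup (hyp : Hyp p G) (H : Subgroup G) : Hyp p H := by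
  refine ⟨?_, ?_⟩
  · intro Q
    -- Q.map H.subtype is a p-subgroup of G, inside a Sylow
    have hQ : IsPGroup p ((Q : Subgroup H).map H.subtype) := Q.isPGroup'.map _
    obtain ⟨P, hP⟩ := hQ.exists_le_sylow
    have hc : IsCyclic (P : Subgroup G) := hyp.1 P
    have hc2 : IsCyclic ((Q : Subgroup H).map H.subtype) := by
      have : IsCyclic (((Q : Subgroup H).map H.subtype).subgroupOf (P : Subgroup G)) := inferInstance
      exact isCyclic_of_surjective _ (subgroupOfEquivOfLe hP).surjective
    have e : (Q : Subgroup H) ≃* ((Q : Subgroup H).map H.subtype) :=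
      (Q : Subgroup H).equivMapOfInjective H.subtype H.subtype_injective
    exact isCyclic_of_surjective _ e.symm.surjective
  · intro K hK
    have hcard : Nat.card (K.map H.subtype) = Nat.card K :=
      Nat.card_congr (K.equivMapOfInjective H.subtype H.subtype_injective).symm.toEquiv
    have hab := hyp.2 (K.map H.subtype) (by rw [hcard]; exact hK)
    have e : K ≃* (K.map H.subtype) := K.equivMapOfInjective H.subtype H.subtype_injective
    refine ⟨⟨fun a b => ?_⟩⟩
    apply e.injective
    rw [map_mul, map_mul]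
    exact hab.is_comm.comm _ _

/-- elements of a cyclic subgroup commute -/
theorem comm_of_isCyclic {P : Subgroup G} (hc : IsCyclic P) : ∀ a ∈ P, ∀ b ∈ P, a * b = b * a := by
  intro a ha b hb
  let _ : CommGroup P := IsCyclic.commGroup
  exact congrArg Subtype.val (mul_comm (⟨a, ha⟩ : P) ⟨b, hb⟩)

/-- a `p`-element normalizing a Sylow `p`-subgroup lies in it -/
theorem mem_sylow_of_mem_normalizer (P : Sylow p G) {g : G} (hg : g ∈ normalizer ((P : Subgroup G) : Set G))
    {k : ℕ} (hk : orderOf g = p ^ k) : g ∈ (P : Subgroup G) := by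
  have h1 : IsPGroup p (zpowers g) := by
    apply IsPGroup.of_card (n := k)
    rw [Nat.card_zpowers, hk]
  have h2 : zpowers g ≤ normalizer ((P : Subgroup G) : Set G) := by
    rw [zpowers_le]; exact hg
  have h3 : IsPGroup p (zpowers g ⊔ (P : Subgroup G) : Subgroup G) :=
    IsPGroup.to_sup_of_normal_right' h1 P.isPGroup' h2
  have h4 := P.is_maximal' h3 le_sup_right
  have : g ∈ (zpowers g ⊔ (P : Subgroup G) : Subgroup G) := le_sup_left (a := zpowers g) (mem_zpowers g)
  rw [h4] at this
  exact this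

/-- a `p`-subgroup normalizing a Sylow `p`-subgroup lies in it -/
theorem le_sylow_of_le_normalizer (P : Sylow p G) {Q : Subgroup G} (hQ : IsPGroup p Q)
    (hQN : Q ≤ normalizer ((P : Subgroup G) : Set G)) : Q ≤ (P : Subgroup G) := by
  intro g hg
  obtain ⟨k, hk⟩ := IsPGroup.iff_orderOf.mp hQ ⟨g, hg⟩
  have : orderOf g = p ^ k := by
    rw [← hk]; exact (Subgroup.orderOf_mk g hg).symm
  exact mem_sylow_of_mem_normalizer P (hQN hg) this

/-- to centralize an abelian Sylow subgroup it suffices that the `p'`-elements of the normalizer do -/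
theorem normalizer_le_centralizer_of_coprime (P : Sylow p G)
    (hab : ∀ a ∈ (P : Subgroup G), ∀ b ∈ (P : Subgroup G), a * b = b * a)
    (h : ∀ y ∈ normalizer ((P : Subgroup G) : Set G), (orderOf y).Coprime p →
      y ∈ centralizer ((P : Subgroup G) : Set G)) :
    normalizer ((P : Subgroup G) : Set G) ≤ centralizer ((P : Subgroup G) : Set G) := by
  intro m hm
  obtain ⟨a, b, hab', ha, hb, ⟨k, hk⟩, hcop⟩ := Cfsg.Agent.Lib.Helper09.SqF.primary_dec m p hp.out
  have hz : zpowers m ≤ normalizer ((P : Subgroup G) : Set G) := by rw [zpowers_le]; exact hm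
  have haP : a ∈ (P : Subgroup G) := mem_sylow_of_mem_normalizer P (hz ha) hk
  have haC : a ∈ centralizer ((P : Subgroup G) : Set G) := by
    rw [mem_centralizer_iff]
    intro v hv
    exact hab v hv a haP
  rw [← hab']
  exact mul_mem haC (h b (hz hb) hcop)

/-- if a subgroup containing `N_G(P)` (with `P` abelian) has a normal `p`-complement, then
`N_G(P) ≤ C_G(P)`. -/
theorem normalizer_le_centralizer_of_npc (P : Sylow p G)
    (hab : ∀ a ∈ (P : Subgroup G), ∀ b ∈ (P : Subgroup G), a * b = b * a)
    (H : Subgroup G) (hNH : normalizer ((P : Subgroup G) : Set G) ≤ H)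
    (hnpc : Cfsg.HasNormalPComplement p H) :
    normalizer ((P : Subgroup G) : Set G) ≤ centralizer ((P : Subgroup G) : Set G) := by
  obtain ⟨P', K, hKn, hc⟩ := hnpc
  -- |K| coprime to p and K.index a power of p
  have hcardmul : Nat.card K * Nat.card (P' : Subgroup H) = Nat.card H := hc.card_mul_card
  have hidx : K.index = Nat.card (P' : Subgroup H) := by
    have h3 := K.card_mul_index
    have hpos : 0 < Nat.card K := Nat.card_pos
    exact Nat.eq_of_mul_eq_mul_left hpos (by rw [h3, hcardmul])
  have hKcop : (Nat.card K).Coprime p := by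
    have h1 : Nat.card K = (P' : Subgroup H).index := by
      have h3 := (P' : Subgroup H).card_mul_index
      have hpos : 0 < Nat.card (P' : Subgroup H) := Nat.card_pos
      exact Nat.eq_of_mul_eq_mul_left hpos (by rw [h3, mul_comm, hcardmul])
    rw [h1]
    exact ((Nat.Prime.coprime_iff_not_dvd hp.out).mpr P'.not_dvd_index).symm
  obtain ⟨n, hn⟩ := IsPGroup.iff_card.mp P'.isPGroup'
  -- p'-elements of H lie in K
  have hK : ∀ y : G, ∀ hy : y ∈ H, (orderOf y).Coprime p → (⟨y, hy⟩ : H) ∈ K := by
    intro y hy hcop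
    have h1 : (⟨y, hy⟩ : H) ^ K.index ∈ K := K.pow_index_mem _
    rw [hidx, hn] at h1
    have hcop2 : (p ^ n).Coprime (orderOf (⟨y, hy⟩ : H)) := by
      rw [Subgroup.orderOf_mk]
      exact (Nat.Coprime.pow_left n hcop.symm)
    obtain ⟨m, hm⟩ := exists_pow_eq_self_of_coprime hcop2
    rw [← hm]
    exact K.pow_mem h1 m
  apply normalizer_le_centralizer_of_coprime P hab
  intro y hy hcop
  rw [mem_centralizer_iff]
  intro u hu
  have hyH : y ∈ H := hNH hy
  have huH : u ∈ H := hNH (le_normalizer hu)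
  -- w = y u y⁻¹ u⁻¹
  have hwP : y * u * y⁻¹ * u⁻¹ ∈ (P : Subgroup G) :=
    mul_mem ((mem_normalizer_iff.mp hy u).mp hu) (inv_mem hu)
  have hwK : (⟨y * u * y⁻¹ * u⁻¹, mul_mem (mul_mem (mul_mem hyH huH) (inv_mem hyH)) (inv_mem huH)⟩ : H) ∈ K := by
    have h1 : (⟨y, hyH⟩ : H) ∈ K := hK y hyH hcop
    have h2 : (⟨u, huH⟩ : H) * (⟨y, hyH⟩ : H)⁻¹ * (⟨u, huH⟩ : H)⁻¹ ∈ K :=
      hKn.conj_mem _ (K.inv_mem h1) _
    have h3 := K.mul_mem h1 h2
    convert h3 using 1
    ext
    simp [mul_assoc]
  -- order of w divides |K| and is a power of p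
  have ho1 : orderOf (y * u * y⁻¹ * u⁻¹) ∣ Nat.card K := by
    have := orderOf_dvd_natCard (⟨_, hwK⟩ : K)
    rwa [Subgroup.orderOf_mk, Subgroup.orderOf_mk] at this
  obtain ⟨k, hk⟩ := IsPGroup.iff_orderOf.mp P.isPGroup' ⟨_, hwP⟩
  rw [Subgroup.orderOf_mk] at hk
  have : orderOf (y * u * y⁻¹ * u⁻¹) = 1 := by
    apply Nat.eq_one_of_dvd_coprimes (hKcop.pow_right k) ho1
    rw [hk]
  have hw1 : y * u * y⁻¹ * u⁻¹ = 1 := orderOf_eq_one_iff.mp this
  calc u * y = (y * u * y⁻¹ * u⁻¹)⁻¹ * (y * u) := by group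
    _ = y * u := by rw [hw1]; group

/-- in a finite cyclic group subgroups of the same order coincide -/
theorem eq_of_card_eq_of_cyclic {A : Type*} [Group A] [Finite A] [IsCyclic A] (H K : Subgroup A)
    (h : Nat.card H = Nat.card K) : H = K := by
  let _ : CommGroup A := IsCyclic.commGroup
  have key : ∀ L : Subgroup A, L = (powMonoidHom (Nat.card L) : A →* A).ker := by
    intro L
    apply Subgroup.eq_of_le_of_card_ge
    · intro x hx
      rw [MonoidHom.mem_ker, powMonoidHom_apply]
      have := pow_card_eq_one' (G := L) (x := ⟨x, hx⟩)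
      exact congrArg Subtype.val this
    · rw [IsCyclic.card_powMonoidHom_ker]
      exact Nat.le_of_dvd Nat.card_pos (Nat.gcd_dvd_right _ _)
  rw [key H, key K, h]

/-- the normalizer of a cyclic subgroup normalizes each of its subgroups -/
theorem normalizer_le_normalizer_of_cyclic {P U : Subgroup G} (hc : IsCyclic P) (hU : U ≤ P) :
    normalizer (P : Set G) ≤ normalizer (U : Set G) := by
  intro g hg
  -- conjugate of U by g is a subgroup of P of the same order
  have h1 : MulAut.conj g • U ≤ P := by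
    intro x hx
    rw [mem_pointwise_smul_iff_inv_smul_mem] at hx
    have hx' : g⁻¹ * x * g ∈ P := hU (by simpa [MulAut.smul_def] using hx)
    have := (mem_normalizer_iff.mp hg (g⁻¹ * x * g)).mp hx'
    simpa [mul_assoc] using this
  have h2 : Nat.card (MulAut.conj g • U : Subgroup G) = Nat.card U := by
    exact Nat.card_congr (Subgroup.equivSMul (MulAut.conj g) U).symm.toEquiv
  have h3 : (MulAut.conj g • U).subgroupOf P = U.subgroupOf P := by
    have := hc
    apply eq_of_card_eq_of_cyclic
    rw [Nat.card_congr (subgroupOfEquivOfLe h1).toEquiv, Nat.card_congr (subgroupOfEquivOfLe hU).toEquiv, h2]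
  have h4 : MulAut.conj g • U = U := by
    have := congrArg (Subgroup.map P.subtype) h3
    rwa [Subgroup.subgroupOf_map_subtype, Subgroup.subgroupOf_map_subtype, inf_of_le_left h1,
      inf_of_le_left hU] at this
  rw [mem_normalizer_iff]
  intro x
  constructor
  · intro hx
    have : g * x * g⁻¹ ∈ MulAut.conj g • U := by
      rw [mem_pointwise_smul_iff_inv_smul_mem]
      simpa [MulAut.smul_def, mul_assoc] using hx
    rwa [h4] at this
  · intro hx
    rw [← h4, mem_pointwise_smul_iff_inv_smul_mem] at hx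
    simpa [MulAut.smul_def, mul_assoc] using hx

end Cfsg.Agent.Lib.Helper70.CycSyl
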