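import Mathlib
import Cfsg.Agent.S1350
import Cfsg.Agent.S1415
import Cfsg.Agent.S1418
import Cfsg.Agent.Lib.Helper15.BG139Defs
import Cfsg.Agent.Lib.Helper15.BG139Defs2
import Cfsg.Agent.Lib.Helper31.BG12a
import Cfsg.Agent.Lib.Helper13.BG12B
import Cfsg.Agent.Lib.Helper16.BG134Asm
import Cfsg.Agent.Lib.Helper41.BG134Z
import Cfsg.Agent.Lib.Helper54.BG134A3a
import Cfsg.Agent.Lib.Helper71.BG10Hall
import Cfsg.Agent.Lib.Helper71.BG10Sub
import Cfsg.Agent.Lib.Helper71.BG11a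

/-!
# BG Theorem 13.9 (S1378), keystone 137815 (K-S1378-K2b): `Loc.tau2_primes`

Step 15(ii) of `notes/BG13_9_proof_helper15.md`: in the case `r ∈ τ₂(H)`, every prime divisor of
`|C_{M_σ}(P)|` lies in `τ₁(H)`.
-/

set_option autoImplicit false
set_option linter.unusedSectionVars false
set_option linter.unusedVariables false
set_option linter.style.haveILetI false

namespace Cfsg.Agent.Lib.Helper70.BG139

open Cfsg Cfsg.Agent.Lib.Helper55 Cfsg.Agent.Lib.Helper31.BG134 Cfsg.Agent.Lib.Helper15.BG139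

variable {G : Type*} [Group G] [Finite G]

/-- two subgroups normalizing each other and meeting trivially commute -/
theorem k2b_le_centralizer_of_normalize {X A : Subgroup G}
    (hXA : X ≤ Subgroup.normalizer (A : Set G)) (hAX : A ≤ Subgroup.normalizer (X : Set G))
    (hd : X ⊓ A = ⊥) : A ≤ Subgroup.centralizer (X : Set G) := by
  intro a ha
  rw [Subgroup.mem_centralizer_iff]
  intro x hx
  have h1 : a * x * a⁻¹ ∈ X := (Subgroup.mem_normalizer_iff.mp (hAX ha) x).mp hx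
  have h2 : x * a⁻¹ * x⁻¹ ∈ A :=
    (Subgroup.mem_normalizer_iff.mp (hXA hx) a⁻¹).mp (A.inv_mem ha)
  have h3 : a * x * a⁻¹ * x⁻¹ ∈ X ⊓ A := by
    refine ⟨X.mul_mem h1 (X.inv_mem hx), ?_⟩
    have : a * x * a⁻¹ * x⁻¹ = a * (x * a⁻¹ * x⁻¹) := by group
    rw [this]
    exact A.mul_mem ha h2
  rw [hd, Subgroup.mem_bot] at h3
  have : a * x = x * a := by
    have h4 : a * x * a⁻¹ * x⁻¹ * (x * a) = 1 * (x * a) := by rw [h3]
    rw [one_mul] at h4
    rw [← h4]; group
  exact this.symm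

/-- **KEYSTONE 137815  K-S1378-K2b**  (step 15(ii)). -/
theorem Loc.tau2_primes {M P H EH A : Subgroup G} {r : ℕ} (l : Loc M P H r) (hr2 : r ∈ tau2 H)
    (w : T2 M P H EH A r) :
    ∀ t : ℕ, t.Prime → t ∣ Nat.card ↥(CP M P) → t ∈ tau1 H := by
  intro t ht htd
  have hG := l.o.hG
  have hM := l.o.hM
  have hH := l.hH
  haveI : Fact t.Prime := ⟨ht⟩
  have hr : r.Prime := l.o.hr1.1
  haveI : Fact r.Prime := ⟨hr⟩
  have hHallH := (Cfsg.Agent.S1350.result hG H hH).1
  -- Cauchy: `x` of order `t` in `C_{M_σ}(P)`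
  obtain ⟨x, hx⟩ := exists_prime_orderOf_dvd_card' t htd
  have hxG : orderOf (x : G) = t := by rw [Subgroup.orderOf_coe, hx]
  set X : Subgroup G := Subgroup.zpowers (x : G) with hXdef
  have hXC : X ≤ CP M P := Subgroup.zpowers_le.mpr x.2
  have hXc : Nat.card X = t := by rw [hXdef, Nat.card_zpowers, hxG]
  have hX1 : X ≠ ⊥ := by
    intro h
    rw [h, Subgroup.card_bot] at hXc
    exact ht.one_lt.ne hXc
  have htβ : t ∈ beta M := l.o.hCβ t ht htd
  have htσM : t ∈ sigma M := Cfsg.Agent.Lib.Helper71.BG10.alpha_subset_sigma hG hM htβ.1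
  have htσH : t ∉ sigma H := fun h => l.hσ t h htσM
  have htr : t ≠ r := by
    intro h
    exact l.o.hr1.2.1 (h ▸ htσM)
  have hXEH : X ≤ EH := hXC.trans (le_sup_left.trans w.hCE)
  have hEHH : EH ≤ H := w.hEH.1
  have hXH : X ≤ H := hXEH.trans hEHH
  have htH : t ∣ Nat.card H := by
    rw [← hXc]; exact Subgroup.card_dvd_of_le hXH
  have hXprimes : ∀ p : ℕ, p.Prime → p ∣ Nat.card X → p = t := by
    intro p hp hpd
    rw [hXc] at hpd
    exact (Nat.prime_dvd_prime_iff_eq hp ht).mp hpd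
  -- the contradiction: `A ≤ C(X)` is impossible
  have hcontra : A ≤ Subgroup.centralizer (X : Set G) → False := by
    intro hAC
    have h1 := w.hfix X hXC hX1
    rw [inf_of_le_left hAC] at h1
    have h2 := w.hAc
    rw [h1, l.o.hPc] at h2
    have h3 : r * 1 = r * r := by rw [mul_one, ← sq]; exact h2
    have h4 : 1 = r := Nat.eq_of_mul_eq_mul_left hr.pos h3
    exact hr.one_lt.ne h4
  have hcopr : Nat.Coprime t r := (Nat.coprime_primes ht hr).mpr htr
  rcases Cfsg.Agent.Lib.Helper16.BG134.mem_tau_cases hG hH ht htH htσH with h1 | h2 | h3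
  · exact h1
  · -- `t ∈ τ₂(H)`
    exfalso
    obtain ⟨At, hAtE, hAtel, hAtc⟩ :=
      Cfsg.Agent.Lib.Helper13.BG12.exists_elemAb_sq_le_compl hG hH hHallH h2 w.hEH
    obtain ⟨⟨hAtn, hAtX⟩, -, -⟩ :=
      Cfsg.Agent.S1418.result hG H hH EH w.hEH t h2 At ⟨hAtE, hAtel, hAtc⟩
    have hXAt : X ≤ At := hAtX X hXEH hXc
    have hd : At ⊓ A = ⊥ := by
      apply disjoint_iff.mp
      apply Subgroup.disjoint_of_coprime_natCard
      rw [hAtc, w.hAc]
      exact Nat.Coprime.pow 2 2 hcopr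
    have hAC : A ≤ Subgroup.centralizer (At : Set G) :=
      k2b_le_centralizer_of_normalize (hAtE.trans w.hAn) (w.hAE.trans hAtn) hd
    exact hcontra (hAC.trans (Subgroup.centralizer_le hXAt))
  · -- `t ∈ τ₃(H)`
    exfalso
    have hEHsolv : Group.IsSolvable ↥EH :=
      ms_solvable hG (ne_top_of_le_ne_top hH.1 hEHH)
    obtain ⟨E₃, hE₃, hXE₃⟩ := Cfsg.Agent.Lib.Helper54.BG134.exists_isPiHallOf_ge hEHsolv
      (tau3 H) hXEH (by
        intro p hp hpd
        rw [hXprimes p hp hpd]; exact h3)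
    obtain ⟨hE₃c, -, hE₃n⟩ := (Cfsg.Agent.S1415.result hG H hH EH w.hEH).2.2 E₃ hE₃
    have hEHX : EH ≤ Subgroup.normalizer (X : Set G) := by
      intro e he
      rw [← cj_eq_self_iff]
      have h1 : cj e E₃ = E₃ := cj_eq_self_iff.mpr (hE₃n he)
      have h2' : cj e X ≤ E₃ := by
        rw [← h1]; exact cj_mono hXE₃
      exact Cfsg.Agent.Lib.Helper41.BG134.z_eq_of_le_cyclic hE₃c h2' hXE₃ (card_cj e X)
    have hd : X ⊓ A = ⊥ := by
      apply disjoint_iff.mp
      apply Subgroup.disjoint_of_coprime_natCard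
      rw [hXc, w.hAc]
      exact Nat.Coprime.pow_right 2 hcopr
    exact hcontra (k2b_le_centralizer_of_normalize (hXEH.trans w.hAn) (w.hAE.trans hEHX) hd)

end Cfsg.Agent.Lib.Helper70.BG139
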