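import Mathlib
import Cfsg.Agent.Lib.Helper15.BG139Defs
import Cfsg.Agent.Lib.Helper31.BG12a

/-!
# Keystone 137801 (K-S1378-L0): step 0 of BG 13.9 — the configuration `Cfg M (cj g N) S p`
-/

set_option autoImplicit false

namespace Cfsg.Agent.Lib.Helper70.BG139

open Cfsg Cfsg.Agent.Lib.Helper55 Cfsg.Agent.Lib.Helper31.BG134 Cfsg.Agent.Lib.Helper15.BG139

variable {G : Type*} [Group G] [Finite G]

/-- **Keystone 137801 (K-S1378-L0)**: step 0. -/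
theorem exists_cfg (hG : IsMinSimpleOddOrder G) {M N : Subgroup G} (hM : IsCoatom M) (hN : IsCoatom N)
    (hnc : ∀ g : G, cj g M ≠ N) {p : ℕ} (hpM : p ∈ sigma M) (hpN : p ∈ sigma N) :
    ∃ (g : G) (S : Subgroup G), Cfg M (cj g N) S p := by
  have : Fact p.Prime := ⟨hpM.1⟩
  obtain ⟨S₁, hS₁⟩ := Cfsg.Agent.Lib.Helper69.BG10.exists_good_of_sigma hpM
  obtain ⟨S₂, hS₂⟩ := Cfsg.Agent.Lib.Helper69.BG10.exists_good_of_sigma hpN
  obtain ⟨k, -, hk⟩ := hS₂.1.exists_conj hS₁.1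
  have h2 := Cfsg.Agent.Lib.Helper69.BG10.good_cj hS₂ k
  rw [hk] at h2
  refine ⟨k, S₁, ⟨hG, hM, isCoatom_cj k hN, ?_, hpM,
    Cfsg.Agent.Lib.Helper31.BG12.mem_sigma_cj hpN k, hS₁.1, le_inf hS₁.2.2 h2.2.2⟩⟩
  intro h hh
  apply hnc (k⁻¹ * h)
  rw [cj_mul, hh, cj_inv_cj]

end Cfsg.Agent.Lib.Helper70.BG139
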