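import Mathlib
import Cfsg.Agent.S1350
import Cfsg.Agent.S1424
import Cfsg.Agent.Lib.Helper12.CNMaxSub
import Cfsg.Agent.Lib.Helper13.BG12A
import Cfsg.Agent.Lib.Helper13.BG12B
import Cfsg.Agent.Lib.Helper55.SylowIn
import Cfsg.Agent.Lib.Helper71.BG11a
import Cfsg.Agent.Lib.Helper14.BG134G8
import Cfsg.Agent.Lib.Helper15.BG142Defs

/-!
# K-TX-2 (keystone 143002): `no_cent_elemAb`, the (Q)-argument for `τ₁ ∪ τ₃`

No subgroup `Y` of prime order of `Mσ ⊓ C(P)` centralizes an `E_{p²}` over `P`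
(`P ≤ M` of prime order `p`, `PRankLE p 1 M`).  Same argument as helper14's `BG14F4`, with the
hypothesis (Q) discharged by `tau2_and_compl` and the sigma-partition `HSP`.
-/

set_option autoImplicit false
set_option linter.unusedSectionVars false
set_option linter.unusedVariables false
set_option linter.style.haveILetI false

namespace Cfsg.Agent.Lib.Helper70.BG142

open Cfsg Cfsg.Agent.Lib.Helper55 Cfsg.Agent.Lib.Helper31.BG134 Cfsg.Agent.Lib.Helper15.BG139
  Cfsg.Agent.Lib.Helper15.BG142 Cfsg.Agent.Lib.Helper14.BG134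

variable {G : Type*} [Group G] [Finite G]

theorem no_cent_elemAb (hG : IsMinSimpleOddOrder G) (hSP : HSP G) {M P A Y : Subgroup G}
    (hM : IsCoatom M) {p : ℕ} [Fact p.Prime] (hpσ : p ∉ sigma M) (hp1 : PRankLE p 1 M)
    (hPM : P ≤ M) (hPc : Nat.card P = p) (hPA : P ≤ A) (hA : IsElementaryAbelian p A)
    (hAc : Nat.card A = p ^ 2) (hY : Y ≤ CP M P) (hYc : (Nat.card Y).Prime)
    (hAY : A ≤ Subgroup.centralizer (Y : Set G)) : False := by
  have hpp : p.Prime := Fact.out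
  have hPp : IsPGroup p P := IsPGroup.of_card (n := 1) (by rw [hPc, pow_one])
  have hP1 : P ≠ ⊥ := by
    intro h
    rw [h, Subgroup.card_bot] at hPc
    exact hpp.one_lt.ne hPc
  have hp2 : p ≠ 2 := ms_prime_ne_two hG hPp hP1
  have key : ∀ B : Subgroup G, B ≤ M → IsElementaryAbelian p B → Nat.card B = p ^ 2 → False := by
    intro B hBM hB hBc
    exact not_isCyclic_of_elemAb_sq hpp hB hBc
      (Cfsg.Agent.Lib.Helper13.BG12.isCyclic_of_pRankLE_one hp2 hp1 hBM (isPGroup_of_elemAb hB))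
  obtain ⟨t, htdef⟩ : ∃ t, t = Nat.card Y := ⟨_, rfl⟩
  have htp : t.Prime := htdef ▸ hYc
  haveI : Fact t.Prime := ⟨htp⟩
  have hYt : IsPGroup t Y := IsPGroup.of_card (n := 1) (by rw [← htdef, pow_one])
  have hY1 : Y ≠ ⊥ := by
    intro h
    rw [h, Subgroup.card_bot] at htdef
    exact htp.one_lt.ne htdef.symm
  have hYσ : Y ≤ sigmaCore M := hY.trans inf_le_left
  have hYM : Y ≤ M := hYσ.trans (Cfsg.Agent.Lib.Helper71.BG11.sigmaCore_le M)
  have htσ : t ∈ sigma M := by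
    apply Cfsg.Agent.Lib.Helper71.BG11.sigmaCore_pi hG hM htp
    rw [htdef]
    exact Subgroup.card_dvd_of_le hYσ
  have hYtop : Y ≠ ⊤ := fun h => hM.1 (top_le_iff.mp (h ▸ hYM))
  obtain ⟨Ms, hMs, hNY⟩ := Cfsg.Agent.Lib.Helper12.CNMaxSub.exists_coatom_normalizer_le hG hY1 hYtop
  have hAN : A ≤ Subgroup.normalizer (Y : Set G) :=
    hAY.trans (Subgroup.centralizer_le_normalizer _)
  have hAMs : A ≤ Ms := hAN.trans hNY
  by_cases hne : Ms = M
  · exact key A (hne ▸ hAMs) hA hAc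
  · -- `t ∉ σ(Ms)`: else `Ms` is conjugate to `M` by the sigma-partition, against S1424
    have hYMs : Y ≤ Ms := Subgroup.le_normalizer.trans hNY
    have hYI : Y ≤ M ⊓ Ms := le_inf hYM hYMs
    obtain ⟨T, hT, hYT⟩ := exists_isSylowIn_ge hYI hYt
    have h24 := Cfsg.Agent.S1424.result hG M hM t htσ Y hYt hY1 hYM Ms hMs hne hNY hT.toSylow
      (by rw [hT.map_toSylow]; exact hYT)
    have hnc : ∀ g : G, cj g M ≠ Ms := fun g h => h24.1 g h.symm
    have htL : t ∉ sigma Ms := hSP M Ms hM hMs hnc t htσ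
    obtain ⟨-, hcompl, -⟩ := tau2_and_compl hG hM hMs hne htσ htL hYt hY1 hYM hNY
    have hHall := (Cfsg.Agent.S1350.result hG Ms hMs).1
    have hPI : P ≤ M ⊓ Ms := le_inf hPM (hPA.trans hAMs)
    have hpσ' : p ∉ sigma Ms := by
      apply Cfsg.Agent.Lib.Helper13.BG12.complIn_prime_not_mem_sigma hHall hcompl p hpp
      rw [← hPc]
      exact Subgroup.card_dvd_of_le hPI
    have hK : ∀ r : ℕ, r.Prime → r ∣ Nat.card A → r ∉ sigma Ms := by
      intro r hr hrd
      rw [hAc] at hrd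
      have := (Nat.prime_dvd_prime_iff_eq hr hpp).mp (hr.dvd_of_dvd_pow hrd)
      rw [this]
      exact hpσ'
    obtain ⟨E₁, hE₁, hAE₁⟩ := Cfsg.Agent.Lib.Helper13.BG12.exists_complIn_ge hG hMs hHall hAMs hK
    obtain ⟨x, -, hx⟩ := Cfsg.Agent.Lib.Helper13.BG12.complIn_conj hG hMs hHall hcompl hE₁
    have hBle : cj x A ≤ M ⊓ Ms := by
      rw [← hx]
      exact Subgroup.map_mono hAE₁
    exact key (cj x A) (hBle.trans inf_le_left) (isElementaryAbelian_cj' hA x)
      (by rw [card_cj, hAc])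

end Cfsg.Agent.Lib.Helper70.BG142
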