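import Mathlib
import Cfsg.Prelude.Def_Blocks

/-!
# Definitions for pack K-IP (S4463, Isaacs-Passman): abelian subgroup of index `≤ (b!)²`
-/

set_option autoImplicit false

namespace Cfsg.Agent.Lib.Helper70.IP

open Cfsg

universe u

/-- All irreducible character degrees of `G` are at most `b`. -/
def DegLE (G : Type u) [Group G] (b : ℕ) : Prop :=
  ∀ χ : IrrCharacter G, charDegree (χ : G → ℂ) ≤ b

/-- `G` has an abelian subgroup of index at most `n`. -/
def HasAb (G : Type u) [Group G] (n : ℕ) : Prop :=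
  ∃ A : Subgroup G, (∀ x ∈ A, ∀ y ∈ A, x * y = y * x) ∧ A.index ≤ n

/-- Reduction datum: a proper subgroup `H` with all degrees `≤ c` and `|G:H| (c!)² ≤ (b!)²`. -/
def Red (G : Type u) [Group G] (b : ℕ) : Prop :=
  ∃ (H : Subgroup G) (c : ℕ), H ≠ ⊤ ∧ DegLE H c ∧
    H.index * (c.factorial) ^ 2 ≤ (b.factorial) ^ 2

/-- `K` is maximal among the normal subgroups with nonabelian quotient. -/
def MaxNonab {G : Type u} [Group G] (K : Subgroup G) : Prop :=
  K.Normal ∧ ¬ commutator G ≤ K ∧
    ∀ K' : Subgroup G, K'.Normal → K < K' → commutator G ≤ K'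

/-- Every nontrivial normal subgroup contains the commutator subgroup. -/
def MonoQ (Q : Type u) [Group Q] : Prop :=
  ∀ N : Subgroup Q, N.Normal → N ≠ ⊥ → commutator Q ≤ N

end Cfsg.Agent.Lib.Helper70.IP
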