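import Mathlib
import Cfsg.Agent.Lib.Helper12.LBDefs
import Cfsg.Agent.Lib.Helper29.LBalance

/-!
# K-S1301-LB-COV `le_of_le_sup_odd`
-/

set_option autoImplicit false
universe u

namespace Cfsg.Agent.Lib.Helper70.LB

open Cfsg

variable {G : Type u} [Group G] [Finite G]

theorem le_of_le_sup_odd (Q M A : Subgroup G)
    (hQ : Cfsg.Agent.Lib.Helper29.NoCoprimeIndexNormal 2 ↥Q)
    (hMA : A ≤ Subgroup.normalizer (M : Set G)) (hA : Odd (Nat.card A)) (h : Q ≤ M ⊔ A) :
    Q ≤ M := by
  have hTn : M ⊔ A ≤ Subgroup.normalizer (M : Set G) := sup_le Subgroup.le_normalizer hMA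
  haveI hnT : (M.subgroupOf (M ⊔ A)).Normal := Subgroup.normal_subgroupOf_of_le_normalizer hTn
  have h1 : M.relIndex A = M.relIndex (M ⊔ A) := by
    have := Subgroup.normal_subgroupOf_of_le_normalizer hMA
    have := Subgroup.normal_subgroupOf_sup_of_le_normalizer hMA
    rw [sup_comm]
    unfold Subgroup.relIndex Subgroup.index
    exact Nat.card_congr (QuotientGroup.quotientInfEquivProdNormalizerQuotient A M hMA).toEquiv
  have h2 : Odd (M.relIndex (M ⊔ A)) := by
    rw [← h1]
    exact hA.of_dvd_nat (Subgroup.relIndex_dvd_card M A)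
  have h3 : M.relIndex Q ∣ M.relIndex (M ⊔ A) := by
    have := Subgroup.relIndex_dvd_index_of_normal (M.subgroupOf (M ⊔ A)) (Q.subgroupOf (M ⊔ A))
    rwa [Subgroup.relIndex_subgroupOf h] at this
  have h4 : Odd (M.relIndex Q) := h2.of_dvd_nat h3
  have hnorm : (M.subgroupOf Q).Normal :=
    Subgroup.normal_subgroupOf_of_le_normalizer (h.trans hTn)
  have := hQ (M.subgroupOf Q) hnorm (Nat.coprime_two_right.mpr h4)
  rwa [Subgroup.subgroupOf_eq_top] at this

end Cfsg.Agent.Lib.Helper70.LB
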