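import Mathlib
import Cfsg.Agent.Lib.Helper12.LBDefs
import Cfsg.Agent.Lib.Helper29.LBalance

/-!
# K-S1301-LB-NOR `compLike_of_normal`

`C ⊴ N`, the image of `Q` in `C / O(C)` a component  ⟹  the image of `Q` in `N / O(N)` is a component.
-/

set_option autoImplicit false
universe u

namespace Cfsg.Agent.Lib.Helper70.LB

open Cfsg Cfsg.Agent.Lib.Helper12.LB

variable {G : Type u} [Group G] [Finite G]

/-- `O(C) = O(N) ∩ C` for `C ⊴ N`, in the comap form. -/
theorem comap_pPrimeCore_eq (N C : Subgroup G) (hCN : C ≤ N) (hn : (C.subgroupOf N).Normal) :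
    (pPrimeCore 2 ↥N).comap (Subgroup.inclusion hCN) = pPrimeCore 2 ↥C := by
  apply le_antisymm
  · haveI : ((pPrimeCore 2 ↥N).comap (Subgroup.inclusion hCN)).Normal :=
      Subgroup.Normal.comap inferInstance _
    apply Cfsg.Agent.Lib.Helper29.normal_le_pPrimeCore 2
    exact Nat.Coprime.coprime_dvd_left
      (Subgroup.card_comap_dvd_of_injective _ _ (Subgroup.inclusion_injective hCN))
      (Cfsg.Agent.Lib.Helper29.pPrimeCore_coprime 2)
  · set OC : Subgroup G := (pPrimeCore 2 ↥C).map C.subtype with hOC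
    have hOCC : OC ≤ C := Subgroup.map_subtype_le _
    have hNC : N ≤ Subgroup.normalizer (C : Set G) :=
      (Subgroup.normal_subgroupOf_iff_le_normalizer hCN).mp hn
    have hNOC : N ≤ Subgroup.normalizer (OC : Set G) :=
      hNC.trans (Cfsg.Agent.Lib.Helper29.normalizer_le_normalizer_map_pPrimeCore 2 C)
    haveI : (OC.subgroupOf N).Normal := Subgroup.normal_subgroupOf_of_le_normalizer hNOC
    have hcard : Nat.card (OC.subgroupOf N) = Nat.card (pPrimeCore 2 ↥C) := by
      rw [Nat.card_congr (Subgroup.subgroupOfEquivOfLe (hOCC.trans hCN)).toEquiv, hOC]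
      exact Subgroup.card_map_of_injective C.subtype_injective
    have hle : OC.subgroupOf N ≤ pPrimeCore 2 ↥N := by
      apply Cfsg.Agent.Lib.Helper29.normal_le_pPrimeCore 2
      rw [hcard]
      exact Cfsg.Agent.Lib.Helper29.pPrimeCore_coprime 2
    intro x hx
    rw [Subgroup.mem_comap]
    apply hle
    rw [Subgroup.mem_subgroupOf]
    exact ⟨x, hx, rfl⟩

theorem compLike_of_normal (N C Q : Subgroup G) (hCN : C ≤ N) (hn : (C.subgroupOf N).Normal)
    (hQ : CompLike C Q) : CompLike N Q := by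
  obtain ⟨hQC, hsn, hqs⟩ := hQ
  refine ⟨hQC.trans hCN, ?_⟩
  set ψ : ↥C →* ↥N ⧸ pPrimeCore 2 ↥N :=
    (QuotientGroup.mk' (pPrimeCore 2 ↥N)).comp (Subgroup.inclusion hCN) with hψ
  have hker : ψ.ker = pPrimeCore 2 ↥C := by
    rw [hψ, ← MonoidHom.comap_ker, QuotientGroup.ker_mk', comap_pPrimeCore_eq N C hCN hn]
  set φ : ↥C ⧸ pPrimeCore 2 ↥C →* ↥N ⧸ pPrimeCore 2 ↥N :=
    QuotientGroup.lift (pPrimeCore 2 ↥C) ψ (by rw [hker]) with hφ
  have hφmk : ∀ c : ↥C, φ (QuotientGroup.mk c) = ψ c := fun c => rfl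
  have hφinj : Function.Injective φ := by
    rw [injective_iff_map_eq_one]
    intro x
    refine QuotientGroup.induction_on x ?_
    intro c hc
    rw [hφmk] at hc
    have : c ∈ ψ.ker := hc
    rw [hker] at this
    exact (QuotientGroup.eq_one_iff c).mpr this
  have himg : img N Q = (img C Q).map φ := by
    unfold img
    rw [Subgroup.map_map]
    have h1 : φ.comp (QuotientGroup.mk' (pPrimeCore 2 ↥C)) = ψ := by
      ext c
      rfl
    rw [h1, hψ, ← Subgroup.map_map]
    congr 1
    ext x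
    constructor
    · intro hx
      exact ⟨⟨x, hQC hx⟩, hx, Subtype.ext rfl⟩
    · rintro ⟨y, hy, rfl⟩
      exact hy
  have hrange : φ.range.Normal := by
    constructor
    intro a ha b
    obtain ⟨x, rfl⟩ := ha
    revert b
    refine QuotientGroup.induction_on x ?_
    intro c b
    refine QuotientGroup.induction_on b ?_
    intro n
    have hc : Subgroup.inclusion hCN c ∈ C.subgroupOf N := by
      rw [Subgroup.mem_subgroupOf]
      exact c.2
    have h2 := hn.conj_mem (Subgroup.inclusion hCN c) hc n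
    rw [Subgroup.mem_subgroupOf] at h2
    refine ⟨QuotientGroup.mk ⟨((n * Subgroup.inclusion hCN c * n⁻¹ : ↥N) : G), h2⟩, ?_⟩
    rw [hφmk, hφmk]
    show QuotientGroup.mk (Subgroup.inclusion hCN ⟨((n * Subgroup.inclusion hCN c * n⁻¹ : ↥N) : G), h2⟩)
      = (QuotientGroup.mk n : ↥N ⧸ pPrimeCore 2 ↥N) * QuotientGroup.mk (Subgroup.inclusion hCN c) *
        (QuotientGroup.mk n)⁻¹
    have h3 : Subgroup.inclusion hCN ⟨((n * Subgroup.inclusion hCN c * n⁻¹ : ↥N) : G), h2⟩ =
        n * Subgroup.inclusion hCN c * n⁻¹ := Subtype.ext rfl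
    rw [h3]
    rfl
  have hsub : ((img C Q).map φ).IsSubnormal := by
    have h1 : ((img C Q).map φ.rangeRestrict).IsSubnormal :=
      Subgroup.IsSubnormal.map φ.rangeRestrict_surjective hsn
    have h2 := Subgroup.IsSubnormal.trans' h1 hrange.isSubnormal
    rw [Subgroup.map_map, MonoidHom.subtype_comp_rangeRestrict] at h2
    exact h2
  have hquasi : IsQuasisimple ↥((img C Q).map φ) :=
    Cfsg.Agent.Lib.Helper28.quasisimple_of_mulEquiv
      (Subgroup.equivMapOfInjective (img C Q) φ hφinj) hqs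
  rw [himg]
  exact ⟨hsub, hquasi⟩

end Cfsg.Agent.Lib.Helper70.LB
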