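import Mathlib

/-!
# Definitions for pack K-4188 (S4188): Frattini quotient of a 2-group acting faithfully on an
elementary abelian group of odd order.
-/

set_option autoImplicit false

namespace Cfsg.Agent.Lib.Helper70.AG

/-- the exponent bound: `|P : Φ(P)| ≤ 2 ^ ex r n` for a 2-group acting faithfully on `(ℤ/r)^n` -/
def ex (r n : ℕ) : ℕ :=
  if n = 0 then 0 else if n = 1 then 1 else if r = 3 then (3 * n - 2) / 2 else 2 * n - 1

variable {V : Type*} [CommGroup V]

/-- `W` is invariant under every element of `Q`. -/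
def IsInv (Q : Subgroup (MulAut V)) (W : Subgroup V) : Prop := ∀ q ∈ Q, ∀ w ∈ W, q w ∈ W

/-- the subgroup of fixed points of an automorphism -/
def fixedSub (a : MulAut V) : Subgroup V where
  carrier := {v | a v = v}
  one_mem' := map_one a
  mul_mem' := by
    intro x y hx hy
    simp only [Set.mem_setOf_eq] at *
    rw [map_mul, hx, hy]
  inv_mem' := by
    intro x hx
    simp only [Set.mem_setOf_eq] at *
    rw [map_inv, hx]

theorem mem_fixedSub {a : MulAut V} {v : V} : v ∈ fixedSub a ↔ a v = v := Iff.rfl

/-- an automorphism preserving a subgroup (together with its inverse) restricts to it -/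
def resEquiv (q : MulAut V) (W : Subgroup V) (h : ∀ w ∈ W, q w ∈ W) (h' : ∀ w ∈ W, q⁻¹ w ∈ W) :
    MulAut ↥W where
  toFun w := ⟨q w, h w w.2⟩
  invFun w := ⟨q⁻¹ w, h' w w.2⟩
  left_inv w := by
    apply Subtype.ext
    simp
  right_inv w := by
    apply Subtype.ext
    simp
  map_mul' a b := by
    apply Subtype.ext
    simp

/-- restriction of a group of automorphisms to an invariant subgroup -/
def resHom (Q : Subgroup (MulAut V)) (W : Subgroup V) (hW : IsInv Q W) : ↥Q →* MulAut ↥W where
  toFun q := resEquiv (q : MulAut V) W (hW q q.2) (hW (q : MulAut V)⁻¹ (Q.inv_mem q.2))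
  map_one' := by
    apply MulEquiv.ext
    intro w
    apply Subtype.ext
    simp [resEquiv]
  map_mul' a b := by
    apply MulEquiv.ext
    intro w
    apply Subtype.ext
    simp [resEquiv]

@[simp] theorem resHom_apply (Q : Subgroup (MulAut V)) (W : Subgroup V) (hW : IsInv Q W) (q : ↥Q)
    (w : ↥W) : ((resHom Q W hW q) w : V) = (q : MulAut V) (w : V) := rfl

end Cfsg.Agent.Lib.Helper70.AG
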