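import Mathlib
import Cfsg.Prelude.Def_Transfer

/-! Definitions for PACK K-BQS (S3912): property B = "abelian subgroups of equal order are conjugate". -/

set_option autoImplicit false

namespace Cfsg.Agent.Lib.Helper70.BQS

/-- Property B: any two abelian subgroups of the same order are conjugate. -/
def PropB (G : Type*) [Group G] : Prop :=
  ∀ A B : Subgroup G, IsMulCommutative ↥A → IsMulCommutative ↥B → Nat.card ↥A = Nat.card ↥B →
    ∃ g : G, B = A.map (MulAut.conj g).toMonoidHom

/-- every `2`-subgroup of order smaller than the Sylow `2`-subgroup `S` is commutative. -/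
def SmallComm {G : Type*} [Group G] (S : Sylow 2 G) : Prop :=
  ∀ T : Subgroup G, IsPGroup 2 T → Nat.card ↥T < Nat.card ↥(S : Subgroup G) → IsMulCommutative ↥T

end Cfsg.Agent.Lib.Helper70.BQS
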