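import Cfsg.Agent.Lib.Helper06.Hall4.Defs

/-! S4221 keystone 422124 (K-H4-DV): `|FS G {a,b,c,d}|` divides `(n-4)!` (restriction to the
complement of the four points is injective). -/

set_option autoImplicit false
set_option linter.unusedSectionVars false
set_option linter.unusedVariables false

open Equiv

namespace Cfsg.Agent.Lib.Helper70.Hall4

open Cfsg.Agent.Lib.Helper06.Hall4

variable {α : Type*} [Fintype α] [DecidableEq α]

/-- LEAF DV (422124). -/
theorem card_FS_dvd_factorial (G : Subgroup (Perm α)) {a b c d : α}
    (hab : a ≠ b) (hac : a ≠ c) (had : a ≠ d) (hbc : b ≠ c) (hbd : b ≠ d) (hcd : c ≠ d) :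
    Nat.card (FS G {a, b, c, d}) ∣ (Fintype.card α - 4).factorial := by
  classical
  set S : Set α := {a, b, c, d} with hS
  have hinv : ∀ g ∈ FS G S, ∀ x, g x ∉ S ↔ x ∉ S := by
    intro g hg x
    rw [not_iff_not]
    constructor
    · intro hx
      have h1 := hg.2 (g x) hx
      have h2 : g x = x := g.injective h1
      rw [← h2]; exact hx
    · intro hx
      rw [hg.2 x hx]; exact hx
  let φ : ↥(FS G S) →* Perm {x // x ∉ S} :=
    { toFun := fun g => Perm.subtypePerm (g : Perm α) (hinv g g.2)
      map_one' := by
        ext x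
        simp
      map_mul' := by
        intro g h
        ext x
        rfl }
  have hφ : Function.Injective φ := by
    intro g h hgh
    apply Subtype.ext
    ext x
    by_cases hx : x ∈ S
    · rw [g.2.2 x hx, h.2.2 x hx]
    · have := congrArg (fun σ : Perm {x // x ∉ S} => ((σ ⟨x, hx⟩ : {x // x ∉ S}) : α)) hgh
      simpa [φ] using this
  have h1 := Subgroup.card_dvd_of_injective φ hφ
  rw [Nat.card_eq_fintype_card (α := Perm {x // x ∉ S}), Fintype.card_perm] at h1
  have h4 : Fintype.card {x // x ∈ S} = 4 := by
    rw [Fintype.card_subtype]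
    have : (Finset.univ.filter (fun x => x ∈ S)) = ({a, b, c, d} : Finset α) := by
      ext x
      simp [hS]
    rw [this, Finset.card_insert_of_notMem, Finset.card_insert_of_notMem,
      Finset.card_insert_of_notMem, Finset.card_singleton]
    · simp [hcd]
    · simp [hbc, hbd]
    · simp [hab, hac, had]
  have h2 : Fintype.card {x // x ∉ S} = Fintype.card α - 4 := by
    rw [Fintype.card_subtype_compl, h4]
  rwa [h2] at h1

end Cfsg.Agent.Lib.Helper70.Hall4
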