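import Mathlib
import Cfsg.Agent.Lib.Helper06.SylTwo.Defs

set_option autoImplicit false
set_option linter.unusedSectionVars false

/-! S2928 keystone 292810 (K-SylTwo-E1): a nontrivial block of a group generated by Klein
four-groups has size 2, and its translates meeting the support of a generator lie inside it. -/

namespace Cfsg.Agent.Lib.Helper70.SylTwo

open Equiv Equiv.Perm
open Cfsg.Agent.Lib.Helper06.SylTwo

variable {α : Type*} [Fintype α] [DecidableEq α]

/-- the data of a "Jordan four-group": `W` fixes every point outside `S`, is transitive on `S`,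
moves every point of `S`, and `S` has 4 points -/
structure E1Data (W : Subgroup (Perm α)) (S : Set α) : Prop where
  fix : ∀ w ∈ W, ∀ y, y ∉ S → w y = y
  trans : ∀ x ∈ S, ∀ x' ∈ S, ∃ w ∈ W, w x = x'
  moved : ∀ x ∈ S, ∃ w ∈ W, w x ≠ x
  card : S.ncard = 4

theorem E1Data.map_mem {W : Subgroup (Perm α)} {S : Set α} (d : E1Data W S) {w : Perm α}
    (hw : w ∈ W) {x : α} (hx : x ∈ S) : w x ∈ S := by
  by_contra h
  have h1 := d.fix w⁻¹ (W.inv_mem hw) (w x) h
  have h2 : w⁻¹ (w x) = x := by simp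
  rw [h2] at h1
  rw [← h1] at h
  exact h hx

theorem E1Data.mem_iff {W : Subgroup (Perm α)} {S : Set α} (d : E1Data W S) (x : α) :
    (∃ w ∈ W, w x ≠ x) ↔ x ∈ S := by
  constructor
  · rintro ⟨w, hw, hne⟩
    by_contra h
    exact hne (d.fix w hw x h)
  · exact d.moved x

theorem e1data_of_isKlein {W : Subgroup (Perm α)} (hW : IsKlein W) : ∃ S : Set α, E1Data W S := by
  obtain ⟨a, b, c, d, hab, hac, had, hbc, hbd, hcd, rfl⟩ := hW
  set v₁ : Perm α := swap a b * swap c d with hv₁
  set v₂ : Perm α := swap a c * swap b d with hv₂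
  have h1 : v₁ ∈ klein a b c d := Subgroup.subset_closure (by simp [hv₁])
  have h2 : v₂ ∈ klein a b c d := Subgroup.subset_closure (by simp [hv₂])
  have h3 : v₁ * v₂ ∈ klein a b c d := Subgroup.mul_mem _ h1 h2
  -- values
  have e1a : v₁ a = b := by
    rw [hv₁, Perm.mul_apply, swap_apply_of_ne_of_ne hac had, swap_apply_left]
  have e1b : v₁ b = a := by
    rw [hv₁, Perm.mul_apply, swap_apply_of_ne_of_ne hbc hbd, swap_apply_right]
  have e1c : v₁ c = d := by
    rw [hv₁, Perm.mul_apply, swap_apply_left, swap_apply_of_ne_of_ne had.symm hbd.symm]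
  have e1d : v₁ d = c := by
    rw [hv₁, Perm.mul_apply, swap_apply_right, swap_apply_of_ne_of_ne hac.symm hbc.symm]
  have e2a : v₂ a = c := by
    rw [hv₂, Perm.mul_apply, swap_apply_of_ne_of_ne hab had, swap_apply_left]
  have e2b : v₂ b = d := by
    rw [hv₂, Perm.mul_apply, swap_apply_left, swap_apply_of_ne_of_ne had.symm hcd.symm]
  have e2c : v₂ c = a := by
    rw [hv₂, Perm.mul_apply, swap_apply_of_ne_of_ne hbc.symm hcd, swap_apply_right]
  have e2d : v₂ d = b := by
    rw [hv₂, Perm.mul_apply, swap_apply_right, swap_apply_of_ne_of_ne hab.symm hbc]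
  have e3a : (v₁ * v₂) a = d := by rw [Perm.mul_apply, e2a, e1c]
  have e3b : (v₁ * v₂) b = c := by rw [Perm.mul_apply, e2b, e1d]
  have e3c : (v₁ * v₂) c = b := by rw [Perm.mul_apply, e2c, e1a]
  have e3d : (v₁ * v₂) d = a := by rw [Perm.mul_apply, e2d, e1b]
  refine ⟨{a, b, c, d}, ?_, ?_, ?_, ?_⟩
  · -- fixes the outside
    intro w hw y hy
    simp only [Set.mem_insert_iff, Set.mem_singleton_iff, not_or] at hy
    obtain ⟨hya, hyb, hyc, hyd⟩ := hy
    have hst : klein a b c d ≤ MulAction.stabilizer (Perm α) y := by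
      unfold klein
      rw [Subgroup.closure_le]
      intro g hg
      rcases hg with rfl | hg
      · show (swap a b * swap c d) • y = y
        rw [Perm.smul_def, Perm.mul_apply, swap_apply_of_ne_of_ne hyc hyd,
          swap_apply_of_ne_of_ne hya hyb]
      · rw [Set.mem_singleton_iff] at hg
        rw [hg]
        show (swap a c * swap b d) • y = y
        rw [Perm.smul_def, Perm.mul_apply, swap_apply_of_ne_of_ne hyb hyd,
          swap_apply_of_ne_of_ne hya hyc]
    exact hst hw
  · -- transitive: first to `a`, then from `a`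
    have toa : ∀ x ∈ ({a, b, c, d} : Set α), ∃ w ∈ klein a b c d, w x = a := by
      intro x hx
      simp only [Set.mem_insert_iff, Set.mem_singleton_iff] at hx
      rcases hx with rfl | rfl | rfl | rfl
      · exact ⟨1, Subgroup.one_mem _, rfl⟩
      · exact ⟨v₁, h1, e1b⟩
      · exact ⟨v₂, h2, e2c⟩
      · exact ⟨v₁ * v₂, h3, e3d⟩
    have froma : ∀ x ∈ ({a, b, c, d} : Set α), ∃ w ∈ klein a b c d, w a = x := by
      intro x hx
      simp only [Set.mem_insert_iff, Set.mem_singleton_iff] at hx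
      rcases hx with rfl | rfl | rfl | rfl
      · exact ⟨1, Subgroup.one_mem _, rfl⟩
      · exact ⟨v₁, h1, e1a⟩
      · exact ⟨v₂, h2, e2a⟩
      · exact ⟨v₁ * v₂, h3, e3a⟩
    intro x hx x' hx'
    obtain ⟨w, hw, hwx⟩ := toa x hx
    obtain ⟨w', hw', hwx'⟩ := froma x' hx'
    exact ⟨w' * w, Subgroup.mul_mem _ hw' hw, by rw [Perm.mul_apply, hwx, hwx']⟩
  · intro x hx
    simp only [Set.mem_insert_iff, Set.mem_singleton_iff] at hx
    rcases hx with rfl | rfl | rfl | rfl
    · exact ⟨v₁, h1, by rw [e1a]; exact hab.symm⟩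
    · exact ⟨v₁, h1, by rw [e1b]; exact hab⟩
    · exact ⟨v₁, h1, by rw [e1c]; exact hcd.symm⟩
    · exact ⟨v₁, h1, by rw [e1d]; exact hcd⟩
  · have : ({a, b, c, d} : Set α) = (({a, b, c, d} : Finset α) : Set α) := by simp
    rw [this, Set.ncard_coe_finset]
    rw [Finset.card_insert_of_notMem, Finset.card_insert_of_notMem, Finset.card_insert_of_notMem,
      Finset.card_singleton]
    · simp [hcd]
    · simp [hbc, hbd]
    · simp [hab, hac, had]

/-- the dichotomy: a set which is a "block" for `W` and meets `S` lies in `S` or contains `S` -/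
theorem E1Data.dichotomy {W : Subgroup (Perm α)} {S : Set α} (d : E1Data W S) (γ : Set α)
    (hγ : ∀ w ∈ W, w '' γ = γ ∨ Disjoint (w '' γ) γ) {x : α} (hxγ : x ∈ γ) (hxS : x ∈ S) :
    γ ⊆ S ∨ S ⊆ γ := by
  by_cases h : γ ⊆ S
  · exact Or.inl h
  · right
    obtain ⟨y, hyγ, hyS⟩ := Set.not_subset.mp h
    have hpres : ∀ w ∈ W, w '' γ = γ := by
      intro w hw
      rcases hγ w hw with h1 | h1
      · exact h1
      · exfalso
        have hy1 : y ∈ w '' γ := ⟨y, hyγ, d.fix w hw y hyS⟩
        exact (Set.disjoint_left.mp h1) hy1 hyγ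
    intro x' hx'
    obtain ⟨w, hw, hwx⟩ := d.trans x hxS x' hx'
    rw [← hpres w hw, ← hwx]
    exact ⟨x, hxγ, rfl⟩

/-- translates of blocks are blocks -/
theorem isBlk_image {G : Subgroup (Perm α)} {β : Set α} (hblk : IsBlk G β) {g : Perm α}
    (hg : g ∈ G) : IsBlk G (g '' β) := by
  intro h hh
  have hc : g⁻¹ * h * g ∈ G := G.mul_mem (G.mul_mem (G.inv_mem hg) hh) hg
  have key : h '' (g '' β) = g '' ((g⁻¹ * h * g) '' β) := by
    rw [Set.image_image, Set.image_image]
    apply Set.image_congr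
    intro x _
    simp [Perm.mul_apply]
  rcases hblk _ hc with h1 | h1
  · left
    rw [key, h1]
  · right
    rw [key]
    exact (Set.disjoint_image_iff g.injective).mpr h1

/-- **K-SylTwo-E1.** -/
theorem block_structure (𝒲 : Set (Subgroup (Perm α))) (G : Subgroup (Perm α)) (Δ : Set α)
    (hJK : JK 𝒲 G Δ) (β : Set α) (hβ : β ⊆ Δ) (hblk : IsBlk G β) (h1 : 1 < β.ncard) (hne : β ≠ Δ) :
    β.ncard = 2 ∧ ∀ W ∈ 𝒲, ∀ g ∈ G, ∀ x ∈ g '' β, (∃ w ∈ W, w x ≠ x) → ∀ y ∈ g '' β, ∃ w ∈ W, w y ≠ y := by
  classical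
  have hWG : ∀ W ∈ 𝒲, W ≤ G := by
    intro W hW
    rw [hJK.gen]
    exact le_sSup hW
  -- some generator moves the block
  have hex : ∃ W ∈ 𝒲, ∃ w ∈ W, w '' β ≠ β := by
    by_contra hcon
    push Not at hcon
    -- then all of `G` preserves `β`
    let St : Subgroup (Perm α) :=
      { carrier := {g | g '' β = β}
        mul_mem' := by
          intro g h hg hh
          show (g * h) '' β = β
          have : (g * h : Perm α) '' β = g '' (h '' β) := by
            rw [Set.image_image]; rfl
          rw [this, hh, hg]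
        one_mem' := by
          show (1 : Perm α) '' β = β
          simp
        inv_mem' := by
          intro g hg
          show (g⁻¹ : Perm α) '' β = β
          have hg' : g '' β = β := hg
          conv_lhs => rw [← hg']
          rw [Set.image_image]
          simp }
    have hle : G ≤ St := by
      rw [hJK.gen]
      apply sSup_le
      intro W hW w hw
      exact hcon W hW w hw
    -- but `G` is transitive on `Δ ≠ β`
    have hβne : β.Nonempty := by
      apply Set.nonempty_of_ncard_ne_zero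
      omega
    obtain ⟨x, hx⟩ := hβne
    obtain ⟨y, hyΔ, hyβ⟩ : ∃ y ∈ Δ, y ∉ β := by
      by_contra h
      push Not at h
      exact hne (Set.Subset.antisymm hβ h)
    obtain ⟨g, hg, hgx⟩ := hJK.trans x (hβ hx) y hyΔ
    have : g '' β = β := hle hg
    apply hyβ
    rw [← this, ← hgx]
    exact ⟨x, hx, rfl⟩
  obtain ⟨W, hW, w, hw, hwβ⟩ := hex
  obtain ⟨S, d⟩ := e1data_of_isKlein (hJK.klein W hW)
  have hwG : w ∈ G := hWG W hW hw
  have hdisj : Disjoint (w '' β) β := by
    rcases hblk w hwG with h | h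
    · exact absurd h hwβ
    · exact h
  have hblkW : ∀ w' ∈ W, w' '' β = β ∨ Disjoint (w' '' β) β := fun w' hw' => hblk w' (hWG W hW hw')
  -- `β` meets `S`
  have hmeet : ∃ x ∈ β, x ∈ S := by
    by_contra hcon
    push Not at hcon
    apply hwβ
    ext z
    constructor
    · rintro ⟨x, hx, rfl⟩
      rw [d.fix w hw x (hcon x hx)]; exact hx
    · intro hz
      exact ⟨z, hz, d.fix w hw z (hcon z hz)⟩
  obtain ⟨x, hxβ, hxS⟩ := hmeet
  -- `S ⊄ β`
  have hnS : ¬ S ⊆ β := by
    intro hSβ
    have h1' : w x ∈ w '' β := ⟨x, hxβ, rfl⟩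
    have h2' : w x ∈ β := hSβ (d.map_mem hw hxS)
    exact (Set.disjoint_left.mp hdisj) h1' h2'
  have hβS : β ⊆ S := by
    rcases d.dichotomy β hblkW hxβ hxS with h | h
    · exact h
    · exact absurd h hnS
  -- counting: `β` and `w '' β` are disjoint subsets of `S`
  have hcard2 : β.ncard = 2 := by
    have hwβS : w '' β ⊆ S := by
      rintro _ ⟨z, hz, rfl⟩
      exact d.map_mem hw (hβS hz)
    have hunion : (w '' β ∪ β).ncard = (w '' β).ncard + β.ncard :=
      Set.ncard_union_eq hdisj (Set.toFinite _) (Set.toFinite _)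
    have himg : (w '' β).ncard = β.ncard := Set.ncard_image_of_injective β w.injective
    have hle : (w '' β ∪ β).ncard ≤ S.ncard :=
      Set.ncard_le_ncard (Set.union_subset hwβS hβS) (Set.toFinite _)
    rw [hunion, himg, d.card] at hle
    omega
  refine ⟨hcard2, ?_⟩
  intro W' hW' g hg x' hx' hmoved y hy
  obtain ⟨S', d'⟩ := e1data_of_isKlein (hJK.klein W' hW')
  have hblk' : IsBlk G (g '' β) := isBlk_image hblk hg
  have hblkW' : ∀ w' ∈ W', w' '' (g '' β) = g '' β ∨ Disjoint (w' '' (g '' β)) (g '' β) :=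
    fun w' hw' => hblk' w' (hWG W' hW' hw')
  have hx'S : x' ∈ S' := (d'.mem_iff x').mp hmoved
  have hcardg : (g '' β).ncard = 2 := by
    rw [Set.ncard_image_of_injective β g.injective, hcard2]
  rcases d'.dichotomy (g '' β) hblkW' hx' hx'S with h | h
  · exact (d'.mem_iff y).mpr (h hy)
  · exfalso
    have := Set.ncard_le_ncard h (Set.toFinite _)
    rw [d'.card, hcardg] at this
    omega

end Cfsg.Agent.Lib.Helper70.SylTwo
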