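import Mathlib
import Cfsg.Prelude.Def_Local
import Cfsg.Agent.Lib.Helper06.SylAlt.Defs
import Cfsg.Agent.Lib.Helper06.SylTwo.Defs
import Cfsg.Agent.Lib.Helper06.SylAlt.P4
import Cfsg.Agent.Lib.Helper54.SylAltG1
import Cfsg.Agent.Lib.Helper30.Components
import Cfsg.Agent.Lib.Helper70.SylTwoE1

set_option autoImplicit false
set_option linter.unusedSectionVars false
set_option linter.unusedVariables false

/-! S2928 keystone 292811 (K-SylTwo-E2): a group `G` generated by Klein four-groups, transitive
on `Δ`, normalizing a quasisimple subgroup `K ≤ G`, has no block of size 2 whose translates are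
"compatible" with the supports of the generators. -/

namespace Cfsg.Agent.Lib.Helper70.SylTwo

open Equiv Equiv.Perm
open Cfsg.Agent.Lib.Helper06.SylAlt Cfsg.Agent.Lib.Helper06.SylTwo

variable {α : Type*} [Fintype α] [DecidableEq α]

/-- two translates of a block sharing a point are equal -/
theorem translate_eq_of_mem {G : Subgroup (Perm α)} {β : Set α} (hblk : IsBlk G β)
    {g₁ g₂ : Perm α} (h₁ : g₁ ∈ G) (h₂ : g₂ ∈ G) {z : α} (hz₁ : z ∈ g₁ '' β)
    (hz₂ : z ∈ g₂ '' β) : g₁ '' β = g₂ '' β := by
  have hb := isBlk_image hblk h₁ (g₂ * g₁⁻¹) (G.mul_mem h₂ (G.inv_mem h₁))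
  have key : (g₂ * g₁⁻¹ : Perm α) '' (g₁ '' β) = g₂ '' β := by
    rw [Set.image_image]
    apply Set.image_congr
    intro x _
    simp [Perm.mul_apply]
  rw [key] at hb
  rcases hb with h | h
  · exact h.symm
  · exact absurd hz₁ (Set.disjoint_left.mp h hz₂)

/-- the kernel of the action of `G` on the translates of `β` -/
def blkKer (G : Subgroup (Perm α)) (β : Set α) : Subgroup (Perm α) where
  carrier := {e | e ∈ G ∧ ∀ h ∈ G, e '' (h '' β) = h '' β}
  mul_mem' := by
    rintro e₁ e₂ ⟨h1, h1'⟩ ⟨h2, h2'⟩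
    refine ⟨G.mul_mem h1 h2, ?_⟩
    intro h hh
    have : (e₁ * e₂ : Perm α) '' (h '' β) = e₁ '' (e₂ '' (h '' β)) := by
      rw [Set.image_image (f := fun x => e₂ x) (g := fun x => e₁ x)]; rfl
    rw [this, h2' h hh, h1' h hh]
  one_mem' := by
    refine ⟨G.one_mem, ?_⟩
    intro h hh
    simp
  inv_mem' := by
    rintro e ⟨h1, h1'⟩
    refine ⟨G.inv_mem h1, ?_⟩
    intro h hh
    have he := h1' h hh
    conv_lhs => rw [← he]
    rw [Set.image_image]
    simp

theorem mem_blkKer {G : Subgroup (Perm α)} {β : Set α} {e : Perm α} :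
    e ∈ blkKer G β ↔ e ∈ G ∧ ∀ h ∈ G, e '' (h '' β) = h '' β := Iff.rfl

theorem blkKer_le (G : Subgroup (Perm α)) (β : Set α) : blkKer G β ≤ G := fun _ he => he.1

theorem conj_mem_blkKer {G : Subgroup (Perm α)} {β : Set α} {g e : Perm α} (hg : g ∈ G)
    (he : e ∈ blkKer G β) : g * e * g⁻¹ ∈ blkKer G β := by
  refine ⟨G.mul_mem (G.mul_mem hg he.1) (G.inv_mem hg), ?_⟩
  intro h hh
  have h1 : e '' ((g⁻¹ * h : Perm α) '' β) = (g⁻¹ * h : Perm α) '' β :=
    he.2 (g⁻¹ * h) (G.mul_mem (G.inv_mem hg) hh)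
  have h2 : (g * e * g⁻¹ : Perm α) '' (h '' β) = g '' (e '' ((g⁻¹ * h : Perm α) '' β)) := by
    rw [Set.image_image, Set.image_image, Set.image_image]
    apply Set.image_congr
    intro x _
    simp [Perm.mul_apply]
  rw [h2, h1, Set.image_image]
  apply Set.image_congr
  intro x _
  simp [Perm.mul_apply]

theorem le_normalizer_blkKer (G : Subgroup (Perm α)) (β : Set α) :
    G ≤ Subgroup.normalizer ((blkKer G β : Subgroup (Perm α)) : Set (Perm α)) := by
  intro g hg
  rw [Subgroup.mem_normalizer_iff]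
  intro x
  constructor
  · intro hx
    exact conj_mem_blkKer hg hx
  · intro hx
    have := conj_mem_blkKer (G.inv_mem hg) hx
    have h2 : g⁻¹ * (g * x * g⁻¹) * g⁻¹⁻¹ = x := by group
    rw [h2] at this
    exact this

/-- **K-SylTwo-E2.** -/
theorem false_of_block_two (𝒲 : Set (Subgroup (Perm α))) (G K : Subgroup (Perm α)) (Δ : Set α)
    (hJK : JK 𝒲 G Δ) (hKG : K ≤ G) (hGK : G ≤ Subgroup.normalizer (K : Set (Perm α)))
    (hq : Cfsg.IsQuasisimple ↥K) (β : Set α) (hβ : β ⊆ Δ) (hblk : IsBlk G β) (h2 : β.ncard = 2)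
    (hW : ∀ W ∈ 𝒲, ∀ g ∈ G, ∀ x ∈ g '' β, (∃ w ∈ W, w x ≠ x) → ∀ y ∈ g '' β, ∃ w ∈ W, w y ≠ y) :
    False := by
  classical
  obtain ⟨hperf, hK1, -⟩ := Cfsg.Agent.Lib.Helper30.qs_subgroup hq
  have hWG : ∀ W ∈ 𝒲, W ≤ G := by
    intro W hW'
    rw [hJK.gen]
    exact le_sSup hW'
  -- it suffices to show that `K` fixes every point
  suffices hfix : ∀ k ∈ K, ∀ x, k x = x by
    apply hK1
    rw [Subgroup.eq_bot_iff_forall]
    intro k hk
    ext x
    simpa using hfix k hk x
  have hβne : β.Nonempty := by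
    apply Set.nonempty_of_ncard_ne_zero
    omega
  obtain ⟨b, hb⟩ := hβne
  -- every point of `Δ` lies in a translate
  have hcover : ∀ x ∈ Δ, ∃ h ∈ G, x ∈ h '' β := by
    intro x hx
    obtain ⟨h, hh, hhb⟩ := hJK.trans b (hβ hb) x hx
    exact ⟨h, hh, b, hb, hhb⟩
  have hcardT : ∀ h : Perm α, (h '' β).ncard = 2 := by
    intro h
    rw [Set.ncard_image_of_injective β h.injective, h2]
  rcases Cfsg.Agent.Lib.Helper54.SylAlt.le_or_commute_of_quasisimple G K (blkKer G β) hKG hGK hq
    (blkKer_le G β) (le_normalizer_blkKer G β) with hKE | hcomm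
  · -- `K` preserves every translate, so fixes it pointwise
    intro k hk x
    by_cases hx : x ∈ Δ
    · obtain ⟨h, hh, hxh⟩ := hcover x hx
      refine fix_of_perfect_of_ncard_le_four K hperf (h '' β) ?_ ?_ k hk x hxh
      · intro k' hk' y hy
        have := (hKE hk').2 h hh
        rw [← this]
        exact ⟨y, hy, rfl⟩
      · rw [hcardT h]; norm_num
    · exact hJK.fix k (hKG hk) x hx
  · intro k hk x
    by_cases hmv : ∃ W ∈ 𝒲, ∃ w ∈ W, w x ≠ x
    · obtain ⟨W, hW', w, hw, hwx⟩ := hmv
      obtain ⟨S, d⟩ := e1data_of_isKlein (hJK.klein W hW')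
      have hxS : x ∈ S := (d.mem_iff x).mp ⟨w, hw, hwx⟩
      have hxΔ : x ∈ Δ := by
        by_contra hx
        exact hwx (hJK.fix w (hWG W hW' hw) x hx)
      obtain ⟨h, hh, hxh⟩ := hcover x hxΔ
      have hγS : h '' β ⊆ S := by
        intro y hy
        exact (d.mem_iff y).mp (hW W hW' h hh x hxh ⟨w, hw, hwx⟩ y hy)
      obtain ⟨x', hx'γ, hx'x⟩ : ∃ x' ∈ h '' β, x' ≠ x :=
        Set.exists_ne_of_one_lt_ncard (by rw [hcardT h]; norm_num) x
      obtain ⟨e, he, hex⟩ := d.trans x hxS x' (hγS hx'γ)
      have heG : e ∈ G := hWG W hW' he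
      have heγ : e '' (h '' β) = h '' β := by
        rcases isBlk_image hblk hh e heG with h1 | h1
        · exact h1
        · exfalso
          exact Set.disjoint_left.mp h1 ⟨x, hxh, hex⟩ hx'γ
      have heE : e ∈ blkKer G β := by
        refine ⟨heG, ?_⟩
        intro h' hh'
        rcases isBlk_image hblk hh' e heG with h1 | h1
        · exact h1
        · exfalso
          have hz : h' b ∈ h' '' β := ⟨b, hb, rfl⟩
          have hez : e (h' b) ≠ h' b := by
            intro h0
            exact Set.disjoint_left.mp h1 ⟨h' b, hz, h0⟩ hz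
          have hzS : h' b ∈ S := (d.mem_iff _).mp ⟨e, he, hez⟩
          have hγ'S : h' '' β ⊆ S := by
            intro y hy
            exact (d.mem_iff y).mp (hW W hW' h' hh' _ hz ⟨e, he, hez⟩ y hy)
          have hdisj : Disjoint (h '' β) (h' '' β) := by
            rw [Set.disjoint_left]
            intro y hy hy'
            have heq := translate_eq_of_mem hblk hh hh' hy hy'
            have hx1 : x ∈ h' '' β := heq ▸ hxh
            have hx2 : x' ∈ h' '' β := heq ▸ hx'γ
            exact Set.disjoint_left.mp h1 ⟨x, hx1, hex⟩ hx2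
          have hunion : h '' β ∪ h' '' β = S := by
            apply Set.eq_of_subset_of_ncard_le (Set.union_subset hγS hγ'S) _ (Set.toFinite _)
            rw [Set.ncard_union_eq hdisj (Set.toFinite _) (Set.toFinite _), hcardT h, hcardT h',
              d.card]
          have hezS : e (h' b) ∈ S := d.map_mem he hzS
          rw [← hunion] at hezS
          rcases hezS with h3 | h3
          · rw [← heγ] at h3
            obtain ⟨y, hy, hye⟩ := h3
            have hyz : y = h' b := e.injective hye
            rw [hyz] at hy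
            exact Set.disjoint_left.mp hdisj hy hz
          · exact Set.disjoint_left.mp h1 ⟨h' b, hz, rfl⟩ h3
      -- `K` preserves the support of `e`
      have hce : ∀ k' ∈ K, e * k' = k' * e := fun k' hk' => hcomm e heE k' hk'
      have hTS : {y | e y ≠ y} ⊆ S := by
        intro y hy
        by_contra hyS
        exact hy (d.fix e he y hyS)
      have hTinv : ∀ k' ∈ K, ∀ y ∈ {y | e y ≠ y}, k' y ∈ {y | e y ≠ y} := by
        intro k' hk' y hy
        show e (k' y) ≠ k' y
        intro h0
        apply hy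
        have h3 : (e * k') y = (k' * e) y := by rw [hce k' hk']
        simp only [Perm.mul_apply] at h3
        rw [h0] at h3
        exact (k'.injective h3).symm
      have hTc : ({y | e y ≠ y} : Set α).ncard ≤ 4 := by
        rw [← d.card]
        exact Set.ncard_le_ncard hTS (Set.toFinite _)
      refine fix_of_perfect_of_ncard_le_four K hperf {y | e y ≠ y} hTinv hTc k hk x ?_
      show e x ≠ x
      rw [hex]; exact hx'x
    · -- `x` is fixed by all of `G`
      push Not at hmv
      have hle : G ≤ MulAction.stabilizer (Perm α) x := by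
        rw [hJK.gen]
        apply sSup_le
        intro W hW' w hw
        rw [MulAction.mem_stabilizer_iff]
        exact hmv W hW' w hw
      have := hle (hKG hk)
      rw [MulAction.mem_stabilizer_iff] at this
      exact this

end Cfsg.Agent.Lib.Helper70.SylTwo
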