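import Mathlib

set_option autoImplicit false

namespace Cfsg.Agent.Lib.Helper70

open Subgroup

section dihedral
open DihedralGroup

variable {n : ℕ}

theorem dih_mem_zpowers_r_one (g : DihedralGroup n) :
    g ∈ zpowers (r 1 : DihedralGroup n) ↔ ∃ i : ZMod n, g = r i := by
  rw [Subgroup.mem_zpowers_iff]
  constructor
  · rintro ⟨k, rfl⟩
    exact ⟨k, r_one_zpow k⟩
  · rintro ⟨i, rfl⟩
    obtain ⟨k, rfl⟩ := ZMod.intCast_surjective i
    exact ⟨k, r_one_zpow k⟩

theorem dih_zpowers_r_one_normal : (zpowers (r 1 : DihedralGroup n)).Normal := by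
  constructor
  intro g hg t
  rw [dih_mem_zpowers_r_one] at hg ⊢
  obtain ⟨i, rfl⟩ := hg
  rcases t with j | j
  · exact ⟨j + i + -j, by simp⟩
  · exact ⟨j - (j + i), by simp⟩

theorem dih_sup_eq_top : zpowers (r 1 : DihedralGroup n) ⊔ zpowers (sr 0 : DihedralGroup n) = ⊤ := by
  rw [eq_top_iff]
  rintro (i | i) _
  · exact Subgroup.mem_sup_left ((dih_mem_zpowers_r_one _).mpr ⟨i, rfl⟩)
  · have : (sr i : DihedralGroup n) = r (-i) * sr 0 := by simp
    rw [this]
    exact Subgroup.mul_mem_sup ((dih_mem_zpowers_r_one _).mpr ⟨-i, rfl⟩) (Subgroup.mem_zpowers _)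

theorem dih_conj_r_one : (sr 0 : DihedralGroup n) * r 1 * (sr 0)⁻¹ = (r 1)⁻¹ := by
  simp

end dihedral

section quaternion
open QuaternionGroup

variable {n : ℕ}

theorem quat_a_one_zpow (k : ℤ) : (a 1 : QuaternionGroup n) ^ k = a k := by
  obtain ⟨m, rfl | rfl⟩ := k.eq_nat_or_neg
  · simp
  · rw [zpow_neg, zpow_natCast, a_one_pow, inv_eq_iff_mul_eq_one]
    simp

theorem quat_mem_zpowers_a_one (g : QuaternionGroup n) :
    g ∈ zpowers (a 1 : QuaternionGroup n) ↔ ∃ i : ZMod (2 * n), g = a i := by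
  rw [Subgroup.mem_zpowers_iff]
  constructor
  · rintro ⟨k, rfl⟩
    exact ⟨k, quat_a_one_zpow k⟩
  · rintro ⟨i, rfl⟩
    obtain ⟨k, rfl⟩ := ZMod.intCast_surjective i
    exact ⟨k, quat_a_one_zpow k⟩

theorem quat_two_n : (n : ZMod (2 * n)) + n = 0 := by
  have : ((2 * n : ℕ) : ZMod (2 * n)) = 0 := ZMod.natCast_self _
  rw [← this]; push_cast; ring

theorem quat_inv_xa (i : ZMod (2 * n)) : (xa i : QuaternionGroup n)⁻¹ = xa ((n : ZMod (2 * n)) + i) := by
  rw [inv_eq_iff_mul_eq_one]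
  simp only [xa_mul_xa]
  have h := quat_two_n (n := n)
  have : (n : ZMod (2 * n)) + (↑n + i) - i = 0 := by linear_combination h
  rw [this]; rfl

theorem quat_inv_a (i : ZMod (2 * n)) : (a i : QuaternionGroup n)⁻¹ = a (-i) := by
  rw [inv_eq_iff_mul_eq_one]
  simp

theorem quat_zpowers_a_one_normal : (zpowers (a 1 : QuaternionGroup n)).Normal := by
  constructor
  intro g hg t
  rw [quat_mem_zpowers_a_one] at hg ⊢
  obtain ⟨i, rfl⟩ := hg
  rcases t with j | j
  · exact ⟨j + i + -j, by rw [quat_inv_a]; simp⟩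
  · exact ⟨(n : ZMod (2 * n)) + ((n : ZMod (2 * n)) + j) - (j + i), by rw [quat_inv_xa]; simp⟩

theorem quat_sup_eq_top :
    zpowers (a 1 : QuaternionGroup n) ⊔ zpowers (xa 0 : QuaternionGroup n) = ⊤ := by
  rw [eq_top_iff]
  rintro (i | i) _
  · exact Subgroup.mem_sup_left ((quat_mem_zpowers_a_one _).mpr ⟨i, rfl⟩)
  · have : (xa i : QuaternionGroup n) = a (-i) * xa 0 := by simp
    rw [this]
    exact Subgroup.mul_mem_sup ((quat_mem_zpowers_a_one _).mpr ⟨-i, rfl⟩) (Subgroup.mem_zpowers _)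

theorem quat_conj_a_one : (xa 0 : QuaternionGroup n) * a 1 * (xa 0)⁻¹ = (a 1)⁻¹ := by
  rw [quat_inv_xa, quat_inv_a]
  simp only [xa_mul_a, xa_mul_xa]
  congr 1
  have := quat_two_n (n := n)
  linear_combination this

end quaternion

end Cfsg.Agent.Lib.Helper70
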