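import Mathlib
import Cfsg.Prelude.Def_KGroupFacts

set_option autoImplicit false

namespace Cfsg.Agent.Lib.Helper70

open Subgroup

universe u

/-- In a group generated by an abelian normal subgroup `N` and one element `x`, every element of the
commutator subgroup has the form `x u x⁻¹ u⁻¹` with `u ∈ N`. -/
theorem commutator_abelian_by_cyclic {Γ : Type*} [Group Γ] (N : Subgroup Γ) [hNn : N.Normal]
    (hN : ∀ u ∈ N, ∀ v ∈ N, u * v = v * u) (x : Γ) (hx : N ⊔ zpowers x = ⊤) :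
    ∀ g ∈ commutator Γ, ∃ u ∈ N, g = x * u * x⁻¹ * u⁻¹ := by
  -- the hom φ : N → Γ
  have hconj : ∀ u ∈ N, x * u * x⁻¹ ∈ N := fun u hu => hNn.conj_mem u hu x
  let φ : N →* Γ :=
    { toFun := fun u => x * u * x⁻¹ * (u : Γ)⁻¹
      map_one' := by simp
      map_mul' := by
        intro u v
        have h1 := hN _ (hconj v v.2) _ (N.inv_mem u.2)
        simp only [Subgroup.coe_mul, mul_inv_rev]
        calc x * (↑u * ↑v) * x⁻¹ * ((v : Γ)⁻¹ * (u : Γ)⁻¹)
            = x * ↑u * x⁻¹ * ((x * ↑v * x⁻¹) * (v : Γ)⁻¹) * (u : Γ)⁻¹ := by group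
          _ = x * ↑u * x⁻¹ * ((v : Γ)⁻¹ * (x * ↑v * x⁻¹)) * (u : Γ)⁻¹ := by
              rw [hN _ (hconj v v.2) _ (N.inv_mem v.2)]
          _ = x * ↑u * x⁻¹ * (v : Γ)⁻¹ * ((x * ↑v * x⁻¹) * (u : Γ)⁻¹) := by group
          _ = x * ↑u * x⁻¹ * (v : Γ)⁻¹ * ((u : Γ)⁻¹ * (x * ↑v * x⁻¹)) := by rw [h1]
          _ = x * ↑u * x⁻¹ * ((v : Γ)⁻¹ * (u : Γ)⁻¹) * (x * ↑v * x⁻¹) := by group
          _ = x * ↑u * x⁻¹ * ((u : Γ)⁻¹ * (v : Γ)⁻¹) * (x * ↑v * x⁻¹) := by
              rw [hN _ (N.inv_mem v.2) _ (N.inv_mem u.2)]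
          _ = (x * ↑u * x⁻¹ * (u : Γ)⁻¹) * ((v : Γ)⁻¹ * (x * ↑v * x⁻¹)) := by group
          _ = (x * ↑u * x⁻¹ * (u : Γ)⁻¹) * ((x * ↑v * x⁻¹) * (v : Γ)⁻¹) := by
              rw [hN _ (N.inv_mem v.2) _ (hconj v v.2)]
          _ = x * ↑u * x⁻¹ * (u : Γ)⁻¹ * (x * ↑v * x⁻¹ * (v : Γ)⁻¹) := by group }
  let I : Subgroup Γ := φ.range
  have hφN : ∀ u : N, φ u ∈ N := fun u => N.mul_mem (hconj u u.2) (N.inv_mem u.2)
  have hIN : I ≤ N := by
    rintro _ ⟨u, rfl⟩
    exact hφN u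
  -- I is normalized by N (trivially, as N is abelian) and by x
  have hI_x : ∀ g ∈ I, x * g * x⁻¹ ∈ I := by
    rintro _ ⟨u, rfl⟩
    refine ⟨⟨x * u * x⁻¹, hconj u u.2⟩, ?_⟩
    show x * (x * ↑u * x⁻¹) * x⁻¹ * (x * ↑u * x⁻¹)⁻¹ = x * (x * ↑u * x⁻¹ * (u : Γ)⁻¹) * x⁻¹
    group
  have hI_xinv : ∀ g ∈ I, x⁻¹ * g * x ∈ I := by
    rintro _ ⟨u, rfl⟩
    refine ⟨⟨x⁻¹ * u * x, by simpa using hNn.conj_mem u u.2 x⁻¹⟩, ?_⟩
    show x * (x⁻¹ * ↑u * x) * x⁻¹ * (x⁻¹ * ↑u * x)⁻¹ = x⁻¹ * (x * ↑u * x⁻¹ * (u : Γ)⁻¹) * x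
    group
  have hI_N : ∀ g ∈ I, ∀ n ∈ N, n * g * n⁻¹ ∈ I := by
    intro g hg n hn
    have : n * g * n⁻¹ = g := by
      rw [hN n hn g (hIN hg)]; group
    rw [this]; exact hg
  have hInormal : I.Normal := by
    rw [← Subgroup.normalizer_eq_top_iff, eq_top_iff, ← hx, sup_le_iff]
    constructor
    · intro n hn
      rw [Subgroup.mem_normalizer_iff]
      intro g
      constructor
      · intro hg; exact hI_N g hg n hn
      · intro hg
        have := hI_N _ hg n⁻¹ (N.inv_mem hn)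
        have e : n⁻¹ * (n * g * n⁻¹) * n⁻¹⁻¹ = g := by group
        rwa [e] at this
    · rw [Subgroup.zpowers_le]
      rw [Subgroup.mem_normalizer_iff]
      intro g
      constructor
      · intro hg; exact hI_x g hg
      · intro hg
        have := hI_xinv _ hg
        have e : x⁻¹ * (x * g * x⁻¹) * x = g := by group
        rwa [e] at this
  -- the quotient is commutative
  have hcomm : ∀ a b : Γ, Commute (QuotientGroup.mk' I a) (QuotientGroup.mk' I b) := by
    intro a b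
    have ha : a ∈ Subgroup.closure ((N : Set Γ) ∪ {x}) := by
      rw [Subgroup.closure_union, Subgroup.closure_eq, ← Subgroup.zpowers_eq_closure, hx]; trivial
    have hb : b ∈ Subgroup.closure ((N : Set Γ) ∪ {x}) := by
      rw [Subgroup.closure_union, Subgroup.closure_eq, ← Subgroup.zpowers_eq_closure, hx]; trivial
    refine Subgroup.closure_induction₂ (p := fun a b _ _ => Commute (QuotientGroup.mk' I a) (QuotientGroup.mk' I b))
      ?_ ?_ ?_ ?_ ?_ ?_ ?_ ha hb
    · -- generators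
      have key : ∀ n ∈ N, Commute (QuotientGroup.mk' I x) (QuotientGroup.mk' I n) := by
        intro n hn
        show QuotientGroup.mk' I x * QuotientGroup.mk' I n = QuotientGroup.mk' I n * QuotientGroup.mk' I x
        rw [← map_mul, ← map_mul]
        rw [QuotientGroup.mk'_eq_mk']
        refine ⟨x⁻¹ * (x * n⁻¹ * x⁻¹ * n⁻¹⁻¹) * x, hI_xinv _ ⟨⟨n⁻¹, N.inv_mem hn⟩, rfl⟩, ?_⟩
        group
      rintro s t (hs | hs) (ht | ht)
      · show QuotientGroup.mk' I s * QuotientGroup.mk' I t = QuotientGroup.mk' I t * QuotientGroup.mk' I s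
        rw [← map_mul, ← map_mul, hN s hs t ht]
      · rw [Set.mem_singleton_iff] at ht; subst ht
        exact (key s hs).symm
      · rw [Set.mem_singleton_iff] at hs; subst hs
        exact key t ht
      · rw [Set.mem_singleton_iff] at hs ht; subst hs; subst ht
        exact Commute.refl _
    · intro b _; simp
    · intro a _; simp
    · intro a b c _ _ _ h1 h2; rw [map_mul]; exact h1.mul_left h2
    · intro a b c _ _ _ h1 h2; rw [map_mul]; exact h1.mul_right h2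
    · intro a b _ _ h; rw [map_inv]; exact h.inv_left
    · intro a b _ _ h; rw [map_inv]; exact h.inv_right
  have hle : commutator Γ ≤ I := by
    rw [_root_.commutator_def, Subgroup.commutator_le]
    intro a _ b _
    have := hcomm a b
    rw [← QuotientGroup.eq_one_iff (N := I), ← QuotientGroup.mk'_apply, map_commutatorElement]
    exact this.commutator_eq
  intro g hg
  obtain ⟨u, rfl⟩ := hle hg
  exact ⟨u, u.2, rfl⟩


/-- The preimage of a cyclic subgroup under a homomorphism with central kernel is abelian. -/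
theorem comap_zpowers_comm {Γ Q : Type*} [Group Γ] [Group Q] (σ : Γ →* Q)
    (hker : σ.ker ≤ center Γ) (a : Q) (at' : Γ) (hat : σ at' = a) :
    ∀ u ∈ (zpowers a).comap σ, ∀ v ∈ (zpowers a).comap σ, u * v = v * u := by
  have key : ∀ u ∈ (zpowers a).comap σ, ∃ k : ℤ, ∃ c ∈ center Γ, u = c * at' ^ k := by
    intro u hu
    rw [Subgroup.mem_comap, Subgroup.mem_zpowers_iff] at hu
    obtain ⟨k, hk⟩ := hu
    refine ⟨k, u * at' ^ (-k), hker ?_, by group⟩
    rw [MonoidHom.mem_ker, map_mul, map_zpow, hat, ← hk]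
    group
  intro u hu v hv
  obtain ⟨k, c, hc, rfl⟩ := key u hu
  obtain ⟨l, d, hd, rfl⟩ := key v hv
  rw [Subgroup.mem_center_iff] at hc hd
  calc c * at' ^ k * (d * at' ^ l) = c * (at' ^ k * d) * at' ^ l := by group
    _ = c * (d * at' ^ k) * at' ^ l := by rw [hd]
    _ = (c * d) * (at' ^ k * at' ^ l) := by group
    _ = (c * d) * (at' ^ l * at' ^ k) := by rw [← zpow_add, ← zpow_add, add_comm]
    _ = (d * c) * (at' ^ l * at' ^ k) := by rw [hd c]
    _ = d * (c * at' ^ l) * at' ^ k := by group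
    _ = d * (at' ^ l * c) * at' ^ k := by rw [← hc]
    _ = d * at' ^ l * (c * at' ^ k) := by group

/-- Shape of the kernel elements of a stem extension of a group generated by a normal cyclic subgroup
`⟨a⟩` and an element `x` inverting `a`. -/
theorem stem_ker_form {Γ Q : Type*} [Group Γ] [Group Q] (σ : Γ →* Q) (hσ : Cfsg.IsStemExtension σ)
    (a x : Q) (hnorm : (zpowers a).Normal) (hgen : zpowers a ⊔ zpowers x = ⊤)
    (hinv : x * a * x⁻¹ = a⁻¹) (xt : Γ) (hxt : σ xt = x) :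
    ∀ z ∈ σ.ker, ∃ u : Γ, σ u ∈ zpowers a ∧ (σ u) ^ 2 = 1 ∧ z = xt * u * xt⁻¹ * u⁻¹ := by
  obtain ⟨hsurj, hcen, hcomm⟩ := hσ
  obtain ⟨at', hat⟩ := hsurj a
  let N : Subgroup Γ := (zpowers a).comap σ
  have : N.Normal := hnorm.comap σ
  have hkN : σ.ker ≤ N := by
    intro g hg
    show σ g ∈ zpowers a
    rw [MonoidHom.mem_ker.mp hg]; exact one_mem _
  have hNx : N ⊔ zpowers xt = ⊤ := by
    have h1 : (N ⊔ zpowers xt).map σ = ⊤ := by
      rw [Subgroup.map_sup, Subgroup.map_comap_eq_self_of_surjective hsurj, MonoidHom.map_zpowers,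
        hxt, hgen]
    have h2 : σ.ker ≤ N ⊔ zpowers xt := hkN.trans le_sup_left
    rw [← Subgroup.comap_map_eq_self h2, h1, Subgroup.comap_top]
  intro z hz
  obtain ⟨u, hu, hzu⟩ := commutator_abelian_by_cyclic N (comap_zpowers_comm σ hcen a at' hat) xt hNx z
    (hcomm hz)
  refine ⟨u, hu, ?_, hzu⟩
  have hu' : σ u ∈ zpowers a := hu
  rw [Subgroup.mem_zpowers_iff] at hu'
  obtain ⟨k, hk⟩ := hu'
  have h1 : σ z = 1 := MonoidHom.mem_ker.mp hz
  rw [hzu, map_mul, map_mul, map_mul, map_inv, map_inv, hxt, ← hk] at h1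
  have h2 : x * a ^ k * x⁻¹ = (a ^ k)⁻¹ := by
    have : x * a ^ k * x⁻¹ = (x * a * x⁻¹) ^ k := by
      rw [← MulAut.conj_apply, ← MulAut.conj_apply, map_zpow]
    rw [this, hinv, inv_zpow]
  rw [h2] at h1
  rw [← hk, sq]
  have : ((a ^ k)⁻¹ * (a ^ k)⁻¹)⁻¹ = 1 := by rw [h1, inv_one]
  simpa using this

/-- Trivial multiplier from triviality of all stem extension kernels. -/
theorem hasCyclicSchurMultiplier_one_of_forall {G : Type u} [Group G] [Finite G]
    (h : ∀ (Γ : Type u) [Group Γ] [Finite Γ] (σ : Γ →* G), Cfsg.IsStemExtension σ → σ.ker = ⊥) :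
    Cfsg.HasCyclicSchurMultiplier G 1 := by
  constructor
  · refine ⟨G, inferInstance, inferInstance, MonoidHom.id G, ⟨Function.surjective_id, ?_, ?_⟩, ?_⟩
    · rw [MonoidHom.ker_id]; exact bot_le
    · rw [MonoidHom.ker_id]; exact bot_le
    · have hsub : ∀ g : (MonoidHom.id G).ker, g = 1 := by
        rintro ⟨g, hg⟩
        ext
        simpa using hg
      refine ⟨{ toFun := fun _ => 1, invFun := fun _ => 1, left_inv := fun g => (hsub g).symm,
                right_inv := fun t => ?_, map_mul' := fun _ _ => by simp }⟩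
      cases t using Multiplicative.rec
      rename_i t
      have : t = 0 := Subsingleton.elim _ _
      subst this; rfl
  · intro Γ _ _ σ hσ
    refine ⟨1, ?_⟩
    intro g
    refine ⟨1, ?_⟩
    have := h Γ σ hσ
    have hg : (g : Γ) ∈ (⊥ : Subgroup Γ) := this ▸ g.2
    rw [Subgroup.mem_bot] at hg
    ext
    simp [hg]

/-- Conversely, a trivial multiplier forces every finite stem extension to be injective. -/
theorem ker_eq_bot_of_hasCyclicSchurMultiplier_one {G : Type u} [Group G]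
    (h : Cfsg.HasCyclicSchurMultiplier G 1) (Γ : Type u) [Group Γ] [Finite Γ] (σ : Γ →* G)
    (hσ : Cfsg.IsStemExtension σ) : σ.ker = ⊥ := by
  obtain ⟨π, hπ⟩ := h.2 Γ σ hσ
  rw [eq_bot_iff]
  intro g hg
  obtain ⟨t, ht⟩ := hπ ⟨g, hg⟩
  have : t = 1 := Subsingleton.elim _ _
  rw [this, map_one] at ht
  rw [Subgroup.mem_bot]
  exact (congrArg Subtype.val ht).symm


/-- a cyclic group killed by `n` is an image of `ZMod n` -/
theorem exists_surj_zmod_of_cyclic {H : Type*} [Group H] [hc : IsCyclic H] (n : ℕ)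
    (hn : ∀ h : H, h ^ n = 1) : ∃ π : Multiplicative (ZMod n) →* H, Function.Surjective π := by
  obtain ⟨g, hg⟩ := hc.exists_generator
  let f : ℤ →+ Additive H := zmultiplesHom (Additive H) (Additive.ofMul g)
  have hf : f n = 0 := by
    show (n : ℤ) • Additive.ofMul g = 0
    rw [natCast_zsmul, ← ofMul_pow, hn g]; rfl
  let L : ZMod n →+ Additive H := ZMod.lift n ⟨f, hf⟩
  refine ⟨AddMonoidHom.toMultiplicativeLeft L, ?_⟩
  intro h
  obtain ⟨k, rfl⟩ := Subgroup.mem_zpowers_iff.mp (hg h)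
  refine ⟨Multiplicative.ofAdd (k : ZMod n), ?_⟩
  show Additive.toMul (L (k : ZMod n)) = g ^ k
  rw [ZMod.lift_coe]
  show Additive.toMul ((k : ℤ) • Additive.ofMul g) = g ^ k
  rfl

/-- any subgroup contained in a cyclic subgroup killed by `n` is an image of `ZMod n` -/
theorem exists_surj_zmod_of_le_zpowers {Γ : Type*} [Group Γ] (K : Subgroup Γ) (c : Γ) (n : ℕ)
    (hK : K ≤ zpowers c) (hc : c ^ n = 1) :
    ∃ π : Multiplicative (ZMod n) →* K, Function.Surjective π := by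
  have hcyc : IsCyclic (K.subgroupOf (zpowers c)) := inferInstance
  have e : K.subgroupOf (zpowers c) ≃* K := Subgroup.subgroupOfEquivOfLe hK
  have : IsCyclic K := isCyclic_of_surjective e e.surjective
  apply exists_surj_zmod_of_cyclic
  rintro ⟨h, hh⟩
  obtain ⟨k, rfl⟩ := Subgroup.mem_zpowers_iff.mp (hK hh)
  ext
  show (c ^ k) ^ n = 1
  rw [← zpow_natCast, ← zpow_mul, mul_comm, zpow_mul, zpow_natCast, hc, one_zpow]

/-- Kernel of a stem extension of an abelian group generated by `x` and `y` with `y ^ n = 1`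
lies in a cyclic subgroup killed by `n`. -/
theorem stem_ker_two_gen {Γ Q : Type*} [Group Γ] [CommGroup Q] (σ : Γ →* Q)
    (hσ : Cfsg.IsStemExtension σ) (x y : Q) (hgen : zpowers x ⊔ zpowers y = ⊤) (n : ℕ)
    (hy : y ^ n = 1) : ∃ c : Γ, σ.ker ≤ zpowers c ∧ c ^ n = 1 := by
  obtain ⟨hsurj, hcen, hcomm⟩ := hσ
  obtain ⟨xt, hxt⟩ := hsurj x
  obtain ⟨yt, hyt⟩ := hsurj y
  let N : Subgroup Γ := (zpowers x).comap σ
  have hNn : N.Normal := (inferInstance : (zpowers x).Normal).comap σ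
  have hkN : σ.ker ≤ N := by
    intro g hg
    show σ g ∈ zpowers x
    rw [MonoidHom.mem_ker.mp hg]; exact one_mem _
  have hNy : N ⊔ zpowers yt = ⊤ := by
    have h1 : (N ⊔ zpowers yt).map σ = ⊤ := by
      rw [Subgroup.map_sup, Subgroup.map_comap_eq_self_of_surjective hsurj, MonoidHom.map_zpowers,
        hyt, hgen]
    have h2 : σ.ker ≤ N ⊔ zpowers yt := hkN.trans le_sup_left
    rw [← Subgroup.comap_map_eq_self h2, h1, Subgroup.comap_top]
  -- c = [yt, xt]
  let c : Γ := yt * xt * yt⁻¹ * xt⁻¹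
  have hck : c ∈ σ.ker := by
    rw [MonoidHom.mem_ker]
    simp only [c, map_mul, map_inv]
    rw [mul_comm (σ yt) (σ xt)]; group
  have hcc : ∀ g : Γ, g * c = c * g := Subgroup.mem_center_iff.mp (hcen hck)
  -- conjugation formulas
  have hconj_pow : ∀ k : ℕ, yt * xt ^ k * yt⁻¹ = c ^ k * xt ^ k := by
    intro k
    induction k with
    | zero => simp
    | succ k ih =>
      calc yt * xt ^ (k + 1) * yt⁻¹ = (yt * xt ^ k * yt⁻¹) * (yt * xt * yt⁻¹) := by
            rw [pow_succ]; group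
        _ = (c ^ k * xt ^ k) * (c * xt) := by
            rw [ih]; congr 1; simp only [c]; group
        _ = c ^ k * (xt ^ k * c) * xt := by group
        _ = c ^ k * (c * xt ^ k) * xt := by rw [hcc]
        _ = c ^ (k + 1) * xt ^ (k + 1) := by rw [pow_succ, pow_succ]; group
  have hconj_zpow : ∀ k : ℤ, yt * xt ^ k * yt⁻¹ * (xt ^ k)⁻¹ ∈ zpowers c := by
    intro k
    obtain ⟨j, rfl | rfl⟩ := k.eq_nat_or_neg
    · rw [zpow_natCast, hconj_pow]
      have : c ^ j * xt ^ j * (xt ^ j)⁻¹ = c ^ j := by group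
      rw [this]; exact Subgroup.pow_mem _ (Subgroup.mem_zpowers c) j
    · rw [zpow_neg, zpow_natCast]
      have h1 : yt * (xt ^ j)⁻¹ * yt⁻¹ = (yt * xt ^ j * yt⁻¹)⁻¹ := by group
      rw [h1, hconj_pow, inv_inv, mul_inv_rev]
      have hcj : ∀ g : Γ, g * (c ^ j)⁻¹ = (c ^ j)⁻¹ * g := by
        intro g
        have hmem : (c ^ j)⁻¹ ∈ center Γ :=
          Subgroup.inv_mem _ (Subgroup.pow_mem _ (hcen hck) j)
        exact Subgroup.mem_center_iff.mp hmem g
      rw [hcj, mul_assoc, inv_mul_cancel, mul_one]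
      exact Subgroup.inv_mem _ (Subgroup.pow_mem _ (Subgroup.mem_zpowers c) j)
  refine ⟨c, ?_, ?_⟩
  · intro z hz
    obtain ⟨u, hu, hzu⟩ := commutator_abelian_by_cyclic N (comap_zpowers_comm σ hcen x xt hxt) yt hNy z
      (hcomm hz)
    -- u = w * xt^k with w central
    have hu' : σ u ∈ zpowers x := hu
    obtain ⟨k, hk⟩ := Subgroup.mem_zpowers_iff.mp hu'
    have hw : u * (xt ^ k)⁻¹ ∈ σ.ker := by
      rw [MonoidHom.mem_ker, map_mul, map_inv, map_zpow, hxt, hk]; group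
    have hwc := Subgroup.mem_center_iff.mp (hcen hw)
    set w := u * (xt ^ k)⁻¹ with hwdef
    have hu2 : u = w * xt ^ k := by rw [hwdef]; group
    have : z = yt * xt ^ k * yt⁻¹ * (xt ^ k)⁻¹ := by
      rw [hzu, hu2]
      calc yt * (w * xt ^ k) * yt⁻¹ * (w * xt ^ k)⁻¹
          = (yt * w) * xt ^ k * yt⁻¹ * (xt ^ k)⁻¹ * w⁻¹ := by group
        _ = (w * yt) * xt ^ k * yt⁻¹ * (xt ^ k)⁻¹ * w⁻¹ := by rw [hwc yt]
        _ = w * (yt * xt ^ k * yt⁻¹ * (xt ^ k)⁻¹) * w⁻¹ := by group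
        _ = (yt * xt ^ k * yt⁻¹ * (xt ^ k)⁻¹) * w * w⁻¹ := by rw [hwc]
        _ = yt * xt ^ k * yt⁻¹ * (xt ^ k)⁻¹ := by group
    rw [this]
    exact hconj_zpow k
  · -- c^n = 1 via yt^n central
    have hyn : yt ^ n ∈ σ.ker := by
      rw [MonoidHom.mem_ker, map_pow, hyt, hy]
    have hync := Subgroup.mem_center_iff.mp (hcen hyn)
    have hpow : ∀ k : ℕ, yt ^ k * xt * (yt ^ k)⁻¹ = c ^ k * xt := by
      intro k
      induction k with
      | zero => simp
      | succ k ih =>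
        calc yt ^ (k + 1) * xt * (yt ^ (k + 1))⁻¹ = yt * (yt ^ k * xt * (yt ^ k)⁻¹) * yt⁻¹ := by
              rw [pow_succ']; group
          _ = yt * (c ^ k * xt) * yt⁻¹ := by rw [ih]
          _ = (yt * c ^ k) * xt * yt⁻¹ := by group
          _ = (c ^ k * yt) * xt * yt⁻¹ := by
              have hmem : c ^ k ∈ center Γ := Subgroup.pow_mem _ (hcen hck) k
              rw [Subgroup.mem_center_iff.mp hmem yt]
          _ = c ^ k * (yt * xt * yt⁻¹ * xt⁻¹) * xt := by group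
          _ = c ^ (k + 1) * xt := by rw [pow_succ]
    have h1 := hpow n
    have h2 : yt ^ n * xt * (yt ^ n)⁻¹ = xt := by
      rw [← hync xt]; group
    rw [h2] at h1
    have h3 : c ^ n * xt * xt⁻¹ = xt * xt⁻¹ := by rw [← h1]
    simpa using h3


open scoped commutatorElement in
/-- Pull back a stem extension `ρ : E → A` (kernel central, made of commutators) along a surjection
from a commutative group `G`. -/
theorem exists_stem_of_pullback {G : Type u} [CommGroup G] [Finite G] {E : Type} [Group E] [Finite E]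
    {A : Type*} [Group A] (ρ : E →* A) (hρ : Function.Surjective ρ) (hcen : ρ.ker ≤ center E)
    (hcomm : ∀ h ∈ ρ.ker, ∃ h₁ h₂ : E, h = ⁅h₁, h₂⁆) (q : G →* A) (hq : Function.Surjective q)
    (hne : ρ.ker ≠ ⊥) :
    ∃ (Γ : Type u) (_ : Group Γ) (_ : Finite Γ) (σ : Γ →* G), Cfsg.IsStemExtension σ ∧ σ.ker ≠ ⊥ := by
  let P : Subgroup (G × E) := (q.comp (MonoidHom.fst G E)).eqLocus (ρ.comp (MonoidHom.snd G E))
  have hP : ∀ t : G × E, t ∈ P ↔ q t.1 = ρ t.2 := fun t => Iff.rfl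
  let σ : P →* G := (MonoidHom.fst G E).comp P.subtype
  have hker : ∀ t : P, t ∈ σ.ker ↔ (t : G × E).1 = 1 := fun t => by
    rw [MonoidHom.mem_ker]; rfl
  have hker2 : ∀ t : P, t ∈ σ.ker → (t : G × E).2 ∈ ρ.ker := by
    intro t ht
    rw [hker] at ht
    have := (hP t).mp t.2
    rw [ht, map_one] at this
    rw [MonoidHom.mem_ker]; exact this.symm
  refine ⟨P, inferInstance, inferInstance, σ, ⟨?_, ?_, ?_⟩, ?_⟩
  · intro g
    obtain ⟨e, he⟩ := hρ (q g)
    exact ⟨⟨(g, e), (hP _).mpr he.symm⟩, rfl⟩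
  · intro t ht
    rw [Subgroup.mem_center_iff]
    intro s
    apply Subtype.ext
    apply Prod.ext
    · exact mul_comm _ _
    · exact Subgroup.mem_center_iff.mp (hcen (hker2 t ht)) _
  · intro t ht
    obtain ⟨h₁, h₂, hh⟩ := hcomm _ (hker2 t ht)
    obtain ⟨g₁, hg₁⟩ := hq (ρ h₁)
    obtain ⟨g₂, hg₂⟩ := hq (ρ h₂)
    have : t = ⁅(⟨(g₁, h₁), (hP _).mpr hg₁⟩ : P), (⟨(g₂, h₂), (hP _).mpr hg₂⟩ : P)⁆ := by
      apply Subtype.ext
      apply Prod.ext
      · rw [(hker t).mp ht]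
        show (1 : G) = g₁ * g₂ * g₁⁻¹ * g₂⁻¹
        rw [mul_comm g₁ g₂]; group
      · rw [hh]; rfl
    rw [this]
    exact Subgroup.commutator_mem_commutator (Subgroup.mem_top _) (Subgroup.mem_top _)
  · intro hbot
    apply hne
    rw [eq_bot_iff]
    intro h hh
    have hmem : (⟨(1, h), (hP _).mpr (by rw [map_one]; exact (MonoidHom.mem_ker.mp hh).symm)⟩ : P) ∈ σ.ker := by
      rw [hker]
    rw [hbot, Subgroup.mem_bot] at hmem
    have := congrArg (fun t : P => (t : G × E).2) hmem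
    rw [Subgroup.mem_bot]
    exact this

end Cfsg.Agent.Lib.Helper70
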