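import Mathlib

/-!
# K-S2717-U3 `relIndex_sup_cases`: index bookkeeping
-/

set_option autoImplicit false

namespace Cfsg.Agent.Lib.Helper70.S2717K

theorem relIndex_sup_cases {A : Type*} [Group A] (I P E C : Subgroup A) (hIP : I ≤ P)
    (hPE : P ≤ E) (hCP : C ≤ P) (h1 : I.relIndex P = 2) (h2 : P.relIndex E = 2) :
    (C ≤ I → (I ⊔ C).relIndex E = 4) ∧ (¬ C ≤ I → (I ⊔ C).relIndex E = 2) := by
  have hJP : I ⊔ C ≤ P := sup_le hIP hCP
  have hIJ : I ≤ I ⊔ C := le_sup_left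
  have e1 : I.relIndex (I ⊔ C) * (I ⊔ C).relIndex P = 2 := by
    rw [Subgroup.relIndex_mul_relIndex I (I ⊔ C) P hIJ hJP, h1]
  have e2 : (I ⊔ C).relIndex P * 2 = (I ⊔ C).relIndex E := by
    rw [← h2, Subgroup.relIndex_mul_relIndex (I ⊔ C) P E hJP hPE]
  constructor
  · intro hCI
    have hJ : I ⊔ C = I := sup_eq_left.mpr hCI
    rw [hJ] at e2
    rw [hJ, ← e2, h1]
  · intro hCI
    have hne : I.relIndex (I ⊔ C) ≠ 1 := by
      intro h
      rw [Subgroup.relIndex_eq_one] at h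
      exact hCI (le_sup_right.trans h)
    have hdvd : I.relIndex (I ⊔ C) ∣ 2 := Dvd.intro _ e1
    have h2' : I.relIndex (I ⊔ C) = 2 := by
      rcases (Nat.dvd_prime Nat.prime_two).mp hdvd with h | h
      · exact absurd h hne
      · exact h
    rw [h2'] at e1
    have h3 : (I ⊔ C).relIndex P = 1 := by omega
    rw [← e2, h3]

end Cfsg.Agent.Lib.Helper70.S2717K
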