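import Mathlib
import Cfsg.Prelude.Def_GeometricClasses
import Cfsg.Agent.Lib.Helper61.AschDefs
import Cfsg.Agent.Lib.Helper43.SpAschDefs
import Cfsg.Agent.Lib.Helper43.SpAschDefs2
import Cfsg.Agent.Lib.Helper97.AschB5

/-!
# K-SpAsch-S4a `exists_gram_kronecker`

An adjoint-closed tensor-left algebra `A = P (M_a ⊗ 1) P⁻¹` for a symplectic form `f`: in the coordinates `(e, P)` the Gram
matrix of `f` is a Kronecker product `G₁ ⊗ G₂` with `G₁ᵀ = ε G₁`, `G₂ᵀ = -ε G₂`, `ε = ± 1`.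
-/

set_option autoImplicit false
set_option linter.unusedSectionVars false

namespace Cfsg.Agent.Lib.Helper70.SpAsch

open Cfsg Cfsg.Geo Cfsg.Agent.Lib.Helper61.Asch Cfsg.Agent.Lib.Helper43.SpAsch
open scoped Matrix Kronecker MatrixGroups

section gram

variable {F : Type*} [Field F] {κ : Type} [Fintype κ] [DecidableEq κ]

theorem bsum_left (f : (κ → F) → (κ → F) → F) (hf : IsBilinearForm f)
    {α : Type*} (s : Finset α) (c : α → F) (v : α → κ → F) (y : κ → F) :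
    f (∑ a ∈ s, c a • v a) y = ∑ a ∈ s, c a * f (v a) y := by
  classical
  induction s using Finset.induction_on with
  | empty =>
    have h := hf.smul_left 0 0 y
    rw [zero_smul, zero_mul] at h
    simpa using h
  | insert a s ha ih =>
    rw [Finset.sum_insert ha, Finset.sum_insert ha, hf.add_left, hf.smul_left, ih]

theorem bsum_right (f : (κ → F) → (κ → F) → F) (hf : IsBilinearForm f)
    {α : Type*} (s : Finset α) (c : α → F) (v : α → κ → F) (x : κ → F) :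
    f x (∑ a ∈ s, c a • v a) = ∑ a ∈ s, c a * f x (v a) := by
  classical
  induction s using Finset.induction_on with
  | empty =>
    have h := hf.smul_right 0 x 0
    rw [zero_smul, zero_mul] at h
    simpa using h
  | insert a s ha ih =>
    rw [Finset.sum_insert ha, Finset.sum_insert ha, hf.add_right, hf.smul_right, ih]

/-- a bilinear form given as a function is the form of its Gram matrix -/
theorem bilin_eq_formOfGram (f : (κ → F) → (κ → F) → F) (hf : IsBilinearForm f)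
    (x y : κ → F) : f x y = formOfGram id (gramMatrix f) x y := by
  have hx : x = ∑ a, x a • (Pi.single a (1 : F) : κ → F) := by
    ext k
    simp [Finset.sum_apply, Pi.single_apply]
  have hy : y = ∑ a, y a • (Pi.single a (1 : F) : κ → F) := by
    ext k
    simp [Finset.sum_apply, Pi.single_apply]
  conv_lhs => rw [hx, bsum_left f hf]
  unfold formOfGram gramMatrix
  apply Finset.sum_congr rfl
  intro a _
  conv_lhs => rw [hy, bsum_right f hf, Finset.mul_sum]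
  apply Finset.sum_congr rfl
  intro b _
  simp only [id]
  ring

theorem formOfGram_id_eq_dot (G : Matrix κ κ F) (x y : κ → F) :
    formOfGram id G x y = x ⬝ᵥ (G *ᵥ y) := by
  unfold formOfGram
  simp only [dotProduct, Matrix.mulVec, Finset.mul_sum, id, mul_assoc]

theorem mulVec_dot (M : Matrix κ κ F) (s w : κ → F) : (M *ᵥ s) ⬝ᵥ w = s ⬝ᵥ (Mᵀ *ᵥ w) := by
  rw [Matrix.mulVec_transpose, dotProduct_comm, Matrix.dotProduct_mulVec, dotProduct_comm]

theorem mat_eq_of_forall_dot (M M' : Matrix κ κ F)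
    (h : ∀ s t : κ → F, s ⬝ᵥ (M *ᵥ t) = s ⬝ᵥ (M' *ᵥ t)) : M = M' := by
  ext i j
  have := h (Pi.single i 1) (Pi.single j 1)
  simpa using this

end gram

variable {F : Type*} [Field F] [Fintype F] {n : ℕ}

local notation "V" => (Fin n → F)
local notation "Mat" => Matrix (Fin n) (Fin n) F

/-- sign analysis of a skew Kronecker product -/
theorem kron_skew_signs {a b : ℕ} (G₁ : Matrix (Fin a) (Fin a) F) (G₂ : Matrix (Fin b) (Fin b) F)
    (h1 : ∃ i j, G₁ i j ≠ 0) (h2 : ∃ k l, G₂ k l ≠ 0)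
    (hE : ∀ i j k l, G₁ j i * G₂ l k = -(G₁ i j * G₂ k l)) :
    ∃ ε : F, (ε = 1 ∨ ε = -1) ∧ G₁ᵀ = ε • G₁ ∧ G₂ᵀ = (-ε) • G₂ := by
  obtain ⟨i₀, j₀, hij⟩ := h1
  obtain ⟨k₀, l₀, hkl⟩ := h2
  have h0 := hE i₀ j₀ k₀ l₀
  have hne : G₁ j₀ i₀ * G₂ l₀ k₀ ≠ 0 := by
    rw [h0]
    exact neg_ne_zero.mpr (mul_ne_zero hij hkl)
  have hlk : G₂ l₀ k₀ ≠ 0 := right_ne_zero_of_mul hne
  set ε : F := -(G₂ k₀ l₀ / G₂ l₀ k₀) with hε
  have hG1 : ∀ i j, G₁ j i = ε * G₁ i j := by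
    intro i j
    have := hE i j k₀ l₀
    rw [hε]
    field_simp
    linear_combination this
  have hε2 : ε * ε = 1 := by
    have e1 := hG1 i₀ j₀
    have e2 := hG1 j₀ i₀
    rw [e1] at e2
    have : (ε * ε - 1) * G₁ i₀ j₀ = 0 := by linear_combination -e2
    rcases mul_eq_zero.mp this with h | h
    · linear_combination h
    · exact absurd h hij
  have hε1 : ε = 1 ∨ ε = -1 := by
    have : (ε - 1) * (ε + 1) = 0 := by linear_combination hε2
    rcases mul_eq_zero.mp this with h | h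
    · left; linear_combination h
    · right; linear_combination h
  have hG2 : ∀ k l, G₂ l k = -ε * G₂ k l := by
    intro k l
    have e1 := hE i₀ j₀ k l
    rw [hG1 i₀ j₀] at e1
    have e2 : G₁ i₀ j₀ * (ε * G₂ l k + G₂ k l) = 0 := by linear_combination e1
    rcases mul_eq_zero.mp e2 with h | h
    · exact absurd h hij
    · linear_combination ε * h - G₂ l k * hε2
  refine ⟨ε, hε1, ?_, ?_⟩
  · ext i j
    rw [Matrix.transpose_apply, Matrix.smul_apply, smul_eq_mul]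
    exact hG1 i j
  · ext k l
    rw [Matrix.transpose_apply, Matrix.smul_apply, smul_eq_mul]
    exact hG2 k l

theorem exists_entry_ne_zero {a : ℕ} (ha : 0 < a) (G : Matrix (Fin a) (Fin a) F) (hG : IsUnit G) :
    ∃ i j, G i j ≠ 0 := by
  by_contra hcon
  push Not at hcon
  have h0 : G = 0 := by
    ext i j
    exact hcon i j
  haveI : Nonempty (Fin a) := ⟨⟨0, ha⟩⟩
  have hdet : IsUnit G.det := (Matrix.isUnit_iff_isUnit_det G).mp hG
  rw [h0, Matrix.det_zero] at hdet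
  exact not_isUnit_zero hdet

/-- **K-SpAsch-S4a**. -/
theorem exists_gram_kronecker {f : V → V → F} (hf : IsSymplecticForm f) (A : Subalgebra F Mat) (a b : ℕ)
    (ha : 0 < a) (hb : 0 < b) (e : Fin n ≃ Fin a × Fin b) (P : GL (Fin n) F) (hT : IsTensorLeft A a b e P)
    (hA : IsAdjointClosedFor f A) :
    ∃ (G₁ : Matrix (Fin a) (Fin a) F) (G₂ : Matrix (Fin b) (Fin b) F) (ε : F), IsUnit G₁ ∧ IsUnit G₂ ∧
      (ε = 1 ∨ ε = -1) ∧ G₁ᵀ = ε • G₁ ∧ G₂ᵀ = (-ε) • G₂ ∧ IsKronForm f a b e P G₁ G₂ := by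
  classical
  -- the transported form
  set g : (Fin a × Fin b → F) → (Fin a × Fin b → F) → F :=
    fun x y => f ((P : Mat) *ᵥ (x ∘ e)) ((P : Mat) *ᵥ (y ∘ e)) with hg
  have hgb : IsBilinearForm g := by
    refine ⟨?_, ?_, ?_, ?_⟩
    · intro x y v
      show f ((P : Mat) *ᵥ ((x + y) ∘ e)) _ = _
      have : (x + y) ∘ e = x ∘ e + y ∘ e := rfl
      rw [this, Matrix.mulVec_add, hf.bilinear.add_left]
    · intro c x v
      show f ((P : Mat) *ᵥ ((c • x) ∘ e)) _ = _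
      have : (c • x) ∘ e = c • (x ∘ e) := rfl
      rw [this, Matrix.mulVec_smul, hf.bilinear.smul_left]
    · intro v x y
      show f _ ((P : Mat) *ᵥ ((x + y) ∘ e)) = _
      have : (x + y) ∘ e = x ∘ e + y ∘ e := rfl
      rw [this, Matrix.mulVec_add, hf.bilinear.add_right]
    · intro c v x
      show f _ ((P : Mat) *ᵥ ((c • x) ∘ e)) = _
      have : (c • x) ∘ e = c • (x ∘ e) := rfl
      rw [this, Matrix.mulVec_smul, hf.bilinear.smul_right]
  set Φ : Matrix (Fin a × Fin b) (Fin a × Fin b) F := gramMatrix g with hΦ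
  have hgΦ : ∀ x y, g x y = x ⬝ᵥ (Φ *ᵥ y) := fun x y => by
    rw [bilin_eq_formOfGram g hgb, formOfGram_id_eq_dot]
  -- skew
  have hskew : ∀ p r, Φ r p = -Φ p r := by
    intro p r
    show g _ _ = - g _ _
    exact hf.skew _ _
  -- invertible
  have hPinv : ∀ z : V, ((P⁻¹ : GL (Fin n) F) : Mat) *ᵥ ((P : Mat) *ᵥ z) = z := by
    intro z
    rw [Matrix.mulVec_mulVec, ← Units.val_mul, inv_mul_cancel, Units.val_one, Matrix.one_mulVec]
  have hPinv' : ∀ z : V, (P : Mat) *ᵥ (((P⁻¹ : GL (Fin n) F) : Mat) *ᵥ z) = z := by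
    intro z
    rw [Matrix.mulVec_mulVec, ← Units.val_mul, mul_inv_cancel, Units.val_one, Matrix.one_mulVec]
  have hΦu : IsUnit Φ := by
    rw [← Matrix.mulVec_injective_iff_isUnit]
    intro y y' hyy
    rw [← sub_eq_zero]
    set d := y - y' with hd
    have hd0 : Φ *ᵥ d = 0 := by rw [hd, Matrix.mulVec_sub, hyy, sub_self]
    by_contra hne
    have hv : (P : Mat) *ᵥ (d ∘ e) ≠ 0 := by
      intro h0
      apply hne
      have h1 : d ∘ e = 0 := by rw [← hPinv (d ∘ e), h0, Matrix.mulVec_zero]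
      funext p
      have := congrFun h1 (e.symm p)
      simpa using this
    obtain ⟨⟨w, hw⟩, _⟩ := hf.nondegenerate _ hv
    apply hw
    have h2 : g ((((P⁻¹ : GL (Fin n) F) : Mat) *ᵥ w) ∘ e.symm) d = 0 := by
      rw [hgΦ, hd0, dotProduct_zero]
    have h3 : ((((P⁻¹ : GL (Fin n) F) : Mat) *ᵥ w) ∘ e.symm) ∘ e = ((P⁻¹ : GL (Fin n) F) : Mat) *ᵥ w := by
      funext i
      simp
    rw [hg] at h2
    simp only [h3, hPinv'] at h2
    exact h2
  have hdet : IsUnit Φ.det := (Matrix.isUnit_iff_isUnit_det Φ).mp hΦu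
  have hΦ1 : Φ * Φ⁻¹ = 1 := Matrix.mul_nonsing_inv Φ hdet
  have hΦ2 : Φ⁻¹ * Φ = 1 := Matrix.nonsing_inv_mul Φ hdet
  -- action of tensorLeft
  have hact : ∀ (x : Matrix (Fin a) (Fin a) F) (s : Fin a × Fin b → F),
      tensorLeft a b e P x *ᵥ ((P : Mat) *ᵥ (s ∘ e)) =
        (P : Mat) *ᵥ (((x ⊗ₖ (1 : Matrix (Fin b) (Fin b) F)) *ᵥ s) ∘ e) := by
    intro x s
    unfold tensorLeft
    rw [← Matrix.mulVec_mulVec, hPinv, ← Matrix.mulVec_mulVec]
    congr 1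
    rw [Matrix.reindex_apply, Matrix.submatrix_mulVec_equiv]
    simp only [Equiv.symm_symm]
    congr 2
    funext p
    simp
  -- the adjoint relation in Gram terms
  have hadj : ∀ x : Matrix (Fin a) (Fin a) F, ∃ y : Matrix (Fin a) (Fin a) F,
      Φ⁻¹ * (x ⊗ₖ (1 : Matrix (Fin b) (Fin b) F)) * Φ = y ⊗ₖ (1 : Matrix (Fin b) (Fin b) F) := by
    intro x
    have hk : tensorLeft a b e P xᵀ ∈ A := (hT _).mpr ⟨xᵀ, rfl⟩
    obtain ⟨k', hk', hkk⟩ := hA _ hk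
    obtain ⟨y, rfl⟩ := (hT _).mp hk'
    refine ⟨y, ?_⟩
    have hrel : ((xᵀ ⊗ₖ (1 : Matrix (Fin b) (Fin b) F))ᵀ) * Φ =
        Φ * (y ⊗ₖ (1 : Matrix (Fin b) (Fin b) F)) := by
      apply mat_eq_of_forall_dot
      intro s t
      have h1 := hkk ((P : Mat) *ᵥ (s ∘ e)) ((P : Mat) *ᵥ (t ∘ e))
      rw [hact, hact] at h1
      have h2 : g ((xᵀ ⊗ₖ (1 : Matrix (Fin b) (Fin b) F)) *ᵥ s) t =
          g s ((y ⊗ₖ (1 : Matrix (Fin b) (Fin b) F)) *ᵥ t) := h1
      rw [hgΦ, hgΦ] at h2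
      calc s ⬝ᵥ (((xᵀ ⊗ₖ (1 : Matrix (Fin b) (Fin b) F))ᵀ * Φ) *ᵥ t)
          = s ⬝ᵥ ((xᵀ ⊗ₖ (1 : Matrix (Fin b) (Fin b) F))ᵀ *ᵥ (Φ *ᵥ t)) := by
            rw [Matrix.mulVec_mulVec]
        _ = ((xᵀ ⊗ₖ (1 : Matrix (Fin b) (Fin b) F)) *ᵥ s) ⬝ᵥ (Φ *ᵥ t) := (mulVec_dot _ s _).symm
        _ = s ⬝ᵥ (Φ *ᵥ ((y ⊗ₖ (1 : Matrix (Fin b) (Fin b) F)) *ᵥ t)) := h2
        _ = s ⬝ᵥ ((Φ * (y ⊗ₖ (1 : Matrix (Fin b) (Fin b) F))) *ᵥ t) := by
            rw [Matrix.mulVec_mulVec]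
    have hxt : (xᵀ ⊗ₖ (1 : Matrix (Fin b) (Fin b) F))ᵀ = x ⊗ₖ (1 : Matrix (Fin b) (Fin b) F) := by
      rw [← Matrix.kroneckerMap_transpose, Matrix.transpose_transpose, Matrix.transpose_one]
    rw [hxt] at hrel
    rw [Matrix.mul_assoc, hrel, ← Matrix.mul_assoc, hΦ2, Matrix.one_mul]
  obtain ⟨u, v, huv⟩ := Cfsg.Agent.Lib.Helper97.Asch.kron_core ha hb Φ⁻¹ Φ hΦ2 hΦ1 hadj
  set G₁ : Matrix (Fin a) (Fin a) F := ((u⁻¹ : GL (Fin a) F) : Matrix (Fin a) (Fin a) F) with hG₁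
  set G₂ : Matrix (Fin b) (Fin b) F := ((v⁻¹ : GL (Fin b) F) : Matrix (Fin b) (Fin b) F) with hG₂
  have hΦeq : Φ = G₁ ⊗ₖ G₂ := by
    calc Φ = Φ * (((u : Matrix (Fin a) (Fin a) F) ⊗ₖ (v : Matrix (Fin b) (Fin b) F)) * (G₁ ⊗ₖ G₂)) := by
            rw [hG₁, hG₂, ← Matrix.mul_kronecker_mul, ← Units.val_mul, ← Units.val_mul, mul_inv_cancel,
              mul_inv_cancel, Units.val_one, Units.val_one, Matrix.one_kronecker_one, Matrix.mul_one]
      _ = (Φ * Φ⁻¹) * (G₁ ⊗ₖ G₂) := by rw [← huv, Matrix.mul_assoc]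
      _ = G₁ ⊗ₖ G₂ := by rw [hΦ1, Matrix.one_mul]
  have hG₁u : IsUnit G₁ := (u⁻¹ : GL (Fin a) F).isUnit
  have hG₂u : IsUnit G₂ := (v⁻¹ : GL (Fin b) F).isUnit
  have hE : ∀ i j k l, G₁ j i * G₂ l k = -(G₁ i j * G₂ k l) := by
    intro i j k l
    have := hskew (i, k) (j, l)
    rw [hΦeq, Matrix.kroneckerMap_apply, Matrix.kroneckerMap_apply] at this
    exact this
  obtain ⟨ε, hε1, h1, h2⟩ := kron_skew_signs G₁ G₂ (exists_entry_ne_zero ha G₁ hG₁u)
    (exists_entry_ne_zero hb G₂ hG₂u) hE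
  refine ⟨G₁, G₂, ε, hG₁u, hG₂u, hε1, h1, h2, ?_⟩
  intro x y
  show g x y = _
  rw [bilin_eq_formOfGram g hgb, ← hΦ, hΦeq]

end Cfsg.Agent.Lib.Helper70.SpAsch
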