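import Mathlib
import Cfsg.Prelude.Def_GeometricClasses
import Cfsg.Agent.Lib.Helper61.AschDefs
import Cfsg.Agent.Lib.Helper61.AschBasic
import Cfsg.Agent.Lib.Helper04.AschE3
import Cfsg.Agent.Lib.Helper46.AschOBasic
import Cfsg.Agent.Lib.Helper46.AschEDefs
import Cfsg.Agent.Lib.Helper42.SpAschEb2
import Cfsg.Agent.Lib.Helper70.SpAschS4a

/-!
# K-OEven-E7a `alternating_of_perfect_two`

Tensor factors of dimension 2 of a perfect-modulo-scalars tensor-induced similarity group carry alternating forms.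
-/

set_option autoImplicit false
set_option linter.unusedSectionVars false

namespace Cfsg.Agent.Lib.Helper70.AschE

open Cfsg Cfsg.Geo Cfsg.Agent.Lib.Helper61.Asch
open Cfsg.Agent.Lib.Helper04.Asch (pureAt PT)
open Cfsg.Agent.Lib.Helper42.SpAsch (lift lift_mul lift_smul lift_injective lift_mulVec val_mul_inv val_inv_mul)
open scoped Matrix Kronecker MatrixGroups

/-! ## 2 × 2 matrices -/

section two

variable {F : Type*} [Field F]

local notation "M2" => Matrix (Fin 2) (Fin 2) F

theorem adj2_add (x y : M2) : Matrix.adjugate (x + y) = Matrix.adjugate x + Matrix.adjugate y := by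
  rw [Matrix.adjugate_fin_two, Matrix.adjugate_fin_two, Matrix.adjugate_fin_two]
  ext i j; fin_cases i <;> fin_cases j <;> simp <;> ring

theorem adj2_smul_one (r : F) : Matrix.adjugate (r • (1 : M2)) = r • 1 := by
  rw [Matrix.adjugate_fin_two]; ext i j; fin_cases i <;> fin_cases j <;> simp

/-- the subalgebra `{x | xᵀ g = g adj(x)}`: it contains the similarities of `g` with multiplier `det x`. -/
def propAlg (g : M2) : Subalgebra F M2 where
  carrier := {x | xᵀ * g = g * Matrix.adjugate x}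
  mul_mem' := by
    intro x y hx hy
    show (x * y)ᵀ * g = g * Matrix.adjugate (x * y)
    have hx' : xᵀ * g = g * Matrix.adjugate x := hx
    have hy' : yᵀ * g = g * Matrix.adjugate y := hy
    rw [Matrix.transpose_mul, Matrix.adjugate_mul_distrib, Matrix.mul_assoc, hx', ← Matrix.mul_assoc, hy',
      Matrix.mul_assoc]
  add_mem' := by
    intro x y hx hy
    show (x + y)ᵀ * g = g * Matrix.adjugate (x + y)
    have hx' : xᵀ * g = g * Matrix.adjugate x := hx
    have hy' : yᵀ * g = g * Matrix.adjugate y := hy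
    rw [Matrix.transpose_add, adj2_add, Matrix.add_mul, Matrix.mul_add, hx', hy']
  algebraMap_mem' := by
    intro r
    show (algebraMap F M2 r)ᵀ * g = g * Matrix.adjugate (algebraMap F M2 r)
    rw [Algebra.algebraMap_eq_smul_one, adj2_smul_one, Matrix.transpose_smul, Matrix.transpose_one,
      Matrix.smul_mul, Matrix.mul_smul, Matrix.one_mul, Matrix.mul_one]

theorem mem_propAlg_iff (g x : M2) : x ∈ propAlg g ↔ xᵀ * g = g * Matrix.adjugate x := Iff.rfl

theorem mem_propAlg_of_sim (g x : M2) (hdet : x.det ≠ 0) (h : xᵀ * g * x = x.det • g) : x ∈ propAlg g := by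
  rw [mem_propAlg_iff]
  have h1 : (xᵀ * g * x) * Matrix.adjugate x = (x.det • g) * Matrix.adjugate x := by rw [h]
  rw [Matrix.mul_assoc, Matrix.mul_adjugate, Matrix.mul_smul, Matrix.mul_one, Matrix.smul_mul] at h1
  exact smul_right_injective _ hdet h1

theorem diag_zero_of_propAlg_top (g : M2) (hg : gᵀ = g) (h : ∀ x : M2, x ∈ propAlg g) :
    g 0 0 = 0 ∧ g 1 1 = 0 ∧ 2 * g 0 1 = 0 := by
  have h1 := (mem_propAlg_iff g _).mp (h !![0, 1; 0, 0])
  have h2 := (mem_propAlg_iff g _).mp (h !![0, 0; 1, 0])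
  have hs : g 1 0 = g 0 1 := by
    have := congrFun (congrFun hg 0) 1
    simpa using this
  have e1 := congrFun (congrFun h1 1) 0
  have e2 := congrFun (congrFun h1 1) 1
  have e3 := congrFun (congrFun h2 0) 1
  simp [Matrix.adjugate_fin_two, Matrix.mul_apply, Fin.sum_univ_two] at e1 e2 e3
  refine ⟨e1, e3, ?_⟩
  rw [hs] at e2
  linear_combination e2

theorem sim_det (g x : M2) (hg : IsUnit g) (d : F) (h : xᵀ * g * x = d • g) : x.det * x.det = d * d := by
  have := congrArg Matrix.det h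
  rw [Matrix.det_mul, Matrix.det_mul, Matrix.det_transpose, Matrix.det_smul, Fintype.card_fin] at this
  have hdg : g.det ≠ 0 := ((Matrix.isUnit_iff_isUnit_det g).mp hg).ne_zero
  apply mul_right_cancel₀ hdg
  linear_combination this

theorem sim_inv (g x x' : M2) (d d' : F) (hxx' : x * x' = 1) (hd : d * d' = 1)
    (h : xᵀ * g * x = d • g) : x'ᵀ * g * x' = d' • g := by
  calc x'ᵀ * g * x' = (d' * d) • (x'ᵀ * g * x') := by rw [mul_comm, hd, one_smul]
    _ = d' • (x'ᵀ * (d • g) * x') := by rw [Matrix.mul_smul, Matrix.smul_mul, smul_smul]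
    _ = d' • (x'ᵀ * (xᵀ * g * x) * x') := by rw [h]
    _ = d' • ((x * x')ᵀ * g * (x * x')) := by rw [Matrix.transpose_mul]; simp only [Matrix.mul_assoc]
    _ = d' • g := by rw [hxx', Matrix.transpose_one, Matrix.one_mul, Matrix.mul_one]

theorem sim_mul (g x y : M2) (d d' : F) (hx : xᵀ * g * x = d • g) (hy : yᵀ * g * y = d' • g) :
    (x * y)ᵀ * g * (x * y) = (d * d') • g := by
  calc (x * y)ᵀ * g * (x * y) = yᵀ * (xᵀ * g * x) * y := by
        rw [Matrix.transpose_mul]; simp only [Matrix.mul_assoc]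
    _ = (d * d') • g := by rw [hx, Matrix.mul_smul, Matrix.smul_mul, hy, smul_smul]

end two

/-! ## the `i`-th factor embedding -/

section lam

variable {F : Type*} [Field F] {n t : ℕ}

local notation "Mat" => Matrix (Fin n) (Fin n) F
local notation "M2" => Matrix (Fin 2) (Fin 2) F
local notation "W" => (Fin t → Fin 2)
local notation "MW" => Matrix (Fin t → Fin 2) (Fin t → Fin 2) F

theorem lift_one (e : Fin n ≃ W) (P : GL (Fin n) F) : lift e P (1 : MW) = 1 := by
  unfold lift
  rw [Matrix.reindex_apply, Matrix.submatrix_one_equiv, Matrix.mul_one, val_mul_inv]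

theorem lift_add (e : Fin n ≃ W) (P : GL (Fin n) F) (M M' : MW) :
    lift e P (M + M') = lift e P M + lift e P M' := by
  unfold lift
  rw [show Matrix.reindex e.symm e.symm (M + M') =
    Matrix.reindex e.symm e.symm M + Matrix.reindex e.symm e.symm M' from rfl, Matrix.mul_add, Matrix.add_mul]

/-- `x ↦ P (1 ⊗ … ⊗ x ⊗ … ⊗ 1) P⁻¹` as an algebra homomorphism. -/
def lam (e : Fin n ≃ W) (P : GL (Fin n) F) (i : Fin t) : M2 →ₐ[F] Mat where
  toFun x := lift e P (pureAt 2 t i x)
  map_one' := by rw [Cfsg.Agent.Lib.Helper04.Asch.pureAt_one, lift_one]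
  map_mul' x y := by rw [Cfsg.Agent.Lib.Helper04.Asch.pureAt_mul, lift_mul]
  map_zero' := by
    have h := Cfsg.Agent.Lib.Helper04.Asch.pureAt_smul (m := 2) (t := t) i (0 : F) (0 : M2)
    rw [zero_smul, zero_smul] at h
    rw [h]
    have h2 := lift_smul e P (0 : F) (0 : MW)
    rw [zero_smul, zero_smul] at h2
    exact h2
  map_add' x y := by rw [Cfsg.Agent.Lib.Helper04.Asch.pureAt_add, lift_add]
  commutes' r := by
    rw [Algebra.algebraMap_eq_smul_one, Algebra.algebraMap_eq_smul_one,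
      Cfsg.Agent.Lib.Helper04.Asch.pureAt_smul, Cfsg.Agent.Lib.Helper04.Asch.pureAt_one, lift_smul, lift_one]

theorem lam_apply (e : Fin n ≃ W) (P : GL (Fin n) F) (i : Fin t) (x : M2) :
    lam e P i x = (P : Mat) * Matrix.reindex e.symm e.symm (pureAt 2 t i x) * ((P⁻¹ : GL (Fin n) F) : Mat) := rfl

theorem lam_apply' (e : Fin n ≃ W) (P : GL (Fin n) F) (i : Fin t) (x : M2) :
    lam e P i x = lift e P (pureAt 2 t i x) := rfl

theorem lam_injective (e : Fin n ≃ W) (P : GL (Fin n) F) (i : Fin t) : Function.Injective (lam e P i) := by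
  intro x y h
  exact Cfsg.Agent.Lib.Helper04.Asch.pureAt_injective i (lift_injective e P h)

/-- comparing a pure tensor with one factor changed -/
theorem PT_update_eq_smul (g : Fin t → M2) (i : Fin t) (y : M2) (c : F) (hg : ∀ j, g j ≠ 0)
    (h : PT (Function.update g i y) = c • PT g) : y = c • g i := by
  classical
  have hex : ∀ j, ∃ pq : Fin 2 × Fin 2, g j pq.1 pq.2 ≠ 0 := by
    intro j
    by_contra hcon
    push Not at hcon
    exact hg j (Matrix.ext fun r s => hcon (r, s))
  choose pq hpq using hex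
  set B : F := ∏ j ∈ Finset.univ.erase i, g j (pq j).1 (pq j).2 with hB
  have hB0 : B ≠ 0 := Finset.prod_ne_zero_iff.mpr (fun j _ => hpq j)
  ext p q
  have h1 := congrFun (congrFun h (Function.update (fun j => (pq j).1) i p))
    (Function.update (fun j => (pq j).2) i q)
  rw [Matrix.smul_apply, Cfsg.Agent.Lib.Helper04.Asch.PT_apply, Cfsg.Agent.Lib.Helper04.Asch.PT_apply,
    smul_eq_mul, ← Finset.mul_prod_erase Finset.univ _ (Finset.mem_univ i),
    ← Finset.mul_prod_erase Finset.univ _ (Finset.mem_univ i)] at h1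
  simp only [Function.update_self] at h1
  have e1 : ∏ j ∈ Finset.univ.erase i, (Function.update g i y j)
      (Function.update (fun j => (pq j).1) i p j) (Function.update (fun j => (pq j).2) i q j) = B := by
    apply Finset.prod_congr rfl
    intro j hj
    have hji := Finset.ne_of_mem_erase hj
    rw [Function.update_of_ne hji, Function.update_of_ne hji, Function.update_of_ne hji]
  have e2 : ∏ j ∈ Finset.univ.erase i, (g j)
      (Function.update (fun j => (pq j).1) i p j) (Function.update (fun j => (pq j).2) i q j) = B := by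
    apply Finset.prod_congr rfl
    intro j hj
    have hji := Finset.ne_of_mem_erase hj
    rw [Function.update_of_ne hji, Function.update_of_ne hji]
  rw [e1, e2] at h1
  rw [Matrix.smul_apply, smul_eq_mul]
  apply mul_right_cancel₀ hB0
  linear_combination h1

end lam

/-! ## the main argument -/

section main

open Cfsg.Agent.Lib.Helper70.SpAsch (mulVec_dot mat_eq_of_forall_dot)

variable {F : Type*} [Field F] [Fintype F] {n : ℕ}

local notation "V" => (Fin n → F)
local notation "Mat" => Matrix (Fin n) (Fin n) F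
local notation "Z" => scalars (Fin n) F
local notation "M2" => Matrix (Fin 2) (Fin 2) F

/-- Step A: a similarity of `Q` of the shape `lam x` is a similarity of the factor `g i`. -/
theorem sim_factor (Q : V → F) (t : ℕ) (e : Fin n ≃ (Fin t → Fin 2)) (P : GL (Fin n) F)
    (g : Fin t → M2) (hunit : ∀ i, IsUnit (g i))
    (hform : ∀ x y : (Fin t → Fin 2) → F,
      QuadraticMap.polar Q ((P : Mat) *ᵥ (x ∘ e)) ((P : Mat) *ᵥ (y ∘ e)) = ∑ a, ∑ b, x a * PT g a b * y b)
    (i : Fin t) (s : GL (Fin n) F) (hs : s ∈ quadSimilarityGroup Q) (x : M2)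
    (hsx : (s : Mat) = lam e P i x) : ∃ d : F, d ≠ 0 ∧ xᵀ * g i * x = d • g i := by
  obtain ⟨c, hc⟩ := hs
  have hpol : ∀ u v : V, QuadraticMap.polar Q ((s : Mat) *ᵥ u) ((s : Mat) *ᵥ v) =
      (c : F) * QuadraticMap.polar Q u v := by
    intro u v
    unfold QuadraticMap.polar
    rw [← Matrix.mulVec_add, hc, hc, hc]
    ring
  have hdot : ∀ y z : (Fin t → Fin 2) → F,
      (∑ a, ∑ b, y a * PT g a b * z b) = y ⬝ᵥ (PT g *ᵥ z) := by
    intro y z
    simp only [dotProduct, Matrix.mulVec, Finset.mul_sum, mul_assoc]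
  have hmat : (pureAt 2 t i x)ᵀ * PT g * pureAt 2 t i x = (c : F) • PT g := by
    apply mat_eq_of_forall_dot
    intro y z
    have h1 := hpol ((P : Mat) *ᵥ (y ∘ e)) ((P : Mat) *ᵥ (z ∘ e))
    rw [hsx, lam_apply', lift_mulVec, lift_mulVec, hform, hform, hdot, hdot] at h1
    rw [Matrix.mul_assoc, ← Matrix.mulVec_mulVec, ← mulVec_dot, ← Matrix.mulVec_mulVec, h1,
      Matrix.smul_mulVec, dotProduct_smul, smul_eq_mul]
  rw [Cfsg.Agent.Lib.Helper42.SpAsch.pureAt_transpose_mul_PT, Cfsg.Agent.Lib.Helper42.SpAsch.PT_mul_pureAt,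
    Function.update_idem, Function.update_self] at hmat
  have h2 := PT_update_eq_smul g i _ (c : F) (fun j => (hunit j).ne_zero) hmat
  exact ⟨(c : F), c.ne_zero, h2⟩

theorem inv_lam {t : ℕ} (e : Fin n ≃ (Fin t → Fin 2)) (P : GL (Fin n) F) (i : Fin t) (a : GL (Fin n) F)
    (x : GL (Fin 2) F) (h : (a : Mat) = lam e P i (x : M2)) :
    ((a⁻¹ : GL (Fin n) F) : Mat) = lam e P i ((x⁻¹ : GL (Fin 2) F) : M2) := by
  have h1 : (a : Mat) * lam e P i ((x⁻¹ : GL (Fin 2) F) : M2) = 1 := by
    rw [h, ← map_mul, ← Units.val_mul, mul_inv_cancel, Units.val_one, map_one]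
  calc ((a⁻¹ : GL (Fin n) F) : Mat)
      = ((a⁻¹ : GL (Fin n) F) : Mat) * ((a : Mat) * lam e P i ((x⁻¹ : GL (Fin 2) F) : M2)) := by
        rw [h1, mul_one]
    _ = lam e P i ((x⁻¹ : GL (Fin 2) F) : M2) := by
        rw [← mul_assoc, ← Units.val_mul, inv_mul_cancel, Units.val_one, one_mul]

theorem exists_unit_of_mem {t : ℕ} (e : Fin n ≃ (Fin t → Fin 2)) (P : GL (Fin n) F) (i : Fin t)
    (R : Subgroup (GL (Fin n) F))
    (hmem : ∀ s ∈ R, ∃ x : M2, ((s : GL (Fin n) F) : Mat) = lam e P i x) (a : GL (Fin n) F) (ha : a ∈ R) :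
    ∃ x : GL (Fin 2) F, (a : Mat) = lam e P i (x : M2) := by
  obtain ⟨x, hx⟩ := hmem a ha
  obtain ⟨x', hx'⟩ := hmem a⁻¹ (R.inv_mem ha)
  have h1 : x * x' = 1 := by
    apply lam_injective e P i
    rw [map_mul, ← hx, ← hx', ← Units.val_mul, mul_inv_cancel, Units.val_one, map_one]
  have h2 : x' * x = 1 := by
    apply lam_injective e P i
    rw [map_mul, ← hx, ← hx', ← Units.val_mul, inv_mul_cancel, Units.val_one, map_one]
  exact ⟨⟨x, x', h1, h2⟩, hx⟩

/-- the subgroup of `GL_n` of the `lam x`, `x` a similarity of `g` with multiplier `det x`. -/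
def properGroup {t : ℕ} (e : Fin n ≃ (Fin t → Fin 2)) (P : GL (Fin n) F) (i : Fin t) (g : M2) :
    Subgroup (GL (Fin n) F) where
  carrier := {s | ∃ x : GL (Fin 2) F, (s : Mat) = lam e P i (x : M2) ∧
    (x : M2)ᵀ * g * (x : M2) = (x : M2).det • g}
  one_mem' := ⟨1, by rw [Units.val_one, Units.val_one, map_one], by simp⟩
  mul_mem' := by
    rintro a b ⟨x, hx, hx'⟩ ⟨y, hy, hy'⟩
    refine ⟨x * y, ?_, ?_⟩
    · rw [Units.val_mul, hx, hy, Units.val_mul, map_mul]
    · rw [Units.val_mul, Matrix.det_mul]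
      exact sim_mul g _ _ _ _ hx' hy'
  inv_mem' := by
    rintro a ⟨x, hx, hx'⟩
    refine ⟨x⁻¹, inv_lam e P i a x hx, ?_⟩
    have hxx : (x : M2) * ((x⁻¹ : GL (Fin 2) F) : M2) = 1 := by
      rw [← Units.val_mul, mul_inv_cancel, Units.val_one]
    have hdd : (x : M2).det * ((x⁻¹ : GL (Fin 2) F) : M2).det = 1 := by
      rw [← Matrix.det_mul, hxx, Matrix.det_one]
    exact sim_inv g _ _ _ _ hxx hdd hx'

/-- **K-OEven-E7a**. -/
theorem alternating_of_perfect_two (Q : V → F) (hQ : IsNondegenerateQuadraticForm Q) (t : ℕ) (ht : 2 ≤ t)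
    (e : Fin n ≃ (Fin t → Fin 2)) (P : GL (Fin n) F) (Qs : Fin t → Subgroup (GL (Fin n) F))
    (hQs : ∀ i, Qs i ≤ quadSimilarityGroup Q)
    (hmem : ∀ i, ∀ s ∈ Qs i, ∃ x : Matrix (Fin 2) (Fin 2) F,
      ((s : GL (Fin n) F) : Mat) = (P : Mat) * Matrix.reindex e.symm e.symm (pureAt 2 t i x) * ((P⁻¹ : GL (Fin n) F) : Mat))
    (hgen : ∀ i (x : Matrix (Fin 2) (Fin 2) F),
      (P : Mat) * Matrix.reindex e.symm e.symm (pureAt 2 t i x) * ((P⁻¹ : GL (Fin n) F) : Mat) ∈ spanAlg (Qs i))
    (hperf : ∀ i, Qs i ≤ ⁅Qs i, Qs i⁆ ⊔ Z)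
    (g : Fin t → Matrix (Fin 2) (Fin 2) F) (ε : Fin t → F) (hε : ∀ i, ε i = 1 ∨ ε i = -1)
    (hg : ∀ i, (g i)ᵀ = ε i • g i) (hunit : ∀ i, IsUnit (g i))
    (hform : ∀ x y : (Fin t → Fin 2) → F,
      QuadraticMap.polar Q ((P : Mat) *ᵥ (x ∘ e)) ((P : Mat) *ᵥ (y ∘ e)) = ∑ a, ∑ b, x a * PT g a b * y b) :
    ∀ i, (∀ a, g i a a = 0) ∧ (g i)ᵀ = -(g i) := by
  intro i
  by_cases h2 : (2 : F) ≠ 0 ∧ ε i = -1
  · obtain ⟨h2, hεi⟩ := h2
    have hgi : (g i)ᵀ = -(g i) := by rw [hg i, hεi, neg_one_smul]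
    refine ⟨fun a => ?_, hgi⟩
    have := congrFun (congrFun hgi a) a
    rw [Matrix.transpose_apply, Matrix.neg_apply] at this
    have h3 : (2 : F) * g i a a = 0 := by linear_combination this
    exact (mul_eq_zero.mp h3).resolve_left h2
  · have hneg : ∀ M : M2, (2 : F) = 0 → -M = M := by
      intro M h20
      have : M + M = 0 := by rw [← two_smul F M, h20, zero_smul]
      exact neg_eq_of_add_eq_zero_left this
    have hsym : (g i)ᵀ = g i := by
      rcases hε i with h1 | h1
      · rw [hg i, h1, one_smul]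
      · have h20 : (2 : F) = 0 := by
          by_contra h
          exact h2 ⟨h, h1⟩
        rw [hg i, h1, neg_one_smul]
        exact hneg _ h20
    have hmem' : ∀ s ∈ Qs i, ∃ x : M2, ((s : GL (Fin n) F) : Mat) = lam e P i x := hmem i
    have hZ : Z ≤ properGroup e P i (g i) := by
      intro z hz
      rw [mem_scalars_iff] at hz
      obtain ⟨c, hc⟩ := hz
      refine ⟨⟨(c : F) • (1 : M2), ((c⁻¹ : Fˣ) : F) • (1 : M2), ?_, ?_⟩, ?_, ?_⟩
      · rw [Matrix.smul_mul, Matrix.mul_smul, mul_one, smul_smul, ← Units.val_mul, mul_inv_cancel,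
          Units.val_one, one_smul]
      · rw [Matrix.smul_mul, Matrix.mul_smul, mul_one, smul_smul, ← Units.val_mul, inv_mul_cancel,
          Units.val_one, one_smul]
      · show (z : Mat) = lam e P i ((c : F) • (1 : M2))
        rw [hc, map_smul, map_one]
      · show ((c : F) • (1 : M2))ᵀ * g i * ((c : F) • (1 : M2)) = ((c : F) • (1 : M2)).det • g i
        rw [Matrix.transpose_smul, Matrix.transpose_one, Matrix.smul_mul, Matrix.one_mul, Matrix.mul_smul,
          Matrix.mul_one, smul_smul, Matrix.det_smul, Matrix.det_one, Fintype.card_fin, mul_one, pow_two]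
    have hC : ⁅Qs i, Qs i⁆ ≤ properGroup e P i (g i) := by
      rw [Subgroup.commutator_le]
      intro a ha b hb
      obtain ⟨x, hx⟩ := exists_unit_of_mem e P i (Qs i) hmem' a ha
      obtain ⟨y, hy⟩ := exists_unit_of_mem e P i (Qs i) hmem' b hb
      obtain ⟨dx, hdx0, hdx⟩ := sim_factor Q t e P g hunit hform i a (hQs i ha) (x : M2) hx
      obtain ⟨dy, hdy0, hdy⟩ := sim_factor Q t e P g hunit hform i b (hQs i hb) (y : M2) hy
      have hxx : (x : M2) * ((x⁻¹ : GL (Fin 2) F) : M2) = 1 := by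
        rw [← Units.val_mul, mul_inv_cancel, Units.val_one]
      have hyy : (y : M2) * ((y⁻¹ : GL (Fin 2) F) : M2) = 1 := by
        rw [← Units.val_mul, mul_inv_cancel, Units.val_one]
      refine ⟨x * y * x⁻¹ * y⁻¹, ?_, ?_⟩
      · rw [commutatorElement_def, Units.val_mul, Units.val_mul, Units.val_mul, hx, hy, inv_lam e P i a x hx,
          inv_lam e P i b y hy, Units.val_mul, Units.val_mul, Units.val_mul, map_mul, map_mul, map_mul]
      · have hxi := sim_inv (g i) _ _ dx dx⁻¹ hxx (mul_inv_cancel₀ hdx0) hdx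
        have hyi := sim_inv (g i) _ _ dy dy⁻¹ hyy (mul_inv_cancel₀ hdy0) hdy
        have h1 := sim_mul (g i) _ _ dx dy hdx hdy
        have h2' := sim_mul (g i) _ _ (dx * dy) dx⁻¹ h1 hxi
        have h3 := sim_mul (g i) _ _ (dx * dy * dx⁻¹) dy⁻¹ h2' hyi
        have hm : dx * dy * dx⁻¹ * dy⁻¹ = 1 := by field_simp
        have e1 : (x : M2).det * ((x⁻¹ : GL (Fin 2) F) : M2).det = 1 := by
          rw [← Matrix.det_mul, hxx, Matrix.det_one]
        have e2 : (y : M2).det * ((y⁻¹ : GL (Fin 2) F) : M2).det = 1 := by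
          rw [← Matrix.det_mul, hyy, Matrix.det_one]
        have hdet : ((x * y * x⁻¹ * y⁻¹ : GL (Fin 2) F) : M2).det = 1 := by
          rw [Units.val_mul, Units.val_mul, Units.val_mul, Matrix.det_mul, Matrix.det_mul, Matrix.det_mul]
          linear_combination ((y : M2).det * ((y⁻¹ : GL (Fin 2) F) : M2).det) * e1 + e2
        rw [hdet, one_smul, Units.val_mul, Units.val_mul, Units.val_mul]
        rw [hm, one_smul] at h3
        exact h3
    have hT : Qs i ≤ properGroup e P i (g i) := (hperf i).trans (sup_le hC hZ)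
    have hsub : spanAlg (Qs i) ≤ (propAlg (g i)).map (lam e P i) := by
      unfold spanAlg
      apply Algebra.adjoin_le
      rintro M ⟨s, hs, rfl⟩
      obtain ⟨x, hx, hxs⟩ := hT hs
      refine ⟨(x : M2), mem_propAlg_of_sim (g i) _ ?_ hxs, hx.symm⟩
      exact ((Matrix.isUnit_iff_isUnit_det _).mp x.isUnit).ne_zero
    have hall : ∀ x : M2, x ∈ propAlg (g i) := by
      intro x
      obtain ⟨x', hx', hxx⟩ := hsub (hgen i x)
      have hx'x : x' = x := lam_injective e P i hxx
      rw [← hx'x]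
      exact hx'
    obtain ⟨h00, h11, h01⟩ := diag_zero_of_propAlg_top (g i) hsym hall
    have hr : g i 0 1 ≠ 0 := by
      intro h0
      have hdet : (g i).det ≠ 0 := ((Matrix.isUnit_iff_isUnit_det _).mp (hunit i)).ne_zero
      apply hdet
      rw [Matrix.det_fin_two, h00, h11, h0]
      ring
    have h20 : (2 : F) = 0 := (mul_eq_zero.mp h01).resolve_right hr
    refine ⟨?_, ?_⟩
    · intro a
      fin_cases a
      · exact h00
      · exact h11
    · rw [hsym]
      exact (hneg _ h20).symm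

end main

end Cfsg.Agent.Lib.Helper70.AschE
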