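import Mathlib
import Cfsg.Agent.Lib.Helper61.AschDefs

/-!
# K-S5630-E1 `exists_central_factors`

Pure group theory.  `Z` central, `N/Z` a perfect non-simple minimal `K`-normal section: the derived subgroups of the
`K`-conjugates of a minimal `N`-normal subgroup `M₁ > Z` of `N` commute pairwise, generate `N` modulo `Z`, and are
permuted transitively by `K`.
-/

set_option autoImplicit false

namespace Cfsg.Agent.Lib.Helper70.Asch

section Abstract

open scoped commutatorElement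

variable {G : Type*} [Group G]

/-- The conjugate subgroup `k M k⁻¹`. -/
def cj (k : G) (M : Subgroup G) : Subgroup G := M.map (MulAut.conj k).toMonoidHom

theorem mem_cj {k x : G} {M : Subgroup G} : x ∈ cj k M ↔ k⁻¹ * x * k ∈ M := by
  unfold cj
  constructor
  · rintro ⟨y, hy, rfl⟩
    simpa [MulAut.conj_apply, mul_assoc] using hy
  · intro h
    exact ⟨k⁻¹ * x * k, h, by simp [MulAut.conj_apply, mul_assoc]⟩

theorem conj_mem_cj {k x : G} {M : Subgroup G} (hx : x ∈ M) : k * x * k⁻¹ ∈ cj k M := by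
  rw [mem_cj]
  simpa [mul_assoc] using hx

theorem cj_one (M : Subgroup G) : cj 1 M = M := by
  ext x
  simp [mem_cj]

theorem cj_mul (k l : G) (M : Subgroup G) : cj (k * l) M = cj k (cj l M) := by
  ext x
  simp only [mem_cj]
  simp [mul_assoc]

theorem cj_inv_cj (k : G) (M : Subgroup G) : cj k⁻¹ (cj k M) = M := by
  rw [← cj_mul, inv_mul_cancel, cj_one]

theorem cj_cj_inv (k : G) (M : Subgroup G) : cj k (cj k⁻¹ M) = M := by
  rw [← cj_mul, mul_inv_cancel, cj_one]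

theorem cj_mono {k : G} {M M' : Subgroup G} (h : M ≤ M') : cj k M ≤ cj k M' := Subgroup.map_mono h

theorem cj_commutator (k : G) (A B : Subgroup G) : cj k ⁅A, B⁆ = ⁅cj k A, cj k B⁆ :=
  Subgroup.map_commutator _ _ _

theorem cj_normal (k : G) (Z : Subgroup G) [hZ : Z.Normal] : cj k Z = Z := by
  ext x
  rw [mem_cj]
  constructor
  · intro h
    have := hZ.conj_mem _ h k
    simpa [mul_assoc] using this
  · intro h
    have := hZ.conj_mem _ h k⁻¹
    simpa [mul_assoc] using this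

/-- The elements commuting with `A` modulo the normal subgroup `Z`. -/
def cz (Z : Subgroup G) [hZ : Z.Normal] (A : Subgroup G) : Subgroup G where
  carrier := {x | ∀ y ∈ A, ⁅x, y⁆ ∈ Z}
  one_mem' := fun y _ => by rw [commutatorElement_one_left]; exact Z.one_mem
  mul_mem' := by
    intro x x' hx hx' y hy
    have e : ⁅x * x', y⁆ = x * ⁅x', y⁆ * x⁻¹ * ⁅x, y⁆ := by
      simp only [commutatorElement_def]; group
    show ⁅x * x', y⁆ ∈ Z
    rw [e]
    exact Z.mul_mem (hZ.conj_mem _ (hx' y hy) x) (hx y hy)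
  inv_mem' := by
    intro x hx y hy
    have e : ⁅x⁻¹, y⁆ = x⁻¹ * ⁅x, y⁆⁻¹ * x⁻¹⁻¹ := by
      simp only [commutatorElement_def]; group
    show ⁅x⁻¹, y⁆ ∈ Z
    rw [e]
    exact hZ.conj_mem _ (Z.inv_mem (hx y hy)) x⁻¹

theorem le_cz_iff {Z : Subgroup G} [Z.Normal] {A B : Subgroup G} : B ≤ cz Z A ↔ ⁅B, A⁆ ≤ Z := by
  rw [Subgroup.commutator_le]
  exact ⟨fun h x hx y hy => h hx y hy, fun h x hx y hy => h x hx y hy⟩

theorem commutator_self_le (H : Subgroup G) : ⁅H, H⁆ ≤ H :=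
  Subgroup.commutator_le.mpr fun a ha b hb => by
    rw [commutatorElement_def]
    exact H.mul_mem (H.mul_mem (H.mul_mem ha hb) (H.inv_mem ha)) (H.inv_mem hb)

theorem exists_central_factors_aux [Finite G] (Z K N : Subgroup G) [hZn : Z.Normal]
    (hZc : Z ≤ Subgroup.center G) (hZN : Z ≤ N) (_hNK : N ≤ K)
    (hKN : ∀ k ∈ K, ∀ x ∈ N, k * x * k⁻¹ ∈ N)
    (hperf : ⁅N, N⁆ ⊔ Z = N)
    (hmin : ∀ M : Subgroup G, Z ≤ M → M ≤ N → (∀ k ∈ K, ∀ x ∈ M, k * x * k⁻¹ ∈ M) → M = Z ∨ M = N)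
    (hns : ∃ M : Subgroup G, Z ≤ M ∧ M ≤ N ∧ (∀ k ∈ N, ∀ x ∈ M, k * x * k⁻¹ ∈ M) ∧ M ≠ Z ∧ M ≠ N) :
    ∃ (t : ℕ) (Q : Fin t → Subgroup G), 2 ≤ t ∧ (∀ i, Q i ≤ N) ∧ (∀ i, ¬ Q i ≤ Z) ∧
      (∀ i j, i ≠ j → ∀ x ∈ Q i, ∀ y ∈ Q j, x * y = y * x) ∧
      N ≤ (⨆ i, Q i) ⊔ Z ∧
      (∀ k ∈ K, ∃ σ : Equiv.Perm (Fin t), ∀ i, ∀ x ∈ Q i, k * x * k⁻¹ ∈ Q (σ i)) ∧
      (∀ i j, ∃ k ∈ K, ∀ x ∈ Q i, k * x * k⁻¹ ∈ Q j) := by
  classical
  obtain ⟨M₀, hZM₀, hM₀N, hM₀n, hM₀Z, hM₀N'⟩ := hns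
  -- the predicate "N-normal, strictly between"
  let P : Subgroup G → Prop :=
    fun M => Z ≤ M ∧ M ≤ N ∧ (∀ k ∈ N, ∀ x ∈ M, k * x * k⁻¹ ∈ M) ∧ M ≠ Z
  have hPdef : ∀ M, P M ↔ (Z ≤ M ∧ M ≤ N ∧ (∀ k ∈ N, ∀ x ∈ M, k * x * k⁻¹ ∈ M) ∧ M ≠ Z) :=
    fun M => Iff.rfl
  obtain ⟨M₁, ⟨hP₁, hM₁₀⟩, hmin₁⟩ :=
    wellFounded_lt.has_min {M : Subgroup G | P M ∧ M ≤ M₀} ⟨M₀, ⟨hZM₀, hM₀N, hM₀n, hM₀Z⟩, le_rfl⟩
  have hM₁min : ∀ M, P M → M ≤ M₁ → M = M₁ := by
    intro M hM hle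
    by_contra hne
    exact hmin₁ M ⟨hM, hle.trans hM₁₀⟩ (lt_of_le_of_ne hle hne)
  have hM₁N : M₁ ≠ N := by
    intro h
    apply hM₀N'
    exact le_antisymm hM₀N (h ▸ hM₁₀)
  -- K preserves P
  have hPcj : ∀ k ∈ K, ∀ M, P M → P (cj k M) := by
    intro k hk M hM
    obtain ⟨h1, h2, h3, h4⟩ := hM
    refine ⟨?_, ?_, ?_, ?_⟩
    · have := cj_mono (k := k) h1
      rwa [cj_normal] at this
    · intro x hx
      rw [mem_cj] at hx
      have := hKN k hk _ (h2 hx)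
      simpa [mul_assoc] using this
    · intro n hn x hx
      rw [mem_cj] at hx ⊢
      have hn' : k⁻¹ * n * k ∈ N := by
        have := hKN k⁻¹ (K.inv_mem hk) n hn
        simpa using this
      have := h3 _ hn' _ hx
      have e : k⁻¹ * (n * x * n⁻¹) * k = k⁻¹ * n * k * (k⁻¹ * x * k) * (k⁻¹ * n * k)⁻¹ := by group
      rw [e]
      exact this
    · intro h
      apply h4
      have := congrArg (cj k⁻¹) h
      rwa [cj_inv_cj, cj_normal] at this
  -- minimality is preserved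
  have hmincj : ∀ k ∈ K, ∀ M, P M → M ≤ cj k M₁ → M = cj k M₁ := by
    intro k hk M hM hle
    have h1 : P (cj k⁻¹ M) := hPcj k⁻¹ (K.inv_mem hk) M hM
    have h2 : cj k⁻¹ M ≤ M₁ := by
      have := cj_mono (k := k⁻¹) hle
      rwa [cj_inv_cj] at this
    have h3 := hM₁min _ h1 h2
    have := congrArg (cj k) h3
    rwa [cj_cj_inv] at this
  -- the index type
  let I : Type _ := {M : Subgroup G // ∃ k ∈ K, M = cj k M₁}
  have : Finite I := Subtype.finite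
  let i₁ : I := ⟨M₁, 1, K.one_mem, (cj_one M₁).symm⟩
  have hIP : ∀ i : I, P i.1 := by
    rintro ⟨M, k, hk, rfl⟩
    exact hPcj k hk M₁ hP₁
  have hImin : ∀ i : I, ∀ M, P M → M ≤ i.1 → M = i.1 := by
    rintro ⟨M', k, hk, rfl⟩ M hM hle
    exact hmincj k hk M hM hle
  have hIcj : ∀ k ∈ K, ∀ i : I, ∃ k' ∈ K, cj k i.1 = cj k' M₁ := by
    rintro k hk ⟨M', k', hk', rfl⟩
    exact ⟨k * k', K.mul_mem hk hk', (cj_mul k k' M₁).symm⟩
  -- distinct members intersect in Z and commute modulo Z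
  have hinf : ∀ i j : I, i ≠ j → ⁅i.1, j.1⁆ ≤ Z := by
    intro i j hij
    have hX : i.1 ⊓ j.1 = Z := by
      by_contra hne
      have hPX : P (i.1 ⊓ j.1) := by
        refine ⟨le_inf (hIP i).1 (hIP j).1, inf_le_left.trans (hIP i).2.1, ?_, hne⟩
        intro n hn x hx
        exact Subgroup.mem_inf.mpr ⟨(hIP i).2.2.1 n hn x (Subgroup.mem_inf.mp hx).1,
          (hIP j).2.2.1 n hn x (Subgroup.mem_inf.mp hx).2⟩
      have h1 : i.1 ⊓ j.1 = i.1 := hImin i _ hPX inf_le_left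
      have h2 : i.1 ≤ j.1 := by rw [← h1]; exact inf_le_right
      have h3 : i.1 = j.1 := hImin j _ (hIP i) h2
      exact hij (Subtype.ext h3)
    rw [Subgroup.commutator_le]
    intro x hx y hy
    rw [← hX]
    refine Subgroup.mem_inf.mpr ⟨?_, ?_⟩
    · -- x * (y x⁻¹ y⁻¹) ∈ i
      have h1 : y * x⁻¹ * y⁻¹ ∈ i.1 :=
        (hIP i).2.2.1 y ((hIP j).2.1 hy) _ (i.1.inv_mem hx)
      have e : ⁅x, y⁆ = x * (y * x⁻¹ * y⁻¹) := by
        rw [commutatorElement_def]; group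
      rw [e]
      exact i.1.mul_mem hx h1
    · have h1 : x * y * x⁻¹ ∈ j.1 := (hIP j).2.2.1 x ((hIP i).2.1 hx) _ hy
      rw [commutatorElement_def]
      exact j.1.mul_mem h1 (j.1.inv_mem hy)
  -- the factors
  let Q : I → Subgroup G := fun i => ⁅i.1, i.1⁆
  have hQdef : ∀ i, Q i = ⁅i.1, i.1⁆ := fun _ => rfl
  have hQle : ∀ i, Q i ≤ i.1 := fun i => commutator_self_le i.1
  have hQN : ∀ i, Q i ≤ N := fun i => (hQle i).trans (hIP i).2.1
  -- conjugation moves factors to factors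
  have hQcj : ∀ k ∈ K, ∀ i j : I, j.1 = cj k i.1 → ∀ x ∈ Q i, k * x * k⁻¹ ∈ Q j := by
    intro k _ i j hj x hx
    have := conj_mem_cj (k := k) hx
    rw [hQdef, cj_commutator, ← hj] at this
    exact this
  -- S = ⨆ i, i.1 = N
  have hM₁Z : ¬ M₁ ≤ Z := fun h => hP₁.2.2.2 (le_antisymm h hP₁.1)
  have hS : (⨆ i : I, i.1) = N := by
    have hZS : Z ≤ ⨆ i : I, i.1 := hP₁.1.trans (le_iSup (fun i : I => i.1) i₁)
    have hSN : (⨆ i : I, i.1) ≤ N := iSup_le fun i => (hIP i).2.1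
    have hSK : ∀ k ∈ K, ∀ x ∈ (⨆ i : I, i.1), k * x * k⁻¹ ∈ (⨆ i : I, i.1) := by
      intro k hk x hx
      have h1 := conj_mem_cj (k := k) hx
      have h2 : cj k (⨆ i : I, i.1) ≤ ⨆ i : I, i.1 := by
        unfold cj
        rw [Subgroup.map_iSup]
        refine iSup_le fun i => ?_
        obtain ⟨k', hk', h⟩ := hIcj k hk i
        exact le_iSup (fun i : I => i.1) ⟨cj k i.1, k', hk', h⟩
      exact h2 h1
    rcases hmin _ hZS hSN hSK with h | h
    · exfalso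
      apply hM₁Z
      rw [← h]
      exact le_iSup (fun i : I => i.1) i₁
    · exact h
  have hNZ : ¬ N ≤ Z := fun h => hM₁Z (hP₁.2.1.trans h)
  -- the factors are not central
  have hQZ : ∀ i, ¬ Q i ≤ Z := by
    intro i₀ h₀
    -- then every factor is inside Z
    have hall : ∀ i, Q i ≤ Z := by
      intro i
      obtain ⟨k₀, hk₀, e₀⟩ := i₀.2
      obtain ⟨k, hk, e⟩ := i.2
      have h1 : ⁅M₁, M₁⁆ ≤ Z := by
        have := cj_mono (k := k₀⁻¹) h₀
        rwa [hQdef, cj_commutator, e₀, cj_inv_cj, cj_normal] at this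
      have := cj_mono (k := k) h1
      rwa [cj_commutator, ← e, cj_normal] at this
    have hcomm : ∀ i j : I, i.1 ≤ cz Z j.1 := by
      intro i j
      rw [le_cz_iff]
      by_cases hij : i = j
      · subst hij
        exact hall i
      · exact hinf i j hij
    have h1 : ∀ j : I, N ≤ cz Z j.1 := by
      intro j
      rw [← hS]
      exact iSup_le fun i => hcomm i j
    have h2 : ∀ j : I, j.1 ≤ cz Z N := by
      intro j
      rw [le_cz_iff, Subgroup.commutator_comm, ← le_cz_iff]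
      exact h1 j
    have h3 : N ≤ cz Z N := by
      conv_lhs => rw [← hS]
      exact iSup_le h2
    have h4 : ⁅N, N⁆ ≤ Z := le_cz_iff.mp h3
    apply hNZ
    rw [← hperf]
    exact sup_le h4 le_rfl
  -- distinct factors commute
  have hQcomm : ∀ i j : I, i ≠ j → ∀ x ∈ Q i, ∀ y ∈ Q j, x * y = y * x := by
    intro i j hij x hx y hy
    have hbot : ∀ A B : Subgroup G, A ≤ Z → ⁅A, B⁆ = ⊥ := by
      intro A B hA
      rw [Subgroup.commutator_eq_bot_iff_le_centralizer]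
      exact (hA.trans hZc).trans (Subgroup.center_le_centralizer _)
    have h1 : ⁅⁅j.1, i.1⁆, j.1⁆ = ⊥ := hbot _ _ (hinf j i (Ne.symm hij))
    have h2 : ⁅⁅i.1, j.1⁆, j.1⁆ = ⊥ := hbot _ _ (hinf i j hij)
    have h3 : ⁅⁅j.1, j.1⁆, i.1⁆ = ⊥ := Subgroup.commutator_commutator_eq_bot_of_rotate h1 h2
    rw [Subgroup.commutator_eq_bot_iff_le_centralizer] at h3
    have h4 := h3 hy
    rw [Subgroup.mem_centralizer_iff] at h4
    exact h4 x (hQle i hx)
  -- the factors generate N modulo Z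
  have hR : N ≤ (⨆ i : I, Q i) ⊔ Z := by
    have hZR : Z ≤ (⨆ i : I, Q i) ⊔ Z := le_sup_right
    have hRN : (⨆ i : I, Q i) ⊔ Z ≤ N := sup_le (iSup_le hQN) hZN
    have hRK : ∀ k ∈ K, ∀ x ∈ (⨆ i : I, Q i) ⊔ Z, k * x * k⁻¹ ∈ (⨆ i : I, Q i) ⊔ Z := by
      intro k hk x hx
      have h1 := conj_mem_cj (k := k) hx
      have h2 : cj k ((⨆ i : I, Q i) ⊔ Z) ≤ (⨆ i : I, Q i) ⊔ Z := by
        have e : cj k ((⨆ i : I, Q i) ⊔ Z) = (⨆ i : I, cj k (Q i)) ⊔ cj k Z := by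
          unfold cj
          rw [Subgroup.map_sup, Subgroup.map_iSup]
        rw [e, cj_normal]
        refine sup_le_sup_right (iSup_le fun i => ?_) Z
        obtain ⟨k', hk', h⟩ := hIcj k hk i
        have : cj k (Q i) = Q ⟨cj k i.1, k', hk', h⟩ := by
          rw [hQdef, hQdef, cj_commutator]
        rw [this]
        exact le_iSup Q _
      exact h2 h1
    rcases hmin _ hZR hRN hRK with h | h
    · exfalso
      apply hQZ i₁
      rw [← h]
      exact (le_iSup Q i₁).trans le_sup_left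
    · exact h.ge
  -- at least two factors
  have hcard : 2 ≤ Nat.card I := by
    have hnot : ¬ (∀ k ∈ K, ∀ x ∈ M₁, k * x * k⁻¹ ∈ M₁) := by
      intro h
      rcases hmin M₁ hP₁.1 hP₁.2.1 h with h' | h'
      · exact hP₁.2.2.2 h'
      · exact hM₁N h'
    have hex : ∃ k ∈ K, cj k M₁ ≠ M₁ := by
      by_contra hcon
      apply hnot
      intro k hk x hx
      have h1 : cj k M₁ = M₁ := by
        by_contra h2
        exact hcon ⟨k, hk, h2⟩
      have := conj_mem_cj (k := k) hx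
      rwa [h1] at this
    obtain ⟨k, hk, hne⟩ := hex
    have : Nontrivial I := ⟨⟨⟨cj k M₁, k, hk, rfl⟩, i₁, fun h => hne (congrArg Subtype.val h)⟩⟩
    exact Finite.one_lt_card_iff_nontrivial.mpr this
  -- the action of K on I
  have hact : ∀ k ∈ K, ∃ τ : Equiv.Perm I, ∀ i, (τ i).1 = cj k i.1 := by
    intro k hk
    refine ⟨⟨fun i => ⟨cj k i.1, ?_⟩, fun i => ⟨cj k⁻¹ i.1, ?_⟩, ?_, ?_⟩, fun i => rfl⟩
    · obtain ⟨k', hk', h⟩ := hIcj k hk i
      exact ⟨k', hk', h⟩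
    · obtain ⟨k', hk', h⟩ := hIcj k⁻¹ (K.inv_mem hk) i
      exact ⟨k', hk', h⟩
    · intro i
      exact Subtype.ext (cj_inv_cj k i.1)
    · intro i
      exact Subtype.ext (cj_cj_inv k i.1)
  -- transport to `Fin t`
  let e : I ≃ Fin (Nat.card I) := Finite.equivFin I
  refine ⟨Nat.card I, fun a => Q (e.symm a), hcard, fun a => hQN _, fun a => hQZ _, ?_, ?_, ?_, ?_⟩
  · intro a b hab x hx y hy
    exact hQcomm (e.symm a) (e.symm b) (fun h => hab (e.symm.injective h)) x hx y hy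
  · have : (⨆ a, Q (e.symm a)) = ⨆ i : I, Q i := e.symm.iSup_comp (g := Q)
    rw [this]
    exact hR
  · intro k hk
    obtain ⟨τ, hτ⟩ := hact k hk
    refine ⟨(e.symm.trans τ).trans e, ?_⟩
    intro a x hx
    have : e.symm (((e.symm.trans τ).trans e) a) = τ (e.symm a) := by simp
    show k * x * k⁻¹ ∈ Q (e.symm (((e.symm.trans τ).trans e) a))
    rw [this]
    exact hQcj k hk (e.symm a) (τ (e.symm a)) (hτ _) x hx
  · intro a b
    obtain ⟨ka, hka, ea⟩ := (e.symm a).2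
    obtain ⟨kb, hkb, eb⟩ := (e.symm b).2
    refine ⟨kb * ka⁻¹, K.mul_mem hkb (K.inv_mem hka), ?_⟩
    refine hQcj _ (K.mul_mem hkb (K.inv_mem hka)) (e.symm a) (e.symm b) ?_
    rw [eb, ea, cj_mul, cj_inv_cj]

end Abstract

open Cfsg Cfsg.Geo Cfsg.Agent.Lib.Helper61.Asch
open scoped Matrix Kronecker MatrixGroups

variable {F : Type*} [Field F] [Fintype F] {n : ℕ}

omit [Fintype F] in
theorem scalars_le_center : scalars (Fin n) F ≤ Subgroup.center (GL (Fin n) F) := by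
  intro g hg
  rw [mem_scalars_iff] at hg
  obtain ⟨c, hc⟩ := hg
  rw [Subgroup.mem_center_iff]
  intro h
  apply Units.ext
  simp only [Units.val_mul, hc, Matrix.mul_smul, Matrix.smul_mul, Matrix.mul_one, Matrix.one_mul]

/-- K-S5630-E1 (pure group theory). -/
theorem exists_central_factors (K N : Subgroup (GL (Fin n) F)) (hZN : scalars (Fin n) F ≤ N) (hNK : N ≤ K)
    (hKN : NormBy K N)
    (hperf : ⁅N, N⁆ ⊔ scalars (Fin n) F = N)
    (hmin : ∀ M : Subgroup (GL (Fin n) F), scalars (Fin n) F ≤ M → M ≤ N → NormBy K M →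
      M = scalars (Fin n) F ∨ M = N)
    (hns : ∃ M : Subgroup (GL (Fin n) F), scalars (Fin n) F ≤ M ∧ M ≤ N ∧ NormBy N M ∧
      M ≠ scalars (Fin n) F ∧ M ≠ N) :
    ∃ (t : ℕ) (Q : Fin t → Subgroup (GL (Fin n) F)), 2 ≤ t ∧ (∀ i, Q i ≤ N) ∧
      (∀ i, ¬ Q i ≤ scalars (Fin n) F) ∧
      (∀ i j, i ≠ j → ∀ x ∈ Q i, ∀ y ∈ Q j, x * y = y * x) ∧
      N ≤ (⨆ i, Q i) ⊔ scalars (Fin n) F ∧
      (∀ k ∈ K, ∃ σ : Equiv.Perm (Fin t), ∀ i, ∀ x ∈ Q i, k * x * k⁻¹ ∈ Q (σ i)) ∧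
      (∀ i j, ∃ k ∈ K, ∀ x ∈ Q i, k * x * k⁻¹ ∈ Q j) := by
  have : Finite (GL (Fin n) F) := inferInstance
  exact exists_central_factors_aux (scalars (Fin n) F) K N scalars_le_center hZN hNK hKN hperf hmin hns

end Cfsg.Agent.Lib.Helper70.Asch
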