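import Mathlib
import Cfsg.Agent.Lib.Helper16.BG1363Defs
import Cfsg.Agent.Lib.Helper55.Basic
import Cfsg.Agent.Lib.Helper55.Uniq2
import Cfsg.Agent.Lib.Helper90.BG14DW1
import Cfsg.Agent.Lib.Helper13.Fitting
import Cfsg.Agent.Lib.Helper31.BenderFit
import Cfsg.Agent.Lib.Helper71.BG11a
import Cfsg.Agent.S1430
import Cfsg.Agent.S1439

/-!
# K-1363-I (keystone 136309, S1363): if `H_σ ≤ U` then `H` normalizes `U`
-/

set_option autoImplicit false

namespace Cfsg.Agent.Lib.Helper70.BG1363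

open Cfsg Subgroup Cfsg.Agent.Lib.Helper55 Cfsg.Agent.Lib.Helper11.BG14D
  Cfsg.Agent.Lib.Helper16.BG1363
open scoped commutatorElement

section pure

variable {G : Type*} [Group G]

/-- conjugation by an element normalizing a cyclic subgroup raises a generator to a power -/
theorem conj_gen_eq_zpow {Y : Subgroup G} {g : G}
    (hg : ∀ y ∈ Y, y ∈ zpowers g) (hgY : g ∈ Y) {h : G} (hh : h ∈ normalizer (Y : Set G)) :
    ∃ a : ℤ, h * g * h⁻¹ = g ^ a := by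
  have h1 : h * g * h⁻¹ ∈ Y := (mem_normalizer_iff.1 hh g).1 hgY
  obtain ⟨a, ha⟩ := mem_zpowers_iff.1 (hg _ h1)
  exact ⟨a, ha.symm⟩

/-- conjugation by an element normalizing a cyclic subgroup is a power map on it -/
theorem conj_eq_zpow_of_cyclic {Y : Subgroup G} {g : G}
    (hg : ∀ y ∈ Y, y ∈ zpowers g) (hgY : g ∈ Y) {h : G} (hh : h ∈ normalizer (Y : Set G)) :
    ∃ a : ℤ, ∀ y ∈ Y, h * y * h⁻¹ = y ^ a := by
  obtain ⟨a, ha⟩ := conj_gen_eq_zpow hg hgY hh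
  refine ⟨a, fun y hy => ?_⟩
  obtain ⟨n, rfl⟩ := mem_zpowers_iff.1 (hg y hy)
  have e : h * g ^ n * h⁻¹ = (h * g * h⁻¹) ^ n := by
    rw [conj_zpow]
  rw [e, ha, ← zpow_mul, ← zpow_mul, mul_comm]

/-- commutators of elements normalizing a cyclic subgroup centralize it -/
theorem commutator_mem_centralizer_of_cyclic {Y : Subgroup G} (hY : IsCyclic ↥Y) {h₁ h₂ : G}
    (hh₁ : h₁ ∈ normalizer (Y : Set G)) (hh₂ : h₂ ∈ normalizer (Y : Set G)) :
    ⁅h₁, h₂⁆ ∈ centralizer (Y : Set G) := by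
  obtain ⟨g0, hg0⟩ := hY.exists_generator
  have hg : ∀ y ∈ Y, y ∈ zpowers (g0 : G) := by
    intro y hy
    obtain ⟨n, hn⟩ := mem_zpowers_iff.1 (hg0 ⟨y, hy⟩)
    refine mem_zpowers_iff.2 ⟨n, ?_⟩
    have := congrArg Subtype.val hn
    simpa using this
  have hgY : (g0 : G) ∈ Y := g0.2
  obtain ⟨a, ha⟩ := conj_eq_zpow_of_cyclic hg hgY (inv_mem hh₁)
  obtain ⟨b, hb⟩ := conj_eq_zpow_of_cyclic hg hgY (inv_mem hh₂)
  simp only [inv_inv] at ha hb
  intro y hy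
  -- `h₁⁻¹ h₂⁻¹ y h₂ h₁ = h₂⁻¹ h₁⁻¹ y h₁ h₂`
  have e1 : h₁⁻¹ * (h₂⁻¹ * y * h₂) * h₁ = y ^ (b * a) := by
    rw [hb y hy, ha _ (zpow_mem hy b), ← zpow_mul]
  have e2 : h₂⁻¹ * (h₁⁻¹ * y * h₁) * h₂ = y ^ (b * a) := by
    rw [ha y hy, hb _ (zpow_mem hy a), ← zpow_mul, mul_comm]
  have e3 : h₁⁻¹ * (h₂⁻¹ * y * h₂) * h₁ = h₂⁻¹ * (h₁⁻¹ * y * h₁) * h₂ := e1.trans e2.symm
  rw [commutatorElement_def]
  have e5 : y * (h₂ * h₁ * h₂⁻¹ * h₁⁻¹) =
      h₂ * h₁ * (h₁⁻¹ * (h₂⁻¹ * y * h₂) * h₁) * h₂⁻¹ * h₁⁻¹ := by group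
  have e6 : h₂ * h₁ * (h₂⁻¹ * (h₁⁻¹ * y * h₁) * h₂) * h₂⁻¹ * h₁⁻¹ =
      (h₂ * h₁ * h₂⁻¹ * h₁⁻¹) * y := by group
  rw [e3, e6] at e5
  have e7 : h₁ * h₂ * h₁⁻¹ * h₂⁻¹ = (h₂ * h₁ * h₂⁻¹ * h₁⁻¹)⁻¹ := by group
  rw [e7]
  set X := h₂ * h₁ * h₂⁻¹ * h₁⁻¹ with hX
  calc y * X⁻¹ = X⁻¹ * (X * y) * X⁻¹ := by group
    _ = X⁻¹ * (y * X) * X⁻¹ := by rw [e5]
    _ = X⁻¹ * y := by group

/-- a subgroup of a cyclic subgroup is normalized by whatever normalizes the cyclic subgroup -/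
theorem conj_mem_of_le_cyclic {Y W : Subgroup G} (hY : IsCyclic ↥Y) (hWY : W ≤ Y) {h : G}
    (hh : h ∈ normalizer (Y : Set G)) {w : G} (hw : w ∈ W) : h * w * h⁻¹ ∈ W := by
  obtain ⟨g0, hg0⟩ := hY.exists_generator
  have hg : ∀ y ∈ Y, y ∈ zpowers (g0 : G) := by
    intro y hy
    obtain ⟨n, hn⟩ := mem_zpowers_iff.1 (hg0 ⟨y, hy⟩)
    refine mem_zpowers_iff.2 ⟨n, ?_⟩
    have := congrArg Subtype.val hn
    simpa using this
  obtain ⟨a, ha⟩ := conj_eq_zpow_of_cyclic hg g0.2 hh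
  rw [ha w (hWY hw)]
  exact zpow_mem hw a

/-- fixed-point-free conjugation: every element of `U` is `u'⁻¹ (k u' k⁻¹)` -/
theorem exists_eq_inv_mul_conj [Finite G] {U : Subgroup G} {k : G}
    (hk : k ∈ normalizer (U : Set G)) (hfree : U ⊓ centralizer ({k} : Set G) = ⊥) (u : G)
    (hu : u ∈ U) : ∃ u' ∈ U, u = u'⁻¹ * (k * u' * k⁻¹) := by
  let f : ↥U → ↥U := fun v =>
    ⟨(v : G)⁻¹ * (k * v * k⁻¹), mul_mem (inv_mem v.2) ((mem_normalizer_iff.1 hk v).1 v.2)⟩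
  have hinj : Function.Injective f := by
    intro v w hvw
    have h1 : (v : G)⁻¹ * (k * v * k⁻¹) = (w : G)⁻¹ * (k * w * k⁻¹) := congrArg Subtype.val hvw
    -- `z = w v⁻¹` commutes with `k`
    have h2 : (w : G) * (v : G)⁻¹ = k * ((w : G) * (v : G)⁻¹) * k⁻¹ := by
      have : (w : G) * ((v : G)⁻¹ * (k * v * k⁻¹)) = k * w * k⁻¹ := by
        rw [h1]; group
      calc (w : G) * (v : G)⁻¹ = (w : G) * ((v : G)⁻¹ * (k * v * k⁻¹)) * (k * v * k⁻¹)⁻¹ := by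
            group
        _ = k * w * k⁻¹ * (k * v * k⁻¹)⁻¹ := by rw [this]
        _ = k * ((w : G) * (v : G)⁻¹) * k⁻¹ := by group
    have h3 : (w : G) * (v : G)⁻¹ ∈ U ⊓ centralizer ({k} : Set G) := by
      refine Subgroup.mem_inf.2 ⟨mul_mem w.2 (inv_mem v.2), ?_⟩
      rw [mem_centralizer_iff]
      intro x hx
      rw [Set.mem_singleton_iff] at hx
      subst hx
      calc x * ((w : G) * (v : G)⁻¹) = x * ((w : G) * (v : G)⁻¹) * x⁻¹ * x := by group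
        _ = (w : G) * (v : G)⁻¹ * x := by rw [← h2]
    rw [hfree, mem_bot] at h3
    apply Subtype.ext
    have : (w : G) = v := by
      calc (w : G) = (w : G) * (v : G)⁻¹ * v := by group
        _ = v := by rw [h3, one_mul]
    exact this.symm
  obtain ⟨v, hv⟩ := (Finite.injective_iff_surjective.1 hinj) ⟨u, hu⟩
  exact ⟨v, v.2, (congrArg Subtype.val hv).symm⟩

end pure

variable {G : Type*} [Group G] [Finite G]

/-- KEYSTONE 136309  K-1363-I  `NU.normal_of_le`.  If `H_σ ≤ U` then `H` normalizes `U`. -/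
theorem NU.normal_of_le (hG : IsMinSimpleOddOrder G) {M K U R H : Subgroup G} {r : ℕ} (c : NU M K U R H r)
    (hUKH : U ⊔ K ≤ H) (hle : sigmaCore H ≤ U) :
    H ≤ normalizer (U : Set G) := by
  classical
  have h30 : H1430 G := fun M hM K hK hK1 => Cfsg.Agent.S1430.result hG M hM K hK hK1
  obtain ⟨hab, hfree⟩ :=
    Cfsg.Agent.Lib.Helper90.BG14D.free_action hG h30 M c.hM K U c.hKU c.hK1
  have hUH : U ≤ H := le_sup_left.trans hUKH
  have hKH : K ≤ H := le_sup_right.trans hUKH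
  have hUcomm : ∀ a ∈ U, ∀ b ∈ U, a * b = b * a := by
    intro a ha b hb
    have := hab.is_comm.comm (⟨a, ha⟩ : ↥U) ⟨b, hb⟩
    exact congrArg Subtype.val this
  -- (i) `U ≤ ⁅H, H⁆`
  obtain ⟨k, hkK, hk1⟩ := (Subgroup.ne_bot_iff_exists_ne_one.1 c.hK1 |> fun ⟨x, hx⟩ =>
    (⟨(x : G), x.2, fun h => hx (Subtype.ext h)⟩ : ∃ k ∈ K, k ≠ 1))
  have hkN : k ∈ normalizer (U : Set G) := c.hKU.normal hkK
  have hUder : U ≤ ⁅H, H⁆ := by
    intro u hu
    obtain ⟨u', hu', rfl⟩ := exists_eq_inv_mul_conj hkN (hfree k hkK hk1) u hu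
    have e : u'⁻¹ * (k * u' * k⁻¹) = ⁅u'⁻¹, k⁆ := by
      rw [commutatorElement_def]; group
    rw [e]
    exact Subgroup.commutator_mem_commutator (inv_mem (hUH hu')) (hKH hkK)
  -- (ii) the cyclic part of the Fitting subgroup
  obtain ⟨hYc, -, hFit⟩ := Cfsg.Agent.S1439.result hG H c.hH
  set Y := piCoreOf {q | q.Prime ∧ q ∉ sigma H} (fittingOf H) with hY
  have hHY : H ≤ normalizer (Y : Set G) :=
    (Cfsg.Agent.Lib.Helper31.BenderFit.le_normalizer_fittingOf H).trans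
      (Cfsg.Agent.Lib.Helper31.BenderFit.normalizer_le_normalizer_piCoreOf _ _)
  have hderY : ⁅H, H⁆ ≤ centralizer (Y : Set G) := by
    rw [Subgroup.commutator_le]
    intro h₁ hh₁ h₂ hh₂
    exact commutator_mem_centralizer_of_cyclic hYc (hHY hh₁) (hHY hh₂)
  have hUY : U ≤ centralizer (Y : Set G) := hUder.trans hderY
  have hFs : fittingOf (sigmaCore H) ≤ sigmaCore H :=
    Cfsg.Agent.Lib.Helper31.BenderFit.fittingOf_le' _
  -- `U` centralizes `F(H)`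
  have hFcent : fittingOf H ≤ centralizer (U : Set G) := by
    rw [hFit]
    refine sup_le ?_ ?_
    · intro a ha
      rw [mem_centralizer_iff]
      intro b hb
      exact hUcomm b hb a (hle (hFs ha))
    · intro y hy
      rw [mem_centralizer_iff]
      intro b hb
      exact (mem_centralizer_iff.1 (hUY hb) y hy).symm
  -- (iii) `U ≤ F(H)`
  have : Group.IsSolvable ↥H := ms_solvable hG c.hH.1
  have hUF : U ≤ fittingOf H := by
    intro u hu
    have hx : (⟨u, hUH hu⟩ : ↥H) ∈ centralizer ((Cfsg.fittingSubgroup ↥H : Subgroup ↥H) : Set ↥H) := by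
      rw [mem_centralizer_iff]
      intro f hf
      apply Subtype.ext
      have hf' : (f : G) ∈ fittingOf H :=
        (Cfsg.Agent.Lib.Helper31.BenderFit.mem_fittingOf_iff f).2 hf
      have := mem_centralizer_iff.1 (hFcent hf') u hu
      simpa using this.symm
    have := Cfsg.Agent.Lib.Helper13.centralizer_fittingSubgroup_le hx
    exact (Cfsg.Agent.Lib.Helper31.BenderFit.mem_fittingOf_iff (⟨u, hUH hu⟩ : ↥H)).2 this
  -- (iv) conjugation
  have hFsH : fittingOf (sigmaCore H) ≤ H :=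
    hFs.trans (Cfsg.Agent.Lib.Helper71.BG11.sigmaCore_le H)
  have hconj : ∀ h ∈ H, ∀ u ∈ U, h * u * h⁻¹ ∈ U := by
    intro h hh u hu
    have hu' : u ∈ (↑(fittingOf (sigmaCore H) ⊔ Y) : Set G) := by
      rw [← hFit]; exact hUF hu
    rw [coe_mul_of_left_le_normalizer_right _ _ (hFsH.trans hHY)] at hu'
    obtain ⟨a, ha, y, hy, rfl⟩ := hu'
    have haU : a ∈ U := hle (hFs ha)
    have hyU : y ∈ U ⊓ Y := by
      refine Subgroup.mem_inf.2 ⟨?_, hy⟩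
      have : y = a⁻¹ * (a * y) := by group
      rw [this]
      exact mul_mem (inv_mem haU) hu
    have h1 : h * a * h⁻¹ ∈ U := by
      apply hle
      exact (mem_normalizer_iff.1 (Cfsg.Agent.Lib.Helper71.BG11.le_normalizer_sigmaCore H hh) a).1
        (hFs ha)
    have h2 : h * y * h⁻¹ ∈ U ⊓ Y := conj_mem_of_le_cyclic hYc inf_le_right (hHY hh) hyU
    have e : h * (a * y) * h⁻¹ = (h * a * h⁻¹) * (h * y * h⁻¹) := by group
    rw [e]
    exact mul_mem h1 (Subgroup.mem_inf.1 h2).1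
  intro h hh
  rw [mem_normalizer_iff]
  intro x
  constructor
  · intro hx
    exact hconj h hh x hx
  · intro hx
    have := hconj h⁻¹ (inv_mem hh) _ hx
    have e : h⁻¹ * (h * x * h⁻¹) * h⁻¹⁻¹ = x := by group
    rwa [e] at this

end Cfsg.Agent.Lib.Helper70.BG1363
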