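import Mathlib
import Cfsg.Prelude
import Cfsg.Agent.Lib.Helper70.CycSylGen

/-!
# S4016: local analysis in a simple minimal counterexample
-/

namespace Cfsg.Agent.Lib.Helper70.CycSyl

open Subgroup
open scoped Pointwise

universe u

/-- the context of a simple minimal counterexample -/
structure SCtx (p : ℕ) (G : Type u) [Group G] : Prop where
  simple : IsSimpleGroup G
  nc : ¬ IsMulCommutative G
  hyp : Hyp p G
  ih : ∀ H : Subgroup G, H ≠ ⊤ → Concl p H

variable {G : Type u} [Group G] [Finite G] {p : ℕ} [hp : Fact p.Prime]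

omit [Finite G] hp in
theorem SCtx.normal_eq (h : SCtx p G) (N : Subgroup G) (hN : N.Normal) : N = ⊥ ∨ N = ⊤ :=
  haveI := h.simple
  hN.eq_bot_or_eq_top

omit [Finite G] hp in
theorem SCtx.not_comm (h : SCtx p G) : ¬ ∀ a b : G, a * b = b * a := fun hc =>
  h.nc ⟨⟨hc⟩⟩

omit [Finite G] hp in
theorem SCtx.center_eq_bot (h : SCtx p G) : center G = ⊥ := by
  rcases h.normal_eq (center G) inferInstance with h1 | h1
  · exact h1
  · exfalso
    apply h.not_comm
    intro a b
    have : b ∈ center G := by rw [h1]; trivial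
    exact (mem_center_iff.mp this a)

/-- Burnside: an abelian nontrivial Sylow subgroup is not central in its normalizer -/
theorem SCtx.burnside (h : SCtx p G) {r : ℕ} [Fact r.Prime] (R : Sylow r G)
    (hab : ∀ a ∈ (R : Subgroup G), ∀ b ∈ (R : Subgroup G), a * b = b * a)
    (hne : (R : Subgroup G) ≠ ⊥) :
    ¬ normalizer ((R : Subgroup G) : Set G) ≤ centralizer ((R : Subgroup G) : Set G) := by
  intro hle
  obtain ⟨N, hN, hc⟩ := (Cfsg.Agent.Lib.Helper03.hasNormalPComplement_iff R).mp
    (Cfsg.Agent.Lib.Helper03.hasNormalPComplement_of_normalizer_le_centralizer R hle)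
  have hcard : Nat.card N * Nat.card (R : Subgroup G) = Nat.card G := hc.card_mul_card
  rcases h.normal_eq N hN with h1 | h1
  · -- N = ⊥ : R = ⊤, so G abelian
    rw [h1, Subgroup.card_bot, one_mul] at hcard
    have hR : (R : Subgroup G) = ⊤ := (Subgroup.card_eq_iff_eq_top _).mp hcard
    apply h.not_comm
    intro a b
    exact hab a (by rw [hR]; trivial) b (by rw [hR]; trivial)
  · rw [h1, Subgroup.card_top] at hcard
    have : Nat.card (R : Subgroup G) = 1 := by
      have hpos : 0 < Nat.card G := Nat.card_pos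
      exact Nat.eq_of_mul_eq_mul_left hpos (by rw [hcard, mul_one])
    exact hne (Subgroup.card_eq_one.mp this)

theorem SCtx.sylow_ne_bot (h : SCtx p G) (P : Sylow p G) : (P : Subgroup G) ≠ ⊥ := by
  intro hP
  have hnd : ¬ p ∣ Nat.card (⊤ : Subgroup G) := by
    rw [Subgroup.card_top]
    intro hd
    obtain ⟨g, hg⟩ := exists_prime_orderOf_dvd_card' p hd
    have h1 : IsPGroup p (zpowers g) := by
      apply IsPGroup.of_card (n := 1); rw [Nat.card_zpowers, hg, pow_one]
    obtain ⟨Q, hQ⟩ := h1.exists_le_sylow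
    have hcard : Nat.card (Q : Subgroup G) = Nat.card (P : Subgroup G) := by
      rw [Sylow.card_eq_multiplicity, Sylow.card_eq_multiplicity]
    rw [hP, Subgroup.card_bot] at hcard
    have hQ1 : (Q : Subgroup G) = ⊥ := Subgroup.card_eq_one.mp hcard
    have : g ∈ (⊥ : Subgroup G) := hQ1 ▸ hQ (mem_zpowers g)
    rw [mem_bot] at this
    rw [this, orderOf_one] at hg
    exact hp.out.one_lt.ne hg
  have := h.hyp.2 ⊤ hnd
  apply h.not_comm
  intro a b
  have := this.is_comm.comm (⟨a, trivial⟩ : (⊤ : Subgroup G)) ⟨b, trivial⟩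
  exact congrArg Subtype.val this

theorem SCtx.sylow_comm (h : SCtx p G) (P : Sylow p G) :
    ∀ a ∈ (P : Subgroup G), ∀ b ∈ (P : Subgroup G), a * b = b * a :=
  comm_of_isCyclic (h.hyp.1 P)

/-- F1 -/
theorem SCtx.not_normalizer_le_centralizer (h : SCtx p G) (P : Sylow p G) :
    ¬ normalizer ((P : Subgroup G) : Set G) ≤ centralizer ((P : Subgroup G) : Set G) :=
  h.burnside P (h.sylow_comm P) (h.sylow_ne_bot P)

/-- a subgroup containing `N_G(P)`, different from `G`, lies in `N_G(P)` -/
theorem SCtx.le_normalizer_of_normalizer_le (h : SCtx p G) (P : Sylow p G) (H : Subgroup G)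
    (hH : H ≠ ⊤) (hNH : normalizer ((P : Subgroup G) : Set G) ≤ H) :
    H ≤ normalizer ((P : Subgroup G) : Set G) := by
  rcases h.ih H hH with h1 | h1
  · exact absurd (normalizer_le_centralizer_of_npc P (h.sylow_comm P) H hNH h1)
      (h.not_normalizer_le_centralizer P)
  · have hPH : (P : Subgroup G) ≤ H := le_normalizer.trans hNH
    have := h1 (P.subtype hPH)
    rw [Sylow.coe_subtype] at this
    exact (Subgroup.normal_subgroupOf_iff_le_normalizer hPH).mp this

/-- F2 -/
theorem SCtx.normalizer_le (h : SCtx p G) (P : Sylow p G) {U : Subgroup G} (hU : U ≤ (P : Subgroup G))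
    (hU1 : U ≠ ⊥) : normalizer (U : Set G) ≤ normalizer ((P : Subgroup G) : Set G) := by
  apply h.le_normalizer_of_normalizer_le P
  · intro htop
    have hUn : U.Normal := normalizer_eq_top_iff.mp htop
    rcases h.normal_eq U hUn with h1 | h1
    · exact hU1 h1
    · have hP : (P : Subgroup G) = ⊤ := top_le_iff.mp (h1 ▸ hU)
      apply h.not_comm
      intro a b
      exact h.sylow_comm P a (by rw [hP]; trivial) b (by rw [hP]; trivial)
  · exact normalizer_le_normalizer_of_cyclic (h.hyp.1 P) hU

/-- F3: the centralizer of a nontrivial element of `P` is the centralizer of `P` -/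
theorem SCtx.centralizer_le (h : SCtx p G) (P : Sylow p G) {u : G} (hu : u ∈ (P : Subgroup G))
    (hu1 : u ≠ 1) : centralizer ({u} : Set G) ≤ centralizer ((P : Subgroup G) : Set G) := by
  intro m hm
  have hmu : m * u = u * m := (mem_centralizer_singleton_iff.mp hm)
  have hzu : zpowers u ≤ (P : Subgroup G) := by rw [zpowers_le]; exact hu
  have hzu1 : zpowers u ≠ ⊥ := by
    intro hb
    apply hu1
    have : u ∈ (⊥ : Subgroup G) := hb ▸ mem_zpowers u
    simpa using this
  have hmN : m ∈ normalizer ((P : Subgroup G) : Set G) := by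
    apply h.normalizer_le P hzu hzu1
    rw [mem_normalizer_iff]
    intro x
    have key : m * x * m⁻¹ ∈ zpowers u ↔ x ∈ zpowers u := by
      constructor
      · intro hx
        obtain ⟨k, hk⟩ := mem_zpowers_iff.mp hx
        have hcomm : Commute m (u ^ k) := (show Commute m u from hmu).zpow_right k
        have : x = u ^ k := by
          have h2 : x = m⁻¹ * (m * x * m⁻¹) * m := by group
          rw [h2, ← hk]
          have := hcomm.eq
          calc m⁻¹ * u ^ k * m = m⁻¹ * (u ^ k * m) := by group
            _ = m⁻¹ * (m * u ^ k) := by rw [this]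
            _ = u ^ k := by group
        rw [this]; exact zpow_mem (mem_zpowers u) k
      · intro hx
        obtain ⟨k, hk⟩ := mem_zpowers_iff.mp hx
        have hcomm : Commute m (u ^ k) := (show Commute m u from hmu).zpow_right k
        rw [← hk, hcomm.eq]
        simpa using zpow_mem (mem_zpowers u) k
    exact key.symm
  obtain ⟨a, b, hab', ha, hb, ⟨k, hk⟩, hcop⟩ := Cfsg.Agent.Lib.Helper09.SqF.primary_dec m p hp.out
  have hz : zpowers m ≤ normalizer ((P : Subgroup G) : Set G) := by rw [zpowers_le]; exact hmN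
  have haP : a ∈ (P : Subgroup G) := mem_sylow_of_mem_normalizer P (hz ha) hk
  have haC : a ∈ centralizer ((P : Subgroup G) : Set G) := by
    rw [mem_centralizer_iff]
    intro v hv
    exact h.sylow_comm P v hv a haP
  have hbu : b * u = u * b := by
    obtain ⟨j, hj⟩ := mem_zpowers_iff.mp hb
    rw [← hj]
    exact ((show Commute m u from hmu).zpow_left j).eq
  have hbC : b ∈ centralizer ((P : Subgroup G) : Set G) :=
    mem_centralizer_of_commute (P : Subgroup G) (h.hyp.1 P) P.isPGroup' (hz hb) hcop hu hu1 hbu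
  rw [← hab']
  exact mul_mem haC hbC

/-- a `p'`-element of `N_G(P)` not centralizing `P` acts fixed point freely on `P` -/
theorem SCtx.eq_one_of_commute (h : SCtx p G) (P : Sylow p G) {y : G}
    (hy : y ∈ normalizer ((P : Subgroup G) : Set G)) (hcop : (orderOf y).Coprime p)
    (hyC : y ∉ centralizer ((P : Subgroup G) : Set G)) {u : G} (hu : u ∈ (P : Subgroup G))
    (hc : y * u = u * y) : u = 1 := by
  by_contra hu1
  exact hyC (mem_centralizer_of_commute (P : Subgroup G) (h.hyp.1 P) P.isPGroup' hy hcop hu hu1 hc)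

/-- every nontrivial `p`-element lies in a Sylow subgroup; centralizer version of F3 -/
theorem SCtx.exists_sylow_of_orderOf (h : SCtx p G) {g : G} {k : ℕ} (hk : orderOf g = p ^ k) :
    ∃ Q : Sylow p G, g ∈ (Q : Subgroup G) := by
  have h1 : IsPGroup p (zpowers g) := by
    apply IsPGroup.of_card (n := k); rw [Nat.card_zpowers, hk]
  obtain ⟨Q, hQ⟩ := h1.exists_le_sylow
  exact ⟨Q, hQ (mem_zpowers g)⟩

/-- `p ≠ 2` -/
theorem SCtx.p_ne_two (h : SCtx p G) : p ≠ 2 := by
  rintro rfl
  obtain ⟨P⟩ : Nonempty (Sylow 2 G) := inferInstance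
  apply h.not_normalizer_le_centralizer P
  apply normalizer_le_centralizer_of_coprime P (h.sylow_comm P)
  intro y hy hcop
  -- an involution u of P
  have hne := h.sylow_ne_bot P
  have hcard : 2 ∣ Nat.card (P : Subgroup G) := by
    obtain ⟨n, hn⟩ := IsPGroup.iff_card.mp P.isPGroup'
    rw [hn]
    rcases Nat.eq_zero_or_pos n with h0 | h0
    · rw [h0, pow_zero] at hn
      exact absurd (Subgroup.card_eq_one.mp hn) hne
    · exact dvd_pow_self 2 h0.ne'
  obtain ⟨u, hu⟩ := exists_prime_orderOf_dvd_card' (G := (P : Subgroup G)) 2 hcard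
  have hu2 : orderOf (u : G) = 2 := (Subgroup.orderOf_coe u).trans hu
  have hu1 : (u : G) ≠ 1 := by
    intro h1; rw [h1, orderOf_one] at hu2; omega
  have hzu : zpowers (u : G) ≤ (P : Subgroup G) := by rw [zpowers_le]; exact u.2
  have hyN := normalizer_le_normalizer_of_cyclic (h.hyp.1 P) hzu hy
  have hconj : y * (u : G) * y⁻¹ ∈ zpowers (u : G) := (mem_normalizer_iff.mp hyN _).mp (mem_zpowers _)
  -- zpowers u = {1, u}
  obtain ⟨j, hj⟩ := mem_zpowers_iff.mp hconj
  have hj' : (u : G) ^ j = 1 ∨ (u : G) ^ j = u := by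
    have h2 : (u : G) ^ 2 = 1 := by
      have := pow_orderOf_eq_one (u : G)
      rwa [hu2] at this
    rcases Int.emod_two_eq_zero_or_one j with h0 | h0
    · left
      have : j = 2 * (j / 2) := by omega
      rw [this, zpow_mul, zpow_ofNat, h2, one_zpow]
    · right
      have : j = 2 * (j / 2) + 1 := by omega
      rw [this, zpow_add, zpow_mul, zpow_ofNat, h2, one_zpow, one_mul, zpow_one]
  have hcomm : y * (u : G) = (u : G) * y := by
    rcases hj' with h1 | h1
    · exfalso
      rw [h1] at hj
      apply hu1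
      have : (u : G) = y⁻¹ * (y * (u : G) * y⁻¹) * y := by group
      rw [this, ← hj]; group
    · rw [h1] at hj
      calc y * (u : G) = (y * (u : G) * y⁻¹) * y := by group
        _ = (u : G) * y := by rw [← hj]
  exact mem_centralizer_of_commute (P : Subgroup G) (h.hyp.1 P) P.isPGroup' hy hcop u.2 hu1 hcomm

end Cfsg.Agent.Lib.Helper70.CycSyl
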