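import Mathlib
import Cfsg.Prelude
import Cfsg.Agent.Lib.Helper70.CycSylLocal

/-!
# S4016: the action of `N_G(P)` on `Ω₁(P)` as a multiplicative map to `ZMod p`
-/

namespace Cfsg.Agent.Lib.Helper70.CycSyl

open Subgroup
open scoped Pointwise

universe u

variable {G : Type u} [Group G] [Finite G] {p : ℕ} [hp : Fact p.Prime]

/-- K-K -/
theorem exists_kappa (h : SCtx p G) (P : Sylow p G) :
    ∃ κ : G → ZMod p,
      (∀ m ∈ normalizer ((P : Subgroup G) : Set G), ∀ m' ∈ normalizer ((P : Subgroup G) : Set G),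
        κ (m * m') = κ m * κ m') ∧
      (∀ m ∈ normalizer ((P : Subgroup G) : Set G), κ m ≠ 0) ∧
      (∀ m ∈ normalizer ((P : Subgroup G) : Set G),
        κ m = 1 ↔ m ∈ centralizer ((P : Subgroup G) : Set G)) := by
  classical
  -- an element of order p in P
  have hne := h.sylow_ne_bot P
  have hcard : p ∣ Nat.card (P : Subgroup G) := by
    obtain ⟨n, hn⟩ := IsPGroup.iff_card.mp P.isPGroup'
    rw [hn]
    rcases Nat.eq_zero_or_pos n with h0 | h0
    · rw [h0, pow_zero] at hn
      exact absurd (Subgroup.card_eq_one.mp hn) hne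
    · exact dvd_pow_self p h0.ne'
  obtain ⟨u', hu'⟩ := exists_prime_orderOf_dvd_card' (G := (P : Subgroup G)) p hcard
  set u : G := (u' : G) with hudef
  have huP : u ∈ (P : Subgroup G) := u'.2
  have hup : orderOf u = p := (Subgroup.orderOf_coe u').trans hu'
  have hu1 : u ≠ 1 := by
    intro h1; rw [h1, orderOf_one] at hup; exact hp.out.one_lt.ne hup
  have hzu : zpowers u ≤ (P : Subgroup G) := by rw [zpowers_le]; exact huP
  -- exponent
  have hex : ∀ m ∈ normalizer ((P : Subgroup G) : Set G), ∃ k : ℤ, u ^ k = m * u * m⁻¹ := by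
    intro m hm
    have hmN := normalizer_le_normalizer_of_cyclic (h.hyp.1 P) hzu hm
    exact mem_zpowers_iff.mp ((mem_normalizer_iff.mp hmN u).mp (mem_zpowers u))
  -- zpow equality iff cast equality
  have hcast : ∀ k k' : ℤ, u ^ k = u ^ k' ↔ ((k : ℤ) : ZMod p) = ((k' : ℤ) : ZMod p) := by
    intro k k'
    rw [zpow_eq_zpow_iff_modEq, hup, ZMod.intCast_eq_intCast_iff]
  let κ : G → ZMod p := fun m =>
    if hm : m ∈ normalizer ((P : Subgroup G) : Set G) then ((Classical.choose (hex m hm) : ℤ) : ZMod p) else 0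
  have hκ : ∀ m (hm : m ∈ normalizer ((P : Subgroup G) : Set G)) (k : ℤ),
      u ^ k = m * u * m⁻¹ → κ m = (k : ZMod p) := by
    intro m hm k hk
    simp only [κ, dif_pos hm]
    rw [← hcast, hk]
    exact Classical.choose_spec (hex m hm)
  refine ⟨κ, ?_, ?_, ?_⟩
  · intro m hm m' hm'
    obtain ⟨k, hk⟩ := hex m hm
    obtain ⟨k', hk'⟩ := hex m' hm'
    have hmm' : m * m' ∈ normalizer ((P : Subgroup G) : Set G) := mul_mem hm hm'
    rw [hκ m hm k hk, hκ m' hm' k' hk', hκ (m * m') hmm' (k * k') ?_]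
    · push_cast; rfl
    · rw [zpow_mul, hk]
      have : (m * u * m⁻¹) ^ k' = m * u ^ k' * m⁻¹ := by
        rw [conj_zpow]
      rw [this, hk']; group
  · intro m hm
    obtain ⟨k, hk⟩ := hex m hm
    rw [hκ m hm k hk]
    intro h0
    have : u ^ k = u ^ (0 : ℤ) := by
      rw [hcast]; simpa using h0
    rw [zpow_zero, hk] at this
    apply hu1
    have h2 : u = m⁻¹ * (m * u * m⁻¹) * m := by group
    rw [h2, this]; group
  · intro m hm
    obtain ⟨k, hk⟩ := hex m hm
    rw [hκ m hm k hk]
    constructor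
    · intro h1
      have : u ^ k = u ^ (1 : ℤ) := by
        rw [hcast]; simpa using h1
      rw [zpow_one, hk] at this
      apply h.centralizer_le P huP hu1
      rw [mem_centralizer_singleton_iff]
      calc m * u = (m * u * m⁻¹) * m := by group
        _ = u * m := by rw [this]
    · intro hmC
      have hc : m * u = u * m := ((mem_centralizer_iff.mp hmC) u huP).symm
      have : u ^ k = u ^ (1 : ℤ) := by
        rw [zpow_one, hk]
        calc m * u * m⁻¹ = u * m * m⁻¹ := by rw [hc]
          _ = u := by group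
      have := (hcast k 1).mp this
      simpa using this

end Cfsg.Agent.Lib.Helper70.CycSyl
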