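import Mathlib
import Cfsg.Agent.Lib.Helper17.Aut3Defs

/-!
# K-S3117-A1: an anisotropic quadratic map over `F_2` has no isometry of order 7

The proof does not use the bound on `Nat.card W`: with `v = g w₀ + w₀ ≠ 0` one has
`(1 + g + ⋯ + g^6) v = 0`, and `1 + x + ⋯ + x^6 = (x^3+x+1)(x^3+x^2+1)` over `F_2`, so either `v` or
`a = (g^3+g+1) v ≠ 0` spans together with its first two images a `g`-invariant subgroup of order 8
whose seven non-zero elements form one orbit; `q` is constant on it, which contradicts biadditivity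
of the polarisation.
-/

set_option autoImplicit false

namespace Cfsg.Agent.Lib.Helper70.Aut3

open Cfsg.Agent.Lib.Helper17.Aut3

section
variable {W U : Type*} [AddCommGroup W] [AddCommGroup U] {q : W → U} {β : W → W → U}

theorem eq_of_add_eq_zero_char2 (h : AnisoQuad q β) {A B : W} (hAB : A + B = 0) : A = B := by
  have h1 : A = -B := eq_neg_of_add_eq_zero_left hAB
  have h2 : B = -B := eq_neg_of_add_eq_zero_left (h.hW B)
  rw [h1, ← h2]

/-- A quadratic map that is constant `= u` on the seven non-zero elements of a "Fano plane"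
`⟨x, y, z⟩` has `u = 0`. -/
theorem fano_const_zero (h : AnisoQuad q β) (u : U) (x y z : W)
    (hx : q x = u) (hy : q y = u) (hz : q z = u) (hxy : q (x + y) = u) (hxz : q (x + z) = u)
    (hyz : q (y + z) = u) (hxyz : q (x + (y + z)) = u) : u = 0 := by
  have h1 : β x y = u := by rw [h.β_eq, hxy, hx, hy, h.hU u, zero_add]
  have h2 : β x z = u := by rw [h.β_eq, hxz, hx, hz, h.hU u, zero_add]
  have h3 : β x (y + z) = u := by rw [h.β_eq, hxyz, hx, hyz, h.hU u, zero_add]
  rw [h.hβr, h1, h2, h.hU u] at h3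
  exact h3.symm

/-- `g^3 t = g t + t` for an isometry `g` forces `t = 0`. -/
theorem eq_zero_of_cube_eq_a (h : AnisoQuad q β) (g : W ≃+ W) (hg : ∀ w, q (g w) = q w) (t : W)
    (ht : g (g (g t)) = g t + t) : t = 0 := by
  apply h.aniso
  have hxy : q (t + g t) = q t := by
    rw [add_comm, ← ht, hg, hg, hg]
  have hyz : q (g t + g (g t)) = q t := by
    rw [← map_add g t (g t), hg, hxy]
  have hxz : q (t + g (g t)) = q t := by
    have e : g (t + g (g t)) = t := by
      rw [map_add, ht, ← add_assoc, h.hW (g t), zero_add]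
    rw [← hg (t + g (g t)), e]
  have hxyz : q (t + (g t + g (g t))) = q t := by
    have e : g (t + (g t + g (g t))) = t + g (g t) := by
      rw [map_add, map_add, ht]
      apply eq_of_add_eq_zero_char2 h
      have : g t + (g (g t) + (g t + t)) + (t + g (g t))
          = (g t + g t) + (g (g t) + g (g t)) + (t + t) := by abel
      rw [this]
      simp only [h.hW, add_zero]
    rw [← hg (t + (g t + g (g t))), e, hxz]
  exact fano_const_zero h (q t) t (g t) (g (g t)) rfl (hg t) (by rw [hg, hg]) hxy hxz hyz hxyz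

/-- `g^3 t = g^2 t + t` for an isometry `g` forces `t = 0`. -/
theorem eq_zero_of_cube_eq_b (h : AnisoQuad q β) (g : W ≃+ W) (hg : ∀ w, q (g w) = q w) (t : W)
    (ht : g (g (g t)) = g (g t) + t) : t = 0 := by
  apply h.aniso
  have hxz : q (t + g (g t)) = q t := by
    rw [add_comm, ← ht, hg, hg, hg]
  have hxy : q (t + g t) = q t := by
    have e : g (g (t + g t)) = t := by
      rw [map_add, map_add, ht, ← add_assoc, h.hW (g (g t)), zero_add]
    rw [← hg (t + g t), ← hg (g (t + g t)), e]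
  have hyz : q (g t + g (g t)) = q t := by
    rw [← map_add g t (g t), hg, hxy]
  have hxyz : q (t + (g t + g (g t))) = q t := by
    have e : g (t + (g t + g (g t))) = t + g t := by
      rw [map_add, map_add, ht]
      apply eq_of_add_eq_zero_char2 h
      have : g t + (g (g t) + (g (g t) + t)) + (t + g t)
          = (g t + g t) + (g (g t) + g (g t)) + (t + t) := by abel
      rw [this]
      simp only [h.hW, add_zero]
    rw [← hg (t + (g t + g (g t))), e, hxy]
  exact fano_const_zero h (q t) t (g t) (g (g t)) rfl (hg t) (by rw [hg, hg]) hxy hxz hyz hxyz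

end

/-- K-S3117-A1.  No isometry of order 7. -/
theorem no_order_seven {W U : Type*} [AddCommGroup W] [AddCommGroup U] [Finite W]
    {q : W → U} {β : W → W → U} (h : AnisoQuad q β) (hc : Nat.card W ≤ 16)
    (g : W ≃+ W) (hg : ∀ w, q (g w) = q w) (h7 : ∀ w, (⇑g)^[7] w = w) : ∀ w, g w = w := by
  intro a0
  by_contra hne
  have h7' : g (g (g (g (g (g (g a0)))))) = a0 := h7 a0
  obtain ⟨a1, e0⟩ : ∃ a1, g a0 = a1 := ⟨_, rfl⟩
  obtain ⟨a2, e1⟩ : ∃ a2, g a1 = a2 := ⟨_, rfl⟩
  obtain ⟨a3, e2⟩ : ∃ a3, g a2 = a3 := ⟨_, rfl⟩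
  obtain ⟨a4, e3⟩ : ∃ a4, g a3 = a4 := ⟨_, rfl⟩
  obtain ⟨a5, e4⟩ : ∃ a5, g a4 = a5 := ⟨_, rfl⟩
  obtain ⟨a6, e5⟩ : ∃ a6, g a5 = a6 := ⟨_, rfl⟩
  have e6 : g a6 = a0 := by
    subst e0 e1 e2 e3 e4 e5
    exact h7'
  have hv0 : a1 + a0 ≠ 0 := fun h0 => hne (e0.trans (eq_of_add_eq_zero_char2 h h0))
  by_cases hc1 : g (g (g (a1 + a0))) = g (a1 + a0) + (a1 + a0)
  · exact hv0 (eq_zero_of_cube_eq_a h g hg _ hc1)
  · have ha0 : g (g (g (a1 + a0))) + (g (a1 + a0) + (a1 + a0)) ≠ 0 :=
      fun h0 => hc1 (eq_of_add_eq_zero_char2 h h0)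
    apply ha0
    apply eq_zero_of_cube_eq_b h g hg
    simp only [map_add, e0, e1, e2, e3, e4, e5, e6]
    apply eq_of_add_eq_zero_char2 h
    have : a0 + a6 + (a5 + a4 + (a4 + a3)) + (a6 + a5 + (a4 + a3 + (a3 + a2)) + (a4 + a3 + (a2 + a1 + (a1 + a0))))
        = (a0 + a0) + (a1 + a1) + (a2 + a2) + ((a3 + a3) + (a3 + a3)) + ((a4 + a4) + (a4 + a4))
          + (a5 + a5) + (a6 + a6) := by abel
    rw [this]
    simp only [h.hW, add_zero]

end Cfsg.Agent.Lib.Helper70.Aut3
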