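import Mathlib
import Cfsg.Prelude.Def_Solvable
import Cfsg.Agent.Lib.Helper67.FStar
import Cfsg.Agent.Lib.Helper68.Conj
import Cfsg.Agent.Lib.Helper76.Fitting

set_option autoImplicit false

namespace Cfsg.Agent.Lib.Helper70

open Subgroup Cfsg.Agent.Lib.Helper68 Cfsg.Agent.Lib.Helper67 Cfsg.Agent.Lib.Helper76

variable {G : Type*} [Group G]

/-! ### iterated commutators -/

/-- the iterated commutator `[x, g, …, g]` with `n` entries `g` -/
def engelIter (g : G) (n : ℕ) (x : G) : G :=
  (List.replicate n g).foldl (fun a b => a * b * a⁻¹ * b⁻¹) x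

theorem engelIter_zero (g x : G) : engelIter g 0 x = x := rfl

theorem engelIter_succ (g : G) (n : ℕ) (x : G) :
    engelIter g (n + 1) x = engelIter g n (x * g * x⁻¹ * g⁻¹) := by
  simp [engelIter, List.replicate_succ]

theorem engelIter_succ' (g : G) (n : ℕ) (x : G) :
    engelIter g (n + 1) x = engelIter g n x * g * (engelIter g n x)⁻¹ * g⁻¹ := by
  induction n generalizing x with
  | zero => simp [engelIter_succ, engelIter_zero]
  | succ n ih => rw [engelIter_succ, ih, ← engelIter_succ]

theorem engelIter_one (g : G) (n : ℕ) : engelIter g n 1 = 1 := by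
  induction n with
  | zero => rfl
  | succ n ih => rw [engelIter_succ]; simpa using ih

theorem engelIter_add (g : G) (m n : ℕ) (x : G) :
    engelIter g (m + n) x = engelIter g n (engelIter g m x) := by
  induction m generalizing x with
  | zero => simp [engelIter_zero]
  | succ m ih =>
    rw [Nat.succ_add, engelIter_succ, ih, engelIter_succ]

theorem engelIter_eq_one_of_le (g : G) {m n : ℕ} (h : m ≤ n) (x : G) (hx : engelIter g m x = 1) :
    engelIter g n x = 1 := by
  obtain ⟨k, rfl⟩ := Nat.exists_eq_add_of_le h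
  rw [engelIter_add, hx, engelIter_one]

theorem map_engelIter {H : Type*} [Group H] (f : G →* H) (g : G) (n : ℕ) (x : G) :
    f (engelIter g n x) = engelIter (f g) n (f x) := by
  induction n generalizing x with
  | zero => rfl
  | succ n ih => rw [engelIter_succ, ih, engelIter_succ]; simp

/-- left Engel element -/
def IsLeftEngel (g : G) : Prop := ∀ x : G, ∃ n : ℕ, engelIter g n x = 1

theorem IsLeftEngel.conj {g : G} (h : IsLeftEngel g) (y : G) : IsLeftEngel (y * g * y⁻¹) := by
  intro x
  obtain ⟨n, hn⟩ := h (y⁻¹ * x * y)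
  refine ⟨n, ?_⟩
  have := map_engelIter (MulAut.conj y).toMonoidHom g n (y⁻¹ * x * y)
  simp only [MulEquiv.coe_toMonoidHom, MulAut.conj_apply] at this
  rw [hn] at this
  have e : y * (y⁻¹ * x * y) * y⁻¹ = x := by group
  rw [e] at this
  rw [← this]; simp

theorem IsLeftEngel.subgroup {g : G} (h : IsLeftEngel g) (K : Subgroup G) (hg : g ∈ K) :
    IsLeftEngel (⟨g, hg⟩ : K) := by
  intro x
  obtain ⟨n, hn⟩ := h x
  refine ⟨n, ?_⟩
  apply Subtype.ext
  have := map_engelIter K.subtype ⟨g, hg⟩ n x
  simp only [Subgroup.coe_subtype] at this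
  rw [this]; exact hn


/-! ### the Fitting subgroup of a subgroup, inside the ambient group -/

/-- Fitting subgroup of `H`, as a subgroup of `G` -/
noncomputable def fitOf (H : Subgroup G) : Subgroup G := (Cfsg.fittingSubgroup ↥H).map H.subtype

theorem fitOf_le (H : Subgroup G) : fitOf H ≤ H := by
  rintro _ ⟨x, _, rfl⟩
  exact x.2

theorem mem_fitOf {H : Subgroup G} {x : G} (hx : x ∈ H) :
    x ∈ fitOf H ↔ (⟨x, hx⟩ : H) ∈ Cfsg.fittingSubgroup ↥H := by
  constructor
  · rintro ⟨y, hy, hyx⟩
    have : y = ⟨x, hx⟩ := Subtype.ext hyx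
    rwa [← this]
  · intro h
    exact ⟨⟨x, hx⟩, h, rfl⟩

theorem fitOf_isNilpotent [Finite G] (H : Subgroup G) : Group.IsNilpotent (fitOf H) := by
  have hnil0 : Group.IsNilpotent (Cfsg.fittingSubgroup ↥H) := fittingSubgroup_isNilpotent
  exact Group.nilpotent_of_mulEquiv
    ((Cfsg.fittingSubgroup ↥H).equivMapOfInjective H.subtype H.subtype_injective)

theorem fitOf_le_fitting_of_normal [Finite G] (N : Subgroup G) [N.Normal] :
    fitOf N ≤ Cfsg.fittingSubgroup G :=
  fitting_map_subtype_le N

theorem fitOf_cj (x : G) (H : Subgroup G) : fitOf (cj x H) = cj x (fitOf H) := by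
  let e : H ≃* cj x H := (MulAut.conj x).subgroupMap H
  have h1 := fitting_map_equiv e
  unfold fitOf cj
  rw [← h1, Subgroup.map_map, Subgroup.map_map]
  congr 1

theorem fitOf_top [Finite G] : fitOf (⊤ : Subgroup G) = Cfsg.fittingSubgroup G := by
  have h1 := fitting_map_equiv (Subgroup.topEquiv : (⊤ : Subgroup G) ≃* G)
  rw [← h1]
  unfold fitOf
  congr 1


/-! ### a conjugate normalizing the original, inside a nilpotent subgroup -/

theorem mem_normalizer_subgroupOf_iff {T D : Subgroup G} (hTD : T ≤ D) (e : D) :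
    e ∈ normalizer ((T.subgroupOf D : Subgroup D) : Set D) ↔ (e : G) ∈ normalizer (T : Set G) := by
  rw [← subgroupOf_normalizer_eq hTD, Subgroup.mem_subgroupOf]

theorem exists_cj_le_normalizer {T D : Subgroup G} (hTD : T ≤ D) [hD : Group.IsNilpotent D]
    (hn : ∃ d ∈ D, cj d T ≠ T) :
    ∃ x ∈ D, cj x T ≠ T ∧ cj x T ≤ normalizer (T : Set G) := by
  obtain ⟨d, hd, hdT⟩ := hn
  set T' : Subgroup D := T.subgroupOf D with hT'
  set N₁ : Subgroup D := normalizer (T' : Set D) with hN₁
  have hN₁top : N₁ < ⊤ := by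
    rw [lt_top_iff_ne_top]
    intro h
    apply hdT
    rw [cj_eq_self_iff, ← mem_normalizer_subgroupOf_iff hTD ⟨d, hd⟩, ← hT', ← hN₁, h]
    trivial
  have hnc := Group.normalizerCondition_of_isNilpotent (G := D) N₁ hN₁top
  obtain ⟨y, hy, hyN⟩ := SetLike.exists_of_lt hnc
  refine ⟨y, y.2, ?_, ?_⟩
  · intro h
    apply hyN
    rw [hN₁, hT', mem_normalizer_subgroupOf_iff hTD]
    exact cj_eq_self_iff.mp h
  · intro z hz
    rw [mem_cj] at hz
    obtain ⟨t, ht, rfl⟩ := hz
    have ht' : (⟨t, hTD ht⟩ : D) ∈ N₁ := by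
      rw [hN₁]
      apply le_normalizer
      rw [hT', Subgroup.mem_subgroupOf]; exact ht
    have := (Subgroup.mem_normalizer_iff.mp hy ⟨t, hTD ht⟩).mp ht'
    rw [hN₁, hT', mem_normalizer_subgroupOf_iff hTD] at this
    exact this


/-! ### a zipper lemma for subgroups lying in the Fitting subgroup of every proper overgroup -/

theorem cj_top (x : G) : cj x (⊤ : Subgroup G) = ⊤ := by
  rw [eq_top_iff]
  intro y _
  rw [mem_cj']
  trivial

theorem cj_ne_top {x : G} {H : Subgroup G} (h : H ≠ ⊤) : cj x H ≠ ⊤ := by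
  intro h1
  apply h
  have := congrArg (cj x⁻¹) h1
  rwa [cj_inv_cj, cj_top] at this

theorem zipper_fit [Finite G] : ∀ (d : ℕ) (T : Subgroup G), Nat.card G - Nat.card T = d →
    (∀ H : Subgroup G, H ≠ ⊤ → T ≤ H → T ≤ fitOf H) → ¬ T ≤ Cfsg.fittingSubgroup G →
    ∀ K₁ K₂ : Subgroup G, IsCoatom K₁ → IsCoatom K₂ → T ≤ K₁ → T ≤ K₂ → K₁ = K₂ := by
  intro d
  induction d using Nat.strong_induction_on with
  | _ d ih =>
  intro T hd hz hT K₁ K₂ hK₁ hK₂ hTK₁ hTK₂
  have hTtop : T ≠ ⊤ := by
    rintro rfl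
    exact hK₁.1 (top_le_iff.mp hTK₁)
  have hTnil : Group.IsNilpotent T := by
    have h1 : T = fitOf T := le_antisymm (hz T hTtop le_rfl) (fitOf_le T)
    have := fitOf_isNilpotent T
    rw [← h1] at this
    exact this
  have hNtop : normalizer (T : Set G) ≠ ⊤ := by
    intro h
    apply hT
    exact le_fittingSubgroup (normalizer_eq_top_iff.mp h) hTnil
  obtain ⟨M, hM, hNM⟩ := (eq_top_or_exists_le_coatom (normalizer (T : Set G))).resolve_left hNtop
  have key : ∀ K : Subgroup G, IsCoatom K → T ≤ K → K = M := by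
    intro K hK hTK
    have hTN : T ≤ fitOf K := hz K hK.1 hTK
    have hNK : fitOf K ≤ K := fitOf_le K
    have hNnil : Group.IsNilpotent (fitOf K) := fitOf_isNilpotent K
    by_cases hKn : K ≤ normalizer (T : Set G)
    · have hKM : K ≤ M := hKn.trans hNM
      by_contra hne
      exact hM.1 (hK.2 M (lt_of_le_of_ne hKM hne))
    · obtain ⟨k, hkK, hkn⟩ := SetLike.not_le_iff_exists.mp hKn
      have hkT : cj k T ≠ T := fun h => hkn (cj_eq_self_iff.mp h)
      -- find x
      have hx : ∃ x ∈ K, cj x T ≠ T ∧ cj x T ≤ normalizer (T : Set G) := by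
        by_cases hNn : fitOf K ≤ normalizer (T : Set G)
        · refine ⟨k, hkK, hkT, ?_⟩
          have h1 : cj k (fitOf K) = fitOf K := by
            rw [← fitOf_cj]
            congr 1
            exact cj_eq_self_iff.mpr (le_normalizer hkK)
          calc cj k T ≤ cj k (fitOf K) := cj_mono k hTN
            _ = fitOf K := h1
            _ ≤ normalizer (T : Set G) := hNn
        · obtain ⟨e, heN, hen⟩ := SetLike.not_le_iff_exists.mp hNn
          obtain ⟨x, hxN, h1, h2⟩ := exists_cj_le_normalizer hTN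
            ⟨e, heN, fun h => hen (cj_eq_self_iff.mp h)⟩
          exact ⟨x, hNK hxN, h1, h2⟩
      obtain ⟨x, hxK, hxT, hxn⟩ := hx
      obtain ⟨U, hU⟩ : ∃ U : Subgroup G, U = T ⊔ cj x T := ⟨_, rfl⟩
      have hUM : U ≤ M := by rw [hU]; exact (sup_le le_normalizer hxn).trans hNM
      have hUK : U ≤ K := by rw [hU]; exact sup_le hTK (cj_le_of_mem hxK hTK)
      have hTU : T ≤ U := by rw [hU]; exact le_sup_left
      have hxU : cj x T ≤ U := by rw [hU]; exact le_sup_right
      have hcard : Nat.card T < Nat.card U := by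
        apply lt_of_le_of_ne (Subgroup.card_le_of_le hTU)
        intro hc
        have hUT : T = U := Subgroup.eq_of_le_of_card_ge hTU hc.ge
        apply hxT
        have h1 : cj x T ≤ T := hxU.trans hUT.ge
        exact Subgroup.eq_of_le_of_card_ge h1 (card_cj x T).ge
      have hzU : ∀ H : Subgroup G, H ≠ ⊤ → U ≤ H → U ≤ fitOf H := by
        intro H hH hUH
        rw [hU]
        apply sup_le
        · exact hz H hH (hTU.trans hUH)
        · have h1 : cj x T ≤ H := hxU.trans hUH
          have h2 : T ≤ cj x⁻¹ H := by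
            have := cj_mono x⁻¹ h1
            rwa [cj_inv_cj] at this
          have h3 := hz (cj x⁻¹ H) (cj_ne_top hH) h2
          rw [fitOf_cj] at h3
          have := cj_mono x h3
          rwa [cj_cj_inv] at this
      have hUF : ¬ U ≤ Cfsg.fittingSubgroup G := fun h => hT (hTU.trans h)
      have hlt : Nat.card G - Nat.card U < d := by
        have h1 : Nat.card U ≤ Nat.card G := Subgroup.card_le_card_group U
        omega
      exact ih _ hlt U rfl hzU hUF K M hK hM hUK hUM
  rw [key K₁ hK₁ hTK₁, key K₂ hK₂ hTK₂]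


/-! ### Baer's theorem -/

theorem isCoatom_cj {M : Subgroup G} (hM : IsCoatom M) (z : G) : IsCoatom (cj z M) := by
  refine ⟨cj_ne_top hM.1, fun B hB => ?_⟩
  have h1 : M ≤ cj z⁻¹ B := by
    have := cj_mono z⁻¹ hB.le
    rwa [cj_inv_cj] at this
  have h2 : M ≠ cj z⁻¹ B := by
    intro h
    have := congrArg (cj z) h
    rw [cj_cj_inv] at this
    exact hB.ne this
  have h3 := hM.2 _ (lt_of_le_of_ne h1 h2)
  have := congrArg (cj z) h3
  rwa [cj_cj_inv, cj_top] at this

universe u

theorem baer_engel : ∀ (n : ℕ) (G : Type u) [Group G] [Finite G], Nat.card G = n →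
    ∀ g : G, IsLeftEngel g → g ∈ Cfsg.fittingSubgroup G := by
  intro n
  induction n using Nat.strong_induction_on with
  | _ n ih =>
  intro G _ _ hn g hg
  by_contra hgF
  have hT : ¬ zpowers g ≤ Cfsg.fittingSubgroup G := fun h => hgF (h (mem_zpowers g))
  have hz : ∀ H : Subgroup G, H ≠ ⊤ → zpowers g ≤ H → zpowers g ≤ fitOf H := by
    intro H hH hgH
    have hgH' : g ∈ H := hgH (mem_zpowers g)
    have hcard : Nat.card H < n := by
      rw [← hn]
      by_contra hcon
      push Not at hcon
      exact hH (Subgroup.eq_top_of_le_card H hcon)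
    have h1 := ih _ hcard H rfl ⟨g, hgH'⟩ (hg.subgroup H hgH')
    rw [zpowers_le]
    exact (mem_fitOf hgH').mpr h1
  have hTnil : Group.IsNilpotent (zpowers g) := by
    have : IsMulCommutative (zpowers g) := inferInstance
    letI : CommGroup (zpowers g) := { (inferInstance : Group (zpowers g)) with
      mul_comm := fun a b => this.is_comm.comm a b }
    exact CommGroup.isNilpotent
  have hTtop : zpowers g ≠ ⊤ := by
    intro h
    apply hT
    rw [h]
    exact le_fittingSubgroup (h ▸ (inferInstance : (⊤ : Subgroup G).Normal)) (h ▸ hTnil)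
  obtain ⟨M, hM, hTM⟩ := (eq_top_or_exists_le_coatom (zpowers g)).resolve_left hTtop
  have hgM : g ∈ M := hTM (mem_zpowers g)
  have uniq := zipper_fit (G := G) _ (zpowers g) rfl hz hT
  have hMn : ¬ M.Normal := by
    intro hn'
    have h1 := hz M hM.1 hTM
    exact hT (h1.trans (fitOf_le_fitting_of_normal M))
  obtain ⟨x, hxM⟩ : ∃ x : G, x ∉ M := by
    by_contra hcon
    push Not at hcon
    exact hM.1 (eq_top_iff.mpr fun y _ => hcon y)
  obtain ⟨n₀, hn₀⟩ := hg x
  have hstep : ∃ i, engelIter g i x ∉ M ∧ engelIter g (i + 1) x ∈ M := by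
    by_contra hcon
    push Not at hcon
    have : ∀ i, engelIter g i x ∉ M := by
      intro i
      induction i with
      | zero => exact hxM
      | succ i ihi => exact hcon i ihi
    exact this n₀ (hn₀ ▸ M.one_mem)
  obtain ⟨i, hi1, hi2⟩ := hstep
  set y := engelIter g i x with hy
  rw [engelIter_succ', ← hy] at hi2
  have hyg : y * g * y⁻¹ ∈ M := by
    have := M.mul_mem hi2 hgM
    simpa using this
  have hgc : g ∈ cj y⁻¹ M := by
    rw [mem_cj']
    simpa using hyg
  have hc := isCoatom_cj hM y⁻¹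
  have heq := uniq (cj y⁻¹ M) M hc hM (by rw [zpowers_le]; exact hgc) hTM
  have hyn : y ∈ normalizer (M : Set G) := by
    have := cj_eq_self_iff.mp heq
    simpa using (normalizer (M : Set G)).inv_mem this
  have hlt : M < normalizer (M : Set G) :=
    lt_of_le_of_ne le_normalizer (fun h => hi1 (h ▸ hyn))
  exact hMn (normalizer_eq_top_iff.mp (hM.2 _ hlt))


open scoped commutatorElement in
theorem engelIter_mem_lowerCentralSeries {F : Type*} [Group F] (g c : F) (k : ℕ) :
    engelIter g k c ∈ (⊤ : Subgroup F).lowerCentralSeries k := by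
  induction k with
  | zero => simp [engelIter_zero]
  | succ k ih =>
    rw [engelIter_succ', Subgroup.lowerCentralSeries_succ]
    exact Subgroup.commutator_mem_commutator ih (Subgroup.mem_top g)

theorem isLeftEngel_of_mem_fitting [Finite G] {g : G} (hg : g ∈ Cfsg.fittingSubgroup G) :
    IsLeftEngel g := by
  intro x
  have hnorm : (Cfsg.fittingSubgroup G).Normal := fittingSubgroup_normal
  have hnil : Group.IsNilpotent (Cfsg.fittingSubgroup G) := fittingSubgroup_isNilpotent
  obtain ⟨n, hn⟩ := Subgroup.nilpotent_iff_lowerCentralSeries.mp hnil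
  have hc : x * g * x⁻¹ * g⁻¹ ∈ Cfsg.fittingSubgroup G :=
    (Cfsg.fittingSubgroup G).mul_mem (hnorm.conj_mem g hg x) ((Cfsg.fittingSubgroup G).inv_mem hg)
  have h1 := engelIter_mem_lowerCentralSeries (⟨g, hg⟩ : Cfsg.fittingSubgroup G) ⟨_, hc⟩ n
  rw [hn, Subgroup.mem_bot] at h1
  refine ⟨n + 1, ?_⟩
  rw [engelIter_succ]
  have := map_engelIter (Cfsg.fittingSubgroup G).subtype ⟨g, hg⟩ n ⟨_, hc⟩
  rw [h1] at this
  simpa using this.symm

/-- **Baer's theorem**: in a finite group the left Engel elements are the elements of the Fitting subgroup. -/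
theorem mem_fitting_iff_isLeftEngel {G : Type u} [Group G] [Finite G] (g : G) :
    g ∈ Cfsg.fittingSubgroup G ↔ IsLeftEngel g :=
  ⟨isLeftEngel_of_mem_fitting, baer_engel _ G rfl g⟩

end Cfsg.Agent.Lib.Helper70
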