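import Mathlib
import Cfsg.Agent.Lib.Helper70.Baer

set_option autoImplicit false

namespace Cfsg.Agent.Lib.Helper70

open Subgroup Cfsg.Agent.Lib.Helper76

/-- `[a^k, b] = [a,b]^k` when `[a,b]` is central -/
theorem pow_comm_of_central {K : Type*} [Group K] (a b : K)
    (hz : a * b * a⁻¹ * b⁻¹ ∈ center K) (k : ℕ) :
    a ^ k * b * (a ^ k)⁻¹ * b⁻¹ = (a * b * a⁻¹ * b⁻¹) ^ k := by
  induction k with
  | zero => simp
  | succ k ih =>
    have h1 : a ^ (k + 1) * b * (a ^ (k + 1))⁻¹ * b⁻¹
        = a * ((a ^ k * b * (a ^ k)⁻¹ * b⁻¹) * b) * a⁻¹ * b⁻¹ := by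
      rw [pow_succ']; group
    rw [h1, ih]
    have hc : ∀ y : K, (a * b * a⁻¹ * b⁻¹) ^ k * y = y * (a * b * a⁻¹ * b⁻¹) ^ k := by
      intro y
      exact ((Subgroup.mem_center_iff.mp ((center K).pow_mem hz k)) y).symm
    calc a * ((a * b * a⁻¹ * b⁻¹) ^ k * b) * a⁻¹ * b⁻¹
        = a * (a * b * a⁻¹ * b⁻¹) ^ k * (b * a⁻¹ * b⁻¹) := by group
      _ = (a * b * a⁻¹ * b⁻¹) ^ k * a * (b * a⁻¹ * b⁻¹) := by rw [← hc a]
      _ = (a * b * a⁻¹ * b⁻¹) ^ k * (a * b * a⁻¹ * b⁻¹) := by group
      _ = (a * b * a⁻¹ * b⁻¹) ^ (k + 1) := (pow_succ _ _).symm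

/-- in a nilpotent group elements of coprime order commute -/
theorem commute_of_coprime_of_isNilpotent (K : Type*) [Group K] [Group.IsNilpotent K] :
    ∀ a b : K, (orderOf a).Coprime (orderOf b) → Commute a b := by
  refine Group.nilpotent_center_quotient_ind
    (P := fun K _ _ => ∀ a b : K, (orderOf a).Coprime (orderOf b) → Commute a b) K ?_ ?_
  · intro K _ _ a b _
    exact Subsingleton.elim _ _
  · intro K _ _ ih a b hab
    have h1 : Commute (QuotientGroup.mk' (center K) a) (QuotientGroup.mk' (center K) b) := by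
      apply ih
      exact Nat.Coprime.of_dvd (orderOf_map_dvd _ a) (orderOf_map_dvd _ b) hab
    have hz : a * b * a⁻¹ * b⁻¹ ∈ center K := by
      rw [← QuotientGroup.ker_mk' (center K), MonoidHom.mem_ker]
      simp only [map_mul, map_inv]
      rw [h1.eq]; group
    have hza : (a * b * a⁻¹ * b⁻¹) ^ orderOf a = 1 := by
      rw [← pow_comm_of_central a b hz, pow_orderOf_eq_one]; group
    have hz' : b * a * b⁻¹ * a⁻¹ ∈ center K := by
      have := (center K).inv_mem hz
      have e : (a * b * a⁻¹ * b⁻¹)⁻¹ = b * a * b⁻¹ * a⁻¹ := by group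
      rwa [e] at this
    have hzb : (a * b * a⁻¹ * b⁻¹) ^ orderOf b = 1 := by
      have : (b * a * b⁻¹ * a⁻¹) ^ orderOf b = 1 := by
        rw [← pow_comm_of_central b a hz', pow_orderOf_eq_one]; group
      have e : (a * b * a⁻¹ * b⁻¹) = (b * a * b⁻¹ * a⁻¹)⁻¹ := by group
      rw [e, inv_pow, this, inv_one]
    have h2 : orderOf (a * b * a⁻¹ * b⁻¹) ∣ 1 := by
      have := Nat.dvd_gcd (orderOf_dvd_of_pow_eq_one hza) (orderOf_dvd_of_pow_eq_one hzb)
      rwa [hab.gcd_eq_one] at this
    have h3 : a * b * a⁻¹ * b⁻¹ = 1 := by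
      rw [← orderOf_eq_one_iff]; exact Nat.dvd_one.mp h2
    show a * b = b * a
    calc a * b = (a * b * a⁻¹ * b⁻¹) * (b * a) := by group
      _ = b * a := by rw [h3, one_mul]

/-- a subgroup containing a Sylow `p`-subgroup and all elements of order prime to `p` is everything -/
theorem eq_top_of_sylow_le_of_coprime_mem {G : Type*} [Group G] [Finite G] {p : ℕ} [Fact p.Prime]
    (K : Subgroup G) (P : Sylow p G) (hP : (P : Subgroup G) ≤ K)
    (hK : ∀ y : G, (orderOf y).Coprime p → y ∈ K) : K = ⊤ := by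
  rw [← Subgroup.index_eq_one]
  by_contra hne
  obtain ⟨q, hq, hqd⟩ := Nat.exists_prime_and_dvd hne
  have : Fact q.Prime := ⟨hq⟩
  by_cases hqp : q = p
  · subst hqp
    exact P.not_dvd_index (hqd.trans (Subgroup.index_dvd_of_le hP))
  · obtain ⟨Q⟩ : Nonempty (Sylow q G) := inferInstance
    have hQK : (Q : Subgroup G) ≤ K := by
      intro y hy
      apply hK
      obtain ⟨k, hk⟩ := (IsPGroup.iff_orderOf.mp Q.2) ⟨y, hy⟩
      rw [Subgroup.orderOf_mk] at hk
      rw [hk]
      apply Nat.Coprime.pow_left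
      exact (Nat.coprime_primes hq (Fact.out : p.Prime)).mpr hqp
    exact Q.not_dvd_index (hqd.trans (Subgroup.index_dvd_of_le hQK))

/-- an element of prime order `p` in the Fitting subgroup lies in a normal `p`-subgroup -/
theorem exists_normal_pgroup_of_mem_fitting {G : Type*} [Group G] [Finite G] {p : ℕ} [Fact p.Prime]
    {g : G} (hg : g ∈ Cfsg.fittingSubgroup G) (hp : orderOf g = p) :
    ∃ W : Subgroup G, W.Normal ∧ IsPGroup p W ∧ g ∈ W := by
  have hFn : (Cfsg.fittingSubgroup G).Normal := fittingSubgroup_normal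
  have hnil : Group.IsNilpotent (Cfsg.fittingSubgroup G) := fittingSubgroup_isNilpotent
  obtain ⟨Q, hQ⟩ := IsPGroup.exists_le_sylow
    (P := Subgroup.zpowers (⟨g, hg⟩ : Cfsg.fittingSubgroup G)) (p := p) (by
      apply IsPGroup.of_card (n := 1)
      rw [Nat.card_zpowers, Subgroup.orderOf_mk, hp, pow_one])
  have htfae := (Group.isNilpotent_of_finite_tfae (G := Cfsg.fittingSubgroup G)).out 0 3
  have hall : ∀ (p : ℕ) (_hp : Fact p.Prime) (P : Sylow p (Cfsg.fittingSubgroup G)),
      (↑P : Subgroup (Cfsg.fittingSubgroup G)).Normal := htfae.mp hnil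
  have hQn : (Q : Subgroup (Cfsg.fittingSubgroup G)).Normal := hall p inferInstance Q
  have hQc : (Q : Subgroup (Cfsg.fittingSubgroup G)).Characteristic :=
    Q.characteristic_of_normal hQn
  refine ⟨(Q : Subgroup (Cfsg.fittingSubgroup G)).map (Cfsg.fittingSubgroup G).subtype,
    ConjAct.normal_of_characteristic_of_normal, Q.2.map _, ?_⟩
  exact ⟨⟨g, hg⟩, hQ (Subgroup.mem_zpowers _), rfl⟩

/-- conjugation action of a subgroup on a normal subgroup -/
@[instance_reducible]
def conjActNormal {H : Type*} [Group H] (Q R : Subgroup H) [hR : R.Normal] : MulAction Q R where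
  smul q r := ⟨q * r * (q : H)⁻¹, hR.conj_mem r r.2 q⟩
  one_smul r := Subtype.ext (by
    show ((1 : Q) : H) * r * ((1 : Q) : H)⁻¹ = r
    simp)
  mul_smul a b r := Subtype.ext (by
    show ((a * b : Q) : H) * r * ((a * b : Q) : H)⁻¹ = a * (b * r * (b : H)⁻¹) * (a : H)⁻¹
    simp [mul_assoc])

/-- a `p`-group acting by conjugation on a nontrivial normal `p`-subgroup centralizes a nontrivial element -/
theorem exists_ne_one_commute_of_pgroup {H : Type*} [Group H] [Finite H] {p : ℕ} [Fact p.Prime]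
    {Q R : Subgroup H} [hRn : R.Normal] (hQ : IsPGroup p Q) (hR : IsPGroup p R) (hR1 : R ≠ ⊥) :
    ∃ v ∈ R, v ≠ 1 ∧ ∀ q ∈ Q, q * v = v * q := by
  let _ := conjActNormal Q R
  have hpR : p ∣ Nat.card R := by
    have : Nontrivial R := (Subgroup.nontrivial_iff_ne_bot R).mpr hR1
    obtain ⟨n, hn0, hn⟩ := hR.nontrivial_iff_card.mp inferInstance
    exact hn.symm ▸ dvd_pow_self _ (ne_of_gt hn0)
  have h1 : (1 : R) ∈ MulAction.fixedPoints Q R := by
    intro q
    apply Subtype.ext
    show (q : H) * ((1 : R) : H) * (q : H)⁻¹ = ((1 : R) : H)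
    simp
  obtain ⟨b, hb, hb1⟩ := hQ.exists_fixed_point_of_prime_dvd_card_of_fixed_point R hpR h1
  refine ⟨b, b.2, ?_, ?_⟩
  · intro h
    apply hb1
    apply Subtype.ext
    simp [h]
  · intro q hq
    have := hb ⟨q, hq⟩
    have h2 : q * (b : H) * q⁻¹ = b := congrArg Subtype.val this
    calc q * (b : H) = (q * b * q⁻¹) * q := by group
      _ = b * q := by rw [h2]

universe u

/-- nilpotency passes to smaller subgroups (as types) -/
theorem isNilpotent_of_le {G : Type*} [Group G] {H K : Subgroup G} (h : H ≤ K)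
    [hK : Group.IsNilpotent K] : Group.IsNilpotent H :=
  Group.nilpotent_of_mulEquiv (Subgroup.subgroupOfEquivOfLe h)

/-- if `⟨x, g⟩` is nilpotent then `[x, g, …, g] = 1` -/
theorem exists_engelIter_eq_one_of_isNilpotent {G : Type*} [Group G] (x g : G)
    (h : Group.IsNilpotent ↥(Subgroup.closure ({x, g} : Set G))) :
    ∃ n, engelIter g n x = 1 := by
  obtain ⟨n, hn⟩ := Subgroup.nilpotent_iff_lowerCentralSeries.mp h
  have hx : x ∈ Subgroup.closure ({x, g} : Set G) := Subgroup.subset_closure (by simp)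
  have hg : g ∈ Subgroup.closure ({x, g} : Set G) := Subgroup.subset_closure (by simp)
  have h1 := engelIter_mem_lowerCentralSeries
    (⟨g, hg⟩ : Subgroup.closure ({x, g} : Set G)) ⟨x, hx⟩ n
  rw [hn, Subgroup.mem_bot] at h1
  refine ⟨n, ?_⟩
  have := map_engelIter (Subgroup.closure ({x, g} : Set G)).subtype ⟨g, hg⟩ n ⟨x, hx⟩
  rw [h1] at this
  simpa using this.symm

theorem eq_one_of_center_eq_bot {G : Type u} [Group G] [Finite G] (hZ : center G = ⊥) (g : G)
    (h : ∀ x : G, Group.IsNilpotent ↥(Subgroup.closure ({x, g} : Set G))) : g = 1 := by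
  by_contra hg1
  have ho1 : orderOf g ≠ 1 := fun h1 => hg1 (orderOf_eq_one_iff.mp h1)
  have ho0 : orderOf g ≠ 0 := (orderOf_pos g).ne'
  set p := (orderOf g).minFac with hp
  have hpp : p.Prime := Nat.minFac_prime ho1
  have : Fact p.Prime := ⟨hpp⟩
  set g₁ := g ^ (orderOf g / p) with hg₁
  have hog₁ : orderOf g₁ = p := orderOf_pow_orderOf_div ho0 (Nat.minFac_dvd _)
  have hg₁1 : g₁ ≠ 1 := by
    intro h1
    rw [h1, orderOf_one] at hog₁
    exact hpp.one_lt.ne hog₁
  -- the hypothesis passes to `g₁`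
  have h₁ : ∀ x : G, Group.IsNilpotent ↥(Subgroup.closure ({x, g₁} : Set G)) := by
    intro x
    have := h x
    apply isNilpotent_of_le (K := Subgroup.closure ({x, g} : Set G))
    rw [Subgroup.closure_le]
    rintro y (rfl | rfl)
    · exact Subgroup.subset_closure (by simp)
    · exact Subgroup.pow_mem _ (Subgroup.subset_closure (by simp)) _
  -- `g₁` lies in the Fitting subgroup
  have hF : g₁ ∈ Cfsg.fittingSubgroup G :=
    (mem_fitting_iff_isLeftEngel g₁).mpr
      (fun x => exists_engelIter_eq_one_of_isNilpotent x g₁ (h₁ x))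
  obtain ⟨W, hWn, hWp, hgW⟩ := exists_normal_pgroup_of_mem_fitting hF hog₁
  -- `g₁` commutes with all elements of order prime to `p`
  have hcomm : ∀ y : G, (orderOf y).Coprime p → y * g₁ = g₁ * y := by
    intro y hy
    have := h₁ y
    have hy' : y ∈ Subgroup.closure ({y, g₁} : Set G) := Subgroup.subset_closure (by simp)
    have hg' : g₁ ∈ Subgroup.closure ({y, g₁} : Set G) := Subgroup.subset_closure (by simp)
    have := commute_of_coprime_of_isNilpotent (Subgroup.closure ({y, g₁} : Set G))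
      ⟨y, hy'⟩ ⟨g₁, hg'⟩ (by rw [Subgroup.orderOf_mk, Subgroup.orderOf_mk, hog₁]; exact hy)
    exact congrArg Subtype.val this.eq
  -- the subgroup generated by these elements
  set S : Set G := {y | (orderOf y).Coprime p} with hS
  have hSconj : ∀ c y : G, y ∈ S → c * y * c⁻¹ ∈ S := by
    intro c y hy
    show (orderOf (c * y * c⁻¹)).Coprime p
    have hsc : SemiconjBy c y (c * y * c⁻¹) := by
      show c * y = c * y * c⁻¹ * c
      group
    rw [← hsc.orderOf_eq]
    exact hy
  have hNn : (Subgroup.normalClosure S).Normal := Subgroup.normalClosure_normal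
  have hNle : Subgroup.normalClosure S ≤ Subgroup.centralizer ({g₁} : Set G) := by
    show Subgroup.closure (Group.conjugatesOfSet S) ≤ _
    rw [Subgroup.closure_le]
    intro y hy
    rw [Group.mem_conjugatesOfSet_iff] at hy
    obtain ⟨a, haS, hay⟩ := hy
    obtain ⟨c, hc⟩ := isConj_iff.mp hay
    have hyS : y ∈ S := hc ▸ hSconj c a haS
    rw [SetLike.mem_coe, Subgroup.mem_centralizer_iff]
    intro z hz
    rw [Set.mem_singleton_iff] at hz
    rw [hz]
    exact (hcomm y hyS).symm
  set W₀ : Subgroup G := W ⊓ Subgroup.centralizer (Subgroup.normalClosure S : Set G) with hW₀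
  have hW₀n : W₀.Normal := Subgroup.normal_inf_normal _ _
  have hW₀p : IsPGroup p W₀ := hWp.to_le inf_le_left
  have hgW₀ : g₁ ∈ W₀ := by
    rw [hW₀, Subgroup.mem_inf]
    refine ⟨hgW, ?_⟩
    rw [Subgroup.mem_centralizer_iff]
    intro y hy
    have := hNle hy
    rw [Subgroup.mem_centralizer_iff] at this
    exact (this g₁ rfl).symm
  have hW₀1 : W₀ ≠ ⊥ := by
    intro hb
    rw [hb, Subgroup.mem_bot] at hgW₀
    exact hg₁1 hgW₀
  obtain ⟨P⟩ : Nonempty (Sylow p G) := inferInstance
  obtain ⟨v, hvW, hv1, hvP⟩ := exists_ne_one_commute_of_pgroup (Q := (P : Subgroup G)) P.2 hW₀p hW₀1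
  have hK : Subgroup.centralizer ({v} : Set G) = ⊤ := by
    apply eq_top_of_sylow_le_of_coprime_mem _ P
    · intro q hq
      rw [Subgroup.mem_centralizer_iff]
      intro z hz
      rw [Set.mem_singleton_iff] at hz
      rw [hz]
      exact (hvP q hq).symm
    · intro y hy
      rw [Subgroup.mem_centralizer_iff]
      intro z hz
      rw [Set.mem_singleton_iff] at hz
      rw [hz]
      have h2 := (Subgroup.mem_inf.mp hvW).2
      rw [Subgroup.mem_centralizer_iff] at h2
      exact (h2 y (Subgroup.subset_normalClosure hy)).symm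
  have hvZ : v ∈ center G := by
    rw [Subgroup.mem_center_iff]
    intro c
    have hc : c ∈ Subgroup.centralizer ({v} : Set G) := hK ▸ Subgroup.mem_top c
    rw [Subgroup.mem_centralizer_iff] at hc
    exact (hc v rfl).symm
  rw [hZ, Subgroup.mem_bot] at hvZ
  exact hv1 hvZ

theorem mem_hypercenter_of_forall_isNilpotent : ∀ (n : ℕ) (G : Type u) [Group G] [Finite G],
    Nat.card G = n → ∀ g : G, (∀ x : G, Group.IsNilpotent ↥(Subgroup.closure ({x, g} : Set G))) →
      g ∈ ⨆ n : ℕ, Subgroup.upperCentralSeries G n := by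
  intro n
  induction n using Nat.strong_induction_on with
  | _ n ih =>
    intro G _ _ hn g h
    by_cases hZ : center G = ⊥
    · rw [eq_one_of_center_eq_bot hZ g h]; exact one_mem _
    · have hlt : Nat.card (G ⧸ center G) < n := by
        rw [← hn, Subgroup.card_eq_card_quotient_mul_card_subgroup (center G)]
        have h1 : 1 < Nat.card (center G) := (Subgroup.one_lt_card_iff_ne_bot _).mpr hZ
        have h2 : 0 < Nat.card (G ⧸ center G) := Nat.card_pos
        nlinarith
      have hq := ih _ hlt (G ⧸ center G) rfl (QuotientGroup.mk' (center G) g) ?_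
      · obtain ⟨k, hk⟩ := (Subgroup.mem_iSup_of_directed
          (Subgroup.upperCentralSeries_mono (G := G ⧸ center G)).directed_le).mp hq
        have : g ∈ Subgroup.upperCentralSeries G (k + 1) := by
          rw [← Subgroup.comap_upperCentralSeries_quotient_center]; exact hk
        exact Subgroup.mem_iSup_of_mem (k + 1) this
      · intro xbar
        obtain ⟨x, rfl⟩ := QuotientGroup.mk'_surjective (center G) xbar
        have := h x
        have hmap : Subgroup.closure ({QuotientGroup.mk' (center G) x, QuotientGroup.mk' (center G) g} :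
            Set (G ⧸ center G)) = (Subgroup.closure ({x, g} : Set G)).map (QuotientGroup.mk' (center G)) := by
          rw [MonoidHom.map_closure, Set.image_pair]
        rw [hmap]
        exact Group.nilpotent_of_surjective
          ((QuotientGroup.mk' (center G)).subgroupMap (Subgroup.closure ({x, g} : Set G)))
          (MonoidHom.subgroupMap_surjective _ _)

theorem subgroupOf_upperCentralSeries_le {G : Type*} [Group G] (H : Subgroup G) (i : ℕ) :
    (Subgroup.upperCentralSeries G i).subgroupOf H ≤ Subgroup.upperCentralSeries H i := by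
  induction i with
  | zero => simp
  | succ i ih =>
    intro h hh
    rw [Subgroup.mem_upperCentralSeries_succ_iff]
    intro y
    apply ih
    rw [Subgroup.mem_subgroupOf] at hh ⊢
    rw [Subgroup.mem_upperCentralSeries_succ_iff] at hh
    exact hh y

theorem isNilpotent_closure_pair_of_mem_upperCentralSeries {G : Type*} [Group G] (x g : G) (n : ℕ)
    (hg : g ∈ Subgroup.upperCentralSeries G n) :
    Group.IsNilpotent ↥(Subgroup.closure ({x, g} : Set G)) := by
  have hx : x ∈ Subgroup.closure ({x, g} : Set G) := Subgroup.subset_closure (by simp)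
  have hg' : g ∈ Subgroup.closure ({x, g} : Set G) := Subgroup.subset_closure (by simp)
  have hgN : (⟨g, hg'⟩ : Subgroup.closure ({x, g} : Set G)) ∈
      Subgroup.upperCentralSeries (Subgroup.closure ({x, g} : Set G)) n :=
    subgroupOf_upperCentralSeries_le _ n (by rw [Subgroup.mem_subgroupOf]; exact hg)
  set φ := QuotientGroup.mk' (Subgroup.upperCentralSeries (Subgroup.closure ({x, g} : Set G)) n) with hφ
  have htop : (Subgroup.zpowers (φ ⟨x, hx⟩)).comap φ = ⊤ := by
    rw [eq_top_iff, ← Subgroup.closure_closure_coe_preimage (k := ({x, g} : Set G)),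
      Subgroup.closure_le]
    rintro ⟨y, hy⟩ hy'
    have hy'' : y ∈ ({x, g} : Set G) := hy'
    rcases hy'' with rfl | rfl
    · exact Subgroup.mem_zpowers _
    · show φ _ ∈ Subgroup.zpowers _
      have : φ ⟨y, hy⟩ = 1 := (QuotientGroup.eq_one_iff _).mpr hgN
      rw [this]; exact one_mem _
  have hall : Subgroup.upperCentralSeries (Subgroup.closure ({x, g} : Set G)) (n + 1) = ⊤ := by
    rw [eq_top_iff]
    intro a _
    rw [Subgroup.mem_upperCentralSeries_succ_iff]
    intro b
    have ha : φ a ∈ Subgroup.zpowers (φ ⟨x, hx⟩) := by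
      have : a ∈ (Subgroup.zpowers (φ ⟨x, hx⟩)).comap φ := htop ▸ Subgroup.mem_top a
      exact this
    have hb : φ b ∈ Subgroup.zpowers (φ ⟨x, hx⟩) := by
      have : b ∈ (Subgroup.zpowers (φ ⟨x, hx⟩)).comap φ := htop ▸ Subgroup.mem_top b
      exact this
    obtain ⟨i, hi⟩ := Subgroup.mem_zpowers_iff.mp ha
    obtain ⟨j, hj⟩ := Subgroup.mem_zpowers_iff.mp hb
    rw [← QuotientGroup.eq_one_iff]
    show φ (a * b * a⁻¹ * b⁻¹) = 1
    rw [map_mul, map_mul, map_mul, map_inv, map_inv, ← hi, ← hj]
    group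
  exact ⟨⟨n + 1, hall⟩⟩

theorem forall_isNilpotent_iff_mem_hypercenter {G : Type u} [Group G] [Finite G] (g : G) :
    (∀ x : G, Group.IsNilpotent ↥(Subgroup.closure ({x, g} : Set G))) ↔
      g ∈ ⨆ n : ℕ, Subgroup.upperCentralSeries G n := by
  constructor
  · exact mem_hypercenter_of_forall_isNilpotent _ G rfl g
  · intro hg x
    obtain ⟨k, hk⟩ := (Subgroup.mem_iSup_of_directed
      (Subgroup.upperCentralSeries_mono (G := G)).directed_le).mp hg
    exact isNilpotent_closure_pair_of_mem_upperCentralSeries x g k hk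

end Cfsg.Agent.Lib.Helper70
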