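import Cfsg.Agent.Lib.Helper43.UFBasic

set_option autoImplicit false
set_option linter.unusedSimpArgs false
set_option linter.unusedVariables false
set_option linter.unusedSectionVars false

/-! S5700 keystone 570012 (K-UF-A): an element of `M` not normalising `F[J]` gives a singular pair
`a`, `b ∈ RS a` with `b ∉ F[J] a`. -/

namespace Cfsg.Agent.Lib.Helper70.UF

open Module Matrix Cfsg.Agent.Lib.Helper19 Cfsg.Agent.Lib.Helper43 Cfsg.Agent.Lib.Helper43.UF

variable {F : Type*} [Field F] [Fintype F] {ι : Type} [Fintype ι] [DecidableEq ι]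
variable {Q : QuadraticForm F (ι → F)}
variable (hQ : (QuadraticMap.polarBilin Q).Nondegenerate) (hn : 7 ≤ Fintype.card ι)

local notation "ℬ" => QuadraticMap.polarBilin Q

/-- uniqueness of the coordinates on an `F[J]`-line -/
theorem ufa_coeff_unique (U : UData Q) (u : ι → F) (hu : u ≠ 0) (γ ε γ' ε' : F)
    (h : γ • u + ε • U.J u = γ' • u + ε' • U.J u) : γ = γ' ∧ ε = ε' := by
  have h1 : (γ - γ') • u + (ε - ε') • U.J u = 0 := by
    rw [sub_smul, sub_smul]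
    have : γ • u - γ' • u + (ε • U.J u - ε' • U.J u) =
        (γ • u + ε • U.J u) - (γ' • u + ε' • U.J u) := by abel
    rw [this, h, sub_self]
  obtain ⟨h2, h3⟩ := U.J_indep u hu _ _ h1
  exact ⟨sub_eq_zero.mp h2, sub_eq_zero.mp h3⟩

include hQ hn in
/-- a linear map killing all singular vectors is zero -/
theorem ufa_eq_zero_of_singular (D : Module.End F (ι → F))
    (hD : ∀ x : ι → F, Q x = 0 → D x = 0) : ∀ x, D x = 0 := by
  obtain ⟨s, hs0, hs, -⟩ := AutOm.exists_singular_orth_finset Q hQ hn ∅ ⊥ (by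
    rw [finrank_bot, Finset.card_empty]; omega)
  have hs0' : s ≠ 0 := fun h => hs0 (by rw [h]; exact Submodule.zero_mem _)
  obtain ⟨f, hf, hsf⟩ := AutOm.exists_partner Q hQ hn s hs0' hs
  intro z
  funext i
  by_contra hne
  set φ : (ι → F) →ₗ[F] F := (LinearMap.proj i).comp D with hφ
  have hz : φ z ≠ 0 := hne
  obtain ⟨s', -, hs', hφs'⟩ := exists_singular_functional_ne Q ⊤ s f Submodule.mem_top
    Submodule.mem_top hs (by rw [hsf]; exact one_ne_zero) φ z Submodule.mem_top hz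
  apply hφs'
  rw [hφ, LinearMap.comp_apply, hD s' hs']
  rfl

/-- K-UF-A (570012). -/
theorem exists_bad_pair (U : UData Q) (M : Subgroup ↥(Cfsg.Omega F ⇑Q))
    (hH : ∀ k : ↥(Cfsg.Omega F ⇑Q), (∀ x, lo Q k (U.J x) = U.J (lo Q k x)) → k ∈ M)
    (h14 : 14 ≤ Fintype.card ι) (g : ↥(Cfsg.Omega F ⇑Q)) (hg : g ∈ M)
    (hgN : ¬ ∃ α β : F, ∀ x, lo Q g (U.J x) = α • lo Q g x + β • U.J (lo Q g x)) :
    ∃ a b : ι → F, a ≠ 0 ∧ Q a = 0 ∧ Q b = 0 ∧ ℬ a b = 0 ∧ b ∉ KL U a ∧ b ∈ RS Q hQ hn M a := by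
  classical
  by_contra hcon
  push Not at hcon
  -- `J' = g⁻¹ J g`
  set Jp : Module.End F (ι → F) := (lo Q g⁻¹).comp (U.J.comp (lo Q g)) with hJp
  have hJp_apply : ∀ x, Jp x = lo Q g⁻¹ (U.J (lo Q g x)) := fun x => rfl
  -- Step 1: on singular vectors `J' u ∈ F[J] u`
  have step1 : ∀ u : ι → F, u ≠ 0 → Q u = 0 → ∃ γ ε : F, Jp u = γ • u + ε • U.J u := by
    intro u hu0 hu
    have ha0 : lo Q g u ≠ 0 := lo_ne_zero Q g u hu0
    have ha : Q (lo Q g u) = 0 := by rw [lo_isometry]; exact hu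
    have hb : Q (lo Q g (U.J u)) = 0 := by rw [lo_isometry]; exact U.Q_J u hu
    have hab : ℬ (lo Q g u) (lo Q g (U.J u)) = 0 := by rw [lo_polar]; exact U.B_self_J u hu
    have hRS : lo Q g (U.J u) ∈ RS Q hQ hn M (lo Q g u) := by
      refine ⟨hab, ?_⟩
      intro t
      have h1 : ℬ u (t • U.J u) = 0 := by rw [map_smul, U.B_self_J u hu, smul_zero]
      have h2 := sOf_conj Q hQ hn g u (t • U.J u) hu h1
      rw [map_smul] at h2
      rw [← h2]
      have h3 : sOf Q hQ hn u (t • U.J u) ∈ M := by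
        have := hH (tv U hQ hn u t) (tv_comm hQ hn U u hu t)
        exact this
      exact M.mul_mem (M.mul_mem hg h3) (M.inv_mem hg)
    have hKL := hcon (lo Q g u) (lo Q g (U.J u)) ha0 ha hb hab
    have hmem : lo Q g (U.J u) ∈ KL U (lo Q g u) := by
      by_contra hnot
      exact hKL hnot hRS
    obtain ⟨α, β, hαβ⟩ := (mem_KL_iff U _ _).mp hmem
    -- apply `g⁻¹`
    have h4 : U.J u = α • u + β • Jp u := by
      have := congrArg (lo Q g⁻¹) hαβ
      rw [lo_inv_apply, map_add, map_smul, map_smul, lo_inv_apply] at this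
      rw [hJp_apply]; exact this
    have hβ : β ≠ 0 := by
      intro hβ0
      rw [hβ0, zero_smul, add_zero] at h4
      have h5 : (-α) • u + (1 : F) • U.J u = 0 := by
        rw [h4]; module
      exact one_ne_zero (U.J_indep u hu0 _ _ h5).2
    refine ⟨-(β⁻¹ * α), β⁻¹, ?_⟩
    have h6 : β • Jp u = U.J u - α • u := by rw [h4]; abel
    calc Jp u = β⁻¹ • (β • Jp u) := by rw [smul_smul, inv_mul_cancel₀ hβ, one_smul]
      _ = β⁻¹ • (U.J u - α • u) := by rw [h6]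
      _ = -(β⁻¹ * α) • u + β⁻¹ • U.J u := by
        rw [smul_sub, smul_smul, neg_smul]; abel
  -- Step 3: two orthogonal singular vectors on different lines have the same coefficients
  have step3 : ∀ u w : ι → F, u ≠ 0 → Q u = 0 → Q w = 0 → ℬ u w = 0 → w ∉ KL U u →
      ∀ γ₁ ε₁ γ₂ ε₂ : F, Jp u = γ₁ • u + ε₁ • U.J u → Jp w = γ₂ • w + ε₂ • U.J w →
        γ₁ = γ₂ ∧ ε₁ = ε₂ := by
    intro u w hu0 hu hw huw hwK γ₁ ε₁ γ₂ ε₂ h1 h2
    have huw0 : u + w ≠ 0 := by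
      intro h
      apply hwK
      rw [mem_KL_iff]
      refine ⟨-1, 0, ?_⟩
      rw [zero_smul, add_zero, neg_smul, one_smul]
      exact (neg_eq_of_add_eq_zero_right h).symm
    have huwQ : Q (u + w) = 0 := by
      rw [Q_add, hu, hw, huw]; ring
    obtain ⟨γ₃, ε₃, h3⟩ := step1 (u + w) huw0 huwQ
    rw [map_add, map_add, h1, h2] at h3
    have h4 : (γ₁ - γ₃) • u + (ε₁ - ε₃) • U.J u + (γ₂ - γ₃) • w + (ε₂ - ε₃) • U.J w = 0 := by
      have : (γ₁ - γ₃) • u + (ε₁ - ε₃) • U.J u + (γ₂ - γ₃) • w + (ε₂ - ε₃) • U.J w =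
          (γ₁ • u + ε₁ • U.J u + (γ₂ • w + ε₂ • U.J w)) -
            (γ₃ • (u + w) + ε₃ • (U.J u + U.J w)) := by module
      rw [this, h3, sub_self]
    obtain ⟨e1, e2, e3, e4⟩ := indep_of_notMem_KL U u w hu0 hwK _ _ _ _ h4
    rw [sub_eq_zero] at e1 e2 e3 e4
    exact ⟨e1.trans e3.symm, e2.trans e4.symm⟩
  -- Step 4: any two singular vectors have the same coefficients
  have step4 : ∀ u w : ι → F, u ≠ 0 → Q u = 0 → w ≠ 0 → Q w = 0 →
      ∀ γ₁ ε₁ γ₂ ε₂ : F, Jp u = γ₁ • u + ε₁ • U.J u → Jp w = γ₂ • w + ε₂ • U.J w →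
        γ₁ = γ₂ ∧ ε₁ = ε₂ := by
    intro u w hu0 hu hw0 hw γ₁ ε₁ γ₂ ε₂ h1 h2
    have hfr : finrank F ↥(KL U u ⊔ KL U w) + ({u, w} : Finset (ι → F)).card + 3 ≤
        Fintype.card ι := by
      have h1 := Submodule.finrank_add_le_finrank_add_finrank (KL U u) (KL U w)
      have h2 := finrank_KL_le U u
      have h3 := finrank_KL_le U w
      have h4 : ({u, w} : Finset (ι → F)).card ≤ 2 := Finset.card_le_two
      omega
    obtain ⟨z, hzK, hz, hzS⟩ := AutOm.exists_singular_orth_finset Q hQ hn {u, w} _ hfr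
    have hzu : z ∉ KL U u := fun h => hzK (Submodule.mem_sup_left h)
    have hzw : z ∉ KL U w := fun h => hzK (Submodule.mem_sup_right h)
    have hz0 : z ≠ 0 := fun h => hzu (by rw [h]; exact Submodule.zero_mem _)
    have huz : ℬ u z = 0 := hzS u (by simp)
    have hwz : ℬ w z = 0 := hzS w (by simp)
    obtain ⟨γ₃, ε₃, h3⟩ := step1 z hz0 hz
    obtain ⟨a1, a2⟩ := step3 u z hu0 hu hz huz hzu γ₁ ε₁ γ₃ ε₃ h1 h3
    obtain ⟨b1, b2⟩ := step3 w z hw0 hw hz hwz hzw γ₂ ε₂ γ₃ ε₃ h2 h3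
    exact ⟨a1.trans b1.symm, a2.trans b2.symm⟩
  -- Step 5: a base singular vector
  obtain ⟨u₀, hu₀K, hu₀, -⟩ := AutOm.exists_singular_orth_finset Q hQ hn ∅ ⊥ (by
    rw [finrank_bot, Finset.card_empty]; omega)
  have hu₀0 : u₀ ≠ 0 := fun h => hu₀K (by rw [h]; exact Submodule.zero_mem _)
  obtain ⟨γ, ε, h₀⟩ := step1 u₀ hu₀0 hu₀
  have hsing : ∀ x : ι → F, Q x = 0 → Jp x = γ • x + ε • U.J x := by
    intro x hx
    by_cases hx0 : x = 0
    · rw [hx0, map_zero, map_zero, smul_zero, smul_zero, add_zero]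
    · obtain ⟨γ', ε', h'⟩ := step1 x hx0 hx
      obtain ⟨e1, e2⟩ := step4 u₀ x hu₀0 hu₀ hx0 hx γ ε γ' ε' h₀ h'
      rw [e1, e2]; exact h'
  -- Step 6: everywhere
  have hall : ∀ x : ι → F, Jp x = γ • x + ε • U.J x := by
    set D : Module.End F (ι → F) := Jp - γ • LinearMap.id - ε • U.J with hD
    have hDx : ∀ x, D x = Jp x - γ • x - ε • U.J x := fun x => rfl
    have h0 := ufa_eq_zero_of_singular hQ hn D (by
      intro x hx
      rw [hDx, hsing x hx]; abel)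
    intro x
    have := h0 x
    rw [hDx] at this
    have h1 : Jp x = (Jp x - γ • x - ε • U.J x) + (γ • x + ε • U.J x) := by abel
    rw [h1, this, zero_add]
  -- Step 7: conclusion
  have hε : ε ≠ 0 := by
    intro hε0
    have h1 := hall u₀
    rw [hε0, zero_smul, add_zero, hJp_apply] at h1
    have h2 := congrArg (lo Q g) h1
    rw [lo_apply_inv, map_smul] at h2
    have h3 : (-γ) • lo Q g u₀ + (1 : F) • U.J (lo Q g u₀) = 0 := by
      rw [h2]; module
    exact one_ne_zero (U.J_indep _ (lo_ne_zero Q g u₀ hu₀0) _ _ h3).2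
  apply hgN
  refine ⟨-(ε⁻¹ * γ), ε⁻¹, ?_⟩
  intro x
  have h1 := hall x
  rw [hJp_apply] at h1
  have h2 := congrArg (lo Q g) h1
  rw [lo_apply_inv, map_add, map_smul, map_smul] at h2
  have h3 : ε • lo Q g (U.J x) = U.J (lo Q g x) - γ • lo Q g x := by rw [h2]; abel
  calc lo Q g (U.J x) = ε⁻¹ • (ε • lo Q g (U.J x)) := by
        rw [smul_smul, inv_mul_cancel₀ hε, one_smul]
    _ = ε⁻¹ • (U.J (lo Q g x) - γ • lo Q g x) := by rw [h3]
    _ = -(ε⁻¹ * γ) • lo Q g x + ε⁻¹ • U.J (lo Q g x) := by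
        rw [smul_sub, smul_smul, neg_smul]; abel

end Cfsg.Agent.Lib.Helper70.UF
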