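import Mathlib
import Cfsg.Prelude.Def_GeometricClasses
import Cfsg.Agent.Lib.Helper48.Subfield.RatGL
import Cfsg.Agent.Lib.Helper51.SUMax2

/-!
# K-SUMax-N5 `su_not_le_subfieldSubgroup`

`SU_n(q)` (`n ≥ 3`, `(n, q) ≠ (3, 2)`) is not contained in a subfield subgroup.  Proof: `SU` is perfect, so it would be
contained in the conjugate `P GL_n(F₀) P⁻¹` (no scalars); `SU` is transitive on the non-zero vectors of a given norm,
so for `λ` with `λ^(q+1) = 1` some `g ∈ SU` maps `P e₀` to `λ • P e₀`; then `λ` is an entry of a matrix over `F₀`,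
but not all `q + 1` such `λ` lie in a proper subfield.
-/

set_option autoImplicit false
set_option linter.unusedSectionVars false

namespace Cfsg.Agent.Lib.Helper70.SUMax

open Cfsg Cfsg.Geo Cfsg.Agent.Lib.Helper48.Subfield Cfsg.Agent.Lib.Helper08 Cfsg.Agent.Lib.Helper51
open scoped Matrix Kronecker MatrixGroups commutatorElement

variable {F : Type*} [Field F] [Fintype F] {n q : ℕ}

/-- the embedding of the frozen `SU n F q` into `GL`. -/
def suToGL (n : ℕ) (F : Type*) [Field F] (q : ℕ) : ↥(Cfsg.SU n F q) →* GL (Fin n) F :=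
  (Matrix.SpecialLinearGroup.toGL).comp (Cfsg.SU n F q).subtype

theorem range_suToGL : (suToGL n F q).range = GU n F q ⊓ specialLinear (Fin n) F := by
  ext g
  constructor
  · rintro ⟨A, rfl⟩
    rw [mem_GUSL_iff]
    exact ⟨SU_iso A, A.1.2⟩
  · intro hg
    rw [mem_GUSL_iff] at hg
    refine ⟨toSU g.1 hg.1 hg.2, ?_⟩
    apply Units.ext
    rfl

/-- `GU ⊓ SL` is perfect. -/
theorem GUSL_perfect (hF : Fintype.card F = q ^ 2) (hn : 3 ≤ n) (hex : ¬ (n = 3 ∧ q = 2)) :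
    ⁅GU n F q ⊓ specialLinear (Fin n) F, GU n F q ⊓ specialLinear (Fin n) F⁆ =
      GU n F q ⊓ specialLinear (Fin n) F := by
  have h := SU_perfect (F := F) hF hn hex
  rw [commutator_def] at h
  rw [← range_suToGL, MonoidHom.range_eq_map, ← Subgroup.map_commutator, h]

/-- multiplying by central elements does not change a commutator. -/
theorem comm_central {G : Type*} [Group G] (z₁ z₂ a b : G) (h₁ : ∀ x, z₁ * x = x * z₁)
    (h₂ : ∀ x, z₂ * x = x * z₂) : ⁅z₁ * a, z₂ * b⁆ = ⁅a, b⁆ := by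
  rw [commutatorElement_def, commutatorElement_def]
  have e1 : (z₁ * a)⁻¹ = a⁻¹ * z₁⁻¹ := mul_inv_rev _ _
  have e2 : (z₂ * b)⁻¹ = z₂⁻¹ * b⁻¹ := by rw [h₂ b, mul_inv_rev]
  rw [e1, e2]
  calc z₁ * a * (z₂ * b) * (a⁻¹ * z₁⁻¹) * (z₂⁻¹ * b⁻¹)
      = z₁ * (a * z₂) * b * a⁻¹ * z₁⁻¹ * z₂⁻¹ * b⁻¹ := by group
    _ = z₁ * (z₂ * a) * b * a⁻¹ * z₁⁻¹ * z₂⁻¹ * b⁻¹ := by rw [h₂ a]
    _ = z₁ * (z₂ * (a * b * a⁻¹)) * z₁⁻¹ * z₂⁻¹ * b⁻¹ := by group
    _ = z₁ * ((a * b * a⁻¹) * z₂) * z₁⁻¹ * z₂⁻¹ * b⁻¹ := by rw [h₂ (a * b * a⁻¹)]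
    _ = z₁ * ((a * b * a⁻¹) * z₂ * z₁⁻¹ * z₂⁻¹ * b⁻¹) := by group
    _ = ((a * b * a⁻¹) * z₂ * z₁⁻¹ * z₂⁻¹ * b⁻¹) * z₁ := h₁ _
    _ = (a * b * a⁻¹) * (z₂ * (z₁⁻¹ * z₂⁻¹ * b⁻¹ * z₁)) := by group
    _ = (a * b * a⁻¹) * ((z₁⁻¹ * z₂⁻¹ * b⁻¹ * z₁) * z₂) := by rw [h₂ (z₁⁻¹ * z₂⁻¹ * b⁻¹ * z₁)]
    _ = (a * b * a⁻¹) * (z₁⁻¹ * z₂⁻¹ * b⁻¹ * (z₁ * z₂)) := by group
    _ = (a * b * a⁻¹) * (z₁⁻¹ * z₂⁻¹ * b⁻¹ * (z₂ * z₁)) := by rw [h₁ z₂]
    _ = (a * b * a⁻¹) * (z₁⁻¹ * (z₂⁻¹ * b⁻¹ * z₂) * z₁) := by group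
    _ = (a * b * a⁻¹) * (z₁⁻¹ * (z₂⁻¹ * (z₂ * b⁻¹)) * z₁) := by rw [h₂ b⁻¹, mul_assoc z₂⁻¹]
    _ = (a * b * a⁻¹) * (z₁⁻¹ * (b⁻¹ * z₁)) := by group
    _ = (a * b * a⁻¹) * (z₁⁻¹ * (z₁ * b⁻¹)) := by rw [h₁ b⁻¹]
    _ = a * b * a⁻¹ * b⁻¹ := by group

theorem scGL_comm (c : F) (hc : c ≠ 0) (g : GL (Fin n) F) :
    scGL (ι := Fin n) c hc * g = g * scGL (ι := Fin n) c hc := by
  apply Units.ext
  rw [Units.val_mul, Units.val_mul, scGL_val, Matrix.smul_mul, Matrix.mul_smul, Matrix.one_mul,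
    Matrix.mul_one]

/-- the derived group of a subfield group lies in the conjugate of `GL_n(F₀)`. -/
theorem comm_subfield_le (F₀ : Subfield F) (P : GL (Fin n) F) :
    ⁅subfieldSubgroup F₀ P, subfieldSubgroup F₀ P⁆ ≤
      (G0 (ι := Fin n) F₀).map (MulAut.conj P).toMonoidHom := by
  unfold subfieldSubgroup
  rw [← Subgroup.map_commutator]
  apply Subgroup.map_mono
  show ⁅G0 (ι := Fin n) F₀ ⊔ scalars (Fin n) F, G0 (ι := Fin n) F₀ ⊔ scalars (Fin n) F⁆ ≤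
    G0 (ι := Fin n) F₀
  rw [sup_eq_ratUpTo, Subgroup.commutator_le]
  rintro g₁ ⟨c₁, hc₁, h₁⟩ g₂ ⟨c₂, hc₂, h₂⟩
  have e1 : scGL (ι := Fin n) c₁ hc₁ * g₁ ∈ G0 (ι := Fin n) F₀ :=
    mem_G0_of_ratMat (by rw [scGL_mul_val]; exact h₁)
  have e2 : scGL (ι := Fin n) c₂ hc₂ * g₂ ∈ G0 (ι := Fin n) F₀ :=
    mem_G0_of_ratMat (by rw [scGL_mul_val]; exact h₂)
  rw [← comm_central (scGL (ι := Fin n) c₁ hc₁) (scGL (ι := Fin n) c₂ hc₂) g₁ g₂
    (scGL_comm c₁ hc₁) (scGL_comm c₂ hc₂), commutatorElement_def]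
  exact (G0 F₀).mul_mem ((G0 F₀).mul_mem ((G0 F₀).mul_mem e1 e2) ((G0 F₀).inv_mem e1))
    ((G0 F₀).inv_mem e2)

/-- an element of norm one outside a subfield of prime index. -/
theorem exists_norm_one_not_mem (hF : Fintype.card F = q ^ 2) (F₀ : Subfield F) (r : ℕ)
    (hr : r.Prime) (hF₀ : Fintype.card F = Nat.card F₀ ^ r) : ∃ l : F, l * l ^ q = 1 ∧ l ∉ F₀ := by
  classical
  have hq : 1 < q := by
    by_contra h
    have h2 : 2 ≤ Fintype.card F := Fintype.one_lt_card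
    have : q = 0 ∨ q = 1 := by omega
    rcases this with rfl | rfl <;> simp at hF <;> omega
  obtain ⟨ω, hω⟩ := IsCyclic.exists_generator (α := Fˣ)
  have hord : orderOf ω = q ^ 2 - 1 := by
    rw [orderOf_eq_card_of_forall_mem_zpowers hω, Nat.card_eq_fintype_card, Fintype.card_units, hF]
  have hfac : (q - 1) * (q + 1) = q ^ 2 - 1 := by
    obtain ⟨k, rfl⟩ : ∃ k, q = k + 1 := ⟨q - 1, by omega⟩
    simp only [Nat.add_sub_cancel]
    have : (k + 1) ^ 2 = k * (k + 1 + 1) + 1 := by ring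
    rw [this, Nat.add_sub_cancel]
  refine ⟨((ω ^ (q - 1) : Fˣ) : F), ?_, ?_⟩
  · rw [← pow_succ', ← Units.val_pow_eq_pow_val, ← pow_mul, hfac, ← hord, pow_orderOf_eq_one,
      Units.val_one]
  · intro hmem
    set Q := Nat.card F₀ with hQ
    haveI : Fintype F₀ := Fintype.ofFinite _
    have hQ' : Fintype.card F₀ = Q := by rw [hQ, Nat.card_eq_fintype_card]
    have hne : (⟨((ω ^ (q - 1) : Fˣ) : F), hmem⟩ : F₀) ≠ 0 := by
      intro h0
      have := congrArg Subtype.val h0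
      exact (ω ^ (q - 1)).ne_zero this
    have h1 := FiniteField.pow_card_sub_one_eq_one (⟨((ω ^ (q - 1) : Fˣ) : F), hmem⟩ : F₀) hne
    rw [hQ'] at h1
    have h2 : (((ω ^ (q - 1) : Fˣ) : F)) ^ (Q - 1) = 1 := by
      have := congrArg Subtype.val h1
      simpa using this
    have h3 : ω ^ ((q - 1) * (Q - 1)) = 1 := by
      apply Units.ext
      rw [pow_mul, Units.val_pow_eq_pow_val, h2, Units.val_one]
    have h4 : (q - 1) * (q + 1) ∣ (q - 1) * (Q - 1) := by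
      rw [hfac, ← hord]
      exact orderOf_dvd_of_pow_eq_one h3
    have h5 : q + 1 ∣ Q - 1 := Nat.dvd_of_mul_dvd_mul_left (by omega) h4
    have hQ2 : 2 ≤ Q := by
      rw [← hQ']
      exact Fintype.one_lt_card
    have hQq : Q ≤ q := by
      by_contra hlt
      push Not at hlt
      have hr2 := hr.two_le
      have h6 : q ^ 2 < Q ^ 2 := Nat.pow_lt_pow_left hlt (by norm_num)
      have h7 : Q ^ 2 ≤ Q ^ r := Nat.pow_le_pow_right (by omega) hr2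
      rw [hF] at hF₀
      omega
    have := Nat.le_of_dvd (by omega) h5
    omega

/-- K-SUMax-N5. -/
theorem su_not_le_subfieldSubgroup (hF : Fintype.card F = q ^ 2) (hn : 3 ≤ n)
    (hex : ¬ (n = 3 ∧ q = 2)) (F₀ : Subfield F) (r : ℕ)
    (hr : r.Prime) (hF₀ : Fintype.card F = Nat.card F₀ ^ r) (P : GL (Fin n) F) :
    ¬ GU n F q ⊓ specialLinear (Fin n) F ≤ subfieldSubgroup F₀ P := by
  intro hle
  have hK : GU n F q ⊓ specialLinear (Fin n) F ≤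
      (G0 (ι := Fin n) F₀).map (MulAut.conj P).toMonoidHom := by
    calc GU n F q ⊓ specialLinear (Fin n) F
        = ⁅GU n F q ⊓ specialLinear (Fin n) F, GU n F q ⊓ specialLinear (Fin n) F⁆ :=
          (GUSL_perfect hF hn hex).symm
      _ ≤ ⁅subfieldSubgroup F₀ P, subfieldSubgroup F₀ P⁆ := Subgroup.commutator_mono hle hle
      _ ≤ _ := comm_subfield_le F₀ P
  obtain ⟨l, hl1, hl0⟩ := exists_norm_one_not_mem hF F₀ r hr hF₀
  have hlne : l ≠ 0 := by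
    rintro rfl
    rw [zero_mul] at hl1
    exact zero_ne_one hl1
  set i0 : Fin n := ⟨0, by omega⟩ with hi0
  set y0 : Fin n → F := Pi.single i0 1 with hy0
  have hy0ne : y0 ≠ 0 := by
    intro h
    have := congrFun h i0
    simp [hy0] at this
  have hy0rat : Rat F₀ y0 := by
    intro i
    rw [hy0]
    by_cases hi : i = i0
    · rw [hi, Pi.single_eq_same]; exact F₀.one_mem
    · rw [Pi.single_eq_of_ne hi]; exact F₀.zero_mem
  set x0 : Fin n → F := (P : Matrix (Fin n) (Fin n) F) *ᵥ y0 with hx0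
  have hPinv : ∀ z : Fin n → F, ((P⁻¹ : GL (Fin n) F) : Matrix (Fin n) (Fin n) F) *ᵥ
      ((P : Matrix (Fin n) (Fin n) F) *ᵥ z) = z := by
    intro z
    rw [Matrix.mulVec_mulVec, ← Units.val_mul, inv_mul_cancel, Units.val_one, Matrix.one_mulVec]
  have hx0ne : x0 ≠ 0 := by
    intro h
    apply hy0ne
    rw [← hPinv y0, ← hx0, h, Matrix.mulVec_zero]
  have hx1ne : l • x0 ≠ 0 := smul_ne_zero hlne hx0ne
  have hnorm : hform (Fin n) F q x0 x0 = hform (Fin n) F q (l • x0) (l • x0) := by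
    rw [hform_smul_left, hform_smul_right, ← mul_assoc, hl1, one_mul]
  obtain ⟨D, hD, hDd, hdet⟩ :=
    exists_iso_same_norm_det hF hn x0 (l • x0) hx0ne hx1ne hnorm 1 (by rw [one_pow, one_mul])
  set g : GL (Fin n) F := (hD.isUnit hF).unit with hg
  have hgv : (g : Matrix (Fin n) (Fin n) F) = D := rfl
  have hgS : g ∈ GU n F q ⊓ specialLinear (Fin n) F := by
    rw [mem_GUSL_iff, hgv]
    exact ⟨hD, hdet⟩
  obtain ⟨m, hm, hme⟩ := Subgroup.mem_map.mp (hK hgS)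
  have hmg : g = P * m * P⁻¹ := hme.symm
  have hmrat : RatMat F₀ (m : Matrix (Fin n) (Fin n) F) := ratMat_of_mem_G0 hm
  have hmy : (m : Matrix (Fin n) (Fin n) F) *ᵥ y0 = l • y0 := by
    rw [← hgv, hmg, Units.val_mul, Units.val_mul, ← Matrix.mulVec_mulVec, hx0, hPinv,
      ← Matrix.mulVec_mulVec, ← Matrix.mulVec_smul] at hDd
    have := congrArg (fun z => ((P⁻¹ : GL (Fin n) F) : Matrix (Fin n) (Fin n) F) *ᵥ z) hDd
    simp only [hPinv] at this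
    exact this
  have hrat : Rat F₀ (l • y0) := by
    rw [← hmy]
    exact RatMat.mulVec hmrat hy0rat
  have e0 := hrat i0
  rw [hy0] at e0
  simp only [Pi.smul_apply, Pi.single_eq_same, smul_eq_mul, mul_one] at e0
  exact hl0 e0

end Cfsg.Agent.Lib.Helper70.SUMax
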