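import Mathlib

set_option autoImplicit false
set_option linter.unusedSimpArgs false
set_option linter.unusedVariables false
set_option linter.unusedSectionVars false

/-! S5977 keystone 597710 (K-OQF-PL): a self-adjoint square root of `c` adapted to an orthogonal
basis grouped in planes (`a² + α₀ α₁ t² = c` on each plane). -/

namespace Cfsg.Agent.Lib.Helper70.OQF

open scoped Matrix MatrixGroups

variable {F : Type*} [Field F]

theorem exists_sq_add_mul_sq [Fintype F] (hodd : Odd (Fintype.card F)) (γ c : F) (hγ : γ ≠ 0) :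
    ∃ a t : F, a ^ 2 + γ * t ^ 2 = c := by
  classical
  have hf : (Polynomial.X ^ 2 - Polynomial.C c : Polynomial F).degree = 2 :=
    Polynomial.degree_X_pow_sub_C (by norm_num) c
  have hg : (Polynomial.C γ * Polynomial.X ^ 2 : Polynomial F).degree = 2 :=
    Polynomial.degree_C_mul_X_pow 2 hγ
  obtain ⟨a, t, h⟩ := FiniteField.exists_root_sum_quadratic hf hg (Nat.odd_iff.mp hodd)
  refine ⟨a, t, ?_⟩
  simp only [Polynomial.eval_sub, Polynomial.eval_pow, Polynomial.eval_X, Polynomial.eval_C,
    Polynomial.eval_mul] at h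
  linear_combination h

theorem exists_theta_of_frame {V : Type*} [AddCommGroup V] [Module F V] [FiniteDimensional F V] [Fintype F]
    (hodd : Odd (Fintype.card F)) (Q : QuadraticForm F V) (c : F) (d : ℕ) (b : Module.Basis (Fin d × Fin 2) F V)
    (horth : ∀ p p', p ≠ p' → QuadraticMap.polar (⇑Q) (b p) (b p') = 0) (hns : ∀ p, Q (b p) ≠ 0) :
    ∃ (θ : V →ₗ[F] V) (a t : Fin d → F), (∀ v, θ (θ v) = c • v) ∧
      (∀ u v, QuadraticMap.polar (⇑Q) (θ u) v = QuadraticMap.polar (⇑Q) u (θ v)) ∧
      (∀ k, θ (b (k, 0)) = a k • b (k, 0) + (Q (b (k, 0)) * t k) • b (k, 1)) ∧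
      (∀ k, θ (b (k, 1)) = (Q (b (k, 1)) * t k) • b (k, 0) - a k • b (k, 1)) := by
  classical
  have hex : ∀ k : Fin d, ∃ at' : F × F,
      at'.1 ^ 2 + (Q (b (k, 0)) * Q (b (k, 1))) * at'.2 ^ 2 = c := by
    intro k
    obtain ⟨a, t, h⟩ := exists_sq_add_mul_sq hodd (Q (b (k, 0)) * Q (b (k, 1))) c
      (mul_ne_zero (hns _) (hns _))
    exact ⟨(a, t), h⟩
  choose at' hat using hex
  set a : Fin d → F := fun k => (at' k).1 with ha
  set t : Fin d → F := fun k => (at' k).2 with ht
  have hat' : ∀ k, a k ^ 2 + (Q (b (k, 0)) * Q (b (k, 1))) * t k ^ 2 = c := hat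
  let f : Fin d × Fin 2 → V := fun p =>
    if p.2 = 0 then a p.1 • b (p.1, 0) + (Q (b (p.1, 0)) * t p.1) • b (p.1, 1)
    else (Q (b (p.1, 1)) * t p.1) • b (p.1, 0) - a p.1 • b (p.1, 1)
  let θ : V →ₗ[F] V := b.constr F f
  have hθ0 : ∀ k, θ (b (k, 0)) = a k • b (k, 0) + (Q (b (k, 0)) * t k) • b (k, 1) := by
    intro k
    show b.constr F f (b (k, 0)) = _
    rw [Module.Basis.constr_basis]
    simp [f]
  have hθ1 : ∀ k, θ (b (k, 1)) = (Q (b (k, 1)) * t k) • b (k, 0) - a k • b (k, 1) := by
    intro k
    show b.constr F f (b (k, 1)) = _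
    rw [Module.Basis.constr_basis]
    simp [f]
  refine ⟨θ, a, t, ?_, ?_, hθ0, hθ1⟩
  · -- θ² = c
    have h : θ ∘ₗ θ = c • LinearMap.id := by
      apply b.ext
      rintro ⟨k, i⟩
      fin_cases i
      · show θ (θ (b (k, 0))) = c • b (k, 0)
        rw [hθ0, map_add, map_smul, map_smul, hθ0, hθ1, ← hat' k]
        module
      · show θ (θ (b (k, 1))) = c • b (k, 1)
        rw [hθ1, map_sub, map_smul, map_smul, hθ0, hθ1, ← hat' k]
        module
    intro v
    have := LinearMap.congr_fun h v
    simpa using this
  · -- self-adjoint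
    have hpol : ∀ u v, QuadraticMap.polar (⇑Q) u v = QuadraticMap.polarBilin Q u v := fun _ _ => rfl
    have h : (QuadraticMap.polarBilin Q).compl₁₂ θ LinearMap.id =
        (QuadraticMap.polarBilin Q).compl₁₂ LinearMap.id θ := by
      apply LinearMap.ext_basis b b
      rintro ⟨k, i⟩ ⟨l, j⟩
      simp only [LinearMap.compl₁₂_apply, LinearMap.id_coe, id_eq]
      have hself : ∀ p, QuadraticMap.polarBilin Q (b p) (b p) = 2 * Q (b p) := by
        intro p
        show QuadraticMap.polar (⇑Q) (b p) (b p) = _
        rw [QuadraticMap.polar_self]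
        simp [two_mul]
      have ho : ∀ p p', p ≠ p' → QuadraticMap.polarBilin Q (b p) (b p') = 0 := horth
      by_cases hkl : k = l
      · subst hkl
        have h01 : ((k, 0) : Fin d × Fin 2) ≠ (k, 1) := by simp
        have h10 : ((k, 1) : Fin d × Fin 2) ≠ (k, 0) := by simp
        fin_cases i <;> fin_cases j
        · show QuadraticMap.polarBilin Q (θ (b (k, 0))) (b (k, 0)) =
            QuadraticMap.polarBilin Q (b (k, 0)) (θ (b (k, 0)))
          rw [hθ0]
          simp only [map_add, map_smul, LinearMap.add_apply, LinearMap.smul_apply, smul_eq_mul,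
            hself, ho _ _ h01, ho _ _ h10]
        · show QuadraticMap.polarBilin Q (θ (b (k, 0))) (b (k, 1)) =
            QuadraticMap.polarBilin Q (b (k, 0)) (θ (b (k, 1)))
          rw [hθ0, hθ1]
          simp only [map_add, map_sub, map_smul, LinearMap.add_apply, LinearMap.smul_apply,
            smul_eq_mul, hself, ho _ _ h01, ho _ _ h10]
          ring
        · show QuadraticMap.polarBilin Q (θ (b (k, 1))) (b (k, 0)) =
            QuadraticMap.polarBilin Q (b (k, 1)) (θ (b (k, 0)))
          rw [hθ0, hθ1]
          simp only [map_add, map_sub, map_smul, LinearMap.add_apply, LinearMap.sub_apply,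
            LinearMap.smul_apply, smul_eq_mul, hself, ho _ _ h01, ho _ _ h10]
          ring
        · show QuadraticMap.polarBilin Q (θ (b (k, 1))) (b (k, 1)) =
            QuadraticMap.polarBilin Q (b (k, 1)) (θ (b (k, 1)))
          rw [hθ1]
          simp only [map_add, map_sub, map_smul, LinearMap.add_apply, LinearMap.sub_apply,
            LinearMap.smul_apply, smul_eq_mul, hself, ho _ _ h01, ho _ _ h10]
      · have hne : ∀ i' j' : Fin 2, ((k, i') : Fin d × Fin 2) ≠ (l, j') := by
          intro i' j' h
          exact hkl (Prod.ext_iff.mp h).1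
        have hL : ∀ i' : Fin 2, ∀ w : V, w = b (l, 0) ∨ w = b (l, 1) →
            QuadraticMap.polarBilin Q (θ (b (k, i'))) w = 0 := by
          intro i' w hw
          fin_cases i'
          · show QuadraticMap.polarBilin Q (θ (b (k, 0))) w = 0
            rw [hθ0]
            rcases hw with rfl | rfl <;>
            simp only [map_add, map_smul, LinearMap.add_apply, LinearMap.smul_apply, smul_eq_mul,
              ho _ _ (hne _ _), mul_zero, add_zero]
          · show QuadraticMap.polarBilin Q (θ (b (k, 1))) w = 0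
            rw [hθ1]
            rcases hw with rfl | rfl <;>
            simp only [map_sub, map_smul, LinearMap.sub_apply, LinearMap.smul_apply, smul_eq_mul,
              ho _ _ (hne _ _), mul_zero, sub_zero]
        have hR : ∀ j' : Fin 2, ∀ w : V, w = b (k, 0) ∨ w = b (k, 1) →
            QuadraticMap.polarBilin Q w (θ (b (l, j'))) = 0 := by
          intro j' w hw
          fin_cases j'
          · show QuadraticMap.polarBilin Q w (θ (b (l, 0))) = 0
            rw [hθ0]
            rcases hw with rfl | rfl <;>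
            simp only [map_add, map_smul, smul_eq_mul,
              ho _ _ (hne _ _), mul_zero, add_zero]
          · show QuadraticMap.polarBilin Q w (θ (b (l, 1))) = 0
            rw [hθ1]
            rcases hw with rfl | rfl <;>
            simp only [map_sub, map_smul, smul_eq_mul,
              ho _ _ (hne _ _), mul_zero, sub_zero]
        rw [hL i (b (l, j)) (by fin_cases j; exact Or.inl rfl; exact Or.inr rfl),
          hR j (b (k, i)) (by fin_cases i; exact Or.inl rfl; exact Or.inr rfl)]
    intro u v
    have := LinearMap.congr_fun (LinearMap.congr_fun h u) v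
    simpa [LinearMap.compl₁₂_apply] using this

end Cfsg.Agent.Lib.Helper70.OQF
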