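import Mathlib
import Cfsg.Agent.Lib.Helper89.PairAut

/-!
# K-S5289-B `exists_torus`: the torus element `diag(a, 1/a)` as a word in two transvections
-/

set_option autoImplicit false

namespace Cfsg.Agent.Lib.Helper70.S5289K

open Cfsg Cfsg.Agent.Lib.Helper89

theorem exists_torus {E : Type*} [Group E] {hc : ∀ a b : E, a * b = b * a} {t t' : MulAut E} {d d' : E}
    {j : ℕ} (g : Gens hc t t' d d' j) {p : ℕ} (hdp : d ^ p = 1) (hd'p : d' ^ p = 1) (a a' : ℕ)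
    (haa' : a * a' ≡ 1 [MOD p]) :
    ∃ h ∈ Subgroup.closure ({t, t'} : Set (MulAut E)), h d = d ^ a ∧ h d' = d' ^ a' := by
  have hud : (t ^ j) d = d := pow_apply_fixed t d g.td j
  have hud' : (t ^ j) d' = d' * d := g.tjd'
  have hupd : ∀ n : ℕ, ((t ^ j) ^ n) d = d := fun n => pow_apply_fixed (t ^ j) d hud n
  have hupd' : ∀ n : ℕ, ((t ^ j) ^ n) d' = d' * d ^ n := by
    intro n
    induction n with
    | zero => simp
    | succ n ih =>
      rw [pow_succ', MulAut.mul_apply, ih, map_mul, map_pow, hud, hud', mul_assoc, ← pow_succ']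
  have ht'pd' : ∀ n : ℕ, (t' ^ n) d' = d' := fun n => pow_apply_fixed t' d' g.t'd' n
  have ht'pd : ∀ n : ℕ, (t' ^ n) d = d * (d' ^ n)⁻¹ := by
    intro n
    induction n with
    | zero => simp
    | succ n ih =>
      rw [pow_succ', MulAut.mul_apply, ih, map_mul, map_inv, map_pow, g.t'd, g.t'd', mul_assoc,
        ← mul_inv_rev, ← pow_succ]
  have key : ∀ b b' : ℕ, b * b' ≡ 1 [MOD p] →
      ((t ^ j) ^ b * t' ^ b' * (t ^ j) ^ b) d = (d' ^ b')⁻¹ ∧
      ((t ^ j) ^ b * t' ^ b' * (t ^ j) ^ b) d' = d ^ b := by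
    intro b b' hbb'
    have hdpow : d ^ (b * b') = d :=
      (pow_eq_pow_iff_modEq.mpr (hbb'.of_dvd (orderOf_dvd_of_pow_eq_one hdp))).trans (pow_one d)
    have hd'pow : d' ^ (b' * b) = d' := by
      have h1 : b' * b ≡ 1 [MOD p] := by rw [mul_comm]; exact hbb'
      exact (pow_eq_pow_iff_modEq.mpr (h1.of_dvd (orderOf_dvd_of_pow_eq_one hd'p))).trans (pow_one d')
    constructor
    · have e1 : (d' * d ^ b) ^ b' = d' ^ b' * d := by
        rw [Commute.mul_pow (hc d' (d ^ b)) b', ← pow_mul, hdpow]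
      rw [MulAut.mul_apply, MulAut.mul_apply, hupd, ht'pd, map_mul, map_inv, map_pow, hupd, hupd',
        e1, mul_inv_rev, mul_inv_cancel_left]
    · have e2 : (d * (d' ^ b')⁻¹) ^ b = d ^ b * d'⁻¹ := by
        rw [Commute.mul_pow (hc d ((d' ^ b')⁻¹)) b, inv_pow, ← pow_mul, hd'pow]
      have e3 : d' * (d ^ b * d'⁻¹) = d ^ b := by
        rw [hc (d ^ b) d'⁻¹, mul_inv_cancel_left]
      rw [MulAut.mul_apply, MulAut.mul_apply, hupd', map_mul, map_pow, ht'pd', ht'pd, e2, e3,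
        map_pow, hupd]
  obtain ⟨k1, k2⟩ := key a a' haa'
  obtain ⟨l1, l2⟩ := key 1 1 (by rw [mul_one])
  have htm : t ∈ Subgroup.closure ({t, t'} : Set (MulAut E)) :=
    Subgroup.subset_closure (Set.mem_insert _ _)
  have ht'm : t' ∈ Subgroup.closure ({t, t'} : Set (MulAut E)) :=
    Subgroup.subset_closure (Set.mem_insert_of_mem _ (Set.mem_singleton _))
  have hwm : ∀ b b' : ℕ, (t ^ j) ^ b * t' ^ b' * (t ^ j) ^ b ∈
      Subgroup.closure ({t, t'} : Set (MulAut E)) := by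
    intro b b'
    exact Subgroup.mul_mem _ (Subgroup.mul_mem _ (Subgroup.pow_mem _ (Subgroup.pow_mem _ htm j) b)
      (Subgroup.pow_mem _ ht'm b')) (Subgroup.pow_mem _ (Subgroup.pow_mem _ htm j) b)
  refine ⟨((t ^ j) ^ a * t' ^ a' * (t ^ j) ^ a) * ((t ^ j) ^ 1 * t' ^ 1 * (t ^ j) ^ 1)⁻¹,
    Subgroup.mul_mem _ (hwm a a') (Subgroup.inv_mem _ (hwm 1 1)), ?_, ?_⟩
  · -- w(1,1)⁻¹ d = d'
    have h1 : ((t ^ j) ^ 1 * t' ^ 1 * (t ^ j) ^ 1)⁻¹ d = d' := by
      rw [MulAut.inv_apply, MulEquiv.symm_apply_eq, l2, pow_one]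
    rw [MulAut.mul_apply, h1, k2]
  · -- w(1,1)⁻¹ d' = d⁻¹
    have h2 : ((t ^ j) ^ 1 * t' ^ 1 * (t ^ j) ^ 1)⁻¹ d' = d⁻¹ := by
      rw [MulAut.inv_apply, MulEquiv.symm_apply_eq, map_inv, l1, pow_one, inv_inv]
    rw [MulAut.mul_apply, h2, map_inv, k1, inv_inv]

end Cfsg.Agent.Lib.Helper70.S5289K
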