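import Mathlib

set_option autoImplicit false

namespace Cfsg.Agent.Lib.Helper70.A7c

open Equiv

/-- the group `C₃^(7×7) ⋊ S₇`, acting on `(Fin 7 × Fin 7) × ZMod 3` by
`((i, j), s) ↦ ((σ i, σ j), s + c i j)` -/
@[ext] structure W where
  σ : Perm (Fin 7)
  c : Fin 7 → Fin 7 → ZMod 3
deriving DecidableEq

instance : Mul W := ⟨fun g h => ⟨g.σ * h.σ, fun i j => h.c i j + g.c (h.σ i) (h.σ j)⟩⟩
instance : One W := ⟨⟨1, fun _ _ => 0⟩⟩
instance : Inv W := ⟨fun g => ⟨g.σ⁻¹, fun i j => - g.c (g.σ⁻¹ i) (g.σ⁻¹ j)⟩⟩

@[simp] theorem mul_σ (g h : W) : (g * h).σ = g.σ * h.σ := rfl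
@[simp] theorem mul_c (g h : W) (i j : Fin 7) :
    (g * h).c i j = h.c i j + g.c (h.σ i) (h.σ j) := rfl
@[simp] theorem one_σ : (1 : W).σ = 1 := rfl
@[simp] theorem one_c (i j : Fin 7) : (1 : W).c i j = 0 := rfl
@[simp] theorem inv_σ (g : W) : (g⁻¹).σ = g.σ⁻¹ := rfl
@[simp] theorem inv_c (g : W) (i j : Fin 7) :
    (g⁻¹).c i j = - g.c (g.σ⁻¹ i) (g.σ⁻¹ j) := rfl

instance : Group W := Group.ofLeftAxioms
  (by
    intro a b c
    ext i j
    · simp [mul_assoc]
    · simp [add_assoc])
  (by
    intro a
    ext i j
    · simp
    · simp)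
  (by
    intro a
    ext i j
    · simp
    · simp)

instance : Finite W :=
  Finite.of_injective (fun g : W => (g.σ, g.c)) (fun g h hgh => by
    have h1 := congrArg Prod.fst hgh
    have h2 := congrArg Prod.snd hgh
    exact W.ext h1 h2)

/-- the projection to `S₇` -/
def πW : W →* Perm (Fin 7) where
  toFun := W.σ
  map_one' := rfl
  map_mul' _ _ := rfl

@[simp] theorem πW_apply (g : W) : πW g = g.σ := rfl

/-- decoding of a function `Fin 7 → Fin 7 → ZMod 3` from a base-four code -/
def dec (code : ℕ) (i j : Fin 7) : ZMod 3 :=
  (⟨((code >>> (2 * (7 * i.val + j.val))) &&& 3) % 3, Nat.mod_lt _ (by norm_num)⟩ : Fin 3)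

/-- codes of the 45 transversals (functions on pairs, symmetric with zero diagonal) -/
def codesT : List ℕ :=
  [27878605492063286724384789504,
  44653301202670984236324881664,
  6692813159031884577393354240,
  12380085879742050449259495744,
  31649784804029663052136974720,
  51094065044644929430585610256,
  1934470216736596382338515024,
  26195727631432969754350461072,
  42912798426438339843771607440,
  12496082552356343210328467088,
  12553894870369260666642503712,
  47438726491546274593394655840,
  50339748460247155507454289504,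
  40881689723690192479067576928,
  5590269272561865707227716000,
  31069705905969907376244941316,
  20160840476000181503265890628,
  7853257977268892485144830084,
  10697229263904995610583913604,
  1238419438486688770311604356,
  42274209264987652145904374292,
  32810552012629505111386245204,
  49643375315846874816893708628,
  11625794081930498771404479060,
  20218256049725875593709901460,
  20276224268079300518107957284,
  52312800407631331957237892388,
  4951779349106464233535848996,
  3211333249272184986424075620,
  27413910391919777336089925028,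
  49876155072808043328647506440,
  31359957905919612969768490056,
  46452228861028773318639522120,
  716007642400115335487593032,
  24919137387547302630066260616,
  27646367782730572769310052632,
  30489587980505332082863539480,
  21088579926013146843097377048,
  42564560502932643963603289176,
  46509800335094974877167552152,
  46626193751996491004106549288,
  5300541612447101849034597480,
  22945440396862934039346585768,
  39721170509803027358296347048,
  1702554873554255505797448360]


/-- the 45 transversals -/
def T : List (Fin 7 → Fin 7 → ZMod 3) := codesT.map dec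

/-- `g` carries the transversal `t` to the transversal `t'` -/
def Rel (g : W) (t t' : Fin 7 → Fin 7 → ZMod 3) : Prop :=
  ∀ i j, t' (g.σ i) (g.σ j) = t i j + g.c i j

theorem rel_one (t : Fin 7 → Fin 7 → ZMod 3) : Rel 1 t t := by
  intro i j; simp

theorem rel_mul {g h : W} {t t' t'' : Fin 7 → Fin 7 → ZMod 3} (h1 : Rel g t t')
    (h2 : Rel h t' t'') : Rel (h * g) t t'' := by
  intro i j
  simp only [mul_σ, mul_c, Perm.mul_apply]
  rw [h2 (g.σ i) (g.σ j), h1 i j, add_assoc]

/-- `g` maps the set `T` into itself -/
def Pres (g : W) : Prop := ∀ t ∈ T, ∃ t' ∈ T, Rel g t t'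

/-- the list of indices -/
def idx : List (Fin 7) := [0, 1, 2, 3, 4, 5, 6]

theorem mem_idx (i : Fin 7) : i ∈ idx := by
  revert i; decide

/-- boolean test for `Rel` -/
def relB (g : W) (t t' : Fin 7 → Fin 7 → ZMod 3) : Bool :=
  idx.all fun i => idx.all fun j => decide (t' (g.σ i) (g.σ j) = t i j + g.c i j)

theorem rel_of_relB {g : W} {t t' : Fin 7 → Fin 7 → ZMod 3} (h : relB g t t' = true) :
    Rel g t t' := by
  intro i j
  unfold relB at h
  rw [List.all_eq_true] at h
  have h1 := h i (mem_idx i)
  rw [List.all_eq_true] at h1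
  exact of_decide_eq_true (h1 j (mem_idx j))

theorem relB_of_rel {g : W} {t t' : Fin 7 → Fin 7 → ZMod 3} (h : Rel g t t') :
    relB g t t' = true := by
  unfold relB
  rw [List.all_eq_true]
  intro i _
  rw [List.all_eq_true]
  intro j _
  exact decide_eq_true (h i j)

/-- boolean test for `Pres` -/
def presB (g : W) : Bool := T.all fun t => T.any fun t' => relB g t t'

theorem pres_of_presB {g : W} (h : presB g = true) : Pres g := by
  intro t ht
  unfold presB at h
  rw [List.all_eq_true] at h
  have h1 := h t ht
  rw [List.any_eq_true] at h1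
  obtain ⟨t', ht', h2⟩ := h1
  exact ⟨t', ht', rel_of_relB h2⟩

theorem presB_of_pres {g : W} (h : Pres g) : presB g = true := by
  unfold presB
  rw [List.all_eq_true]
  intro t ht
  rw [List.any_eq_true]
  obtain ⟨t', ht', h2⟩ := h t ht
  exact ⟨t', ht', relB_of_rel h2⟩

/-- the stabiliser of `T`, as a submonoid -/
def E₀m : Submonoid W where
  carrier := {g | Pres g}
  one_mem' := fun t ht => ⟨t, ht, rel_one t⟩
  mul_mem' := by
    intro g h hg hh t ht
    obtain ⟨t', ht', h1⟩ := hh t ht
    obtain ⟨t'', ht'', h2⟩ := hg t' ht'
    exact ⟨t'', ht'', rel_mul h1 h2⟩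

/-- the stabiliser of `T` -/
def E₀ : Subgroup W :=
  { E₀m with
    inv_mem' := by
      intro g hg
      have h1 : g⁻¹ = g ^ (orderOf g - 1) := by
        apply inv_eq_of_mul_eq_one_left
        rw [← pow_succ, Nat.sub_add_cancel (orderOf_pos g), pow_orderOf_eq_one]
      rw [h1]
      exact E₀m.pow_mem hg _ }

theorem mem_E₀ (g : W) : g ∈ E₀ ↔ Pres g := Iff.rfl

/-- the group `3.A₇` -/
def E : Subgroup W := E₀ ⊓ (alternatingGroup (Fin 7)).comap πW

theorem mem_E (g : W) : g ∈ E ↔ Pres g ∧ Perm.sign g.σ = 1 := by
  unfold E
  rw [Subgroup.mem_inf, Subgroup.mem_comap, Equiv.Perm.mem_alternatingGroup]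
  rfl

/-- codes of lifts of the 3-cycles `swap a b * swap b c` with `a < b`, `a < c` -/
def tblCodes : List (List (List ℕ)) :=
  [
  [    [0, 0, 0, 0, 0, 0, 0],
    [0, 0, 7428359661149590011416937744, 47070907195799029750576452672, 11779943784795525909206536464, 11141660465028222966351004752, 12553599648460848928955306304],
    [0, 11141924990833691014694208792, 0, 39701504141014392114938677272, 7544087080911379813755791376, 7428056173658790927702950544, 5648413483732057191326188056],
    [0, 29889530959857278009301046344, 19967244698176524089251104840, 0, 25421301884251154015366455368, 51075044609497722940716238212, 27239547560861090577387620928],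
    [0, 2959563743324792733668249880, 1741030271393097336267745536, 41209868070705676700108759304, 0, 52119666319827319470646913172, 23003786488993226604731717124],
    [0, 7427641713793789460591707224, 11141499904991112959585420928, 11257670120046323339394294816, 696947064614666745713558568, 0, 40939065145553370885227316360],
    [0, 19512825883437841912992072, 638922171516653042378510856, 2495343318556750171013650944, 9922977060258557119300898976, 39643175762227054520238903432, 0]],
  [    [0, 0, 0, 0, 0, 0, 0],
    [0, 0, 0, 0, 0, 0, 0],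
    [0, 0, 0, 22636616662251503226186113280, 6616046510645898011289363720, 11142142295780315634139694472, 7737773838280640647068648576],
    [0, 0, 42196677454368698779306037760, 0, 22404531238291713492283597464, 52177259036109778767908738088, 44595055455283334223360988680],
    [0, 0, 13172860156978606366775089176, 21823984685357998692960045072, 0, 47360965570929312607185963624, 49992136390739498607353023044],
    [0, 0, 7428093953460002097895342680, 26117671483358220094162903128, 30064030739336798831723946048, 0, 30953686809390602408740258320],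
    [0, 0, 22752326381495364011047258176, 29715498779487270772595001672, 2785535104081168884478280040, 30179738097541524574282187040, 0]],
  [    [0, 0, 0, 0, 0, 0, 0],
    [0, 0, 0, 0, 0, 0, 0],
    [0, 0, 0, 0, 0, 0, 0],
    [0, 0, 0, 0, 31108252149689305198083197316, 49914584441412349932500190504, 40977832234120643253461592336],
    [0, 0, 0, 49914584441412349932500190504, 0, 5687478154670283885237249120, 20315549928381789383229219144],
    [0, 0, 0, 30354353644088322666799600776, 44750297492469625390173000096, 0, 49914584441412349932500190504],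
    [0, 0, 0, 46432452699373113120791201424, 27278325277996610049368416404, 11489826383467571521285285380, 0]],
  [    [0, 0, 0, 0, 0, 0, 0],
    [0, 0, 0, 0, 0, 0, 0],
    [0, 0, 0, 0, 0, 0, 0],
    [0, 0, 0, 0, 0, 0, 0],
    [0, 0, 0, 0, 0, 44750297492469625390173000096, 40977832234120643253461592336],
    [0, 0, 0, 0, 7892349803255451126814753380, 0, 11489826383467571521285285380],
    [0, 0, 0, 0, 5687478154670283885237249120, 12476533053709514543055525924, 0]],
  [    [0, 0, 0, 0, 0, 0, 0],
    [0, 0, 0, 0, 0, 0, 0],
    [0, 0, 0, 0, 0, 0, 0],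
    [0, 0, 0, 0, 0, 0, 0],
    [0, 0, 0, 0, 0, 0, 0],
    [0, 0, 0, 0, 0, 0, 20315549928381789383229219144],
    [0, 0, 0, 0, 0, 5687478154670283885237249120, 0]],
  [    [0, 0, 0, 0, 0, 0, 0],
    [0, 0, 0, 0, 0, 0, 0],
    [0, 0, 0, 0, 0, 0, 0],
    [0, 0, 0, 0, 0, 0, 0],
    [0, 0, 0, 0, 0, 0, 0],
    [0, 0, 0, 0, 0, 0, 0],
    [0, 0, 0, 0, 0, 0, 0]],
  [    [0, 0, 0, 0, 0, 0, 0],
    [0, 0, 0, 0, 0, 0, 0],
    [0, 0, 0, 0, 0, 0, 0],
    [0, 0, 0, 0, 0, 0, 0],
    [0, 0, 0, 0, 0, 0, 0],
    [0, 0, 0, 0, 0, 0, 0],
    [0, 0, 0, 0, 0, 0, 0]]]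


/-- table of lifts of the 3-cycles `swap a b * swap b c` with `a < b`, `a < c` -/
def tbl (a b c : Fin 7) : Fin 7 → Fin 7 → ZMod 3 :=
  dec (((tblCodes.getD a.val []).getD b.val []).getD c.val 0)

end Cfsg.Agent.Lib.Helper70.A7c
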