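import Mathlib
import Cfsg.Agent.Lib.Helper70.A7Group

set_option autoImplicit false

namespace Cfsg.Agent.Lib.Helper70.A7c

open Equiv

set_option maxRecDepth 100000 in
theorem presB_tbl : ∀ a b c : Fin 7, a < b → a < c → b ≠ c →
    presB ⟨swap a b * swap b c, tbl a b c⟩ = true := by
  decide +kernel

theorem pres_tbl (a b c : Fin 7) (hab : a < b) (hac : a < c) (hbc : b ≠ c) :
    Pres ⟨swap a b * swap b c, tbl a b c⟩ :=
  pres_of_presB (presB_tbl a b c hab hac hbc)

/-- the first transversal of the list -/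
def t₀ : Fin 7 → Fin 7 → ZMod 3 := dec (codesT.headD 0)

theorem t₀_mem : t₀ ∈ T := by
  unfold T t₀
  exact List.mem_map_of_mem (by decide)

/-- test for a function to be constant off the diagonal and zero on it -/
def constB (c : Fin 7 → Fin 7 → ZMod 3) : Bool :=
  idx.all fun i => idx.all fun j => decide (c i j = if i = j then 0 else c 0 1)

theorem const_of_constB {c : Fin 7 → Fin 7 → ZMod 3} (h : constB c = true) (i j : Fin 7) :
    c i j = if i = j then 0 else c 0 1 := by
  unfold constB at h
  rw [List.all_eq_true] at h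
  have h1 := h i (mem_idx i)
  rw [List.all_eq_true] at h1
  exact of_decide_eq_true (h1 j (mem_idx j))

set_option maxRecDepth 100000 in
theorem ker_constB : (codesT.all fun k =>
    (!presB ⟨1, fun i j => dec k i j - t₀ i j⟩) || constB (fun i j => dec k i j - t₀ i j)) = true := by
  decide +kernel

theorem ker_const (t' : Fin 7 → Fin 7 → ZMod 3) (ht' : t' ∈ T)
    (h : Pres ⟨1, fun i j => t' i j - t₀ i j⟩) (i j : Fin 7) :
    t' i j - t₀ i j = if i = j then 0 else t' 0 1 - t₀ 0 1 := by
  unfold T at ht'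
  rw [List.mem_map] at ht'
  obtain ⟨k, hk, rfl⟩ := ht'
  have h1 := ker_constB
  rw [List.all_eq_true] at h1
  have h2 := h1 k hk
  rw [Bool.or_eq_true] at h2
  rcases h2 with h2 | h2
  · rw [presB_of_pres h] at h2
    simp at h2
  · exact const_of_constB h2 i j

/-- the central element of order three -/
def z : W := ⟨1, fun i j => if i = j then 0 else 1⟩

theorem pres_z : Pres z := pres_of_presB (by decide +kernel)

theorem z_mem_E : z ∈ E := by
  rw [mem_E]
  exact ⟨pres_z, by simp [z]⟩

theorem z_central (g : W) : g * z = z * g := by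
  ext i j
  · simp [z]
  · simp [z, add_comm]

theorem z_ne_one : z ≠ 1 := by
  intro h
  have := congrArg (fun g : W => g.c 0 1) h
  simp [z] at this

theorem z_sq_ne_one : z * z ≠ 1 := by
  intro h
  have := congrArg (fun g : W => g.c 0 1) h
  simp [z] at this
  revert this; decide

theorem z_sq_ne_z : z * z ≠ z := by
  intro h
  have := congrArg (fun g : W => g.c 0 1) h
  simp [z] at this

theorem z_cube : z * z * z = 1 := by
  ext i j
  · simp [z]
  · simp only [mul_c, z, one_c]
    by_cases hij : i = j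
    · simp [hij]
    · simp [hij]; decide

/-- the elements of `E₀` over the identity permutation -/
theorem eq_of_σ_eq_one (g : W) (hg : Pres g) (hσ : g.σ = 1) : g = 1 ∨ g = z ∨ g = z * z := by
  obtain ⟨t', ht', hrel⟩ := hg t₀ t₀_mem
  have hc : g.c = fun i j => t' i j - t₀ i j := by
    funext i j
    have := hrel i j
    rw [hσ] at this
    simp only [Perm.one_apply] at this
    rw [this]; ring
  have hg' : g = ⟨1, fun i j => t' i j - t₀ i j⟩ := W.ext hσ hc
  have h2 : ∀ i j, g.c i j = if i = j then 0 else g.c 0 1 := by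
    intro i j
    have := ker_const t' ht' (hg' ▸ hg) i j
    rw [hc]
    exact this
  have h3 : g.c 0 1 = 0 ∨ g.c 0 1 = 1 ∨ g.c 0 1 = 2 := by
    generalize g.c 0 1 = x
    revert x; decide
  rcases h3 with h | h | h
  · left
    ext i j
    · rw [hσ]; rfl
    · rw [h2 i j, h]; simp
  · right; left
    ext i j
    · rw [hσ]; rfl
    · rw [h2 i j, h]; rfl
  · right; right
    ext i j
    · rw [hσ]; rfl
    · rw [h2 i j, h]
      show _ = (z * z).c i j
      simp only [mul_c, z]
      by_cases hij : i = j
      · simp [hij]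
      · simp [hij]; decide

/-- every even permutation lifts to `E` -/
theorem exists_lift (τ : Perm (Fin 7)) (hτ : τ ∈ alternatingGroup (Fin 7)) :
    ∃ g ∈ E, g.σ = τ := by
  have hcl : Subgroup.closure {σ : Perm (Fin 7) | σ.IsThreeCycle} ≤ E₀.map πW := by
    rw [Subgroup.closure_le]
    intro g hg
    have hg3 : g.IsThreeCycle := hg
    have hne : g.support.Nonempty := by
      rw [← Finset.card_pos, hg3.card_support]; norm_num
    have ha : g.support.min' hne ∈ g.support := Finset.min'_mem _ hne
    obtain ⟨a, haa⟩ : ∃ a, a = g.support.min' hne := ⟨_, rfl⟩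
    rw [← haa] at ha
    have h1 := hg3.eq_swap_mul_swap_iff_mem_support.mpr ha
    have h2 := hg3.nodup_iff_mem_support.mpr ha
    have hab : a ≠ g a := by
      intro h; rw [← h] at h2; simp at h2
    have hbc : g a ≠ g (g a) := by
      intro h; rw [← h] at h2; simp at h2
    have hac : a ≠ g (g a) := by
      intro h; rw [← h] at h2; simp at h2
    have hb : g a ∈ g.support := Equiv.Perm.apply_mem_support.mpr ha
    have hc : g (g a) ∈ g.support := Equiv.Perm.apply_mem_support.mpr hb
    have hlb : a ≤ g a := le_of_eq_of_le haa (Finset.min'_le _ _ hb)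
    have hlc : a ≤ g (g a) := le_of_eq_of_le haa (Finset.min'_le _ _ hc)
    refine ⟨⟨swap a (g a) * swap (g a) (g (g a)), tbl a (g a) (g (g a))⟩, ?_, ?_⟩
    · exact pres_tbl a (g a) (g (g a)) (lt_of_le_of_ne hlb hab) (lt_of_le_of_ne hlc hac) hbc
    · exact h1.symm
  have h3 : τ ∈ E₀.map πW := by
    apply hcl
    rw [Equiv.Perm.closure_three_cycles_eq_alternating]
    exact hτ
  obtain ⟨g, hg, rfl⟩ := h3
  refine ⟨g, ?_, rfl⟩
  rw [mem_E]
  exact ⟨hg, Equiv.Perm.mem_alternatingGroup.mp hτ⟩

/-- two elements of `E` whose commutator is `z` -/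
def e₁ : W := ⟨swap 3 4 * swap 4 5, dec 44750297492469625390173000096⟩

def e₂ : W := ⟨swap 0 1 * swap 1 2, dec 7428359661149590011416937744⟩

theorem e₁_mem_E : e₁ ∈ E := by
  rw [mem_E]
  refine ⟨pres_of_presB (by decide +kernel), ?_⟩
  simp [e₁, Equiv.Perm.sign_mul]

theorem e₂_mem_E : e₂ ∈ E := by
  rw [mem_E]
  refine ⟨pres_of_presB (by decide +kernel), ?_⟩
  simp [e₂, Equiv.Perm.sign_mul]

theorem comm_e : e₁ * e₂ * e₁⁻¹ * e₂⁻¹ = z := by
  apply W.ext
  · decide +kernel
  · decide +kernel

end Cfsg.Agent.Lib.Helper70.A7c
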