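import Mathlib
import Cfsg.Prelude.Def_KGroupFacts
import Cfsg.Agent.Lib.Helper70.A7Decide

set_option autoImplicit false

namespace Cfsg.Agent.Lib.Helper70.A7c

open Equiv Subgroup
open scoped commutatorElement

/-- the covering map `3.A₇ → A₇` -/
def πE : E →* alternatingGroup (Fin 7) :=
  (πW.comp E.subtype).codRestrict (alternatingGroup (Fin 7)) (fun g => by
    have := g.2
    unfold E at this
    exact (Subgroup.mem_inf.mp this).2)

theorem πE_apply (g : E) : ((πE g : alternatingGroup (Fin 7)) : Perm (Fin 7)) = (g : W).σ := rfl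

theorem πE_surjective : Function.Surjective πE := by
  rintro ⟨τ, hτ⟩
  obtain ⟨g, hg, rfl⟩ := exists_lift τ hτ
  exact ⟨⟨g, hg⟩, rfl⟩

/-- `z` as an element of `E` -/
def zE : E := ⟨z, z_mem_E⟩

theorem mem_ker_πE (g : E) : g ∈ πE.ker ↔ g = 1 ∨ g = zE ∨ g = zE * zE := by
  constructor
  · intro hg
    have h1 : (g : W).σ = 1 := by
      have := congrArg (fun x : alternatingGroup (Fin 7) => (x : Perm (Fin 7))) (MonoidHom.mem_ker.mp hg)
      exact this
    have h2 : Pres (g : W) := ((mem_E _).mp g.2).1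
    rcases eq_of_σ_eq_one (g : W) h2 h1 with h | h | h
    · left; exact Subtype.ext h
    · right; left; exact Subtype.ext h
    · right; right; exact Subtype.ext h
  · rintro (rfl | rfl | rfl)
    · exact one_mem _
    · rw [MonoidHom.mem_ker]; apply Subtype.ext; rfl
    · rw [MonoidHom.mem_ker]; apply Subtype.ext
      show (z * z).σ = 1
      simp [z]

theorem ker_πE_le_center : πE.ker ≤ center E := by
  intro g hg
  have hz : zE ∈ center E := by
    rw [Subgroup.mem_center_iff]
    intro h
    exact Subtype.ext (z_central (h : W))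
  rcases (mem_ker_πE g).mp hg with rfl | rfl | rfl
  · exact one_mem _
  · exact hz
  · exact mul_mem hz hz

theorem zE_mem_commutator : zE ∈ commutator E := by
  have h : ⁅(⟨e₁, e₁_mem_E⟩ : E), ⟨e₂, e₂_mem_E⟩⁆ = zE := by
    apply Subtype.ext
    show e₁ * e₂ * e₁⁻¹ * e₂⁻¹ = z
    exact comm_e
  rw [← h, commutator_def]
  exact Subgroup.commutator_mem_commutator (Subgroup.mem_top _) (Subgroup.mem_top _)

theorem ker_πE_le_commutator : πE.ker ≤ commutator E := by
  intro g hg
  rcases (mem_ker_πE g).mp hg with rfl | rfl | rfl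
  · exact one_mem _
  · exact zE_mem_commutator
  · exact mul_mem zE_mem_commutator zE_mem_commutator

theorem pow_four_of_mem_ker (g : E) (hg : g ∈ πE.ker) : g ^ 4 = g := by
  have h3 : zE ^ 3 = 1 := by
    rw [pow_succ, pow_two]; exact Subtype.ext z_cube
  rcases (mem_ker_πE g).mp hg with rfl | rfl | rfl
  · simp
  · rw [pow_succ, h3, one_mul]
  · rw [← pow_two, ← pow_mul]
    calc zE ^ (2 * 4) = (zE ^ 3) ^ 2 * zE ^ 2 := by rw [← pow_mul, ← pow_add]
      _ = zE ^ 2 := by rw [h3, one_pow, one_mul]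

theorem card_ker_πE : Nat.card πE.ker = 3 := by
  classical
  have h1 : zE ≠ 1 := fun h => z_ne_one (congrArg Subtype.val h)
  have h2 : zE * zE ≠ 1 := fun h => z_sq_ne_one (congrArg Subtype.val h)
  have h3 : zE * zE ≠ zE := fun h => z_sq_ne_z (congrArg Subtype.val h)
  have hset : (πE.ker : Set E) = {1, zE, zE * zE} := by
    ext g
    simp only [SetLike.mem_coe, Set.mem_insert_iff, Set.mem_singleton_iff]
    exact mem_ker_πE g
  have : Nat.card πE.ker = (πE.ker : Set E).ncard := (Nat.card_coe_set_eq _)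
  rw [this, Set.ncard_eq_three]
  exact ⟨1, zE, zE * zE, h1.symm, h2.symm, h3.symm, hset⟩

end Cfsg.Agent.Lib.Helper70.A7c
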