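import Mathlib
import Cfsg.Agent.Lib.Helper70.AGDefs
import Cfsg.Agent.Lib.Helper77.CoprimeInv
import Cfsg.Agent.Lib.Helper03.AGA1
import Cfsg.Agent.Lib.Helper03.AGA2
import Cfsg.Agent.Lib.Helper04.AG5
import Cfsg.Agent.Lib.Helper42.AGA9
import Cfsg.Agent.Lib.Helper46.AGA4
import Cfsg.Agent.Lib.Helper46.AGA6
import Cfsg.Agent.Lib.Helper50.AGA7
import Cfsg.Agent.Lib.Helper57.AGA3
import Cfsg.Agent.Lib.Helper61.AGA8

/-!
# Glue for pack K-4188 (S4188): a 2-group `Q ≤ Aut(V)`, `V` elementary abelian of order `r ^ n` (`r` odd),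
has `|Q : Φ(Q)| ≤ 2 ^ ex r n ≤ r ^ n - 1`.  Leaves by the hands of the pack (see the imports).
-/

set_option autoImplicit false
set_option linter.style.haveILetI false

namespace Cfsg.Agent.Lib.Helper70.AGSpec

open Cfsg.Agent.Lib.Helper70.AG

/-! ## A1 (keystone 418801, EASY): arithmetic of `ex` (unfold ex; split_ifs; omega; last one: induction) -/
theorem ex_add (r a b : ℕ) (ha : 1 ≤ a) (hb : 1 ≤ b) : ex r a + ex r b ≤ ex r (a + b) :=
  Cfsg.Agent.Lib.Helper03.AG.ex_add r a b ha hb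
theorem ex_double (r m : ℕ) (hm : 1 ≤ m) (h : r ≠ 3 ∨ 2 ≤ m) : 1 + 2 * ex r m ≤ ex r (2 * m) :=
  Cfsg.Agent.Lib.Helper03.AG.ex_double r m hm h
theorem one_le_ex (r n : ℕ) (hn : 1 ≤ n) : 1 ≤ ex r n :=
  Cfsg.Agent.Lib.Helper03.AG.one_le_ex r n hn
theorem two_le_ex (r n : ℕ) (hn : 2 ≤ n) : 2 ≤ ex r n :=
  Cfsg.Agent.Lib.Helper03.AG.two_le_ex r n hn
/-- r = 3: 2^((3n-2)/2) * 2 ≤ 3^n for n ≥ 2 (two-step induction: exponent +3 when n +2, 8 ≤ 9); r ≥ 5: 2^(2n-1) * 2 = 4^n ≤ r^n. -/
theorem pow_ex_le (r n : ℕ) (hr : r.Prime) (hr2 : r ≠ 2) (hn : 1 ≤ n) : 2 ^ ex r n ≤ r ^ n - 1 :=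
  Cfsg.Agent.Lib.Helper03.AG.pow_ex_le r n hr hr2 hn

/-! ## A2 (keystone 418802, MEDIUM): sub-multiplicativity of the Frattini index in 2-groups.
Φ(K) ≤ Φ(X) for K ⊴ X (Helper14.Frattini.le_frattini_of_normal_of_le_map_frattini with H := K, N := map of Φ(K), which is
normal in X since Φ(K) is characteristic in K ⊴ X).  |X:Φ(X)| = |X : Φ(X)K| |Φ(X)K : Φ(X)|, |Φ(X)K:Φ(X)| = |K : K ∩ Φ(X)| ≤ |K:Φ(K)|.
X/Φ(X)K is elementary abelian (squares and commutators of X lie in Φ(X): Helper03.PGroupFrattini), hence the preimage of Φ(X/K) in X lies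
in Φ(X)K (Helper72.Frattini.frattini_le_of_sq_mem / Helper54.FrattiniLib applied to X/K with N := image of Φ(X)K... or: every maximal
subgroup of X containing K gives a maximal subgroup of X/K), so |X : Φ(X)K| ≤ |X/K : Φ(X/K)|. -/
theorem frattini_index_le_mul {X : Type*} [Group X] [Finite X] (hX : IsPGroup 2 X) (K : Subgroup X) [K.Normal] :
    (frattini X).index ≤ (frattini (X ⧸ K)).index * (frattini ↥K).index :=
  Cfsg.Agent.Lib.Helper03.AG.frattini_index_le_mul hX K

/-! ## A3 (keystone 418803, EASY): the Frattini index is an isomorphism invariant. -/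
theorem frattini_index_congr {X Y : Type*} [Group X] [Group Y] (e : X ≃* Y) :
    (frattini X).index = (frattini Y).index :=
  Cfsg.Agent.Lib.Helper57.AG.frattini_index_congr e

/-! ## A4 (keystone 418804, MEDIUM; uses A2 + A3 — cite a landed copy or prove them inline):
K := φ₁.ker; X/K ≃* φ₁.range (QuotientGroup.quotientKerEquivRange); φ₂ is injective on K so K ≃* (K.map φ₂)
(Subgroup.equivMapOfInjective on φ₂.comp K.subtype or MonoidHom.ofInjective). -/
theorem frattini_index_le_of_two_homs {X Y₁ Y₂ : Type*} [Group X] [Finite X] [Group Y₁] [Group Y₂]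
    (hX : IsPGroup 2 X) (φ₁ : X →* Y₁) (φ₂ : X →* Y₂)
    (hinj : ∀ x : X, φ₁ x = 1 → φ₂ x = 1 → x = 1) (B₁ B₂ : ℕ)
    (h₁ : ∀ S : Subgroup Y₁, Finite S → IsPGroup 2 S → (frattini ↥S).index ≤ B₁)
    (h₂ : ∀ S : Subgroup Y₂, Finite S → IsPGroup 2 S → (frattini ↥S).index ≤ B₂) :
    (frattini X).index ≤ B₁ * B₂ :=
  Cfsg.Agent.Lib.Helper46.AG.frattini_index_le_of_two_homs hX φ₁ φ₂ hinj B₁ B₂ h₁ h₂

/-! ## A5 (keystone 418805, MEDIUM-HARD ~200 lines, PARALLEL HANDS WELCOME): geometry of a normal four-group.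
(1) z inverts V: fixedSub z is Q-invariant (z central) and ≠ ⊤ (z ≠ 1, ext), so = ⊥; then v * z v is fixed by z, so z v = v⁻¹.
(2) so (u*z) v = (u v)⁻¹ and fixedSub (u*z) = {v | u v = v⁻¹}.  V₊ ⊓ V₋ = ⊥: v = v⁻¹, |V| odd.  V₊ ⊔ V₋ = ⊤: v * u v ∈ V₊,
    v * (u v)⁻¹ ∈ V₋, product = v^2, and every element of a group of odd order is a square.
(3) m u = u m ⟹ m preserves V₊ and V₋ (m commutes with z too).
(4) s u s⁻¹ = u z ⟹ s maps V₊ into V₋ and V₋ into V₊ (bijection ⟹ equal cards).  Such s exists: otherwise Q centralizes u, V₊ is Q-invariant,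
    V₊ = ⊤ gives u = 1, V₊ = ⊥ gives V₋ = ⊤, u = inversion = z.  The same argument gives V₊ ≠ ⊥.
(5) index 2: for s, t ∉ C_Q(u): s⁻¹ t ∈ C_Q(u) (both conjugate u to u z) — e.g. Subgroup.index_eq_two_iff. -/
theorem caseB_geometry {V : Type*} [CommGroup V] [Finite V] (hodd : Odd (Nat.card V))
    (Q : Subgroup (MulAut V))
    (hirr : ∀ W : Subgroup V, IsInv Q W → W = ⊥ ∨ W = ⊤)
    (z u : ↥Q) (hz1 : z ≠ 1) (hz2 : z ^ 2 = 1) (hzc : z ∈ Subgroup.center ↥Q)
    (hu1 : u ≠ 1) (hu2 : u ^ 2 = 1) (huz : u ≠ z)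
    (hconj : ∀ s : ↥Q, s * u * s⁻¹ = u ∨ s * u * s⁻¹ = u * z) :
    (Subgroup.centralizer ({u} : Set ↥Q)).index = 2 ∧
    fixedSub (u : MulAut V) ⊓ fixedSub ((u * z : ↥Q) : MulAut V) = ⊥ ∧
    fixedSub (u : MulAut V) ⊔ fixedSub ((u * z : ↥Q) : MulAut V) = ⊤ ∧
    (∀ m ∈ Subgroup.centralizer ({u} : Set ↥Q), ∀ v ∈ fixedSub (u : MulAut V),
      (m : MulAut V) v ∈ fixedSub (u : MulAut V)) ∧
    (∀ m ∈ Subgroup.centralizer ({u} : Set ↥Q), ∀ v ∈ fixedSub ((u * z : ↥Q) : MulAut V),
      (m : MulAut V) v ∈ fixedSub ((u * z : ↥Q) : MulAut V)) ∧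
    Nat.card ↥(fixedSub (u : MulAut V)) = Nat.card ↥(fixedSub ((u * z : ↥Q) : MulAut V)) ∧
    fixedSub (u : MulAut V) ≠ ⊥ :=
  Cfsg.Agent.Lib.Helper04.AG.caseB_geometry hodd Q hirr z u hz1 hz2 hzc hu1 hu2 huz hconj

/-! ## A6 (keystone 418806, EASY): ⁅X,X⁆ ≤ Φ(X) (Helper03.PGroupFrattini.commutator_le_frattini_of_isPGroup), ⁅X,X⁆ ≠ ⊥,
so |Φ(X)| ≥ 2 and |X:Φ(X)| = |X| / |Φ(X)| ≤ 4. -/
theorem frattini_index_le_four_of_card_le_eight {X : Type*} [Group X] [Finite X] (hX : IsPGroup 2 X)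
    (hcard : Nat.card X ≤ 8) (hnc : ∃ a b : X, a * b ≠ b * a) : (frattini X).index ≤ 4 :=
  Cfsg.Agent.Lib.Helper46.AG.frattini_index_le_four_of_card_le_eight hX hcard hnc

/-! ## A7 (keystone 418807, EASY): W = ⟨g⟩ cyclic of order 3; φ ↦ φ g is injective into {w | w ≠ 1} which has 2 elements. -/
theorem card_mulAut_le_two {W : Type*} [Group W] (h : Nat.card W = 3) : Nat.card (MulAut W) ≤ 2 :=
  Cfsg.Agent.Lib.Helper50.AG.card_mulAut_le_two h

/-! ## A8 (keystone 418808, MEDIUM-HARD, PARALLEL HANDS WELCOME): 2-groups without a normal four-group.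
Every normal abelian A ≤ X is cyclic: else Ω := {a ∈ A | a^2 = 1} is a normal elementary abelian subgroup with ≥ 4 elements and
Helper06.NormalFour.normal_four_of_elemAb (z from exists_central_invol_mem_normal) gives (z, u): contradiction.
X abelian ⟹ X cyclic ⟹ |X:Φ| ≤ 2 (squares are in Φ: Helper03.pow_mem_frattini_of_isPGroup; X/⟨squares⟩ has ≤ 2 elements).
X non-abelian: A maximal normal abelian (Helper06.NFCore.exists_max_normal_abelian), C_X(A) = A (Helper06.NormalFour.centralizer_le_of_max_normal_abelian),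
A cyclic; Helper59.csc_main: either |X| = 2|A| so X = ⟨a, x⟩ and Helper42.Meta2.card_frattini_quotient_le gives ≤ 4, or there is a
characteristic elementary abelian subgroup of order 4 (normal, abelian, not cyclic): contradiction.
(Alternative: Helper97.NACSetup.normal_abelian_cyclic_classify ⟹ Q_n, D_n, SD: all 2-generated.) -/
theorem caseC {X : Type*} [Group X] [Finite X] (hX : IsPGroup 2 X)
    (h : ¬ ∃ z u : X, z ≠ 1 ∧ z ^ 2 = 1 ∧ z ∈ Subgroup.center X ∧ u ≠ 1 ∧ u ^ 2 = 1 ∧ u ≠ z ∧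
      ∀ s : X, s * u * s⁻¹ = u ∨ s * u * s⁻¹ = u * z) :
    (frattini X).index ≤ 4 ∧ ((∀ a b : X, a * b = b * a) → (frattini X).index ≤ 2) :=
  Cfsg.Agent.Lib.Helper61.AG.caseC hX h

/-! ## A9 (keystone 418809, EASY): automorphisms of a cyclic group commute (W = ⟨g⟩: f g = g^a, f' g = g^b; ext on zpowers). -/
theorem mulAut_comm_of_card_prime {W : Type*} [Group W] [Finite W] (h : (Nat.card W).Prime) (f g : MulAut W) :
    f * g = g * f :=
  Cfsg.Agent.Lib.Helper42.AG.mulAut_comm_of_card_prime h f g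

end Cfsg.Agent.Lib.Helper70.AGSpec



namespace Cfsg.Agent.Lib.Helper70.AGGlue

open Cfsg.Agent.Lib.Helper70.AG Cfsg.Agent.Lib.Helper70.AGSpec

universe u

theorem res_inj {V : Type u} [CommGroup V] (Q : Subgroup (MulAut V))
    (W W' : Subgroup V) (hW : IsInv Q W) (hW' : IsInv Q W') (hsup : W ⊔ W' = ⊤)
    (q : ↥Q) (h1 : resHom Q W hW q = 1) (h2 : resHom Q W' hW' q = 1) : q = 1 := by
  apply Subtype.ext
  apply MulEquiv.ext
  intro v
  have hv : v ∈ W ⊔ W' := by rw [hsup]; trivial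
  obtain ⟨w, hw, w', hw', rfl⟩ := Subgroup.mem_sup.1 hv
  have e1 : (q : MulAut V) w = w := by
    have := congrArg (fun f : MulAut ↥W => ((f ⟨w, hw⟩ : ↥W) : V)) h1
    simpa using this
  have e2 : (q : MulAut V) w' = w' := by
    have := congrArg (fun f : MulAut ↥W' => ((f ⟨w', hw'⟩ : ↥W') : V)) h2
    simpa using this
  simp [map_mul, e1, e2]

theorem bound_of_decomp {V : Type u} [CommGroup V] [Finite V] (Q : Subgroup (MulAut V))
    (hQ : IsPGroup 2 Q) (W W' : Subgroup V) (hW : IsInv Q W) (hW' : IsInv Q W')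
    (hsup : W ⊔ W' = ⊤) (B₁ B₂ : ℕ)
    (h₁ : ∀ S : Subgroup (MulAut ↥W), IsPGroup 2 S → (frattini ↥S).index ≤ B₁)
    (h₂ : ∀ S : Subgroup (MulAut ↥W'), IsPGroup 2 S → (frattini ↥S).index ≤ B₂) :
    (frattini ↥Q).index ≤ B₁ * B₂ :=
  frattini_index_le_of_two_homs hQ (resHom Q W hW) (resHom Q W' hW')
    (res_inj Q W W' hW hW' hsup) B₁ B₂ (fun S _ hS => h₁ S hS) (fun S _ hS => h₂ S hS)


theorem card_sub_pow {V : Type u} [CommGroup V] [Finite V] {r n : ℕ} (hr : r.Prime)
    (hcard : Nat.card V = r ^ n) (W : Subgroup V) : ∃ a, a ≤ n ∧ Nat.card ↥W = r ^ a := by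
  have h := Subgroup.card_subgroup_dvd_card W
  rw [hcard] at h
  exact (Nat.dvd_prime_pow hr).1 h

theorem card_mul_of_compl {V : Type u} [CommGroup V] [Finite V] (W W' : Subgroup V)
    (hinf : W ⊓ W' = ⊥) (hsup : W ⊔ W' = ⊤) : Nat.card ↥W * Nat.card ↥W' = Nat.card V := by
  have hc : Subgroup.IsComplement' W W' := by
    apply Subgroup.isComplement'_of_disjoint_and_mul_eq_univ
    · exact disjoint_iff.2 hinf
    · rw [← Subgroup.normal_mul, hsup]; rfl
  exact hc.card_mul_card

theorem exp_sub {V : Type u} [CommGroup V] {r : ℕ} (hexp : ∀ v : V, v ^ r = 1) (W : Subgroup V) :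
    ∀ w : ↥W, w ^ r = 1 := by
  intro w
  apply Subtype.ext
  simp [hexp]

theorem main_bound (r : ℕ) (hr : r.Prime) (hr2 : r ≠ 2) :
    ∀ (n : ℕ) (V : Type u) [CommGroup V] [Finite V], (∀ v : V, v ^ r = 1) → Nat.card V = r ^ n →
      ∀ Q : Subgroup (MulAut V), IsPGroup 2 Q → (frattini ↥Q).index ≤ 2 ^ ex r n := by
  intro n
  induction n using Nat.strong_induction_on with
  | _ n IH =>
  intro V _ _ hexp hcard Q hQ
  haveI : Fact r.Prime := ⟨hr⟩
  haveI : Fact (2 : ℕ).Prime := ⟨Nat.prime_two⟩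
  have hrodd : Odd r := hr.eq_two_or_odd'.resolve_left hr2
  have hodd : Odd (Nat.card V) := by rw [hcard]; exact hrodd.pow
  -- n = 0
  rcases Nat.eq_zero_or_pos n with hn0 | hnpos
  · subst hn0
    have hV1 : Nat.card V = 1 := by simpa using hcard
    haveI : Subsingleton V := (Nat.card_eq_one_iff_unique.1 hV1).1
    haveI : Subsingleton (MulAut V) := ⟨fun a b => MulEquiv.ext (fun v => Subsingleton.elim _ _)⟩
    have hQ1 : Nat.card ↥Q = 1 := Nat.card_of_subsingleton (1 : ↥Q)
    have hd := Subgroup.index_dvd_card (frattini ↥Q)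
    rw [hQ1] at hd
    have : (frattini ↥Q).index = 1 := Nat.dvd_one.1 hd
    rw [this]
    exact Nat.one_le_two_pow
  have hcop : (Nat.card ↥Q).Coprime (Nat.card V) := by
    obtain ⟨k, hk⟩ := (IsPGroup.iff_card (p := 2) (G := ↥Q)).1 hQ
    rw [hk, hcard]
    apply Nat.Coprime.pow
    exact (Nat.coprime_primes Nat.prime_two hr).2 (Ne.symm hr2)
  by_cases hred : ∃ W : Subgroup V, IsInv Q W ∧ W ≠ ⊥ ∧ W ≠ ⊤
  · -- Case A
    obtain ⟨W, hW, hWb, hWt⟩ := hred
    obtain ⟨W', hW'inv, hinf, hsup⟩ :=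
      Cfsg.Agent.Lib.Helper77.exists_invariant_compl (A := ↥Q) (p := r) hexp hcop W
        (fun a u hu => hW a a.2 u hu)
    have hW' : IsInv Q W' := fun q hq w hw => hW'inv ⟨q, hq⟩ w hw
    obtain ⟨a, -, ha⟩ := card_sub_pow hr hcard W
    obtain ⟨b, -, hb⟩ := card_sub_pow hr hcard W'
    have hmul := card_mul_of_compl W W' hinf hsup
    rw [ha, hb, hcard, ← pow_add] at hmul
    have hab : a + b = n := Nat.pow_right_injective hr.two_le hmul
    have ha1 : 1 ≤ a := by
      rcases Nat.eq_zero_or_pos a with h0 | h0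
      · exfalso; apply hWb
        rw [h0, pow_zero] at ha
        exact Subgroup.eq_bot_of_card_eq W ha
      · exact h0
    have hb1 : 1 ≤ b := by
      rcases Nat.eq_zero_or_pos b with h0 | h0
      · exfalso; apply hWt
        rw [h0, pow_zero] at hb
        have hW'b : W' = ⊥ := Subgroup.eq_bot_of_card_eq W' hb
        rw [hW'b, sup_bot_eq] at hsup
        exact hsup
      · exact h0
    have hB := bound_of_decomp Q hQ W W' hW hW' hsup (2 ^ ex r a) (2 ^ ex r b)
      (fun S hS => IH a (by omega) ↥W (exp_sub hexp W) ha S hS)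
      (fun S hS => IH b (by omega) ↥W' (exp_sub hexp W') hb S hS)
    calc (frattini ↥Q).index ≤ 2 ^ ex r a * 2 ^ ex r b := hB
      _ = 2 ^ (ex r a + ex r b) := (pow_add _ _ _).symm
      _ ≤ 2 ^ ex r n := by
        apply Nat.pow_le_pow_right (by norm_num)
        rw [← hab]; exact ex_add r a b ha1 hb1
  · -- irreducible
    have hirr : ∀ W : Subgroup V, IsInv Q W → W = ⊥ ∨ W = ⊤ := by
      intro W hW
      by_contra hcon
      push Not at hcon
      exact hred ⟨W, hW, hcon.1, hcon.2⟩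
    by_cases hfour : ∃ z u : ↥Q, z ≠ 1 ∧ z ^ 2 = 1 ∧ z ∈ Subgroup.center ↥Q ∧ u ≠ 1 ∧ u ^ 2 = 1 ∧
        u ≠ z ∧ ∀ s : ↥Q, s * u * s⁻¹ = u ∨ s * u * s⁻¹ = u * z
    · -- Case B
      obtain ⟨z, u, hz1, hz2, hzc, hu1, hu2, huz, hconj⟩ := hfour
      obtain ⟨hidx, hinf, hsup, hMp, hMm, hcardeq, hVp⟩ :=
        caseB_geometry hodd Q hirr z u hz1 hz2 hzc hu1 hu2 huz hconj
      obtain ⟨M, hMdef⟩ : ∃ M : Subgroup ↥Q, M = Subgroup.centralizer ({u} : Set ↥Q) := ⟨_, rfl⟩
      obtain ⟨Vp, hVpdef⟩ : ∃ Vp : Subgroup V, Vp = fixedSub (u : MulAut V) := ⟨_, rfl⟩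
      obtain ⟨Vm, hVmdef⟩ : ∃ Vm : Subgroup V, Vm = fixedSub ((u * z : ↥Q) : MulAut V) := ⟨_, rfl⟩
      rw [← hMdef] at hidx hMp hMm
      rw [← hVpdef, ← hVmdef] at hinf hsup hcardeq
      rw [← hVpdef] at hMp hVp
      rw [← hVmdef] at hMm
      obtain ⟨m, -, hm⟩ := card_sub_pow hr hcard Vp
      have hm' : Nat.card ↥Vm = r ^ m := by rw [← hcardeq, hm]
      have hmul := card_mul_of_compl Vp Vm hinf hsup
      rw [hm, hm', hcard, ← pow_add] at hmul
      have hn2 : m + m = n := Nat.pow_right_injective hr.two_le hmul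
      have hm1 : 1 ≤ m := by
        rcases Nat.eq_zero_or_pos m with h0 | h0
        · exfalso; apply hVp
          rw [h0, pow_zero] at hm
          exact Subgroup.eq_bot_of_card_eq Vp hm
        · exact h0
      haveI hMn : M.Normal := Subgroup.normal_of_index_eq_two hidx
      have h1 := frattini_index_le_mul hQ M
      have h2 : (frattini (↥Q ⧸ M)).index ≤ 2 := by
        have hd := Subgroup.index_dvd_card (frattini (↥Q ⧸ M))
        have hc : Nat.card (↥Q ⧸ M) = 2 := by rw [← hidx]; rfl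
        rw [hc] at hd
        exact Nat.le_of_dvd (by norm_num) hd
      -- the image of M in MulAut V
      obtain ⟨M', hM'def⟩ : ∃ M' : Subgroup (MulAut V), M' = M.map Q.subtype := ⟨_, rfl⟩
      have e : ↥M ≃* ↥M' := by
        rw [hM'def]
        exact M.equivMapOfInjective Q.subtype Subtype.val_injective
      have hM'Q : IsPGroup 2 M' := (hQ.to_subgroup M).of_equiv e
      have h3 : (frattini ↥M).index = (frattini ↥M').index := frattini_index_congr e
      have hinvp : IsInv M' Vp := by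
        intro q hq v hv
        rw [hM'def] at hq
        obtain ⟨x, hx, rfl⟩ := hq
        exact hMp x hx v hv
      have hinvm : IsInv M' Vm := by
        intro q hq v hv
        rw [hM'def] at hq
        obtain ⟨x, hx, rfl⟩ := hq
        exact hMm x hx v hv
      by_cases hsmall : r = 3 ∧ m = 1
      · -- |V| = 9
        obtain ⟨hr3, hm1'⟩ := hsmall
        subst hm1'
        have hn : n = 2 := by omega
        have hcp : Nat.card ↥Vp = 3 := by rw [hm, hr3]; norm_num
        have hcm : Nat.card ↥Vm = 3 := by rw [hm', hr3]; norm_num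
        have hM'card : Nat.card ↥M' ≤ 4 := by
          let f : ↥M' →* MulAut ↥Vp × MulAut ↥Vm :=
            (resHom M' Vp hinvp).prod (resHom M' Vm hinvm)
          have hf : Function.Injective f := by
            rw [injective_iff_map_eq_one]
            intro q hq
            have hq1 : resHom M' Vp hinvp q = 1 := congrArg Prod.fst hq
            have hq2 : resHom M' Vm hinvm q = 1 := congrArg Prod.snd hq
            exact res_inj M' Vp Vm hinvp hinvm hsup q hq1 hq2
          calc Nat.card ↥M' ≤ Nat.card (MulAut ↥Vp × MulAut ↥Vm) :=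
                Nat.card_le_card_of_injective f hf
            _ = Nat.card (MulAut ↥Vp) * Nat.card (MulAut ↥Vm) := Nat.card_prod _ _
            _ ≤ 2 * 2 := Nat.mul_le_mul (card_mulAut_le_two hcp) (card_mulAut_le_two hcm)
        have hQcard : Nat.card ↥Q ≤ 8 := by
          have h5 := Subgroup.index_mul_card M
          rw [hidx, Nat.card_congr e.toEquiv] at h5
          omega
        have hnc : ∃ a b : ↥Q, a * b ≠ b * a := by
          have hMtop : M ≠ ⊤ := by
            intro h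
            rw [h, Subgroup.index_top] at hidx
            omega
          obtain ⟨s, hs⟩ : ∃ s : ↥Q, s ∉ M := by
            by_contra hcon
            push Not at hcon
            exact hMtop (top_unique (fun x _ => hcon x))
          refine ⟨u, s, fun hus => hs ?_⟩
          rw [hMdef, Subgroup.mem_centralizer_iff]
          intro h hh
          rw [Set.mem_singleton_iff] at hh
          rw [hh]; exact hus
        have h6 := frattini_index_le_four_of_card_le_eight hQ hQcard hnc
        have hex : ex r n = 2 := by rw [hr3, hn]; decide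
        rw [hex]; exact h6
      · have hB := bound_of_decomp M' hM'Q Vp Vm hinvp hinvm hsup (2 ^ ex r m) (2 ^ ex r m)
          (fun S hS => IH m (by omega) ↥Vp (exp_sub hexp Vp) hm S hS)
          (fun S hS => IH m (by omega) ↥Vm (exp_sub hexp Vm) hm' S hS)
        have hexd : 1 + 2 * ex r m ≤ ex r (2 * m) := by
          apply ex_double r m hm1
          by_contra hcon
          push Not at hcon
          exact hsmall ⟨hcon.1, by omega⟩
        calc (frattini ↥Q).index ≤ (frattini (↥Q ⧸ M)).index * (frattini ↥M).index := h1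
          _ ≤ 2 * (2 ^ ex r m * 2 ^ ex r m) := by
            rw [h3]; exact Nat.mul_le_mul h2 hB
          _ = 2 ^ (1 + 2 * ex r m) := by ring
          _ ≤ 2 ^ ex r n := by
            apply Nat.pow_le_pow_right (by norm_num)
            have : 2 * m = n := by omega
            rw [← this]; exact hexd
    · -- Case C
      obtain ⟨h4, h2⟩ := caseC hQ hfour
      rcases Nat.lt_or_ge n 2 with hn | hn
      · have hn1 : n = 1 := by omega
        subst hn1
        have hVprime : (Nat.card V).Prime := by rw [hcard, pow_one]; exact hr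
        have hcomm : ∀ a b : ↥Q, a * b = b * a := by
          intro a b
          apply Subtype.ext
          exact mulAut_comm_of_card_prime hVprime (a : MulAut V) (b : MulAut V)
        have hex : ex r 1 = 1 := by simp [ex]
        rw [hex]; simpa using h2 hcomm
      · calc (frattini ↥Q).index ≤ 4 := h4
          _ = 2 ^ 2 := by norm_num
          _ ≤ 2 ^ ex r n := Nat.pow_le_pow_right (by norm_num) (two_le_ex r n hn)


theorem s4188 {G : Type u} [Group G] [Finite G] (N P : Subgroup G) (hN : N.Normal)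
    (hNab : IsMulCommutative ↥N) (hNodd : Odd (Nat.card ↥N)) (hP : IsPGroup 2 ↥P)
    (hdisj : N ⊓ P = ⊥) (hprod : N ⊔ P = ⊤)
    (hmin : N ≠ ⊥ ∧ ∀ M : Subgroup G, M.Normal → M ≠ ⊥ → N ≤ M) :
    (frattini ↥P).index ≤ Nat.card ↥N - 1 := by
  obtain ⟨hNb, hmin'⟩ := hmin
  have hcomm : ∀ a ∈ N, ∀ b ∈ N, a * b = b * a := by
    intro a ha b hb
    have := hNab.is_comm.comm (⟨a, ha⟩ : ↥N) ⟨b, hb⟩
    exact congrArg Subtype.val this
  have hcard1 : Nat.card ↥N ≠ 1 := fun h => hNb (Subgroup.eq_bot_of_card_eq N h)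
  obtain ⟨r, hrdef⟩ : ∃ r, r = (Nat.card ↥N).minFac := ⟨_, rfl⟩
  have hr : r.Prime := by rw [hrdef]; exact Nat.minFac_prime hcard1
  have hrdvd : r ∣ Nat.card ↥N := by rw [hrdef]; exact Nat.minFac_dvd _
  have hr2 : r ≠ 2 := by
    intro h
    rw [h] at hrdvd
    exact (Nat.not_even_iff_odd.2 hNodd) (even_iff_two_dvd.2 hrdvd)
  haveI : Fact r.Prime := ⟨hr⟩
  -- exponent r
  have hexpN : ∀ x ∈ N, x ^ r = 1 := by
    let Nr : Subgroup G :=
      { carrier := {x | x ∈ N ∧ x ^ r = 1}
        one_mem' := ⟨N.one_mem, one_pow _⟩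
        mul_mem' := by
          rintro a b ⟨ha, ha'⟩ ⟨hb, hb'⟩
          refine ⟨N.mul_mem ha hb, ?_⟩
          rw [(show Commute a b from hcomm a ha b hb).mul_pow, ha', hb', one_mul]
        inv_mem' := by
          rintro a ⟨ha, ha'⟩
          exact ⟨N.inv_mem ha, by rw [inv_pow, ha', inv_one]⟩ }
    have hNrn : Nr.Normal := by
      constructor
      rintro x ⟨hx, hx'⟩ g
      refine ⟨hN.conj_mem x hx g, ?_⟩
      rw [conj_pow, hx', mul_one, mul_inv_cancel]
    have hNrb : Nr ≠ ⊥ := by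
      obtain ⟨x, hx⟩ := exists_prime_orderOf_dvd_card' (G := ↥N) r hrdvd
      intro h
      have hx1 : (x : G) ∈ Nr := by
        refine ⟨x.2, ?_⟩
        have : x ^ r = 1 := by rw [← hx]; exact pow_orderOf_eq_one x
        exact congrArg Subtype.val this
      rw [h, Subgroup.mem_bot] at hx1
      have : x = 1 := Subtype.ext hx1
      rw [this, orderOf_one] at hx
      exact hr.one_lt.ne hx
    intro x hx
    exact (hmin' Nr hNrn hNrb hx).2
  letI : CommGroup ↥N :=
    { (inferInstance : Group ↥N) with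
      mul_comm := fun a b => hNab.is_comm.comm a b }
  have hexp : ∀ v : ↥N, v ^ r = 1 := by
    intro v
    apply Subtype.ext
    exact hexpN v v.2
  have hNp : IsPGroup r ↥N := by
    intro v
    exact ⟨1, by rw [pow_one]; exact hexp v⟩
  obtain ⟨n, hn⟩ := (IsPGroup.iff_card (p := r) (G := ↥N)).1 hNp
  have hn1 : 1 ≤ n := by
    rcases Nat.eq_zero_or_pos n with h0 | h0
    · exfalso; rw [h0, pow_zero] at hn; exact hcard1 hn
    · exact h0
  -- the action
  let φ : ↥P →* MulAut ↥N := (MulAut.conjNormal (H := N)).comp P.subtype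
  have hφ : ∀ (p : ↥P) (v : ↥N), ((φ p v : ↥N) : G) = (p : G) * (v : G) * (p : G)⁻¹ := by
    intro p v
    rfl
  have hinj : Function.Injective φ := by
    rw [injective_iff_map_eq_one]
    intro p hp
    by_contra hp1
    -- C = C_G(N) ⊓ P is a nontrivial normal subgroup inside P
    let C : Subgroup G := Subgroup.centralizer (N : Set G) ⊓ P
    have hpC : (p : G) ∈ C := by
      refine Subgroup.mem_inf.2 ⟨?_, p.2⟩
      rw [Subgroup.mem_centralizer_iff]
      intro v hv
      have h1 := hφ p ⟨v, hv⟩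
      rw [hp] at h1
      have h2 : v = (p : G) * v * (p : G)⁻¹ := h1
      calc v * (p : G) = ((p : G) * v * (p : G)⁻¹) * (p : G) := by rw [← h2]
        _ = (p : G) * v := by group
    have hCb : C ≠ ⊥ := by
      intro h
      rw [h, Subgroup.mem_bot] at hpC
      exact hp1 (Subtype.ext hpC)
    have hCn : C.Normal := by
      rw [← Subgroup.normalizer_eq_top_iff]
      apply top_unique
      rw [← hprod]
      apply sup_le
      · intro x hx
        rw [Subgroup.mem_normalizer_iff]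
        intro c
        have key : c ∈ Subgroup.centralizer (N : Set G) → x * c * x⁻¹ = c := by
          intro hc
          rw [Subgroup.mem_centralizer_iff] at hc
          have := hc x hx
          calc x * c * x⁻¹ = c * x * x⁻¹ := by rw [this]
            _ = c := by group
        constructor
        · intro hc
          rw [key (Subgroup.mem_inf.1 hc).1]; exact hc
        · intro hc
          have hcc : c ∈ Subgroup.centralizer (N : Set G) := by
            have h1 := (Subgroup.mem_inf.1 hc).1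
            have hnc : (Subgroup.centralizer (N : Set G)).Normal := Subgroup.normal_centralizer
            have := hnc.conj_mem _ h1 x⁻¹
            have e : x⁻¹ * (x * c * x⁻¹) * x⁻¹⁻¹ = c := by group
            rw [e] at this; exact this
          rw [key hcc] at hc; exact hc
      · intro x hx
        rw [Subgroup.mem_normalizer_iff]
        intro c
        have hnc : (Subgroup.centralizer (N : Set G)).Normal := Subgroup.normal_centralizer
        constructor
        · intro hc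
          obtain ⟨h1, h2⟩ := Subgroup.mem_inf.1 hc
          exact Subgroup.mem_inf.2 ⟨hnc.conj_mem _ h1 x, P.mul_mem (P.mul_mem hx h2) (P.inv_mem hx)⟩
        · intro hc
          obtain ⟨h1, h2⟩ := Subgroup.mem_inf.1 hc
          have e : x⁻¹ * (x * c * x⁻¹) * x⁻¹⁻¹ = c := by group
          refine Subgroup.mem_inf.2 ⟨?_, ?_⟩
          · have := hnc.conj_mem _ h1 x⁻¹
            rw [e] at this; exact this
          · have := P.mul_mem (P.mul_mem (P.inv_mem hx) h2) (P.inv_mem (P.inv_mem hx))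
            rw [e] at this; exact this
    have hNC : N ≤ C := hmin' C hCn hCb
    have : N ≤ N ⊓ P := le_inf le_rfl (hNC.trans inf_le_right)
    rw [hdisj] at this
    exact hNb (le_bot_iff.1 this)
  let e : ↥P ≃* ↥φ.range := MonoidHom.ofInjective hinj
  have hQ : IsPGroup 2 ↥φ.range := hP.of_equiv e
  have h1 : (frattini ↥P).index = (frattini ↥φ.range).index := frattini_index_congr e
  have h2 := main_bound r hr hr2 n ↥N hexp hn φ.range hQ
  have h3 := pow_ex_le r n hr hr2 hn1
  rw [h1, hn]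
  exact h2.trans h3

end Cfsg.Agent.Lib.Helper70.AGGlue
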