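import Mathlib
import Cfsg.Prelude.Def_KGroupFacts

set_option autoImplicit false

namespace Cfsg.Agent.Lib.Helper70

open Subgroup
open scoped commutatorElement

/-- generalized Heisenberg group on `ZMod m × ZMod n × ZMod n` (for `n ∣ m`) -/
structure Heis (m n : ℕ) : Type where
  /-- first coordinate -/
  a : ZMod m
  /-- second coordinate -/
  b : ZMod n
  /-- central coordinate -/
  c : ZMod n

namespace Heis

variable {m n : ℕ}

@[ext] theorem ext' {x y : Heis m n} (ha : x.a = y.a) (hb : x.b = y.b) (hc : x.c = y.c) : x = y := by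
  cases x; cases y; simp_all

/-- the triple equivalence -/
def equivProd : Heis m n ≃ ZMod m × ZMod n × ZMod n where
  toFun x := (x.a, x.b, x.c)
  invFun t := ⟨t.1, t.2.1, t.2.2⟩
  left_inv x := by cases x; rfl
  right_inv t := by rfl

instance [NeZero m] [NeZero n] : Finite (Heis m n) := Finite.of_equiv _ equivProd.symm

/-- the group structure, given `n ∣ m` -/
@[reducible] noncomputable def group (h : n ∣ m) : Group (Heis m n) where
  mul x y := ⟨x.a + y.a, x.b + y.b, x.c + y.c + ZMod.castHom h (ZMod n) x.a * y.b⟩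
  one := ⟨0, 0, 0⟩
  inv x := ⟨-x.a, -x.b, -x.c + ZMod.castHom h (ZMod n) x.a * x.b⟩
  mul_assoc x y z := by
    apply ext'
    · show x.a + y.a + z.a = x.a + (y.a + z.a); ring
    · show x.b + y.b + z.b = x.b + (y.b + z.b); ring
    · show x.c + y.c + ZMod.castHom h (ZMod n) x.a * y.b + z.c + ZMod.castHom h (ZMod n) (x.a + y.a) * z.b
        = x.c + (y.c + z.c + ZMod.castHom h (ZMod n) y.a * z.b) + ZMod.castHom h (ZMod n) x.a * (y.b + z.b)
      rw [map_add]; ring
  one_mul x := by
    apply ext'
    · show 0 + x.a = x.a; ring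
    · show 0 + x.b = x.b; ring
    · show 0 + x.c + ZMod.castHom h (ZMod n) 0 * x.b = x.c
      rw [map_zero]; ring
  mul_one x := by
    apply ext'
    · show x.a + 0 = x.a; ring
    · show x.b + 0 = x.b; ring
    · show x.c + 0 + ZMod.castHom h (ZMod n) x.a * 0 = x.c
      ring
  inv_mul_cancel x := by
    apply ext'
    · show -x.a + x.a = 0; ring
    · show -x.b + x.b = 0; ring
    · show -x.c + ZMod.castHom h (ZMod n) x.a * x.b + x.c + ZMod.castHom h (ZMod n) (-x.a) * x.b = 0
      rw [map_neg]; ring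

theorem mul_def (h : n ∣ m) (x y : Heis m n) :
    letI := group h
    x * y = ⟨x.a + y.a, x.b + y.b, x.c + y.c + ZMod.castHom h (ZMod n) x.a * y.b⟩ := rfl

theorem one_def (h : n ∣ m) :
    letI := group h
    (1 : Heis m n) = ⟨0, 0, 0⟩ := rfl

theorem inv_def (h : n ∣ m) (x : Heis m n) :
    letI := group h
    x⁻¹ = ⟨-x.a, -x.b, -x.c + ZMod.castHom h (ZMod n) x.a * x.b⟩ := rfl

/-- the projection to `ZMod m × ZMod n` -/
noncomputable def proj (h : n ∣ m) :
    letI := group h
    Heis m n →* Multiplicative (ZMod m × ZMod n) :=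
  letI := group h
  { toFun := fun x => Multiplicative.ofAdd (x.a, x.b)
    map_one' := rfl
    map_mul' := fun _ _ => rfl }

theorem mem_ker_proj (h : n ∣ m) (x : Heis m n) :
    letI := group h
    x ∈ (proj h).ker ↔ x.a = 0 ∧ x.b = 0 := by
  letI := group h
  rw [MonoidHom.mem_ker]
  show Multiplicative.ofAdd (x.a, x.b) = Multiplicative.ofAdd (0, 0) ↔ _
  rw [Multiplicative.ofAdd.injective.eq_iff, Prod.mk.injEq]

theorem ker_is_commutator (h : n ∣ m) (x : Heis m n) :
    letI := group h
    x ∈ (proj h).ker → ∃ h₁ h₂ : Heis m n, x = ⁅h₁, h₂⁆ := by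
  letI := group h
  intro hx
  rw [mem_ker_proj] at hx
  refine ⟨⟨1, 0, 0⟩, ⟨0, x.c, 0⟩, ?_⟩
  rw [commutatorElement_def, inv_def, inv_def, mul_def, mul_def, mul_def]
  apply ext'
  · show x.a = 1 + 0 + -1 + -0
    rw [hx.1]; ring
  · show x.b = 0 + x.c + -0 + -x.c
    rw [hx.2]; ring
  · simp only [map_add, map_neg, map_one, map_zero]
    ring

theorem ker_le_center (h : n ∣ m) :
    letI := group h
    (proj h).ker ≤ Subgroup.center (Heis m n) := by
  letI := group h
  intro x hx
  rw [mem_ker_proj] at hx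
  rw [Subgroup.mem_center_iff]
  intro y
  rw [mul_def, mul_def]
  apply ext'
  · show y.a + x.a = x.a + y.a; ring
  · show y.b + x.b = x.b + y.b; ring
  · show y.c + x.c + ZMod.castHom h (ZMod n) y.a * x.b = x.c + y.c + ZMod.castHom h (ZMod n) x.a * y.b
    rw [hx.1, hx.2, map_zero]; ring

theorem proj_surjective (h : n ∣ m) :
    letI := group h
    Function.Surjective (proj h) := by
  letI := group h
  intro t
  exact ⟨⟨(Multiplicative.toAdd t).1, (Multiplicative.toAdd t).2, 0⟩, rfl⟩

theorem proj_stem (h : n ∣ m) :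
    letI := group h
    Cfsg.IsStemExtension (proj h) := by
  letI := group h
  refine ⟨proj_surjective h, ker_le_center h, ?_⟩
  intro x hx
  obtain ⟨h₁, h₂, rfl⟩ := ker_is_commutator h x hx
  exact Subgroup.commutator_mem_commutator (Subgroup.mem_top _) (Subgroup.mem_top _)

/-- the kernel is `ZMod n` -/
noncomputable def kerEquiv (h : n ∣ m) :
    letI := group h
    (proj h).ker ≃* Multiplicative (ZMod n) :=
  letI := group h
  { toFun := fun x => Multiplicative.ofAdd x.1.c
    invFun := fun t => ⟨⟨0, 0, Multiplicative.toAdd t⟩, (mem_ker_proj h _).mpr ⟨rfl, rfl⟩⟩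
    left_inv := by
      rintro ⟨x, hx⟩
      rw [mem_ker_proj] at hx
      apply Subtype.ext
      apply ext'
      · exact hx.1.symm
      · exact hx.2.symm
      · rfl
    right_inv := fun t => rfl
    map_mul' := by
      rintro ⟨x, hx⟩ ⟨y, hy⟩
      rw [mem_ker_proj] at hx hy
      show Multiplicative.ofAdd (x.c + y.c + ZMod.castHom h (ZMod n) x.a * y.b) =
        Multiplicative.ofAdd x.c * Multiplicative.ofAdd y.c
      rw [hy.2, mul_zero, add_zero]; rfl }

end Heis

end Cfsg.Agent.Lib.Helper70
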