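import Mathlib
import Cfsg.Prelude.Def_KGroupFacts
import Cfsg.Agent.Lib.Helper07.SchurRed2
import Cfsg.Agent.S3951
import Cfsg.Agent.S3965
import Cfsg.Agent.S3979

set_option autoImplicit false

namespace Cfsg.Agent.Lib.Helper70.AltSyl7

open Equiv Subgroup Cfsg.Agent.Lib.Helper07

/-- a four-cycle times a transposition -/
def r4 : Perm (Fin 7) := swap 0 1 * swap 1 2 * swap 2 3 * swap 4 5
/-- a reflection -/
def s2 : Perm (Fin 7) := swap 1 3 * swap 4 5
/-- two commuting three-cycles -/
def x3 : Perm (Fin 7) := swap 0 1 * swap 1 2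
def y3 : Perm (Fin 7) := swap 3 4 * swap 4 5

/-- the dihedral group of order eight inside the symmetric group -/
def fD : DihedralGroup 4 → Perm (Fin 7)
  | DihedralGroup.r i => r4 ^ i.val
  | DihedralGroup.sr i => s2 * r4 ^ i.val

theorem fD_mul : ∀ a b : DihedralGroup 4, fD (a * b) = fD a * fD b := by decide

theorem fD_inj : ∀ a b : DihedralGroup 4, fD a = fD b → a = b := by decide

theorem fD_sign : ∀ a : DihedralGroup 4, Equiv.Perm.sign (fD a) = 1 := by decide

theorem fD_mem (a : DihedralGroup 4) : fD a ∈ alternatingGroup (Fin 7) :=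
  Equiv.Perm.mem_alternatingGroup.mpr (fD_sign a)

/-- the dihedral group of order eight inside the alternating group -/
def homD : DihedralGroup 4 →* alternatingGroup (Fin 7) :=
  MonoidHom.mk' (fun a => ⟨fD a, fD_mem a⟩) (fun a b => Subtype.ext (fD_mul a b))

theorem homD_injective : Function.Injective homD := by
  intro a b hab
  exact fD_inj a b (congrArg Subtype.val hab)

/-- the elementary abelian group of order nine inside the symmetric group -/
def fE : Multiplicative (ZMod 3 × ZMod 3) → Perm (Fin 7) :=
  fun a => x3 ^ (Multiplicative.toAdd a).1.val * y3 ^ (Multiplicative.toAdd a).2.val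

theorem fE_mul : ∀ a b : Multiplicative (ZMod 3 × ZMod 3), fE (a * b) = fE a * fE b := by decide

theorem fE_inj : ∀ a b : Multiplicative (ZMod 3 × ZMod 3), fE a = fE b → a = b := by decide

theorem fE_sign : ∀ a : Multiplicative (ZMod 3 × ZMod 3), Equiv.Perm.sign (fE a) = 1 := by
  decide

theorem fE_mem (a : Multiplicative (ZMod 3 × ZMod 3)) : fE a ∈ alternatingGroup (Fin 7) :=
  Equiv.Perm.mem_alternatingGroup.mpr (fE_sign a)

/-- the elementary abelian group of order nine inside the alternating group -/
def homE : Multiplicative (ZMod 3 × ZMod 3) →* alternatingGroup (Fin 7) :=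
  MonoidHom.mk' (fun a => ⟨fE a, fE_mem a⟩) (fun a b => Subtype.ext (fE_mul a b))

theorem homE_injective : Function.Injective homE := by
  intro a b hab
  exact fE_inj a b (congrArg Subtype.val hab)

theorem card_alt : Nat.card (alternatingGroup (Fin 7)) = 2520 := by
  have h1 := two_mul_card_alternatingGroup (α := Fin 7)
  rw [Fintype.card_perm, Fintype.card_fin] at h1
  rw [Nat.card_eq_fintype_card]
  have : (7).factorial = 2 * 2520 := by decide
  omega

/-- a Sylow 2-subgroup of the alternating group whose multiplier is a quotient of `ℤ/2` -/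
theorem exists_sylow_two : ∃ R : Sylow 2 (alternatingGroup (Fin 7)),
    MultQuot (R : Subgroup (alternatingGroup (Fin 7))) (Multiplicative (ZMod 2)) := by
  classical
  have hf2 : Fact (Nat.Prime 2) := ⟨Nat.prime_two⟩
  let P : Subgroup (alternatingGroup (Fin 7)) := homD.range
  let e : DihedralGroup 4 ≃* P := MonoidHom.ofInjective homD_injective
  have hcardP : Nat.card P = 8 := by
    rw [← Nat.card_congr e.toEquiv, DihedralGroup.nat_card]
  have hP : IsPGroup 2 P := IsPGroup.of_card (n := 3) (by rw [hcardP]; norm_num)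
  have hidx : ¬ 2 ∣ P.index := by
    have h1 := P.card_mul_index
    rw [hcardP, card_alt] at h1
    omega
  refine ⟨hP.toSylow hidx, ?_⟩
  rw [IsPGroup.toSylow_coe]
  have h := multQuot_of_hasSchurMultiplier (Cfsg.Agent.S3965.result 4 (by decide))
  exact multQuot_of_mulEquiv e.symm h

/-- a Sylow 3-subgroup of the alternating group whose multiplier is a quotient of `ℤ/3` -/
theorem exists_sylow_three : ∃ R : Sylow 3 (alternatingGroup (Fin 7)),
    MultQuot (R : Subgroup (alternatingGroup (Fin 7))) (Multiplicative (ZMod 3)) := by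
  classical
  have hf3 : Fact (Nat.Prime 3) := ⟨Nat.prime_three⟩
  let P : Subgroup (alternatingGroup (Fin 7)) := homE.range
  let e : Multiplicative (ZMod 3 × ZMod 3) ≃* P := MonoidHom.ofInjective homE_injective
  have hcardP : Nat.card P = 9 := by
    rw [← Nat.card_congr e.toEquiv, Nat.card_congr Multiplicative.toAdd, Nat.card_prod,
      Nat.card_zmod]
  have hP : IsPGroup 3 P := IsPGroup.of_card (n := 2) (by rw [hcardP]; norm_num)
  have hidx : ¬ 3 ∣ P.index := by
    have h1 := P.card_mul_index
    rw [hcardP, card_alt] at h1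
    omega
  refine ⟨hP.toSylow hidx, ?_⟩
  rw [IsPGroup.toSylow_coe]
  have h := multQuot_of_hasSchurMultiplier (Cfsg.Agent.S3951.result 3 3 (dvd_refl 3))
  exact multQuot_of_mulEquiv e.symm h

theorem prime_sq_dvd : ∀ r < 51, r.Prime → r ^ 2 ∣ 2520 → r = 2 ∨ r = 3 := by decide

/-- the kernel of a finite stem extension has no elements of prime order other than 2 and 3 -/
theorem no_other {Γ : Type} [Group Γ] [Finite Γ] (σ : Γ →* alternatingGroup (Fin 7))
    (hσ : Cfsg.IsStemExtension σ) (r : ℕ) (hrp : r.Prime) (hr2 : r ≠ 2) (hr3 : r ≠ 3)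
    (z : Γ) (hz : z ∈ σ.ker) : orderOf z ≠ r := by
  classical
  intro hzo
  have : Fact r.Prime := ⟨hrp⟩
  let R : Sylow r (alternatingGroup (Fin 7)) := default
  have hRc : IsCyclic (R : Subgroup (alternatingGroup (Fin 7))) := by
    have hcard : Nat.card R = r ^ (Nat.card (alternatingGroup (Fin 7))).factorization r :=
      Sylow.card_eq_multiplicity R
    rw [card_alt] at hcard
    have hk : (2520 : ℕ).factorization r ≤ 1 := by
      by_contra hk
      push Not at hk
      have h2 : r ^ 2 ∣ 2520 := by
        apply (Nat.Prime.pow_dvd_iff_le_factorization hrp (by norm_num)).mpr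
        omega
      have hle : r ^ 2 ≤ 2520 := Nat.le_of_dvd (by norm_num) h2
      have hrb : r < 51 := by nlinarith
      rcases prime_sq_dvd r hrb hrp h2 with h | h
      · exact hr2 h
      · exact hr3 h
    rcases Nat.le_one_iff_eq_zero_or_eq_one.mp hk with h0 | h1
    · rw [h0, pow_zero] at hcard
      have : Subsingleton (R : Subgroup (alternatingGroup (Fin 7))) :=
        (Nat.card_eq_one_iff_unique.mp hcard).1
      exact isCyclic_of_subsingleton
    · rw [h1, pow_one] at hcard
      exact isCyclic_of_prime_card hcard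
  have hR : TrivMult (R : Subgroup (alternatingGroup (Fin 7))) :=
    trivMult_of_hasCyclicSchurMultiplier Cfsg.Agent.S3979.result
  exact no_order_r_of_sylow_trivMult σ hσ r R hR z hz hzo

end Cfsg.Agent.Lib.Helper70.AltSyl7
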