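import Mathlib

set_option autoImplicit false

namespace Cfsg.Agent.Lib.Helper70.Hexa

open Equiv

/-- the wreath product `C₃ ≀ S₆`, acting on `Fin 6 × ZMod 3` by `(j, s) ↦ (σ j, s + c j)` -/
@[ext] structure W where
  σ : Perm (Fin 6)
  c : Fin 6 → ZMod 3
deriving DecidableEq

instance : Mul W := ⟨fun g h => ⟨g.σ * h.σ, fun j => h.c j + g.c (h.σ j)⟩⟩
instance : One W := ⟨⟨1, fun _ => 0⟩⟩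
instance : Inv W := ⟨fun g => ⟨g.σ⁻¹, fun j => - g.c (g.σ⁻¹ j)⟩⟩

@[simp] theorem mul_σ (g h : W) : (g * h).σ = g.σ * h.σ := rfl
@[simp] theorem mul_c (g h : W) (j : Fin 6) : (g * h).c j = h.c j + g.c (h.σ j) := rfl
@[simp] theorem one_σ : (1 : W).σ = 1 := rfl
@[simp] theorem one_c (j : Fin 6) : (1 : W).c j = 0 := rfl
@[simp] theorem inv_σ (g : W) : (g⁻¹).σ = g.σ⁻¹ := rfl
@[simp] theorem inv_c (g : W) (j : Fin 6) : (g⁻¹).c j = - g.c (g.σ⁻¹ j) := rfl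

instance : Group W := Group.ofLeftAxioms
  (by
    intro a b c
    ext j
    · simp [mul_assoc]
    · simp [add_assoc])
  (by
    intro a
    ext j
    · simp
    · simp)
  (by
    intro a
    ext j
    · simp
    · simp)

instance : Finite W :=
  Finite.of_injective (fun g : W => (g.σ, g.c)) (fun g h hgh => by
    have h1 := congrArg Prod.fst hgh
    have h2 := congrArg Prod.snd hgh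
    exact W.ext h1 h2)

/-- the projection to `S₆` -/
def πW : W →* Perm (Fin 6) where
  toFun := W.σ
  map_one' := rfl
  map_mul' _ _ := rfl

@[simp] theorem πW_apply (g : W) : πW g = g.σ := rfl

/-- the 18 words of weight six of the hexacode, in exponent form -/
def T : List (Fin 6 → ZMod 3) :=
  [![0, 0, 1, 1, 2, 2],
  ![0, 0, 2, 2, 1, 1],
  ![0, 1, 0, 1, 0, 1],
  ![0, 1, 1, 0, 1, 0],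
  ![0, 2, 0, 2, 2, 0],
  ![0, 2, 2, 0, 0, 2],
  ![1, 0, 0, 1, 1, 0],
  ![1, 0, 1, 0, 0, 1],
  ![1, 1, 0, 0, 2, 2],
  ![1, 1, 2, 2, 0, 0],
  ![1, 2, 1, 2, 1, 2],
  ![1, 2, 2, 1, 2, 1],
  ![2, 0, 0, 2, 0, 2],
  ![2, 0, 2, 0, 2, 0],
  ![2, 1, 1, 2, 2, 1],
  ![2, 1, 2, 1, 1, 2],
  ![2, 2, 0, 0, 1, 1],
  ![2, 2, 1, 1, 0, 0]]

/-- `g` carries the transversal `t` to the transversal `t'` -/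
def Rel (g : W) (t t' : Fin 6 → ZMod 3) : Prop := ∀ j, t' (g.σ j) = t j + g.c j

instance (g : W) (t t' : Fin 6 → ZMod 3) : Decidable (Rel g t t') := by
  unfold Rel; infer_instance

theorem rel_one (t : Fin 6 → ZMod 3) : Rel 1 t t := by
  intro j; simp

theorem rel_mul {g h : W} {t t' t'' : Fin 6 → ZMod 3} (h1 : Rel g t t') (h2 : Rel h t' t'') :
    Rel (h * g) t t'' := by
  intro j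
  simp only [mul_σ, mul_c, Perm.mul_apply]
  rw [h2 (g.σ j), h1 j, add_assoc]

theorem rel_inv {g : W} {t t' : Fin 6 → ZMod 3} (h1 : Rel g t t') : Rel g⁻¹ t' t := by
  intro j
  simp only [inv_σ, inv_c]
  have h2 : g.σ (g.σ⁻¹ j) = j := by
    simp only [Equiv.Perm.coe_inv, Equiv.apply_symm_apply]
  have := h1 (g.σ⁻¹ j)
  rw [h2] at this
  rw [this]; ring

/-- `g` preserves the set `T` -/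
def Pres (g : W) : Prop :=
  (∀ t ∈ T, ∃ t' ∈ T, Rel g t t') ∧ (∀ t' ∈ T, ∃ t ∈ T, Rel g t t')

instance (g : W) : Decidable (Pres g) := by
  unfold Pres; infer_instance

/-- the stabiliser of `T` -/
def E₀ : Subgroup W where
  carrier := {g | Pres g}
  one_mem' := ⟨fun t ht => ⟨t, ht, rel_one t⟩, fun t ht => ⟨t, ht, rel_one t⟩⟩
  mul_mem' := by
    rintro g h ⟨hg1, hg2⟩ ⟨hh1, hh2⟩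
    refine ⟨fun t ht => ?_, fun t'' ht'' => ?_⟩
    · obtain ⟨t', ht', h1⟩ := hh1 t ht
      obtain ⟨t'', ht'', h2⟩ := hg1 t' ht'
      exact ⟨t'', ht'', rel_mul h1 h2⟩
    · obtain ⟨t', ht', h2⟩ := hg2 t'' ht''
      obtain ⟨t, ht, h1⟩ := hh2 t' ht'
      exact ⟨t, ht, rel_mul h1 h2⟩
  inv_mem' := by
    rintro g ⟨hg1, hg2⟩
    refine ⟨fun t' ht' => ?_, fun t ht => ?_⟩
    · obtain ⟨t, ht, h1⟩ := hg2 t' ht'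
      exact ⟨t, ht, rel_inv h1⟩
    · obtain ⟨t', ht', h1⟩ := hg1 t ht
      exact ⟨t', ht', rel_inv h1⟩

theorem mem_E₀ (g : W) : g ∈ E₀ ↔ Pres g := Iff.rfl

/-- the group `3.A₆` -/
def E : Subgroup W := E₀ ⊓ (alternatingGroup (Fin 6)).comap πW

theorem mem_E (g : W) : g ∈ E ↔ Pres g ∧ Perm.sign g.σ = 1 := by
  unfold E
  rw [Subgroup.mem_inf, Subgroup.mem_comap, Equiv.Perm.mem_alternatingGroup]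
  rfl

/-- table of lifts of the 3-cycles `swap a b * swap b c` -/
def tbl : Fin 6 → Fin 6 → Fin 6 → Fin 6 → ZMod 3 :=
  ![
  ![![![0, 0, 0, 0, 0, 0], ![0, 0, 0, 0, 0, 0], ![0, 0, 0, 0, 0, 0], ![0, 0, 0, 0, 0, 0], ![0, 0, 0, 0, 0, 0], ![0, 0, 0, 0, 0, 0]],
    ![![0, 0, 0, 0, 0, 0], ![0, 0, 0, 0, 0, 0], ![0, 0, 0, 0, 2, 1], ![0, 0, 0, 0, 1, 2], ![0, 0, 2, 1, 0, 0], ![0, 0, 1, 2, 0, 0]],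
    ![![0, 0, 0, 0, 0, 0], ![0, 0, 0, 0, 1, 2], ![0, 0, 0, 0, 0, 0], ![0, 0, 0, 0, 2, 1], ![0, 1, 1, 2, 2, 0], ![0, 2, 2, 1, 0, 1]],
    ![![0, 0, 0, 0, 0, 0], ![0, 0, 0, 0, 2, 1], ![0, 0, 0, 0, 1, 2], ![0, 0, 0, 0, 0, 0], ![0, 2, 1, 2, 1, 0], ![0, 1, 2, 1, 0, 2]],
    ![![0, 0, 0, 0, 0, 0], ![0, 0, 1, 2, 0, 0], ![0, 1, 2, 0, 1, 2], ![0, 2, 0, 1, 2, 1], ![0, 0, 0, 0, 0, 0], ![0, 0, 2, 1, 0, 0]],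
    ![![0, 0, 0, 0, 0, 0], ![0, 0, 2, 1, 0, 0], ![0, 2, 1, 0, 1, 2], ![0, 1, 0, 2, 2, 1], ![0, 0, 1, 2, 0, 0], ![0, 0, 0, 0, 0, 0]]],
  ![![![0, 0, 0, 0, 0, 0], ![0, 0, 0, 0, 0, 0], ![0, 0, 0, 0, 1, 2], ![0, 0, 0, 0, 2, 1], ![0, 0, 1, 2, 0, 0], ![0, 0, 2, 1, 0, 0]],
    ![![0, 0, 0, 0, 0, 0], ![0, 0, 0, 0, 0, 0], ![0, 0, 0, 0, 0, 0], ![0, 0, 0, 0, 0, 0], ![0, 0, 0, 0, 0, 0], ![0, 0, 0, 0, 0, 0]],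
    ![![0, 0, 0, 0, 2, 1], ![0, 0, 0, 0, 0, 0], ![0, 0, 0, 0, 0, 0], ![0, 0, 0, 0, 1, 2], ![0, 1, 0, 2, 2, 1], ![0, 2, 0, 1, 2, 1]],
    ![![0, 0, 0, 0, 1, 2], ![0, 0, 0, 0, 0, 0], ![0, 0, 0, 0, 2, 1], ![0, 0, 0, 0, 0, 0], ![0, 2, 1, 0, 1, 2], ![0, 1, 2, 0, 1, 2]],
    ![![0, 0, 2, 1, 0, 0], ![0, 0, 0, 0, 0, 0], ![0, 1, 2, 1, 0, 2], ![0, 2, 2, 1, 0, 1], ![0, 0, 0, 0, 0, 0], ![0, 0, 1, 2, 0, 0]],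
    ![![0, 0, 1, 2, 0, 0], ![0, 0, 0, 0, 0, 0], ![0, 2, 1, 2, 1, 0], ![0, 1, 1, 2, 2, 0], ![0, 0, 2, 1, 0, 0], ![0, 0, 0, 0, 0, 0]]],
  ![![![0, 0, 0, 0, 0, 0], ![0, 0, 0, 0, 2, 1], ![0, 0, 0, 0, 0, 0], ![0, 0, 0, 0, 1, 2], ![0, 1, 2, 0, 1, 2], ![0, 2, 1, 0, 1, 2]],
    ![![0, 0, 0, 0, 1, 2], ![0, 0, 0, 0, 0, 0], ![0, 0, 0, 0, 0, 0], ![0, 0, 0, 0, 2, 1], ![0, 1, 2, 1, 0, 2], ![0, 2, 1, 2, 1, 0]],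
    ![![0, 0, 0, 0, 0, 0], ![0, 0, 0, 0, 0, 0], ![0, 0, 0, 0, 0, 0], ![0, 0, 0, 0, 0, 0], ![0, 0, 0, 0, 0, 0], ![0, 0, 0, 0, 0, 0]],
    ![![0, 0, 0, 0, 2, 1], ![0, 0, 0, 0, 1, 2], ![0, 0, 0, 0, 0, 0], ![0, 0, 0, 0, 0, 0], ![0, 2, 1, 1, 1, 1], ![0, 1, 2, 2, 2, 2]],
    ![![0, 1, 1, 2, 2, 0], ![0, 1, 0, 2, 2, 1], ![0, 0, 0, 0, 0, 0], ![0, 1, 2, 2, 2, 2], ![0, 0, 0, 0, 0, 0], ![0, 2, 1, 1, 1, 1]],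
    ![![0, 2, 2, 1, 0, 1], ![0, 2, 0, 1, 2, 1], ![0, 0, 0, 0, 0, 0], ![0, 2, 1, 1, 1, 1], ![0, 1, 2, 2, 2, 2], ![0, 0, 0, 0, 0, 0]]],
  ![![![0, 0, 0, 0, 0, 0], ![0, 0, 0, 0, 1, 2], ![0, 0, 0, 0, 2, 1], ![0, 0, 0, 0, 0, 0], ![0, 2, 0, 1, 2, 1], ![0, 1, 0, 2, 2, 1]],
    ![![0, 0, 0, 0, 2, 1], ![0, 0, 0, 0, 0, 0], ![0, 0, 0, 0, 1, 2], ![0, 0, 0, 0, 0, 0], ![0, 2, 2, 1, 0, 1], ![0, 1, 1, 2, 2, 0]],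
    ![![0, 0, 0, 0, 1, 2], ![0, 0, 0, 0, 2, 1], ![0, 0, 0, 0, 0, 0], ![0, 0, 0, 0, 0, 0], ![0, 1, 2, 2, 2, 2], ![0, 2, 1, 1, 1, 1]],
    ![![0, 0, 0, 0, 0, 0], ![0, 0, 0, 0, 0, 0], ![0, 0, 0, 0, 0, 0], ![0, 0, 0, 0, 0, 0], ![0, 0, 0, 0, 0, 0], ![0, 0, 0, 0, 0, 0]],
    ![![0, 2, 1, 2, 1, 0], ![0, 2, 1, 0, 1, 2], ![0, 2, 1, 1, 1, 1], ![0, 0, 0, 0, 0, 0], ![0, 0, 0, 0, 0, 0], ![0, 1, 2, 2, 2, 2]],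
    ![![0, 1, 2, 1, 0, 2], ![0, 1, 2, 0, 1, 2], ![0, 1, 2, 2, 2, 2], ![0, 0, 0, 0, 0, 0], ![0, 2, 1, 1, 1, 1], ![0, 0, 0, 0, 0, 0]]],
  ![![![0, 0, 0, 0, 0, 0], ![0, 0, 2, 1, 0, 0], ![0, 1, 1, 2, 2, 0], ![0, 2, 1, 2, 1, 0], ![0, 0, 0, 0, 0, 0], ![0, 0, 1, 2, 0, 0]],
    ![![0, 0, 1, 2, 0, 0], ![0, 0, 0, 0, 0, 0], ![0, 1, 0, 2, 2, 1], ![0, 2, 1, 0, 1, 2], ![0, 0, 0, 0, 0, 0], ![0, 0, 2, 1, 0, 0]],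
    ![![0, 1, 2, 0, 1, 2], ![0, 1, 2, 1, 0, 2], ![0, 0, 0, 0, 0, 0], ![0, 2, 1, 1, 1, 1], ![0, 0, 0, 0, 0, 0], ![0, 1, 2, 2, 2, 2]],
    ![![0, 2, 0, 1, 2, 1], ![0, 2, 2, 1, 0, 1], ![0, 1, 2, 2, 2, 2], ![0, 0, 0, 0, 0, 0], ![0, 0, 0, 0, 0, 0], ![0, 2, 1, 1, 1, 1]],
    ![![0, 0, 0, 0, 0, 0], ![0, 0, 0, 0, 0, 0], ![0, 0, 0, 0, 0, 0], ![0, 0, 0, 0, 0, 0], ![0, 0, 0, 0, 0, 0], ![0, 0, 0, 0, 0, 0]],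
    ![![0, 0, 2, 1, 0, 0], ![0, 0, 1, 2, 0, 0], ![0, 2, 1, 1, 1, 1], ![0, 1, 2, 2, 2, 2], ![0, 0, 0, 0, 0, 0], ![0, 0, 0, 0, 0, 0]]],
  ![![![0, 0, 0, 0, 0, 0], ![0, 0, 1, 2, 0, 0], ![0, 2, 2, 1, 0, 1], ![0, 1, 2, 1, 0, 2], ![0, 0, 2, 1, 0, 0], ![0, 0, 0, 0, 0, 0]],
    ![![0, 0, 2, 1, 0, 0], ![0, 0, 0, 0, 0, 0], ![0, 2, 0, 1, 2, 1], ![0, 1, 2, 0, 1, 2], ![0, 0, 1, 2, 0, 0], ![0, 0, 0, 0, 0, 0]],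
    ![![0, 2, 1, 0, 1, 2], ![0, 2, 1, 2, 1, 0], ![0, 0, 0, 0, 0, 0], ![0, 1, 2, 2, 2, 2], ![0, 2, 1, 1, 1, 1], ![0, 0, 0, 0, 0, 0]],
    ![![0, 1, 0, 2, 2, 1], ![0, 1, 1, 2, 2, 0], ![0, 2, 1, 1, 1, 1], ![0, 0, 0, 0, 0, 0], ![0, 1, 2, 2, 2, 2], ![0, 0, 0, 0, 0, 0]],
    ![![0, 0, 1, 2, 0, 0], ![0, 0, 2, 1, 0, 0], ![0, 1, 2, 2, 2, 2], ![0, 2, 1, 1, 1, 1], ![0, 0, 0, 0, 0, 0], ![0, 0, 0, 0, 0, 0]],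
    ![![0, 0, 0, 0, 0, 0], ![0, 0, 0, 0, 0, 0], ![0, 0, 0, 0, 0, 0], ![0, 0, 0, 0, 0, 0], ![0, 0, 0, 0, 0, 0], ![0, 0, 0, 0, 0, 0]]]]

end Cfsg.Agent.Lib.Helper70.Hexa
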