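import Mathlib
import Cfsg.Agent.Lib.Helper70.HexaGroup

set_option autoImplicit false

namespace Cfsg.Agent.Lib.Helper70.Hexa

open Equiv

set_option maxRecDepth 100000 in
theorem pres_tbl : ∀ a b c : Fin 6, a ≠ b → b ≠ c → a ≠ c →
    Pres ⟨swap a b * swap b c, tbl a b c⟩ := by
  decide +kernel

set_option maxRecDepth 100000 in
theorem ker_const : ∀ c : Fin 6 → ZMod 3, (∀ t ∈ T, (fun j => t j + c j) ∈ T) → ∀ i, c i = c 0 := by
  decide +kernel

/-- the central element of order three -/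
def z : W := ⟨1, fun _ => 1⟩

theorem pres_z : Pres z := by decide +kernel

theorem z_mem_E : z ∈ E := by
  rw [mem_E]
  exact ⟨pres_z, by simp [z]⟩

theorem z_central (g : W) : g * z = z * g := by
  ext j
  · simp [z]
  · simp [z, add_comm]

theorem z_ne_one : z ≠ 1 := by decide

theorem z_sq_ne_one : z * z ≠ 1 := by decide

theorem z_sq_ne_z : z * z ≠ z := by decide

theorem z_cube : z * z * z = 1 := by
  apply W.ext
  · decide
  · decide

/-- the elements of `E₀` over the identity permutation -/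
theorem eq_of_σ_eq_one (g : W) (hg : Pres g) (hσ : g.σ = 1) : g = 1 ∨ g = z ∨ g = z * z := by
  have h1 : ∀ t ∈ T, (fun j => t j + g.c j) ∈ T := by
    intro t ht
    obtain ⟨t', ht', hrel⟩ := hg.1 t ht
    have : t' = fun j => t j + g.c j := by
      funext j
      have := hrel j
      rw [hσ] at this
      exact this
    rw [← this]; exact ht'
  have h2 := ker_const g.c h1
  have h3 : g.c 0 = 0 ∨ g.c 0 = 1 ∨ g.c 0 = 2 := by
    generalize g.c 0 = x
    revert x; decide
  rcases h3 with h | h | h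
  · left
    ext j
    · rw [hσ]; rfl
    · rw [h2 j, h]; rfl
  · right; left
    ext j
    · rw [hσ]; rfl
    · rw [h2 j, h]; rfl
  · right; right
    ext j
    · rw [hσ]; rfl
    · rw [h2 j, h]; rfl

/-- every even permutation lifts to `E` -/
theorem exists_lift (τ : Perm (Fin 6)) (hτ : τ ∈ alternatingGroup (Fin 6)) :
    ∃ g ∈ E, g.σ = τ := by
  have hcl : Subgroup.closure {σ : Perm (Fin 6) | σ.IsThreeCycle} ≤ E₀.map πW := by
    rw [Subgroup.closure_le]
    intro g hg
    have hg3 : g.IsThreeCycle := hg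
    have hne : g.support.Nonempty := by
      rw [← Finset.card_pos, hg3.card_support]; norm_num
    obtain ⟨a, ha⟩ := hne
    have h1 := hg3.eq_swap_mul_swap_iff_mem_support.mpr ha
    have h2 := hg3.nodup_iff_mem_support.mpr ha
    have hab : a ≠ g a := by
      intro h; rw [← h] at h2; simp at h2
    have hbc : g a ≠ g (g a) := by
      intro h; rw [← h] at h2; simp at h2
    have hac : a ≠ g (g a) := by
      intro h; rw [← h] at h2; simp at h2
    refine ⟨⟨swap a (g a) * swap (g a) (g (g a)), tbl a (g a) (g (g a))⟩, ?_, ?_⟩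
    · exact pres_tbl a (g a) (g (g a)) hab hbc hac
    · exact h1.symm
  have h3 : τ ∈ E₀.map πW := by
    apply hcl
    rw [Equiv.Perm.closure_three_cycles_eq_alternating]
    exact hτ
  obtain ⟨g, hg, rfl⟩ := h3
  refine ⟨g, ?_, rfl⟩
  rw [mem_E]
  exact ⟨hg, Equiv.Perm.mem_alternatingGroup.mp hτ⟩

/-- two elements of `E` whose commutator is `z` -/
def e₁ : W := ⟨swap 3 4 * swap 4 5, ![0, 1, 2, 2, 2, 2]⟩
def e₂ : W := ⟨swap 0 1 * swap 1 2, ![0, 0, 0, 0, 2, 1]⟩

theorem e₁_mem_E : e₁ ∈ E := by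
  rw [mem_E]
  refine ⟨by decide +kernel, ?_⟩
  simp [e₁, Equiv.Perm.sign_mul]

theorem e₂_mem_E : e₂ ∈ E := by
  rw [mem_E]
  refine ⟨by decide +kernel, ?_⟩
  simp [e₂, Equiv.Perm.sign_mul]

theorem comm_e : e₁ * e₂ * e₁⁻¹ * e₂⁻¹ = z := by
  apply W.ext
  · decide +kernel
  · decide +kernel

end Cfsg.Agent.Lib.Helper70.Hexa
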