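import Mathlib
import Cfsg.Prelude.Def_KGroupFacts
import Cfsg.Agent.Lib.Helper07.SchurRed2
import Cfsg.Agent.Lib.Helper70.StemExt

set_option autoImplicit false

namespace Cfsg.Agent.Lib.Helper70

open Cfsg.Agent.Lib.Helper07 Subgroup

universe u w

section mixed

variable {Γ : Type u} {G : Type u} [Group Γ] [Finite Γ] [Group G] [Finite G]

/-- the `r`-part of the kernel of a finite stem extension of `G` is a quotient of the multiplier
of a Sylow `r`-subgroup of `G`. -/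
lemma exists_surjective_inf_sylow (σ : Γ →* G) (hσ : Cfsg.IsStemExtension σ) (r : ℕ)
    [Fact r.Prime] (R : Sylow r G) {A : Type w} [CommGroup A]
    (hR : MultQuot (R : Subgroup G) A) (Rt : Sylow r Γ) :
    ∃ π : A →* ↥(σ.ker ⊓ (Rt : Subgroup Γ)), Function.Surjective π := by
  classical
  obtain ⟨hsurj, hcen, hcomm⟩ := hσ
  have hrp : r.Prime := Fact.out
  let R₁ : Sylow r G := Rt.mapSurjective hsurj
  have hR₁ : (R₁ : Subgroup G) = (Rt : Subgroup Γ).map σ := Sylow.coe_mapSurjective hsurj Rt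
  let e : (R₁ : Subgroup G) ≃* (R : Subgroup G) := Sylow.equiv R₁ R
  let e' : ((Rt : Subgroup Γ).map σ) ≃* (R : Subgroup G) :=
    (MulEquiv.subgroupCongr hR₁.symm).trans e
  let τ : (Rt : Subgroup Γ) →* (R : Subgroup G) :=
    e'.toMonoidHom.comp (σ.subgroupMap (Rt : Subgroup Γ))
  have hkerτ : ∀ x : (Rt : Subgroup Γ), x ∈ τ.ker ↔ (x : Γ) ∈ σ.ker := by
    intro x
    rw [MonoidHom.mem_ker, MonoidHom.mem_ker]
    show e' (σ.subgroupMap (Rt : Subgroup Γ) x) = 1 ↔ _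
    rw [e'.map_eq_one_iff]
    constructor
    · intro h
      have := congrArg Subtype.val h
      exact this
    · intro h
      exact Subtype.ext h
  have hstem : Cfsg.IsStemExtension τ := by
    refine ⟨?_, ?_, ?_⟩
    · exact e'.surjective.comp (σ.subgroupMap_surjective _)
    · intro x hx
      have h1 := hcen ((hkerτ x).mp hx)
      rw [Subgroup.mem_center_iff] at h1 ⊢
      intro y
      apply Subtype.ext
      exact h1 y
    · intro x hx
      have h1 := (hkerτ x).mp hx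
      have hxo : ∃ k, orderOf (x : Γ) = r ^ k := by
        obtain ⟨k, hk⟩ := (IsPGroup.iff_orderOf.mp Rt.2) x
        exact ⟨k, by rw [← hk, Subgroup.orderOf_coe]⟩
      obtain ⟨k, hk⟩ := hxo
      have hcop : ((Rt : Subgroup Γ).index).Coprime (orderOf (x : Γ)) := by
        rw [hk]
        apply Nat.Coprime.pow_right
        rw [Nat.coprime_comm, Nat.Prime.coprime_iff_not_dvd hrp]
        exact Rt.not_dvd_index
      exact mem_commutator_of_center_of_coprime_index (Rt : Subgroup Γ) (x : Γ) (hcen h1)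
        (hcomm h1) x.2 hcop
  obtain ⟨π, hπ⟩ := hR _ τ hstem
  let ι : τ.ker →* ↥(σ.ker ⊓ (Rt : Subgroup Γ)) :=
    ((Rt : Subgroup Γ).subtype.comp τ.ker.subtype).codRestrict _
      (fun x => ⟨(hkerτ x.1).mp x.2, x.1.2⟩)
  refine ⟨ι.comp π, ?_⟩
  intro y
  have hyR : (y : Γ) ∈ (Rt : Subgroup Γ) := y.2.2
  have h4 : (⟨y, hyR⟩ : (Rt : Subgroup Γ)) ∈ τ.ker := (hkerτ _).mpr y.2.1
  obtain ⟨a, ha⟩ := hπ ⟨⟨y, hyR⟩, h4⟩
  refine ⟨a, ?_⟩
  apply Subtype.ext
  show (((π a : τ.ker) : (Rt : Subgroup Γ)) : Γ) = y.1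
  rw [ha]

/-- a central element of `r`-power order lies in every Sylow `r`-subgroup -/
lemma mem_sylow_of_mem_center (r : ℕ) [Fact r.Prime] (Rt : Sylow r Γ) (y : Γ)
    (hy : y ∈ center Γ) (k : ℕ) (hk : y ^ (r ^ k) = 1) : y ∈ (Rt : Subgroup Γ) := by
  have hn : (zpowers y).Normal := by
    constructor
    intro n hn g
    obtain ⟨i, rfl⟩ := mem_zpowers_iff.mp hn
    have : y ^ i ∈ center Γ := Subgroup.zpow_mem _ hy i
    rw [Subgroup.mem_center_iff] at this
    rw [this g, mul_inv_cancel_right]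
    exact zpow_mem (mem_zpowers y) i
  have hp : IsPGroup r (zpowers y) := by
    intro g
    refine ⟨k, ?_⟩
    obtain ⟨i, hi⟩ := mem_zpowers_iff.mp g.2
    apply Subtype.ext
    show (g : Γ) ^ (r ^ k) = 1
    rw [← hi, ← zpow_natCast, ← zpow_mul, mul_comm, zpow_mul, zpow_natCast, hk, one_zpow]
  exact hp.le_sylow_of_normal Rt (mem_zpowers y)

theorem zmod_two_sq : ∀ a : Multiplicative (ZMod 2), a ^ 2 = 1 := by decide

theorem zmod_three_cube : ∀ a : Multiplicative (ZMod 3), a ^ 3 = 1 := by decide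

/-- if the Sylow 2- and 3-subgroups of `G` have multipliers that are quotients of `ℤ/2` and
`ℤ/3`, and the kernel of a finite stem extension has no elements of other prime orders, the kernel
is a quotient of `ℤ/6` -/
theorem exists_surj_zmod_six (σ : Γ →* G) (hσ : Cfsg.IsStemExtension σ)
    (R₂ : Sylow 2 G) (R₃ : Sylow 3 G)
    (h₂ : MultQuot (R₂ : Subgroup G) (Multiplicative (ZMod 2)))
    (h₃ : MultQuot (R₃ : Subgroup G) (Multiplicative (ZMod 3)))
    (hother : ∀ r : ℕ, r.Prime → r ≠ 2 → r ≠ 3 → ∀ z ∈ σ.ker, orderOf z ≠ r) :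
    ∃ π : Multiplicative (ZMod 6) →* σ.ker, Function.Surjective π := by
  classical
  have hf2 : Fact (Nat.Prime 2) := ⟨Nat.prime_two⟩
  have hf3 : Fact (Nat.Prime 3) := ⟨Nat.prime_three⟩
  let S₂ : Sylow 2 Γ := default
  let S₃ : Sylow 3 Γ := default
  obtain ⟨π₂, hπ₂⟩ := exists_surjective_inf_sylow σ hσ 2 R₂ h₂ S₂
  obtain ⟨π₃, hπ₃⟩ := exists_surjective_inf_sylow σ hσ 3 R₃ h₃ S₃
  have hcen := hσ.2.1
  have hz2 := zmod_two_sq
  have hz3 := zmod_three_cube
  -- elements of the two parts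
  have hsq : ∀ y ∈ σ.ker, ∀ k, y ^ (2 ^ k) = 1 → y ^ 2 = 1 := by
    intro y hy k hk
    have hyS : y ∈ (S₂ : Subgroup Γ) := mem_sylow_of_mem_center 2 S₂ y (hcen hy) k hk
    obtain ⟨a, ha⟩ := hπ₂ ⟨y, hy, hyS⟩
    have h1 : a ^ 2 = 1 := hz2 a
    have h2 : (⟨y, hy, hyS⟩ : ↥(σ.ker ⊓ (S₂ : Subgroup Γ))) ^ 2 = 1 := by
      rw [← ha, ← map_pow, h1, map_one]
    exact congrArg Subtype.val h2
  have hcu : ∀ y ∈ σ.ker, ∀ k, y ^ (3 ^ k) = 1 → y ^ 3 = 1 := by
    intro y hy k hk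
    have hyS : y ∈ (S₃ : Subgroup Γ) := mem_sylow_of_mem_center 3 S₃ y (hcen hy) k hk
    obtain ⟨a, ha⟩ := hπ₃ ⟨y, hy, hyS⟩
    have h1 : a ^ 3 = 1 := hz3 a
    have h2 : (⟨y, hy, hyS⟩ : ↥(σ.ker ⊓ (S₃ : Subgroup Γ))) ^ 3 = 1 := by
      rw [← ha, ← map_pow, h1, map_one]
    exact congrArg Subtype.val h2
  -- every element of the kernel is killed by 6
  have h6 : ∀ x ∈ σ.ker, x ^ 6 = 1 := by
    intro x hx
    have hm0 : orderOf x ≠ 0 := (orderOf_pos x).ne'
    obtain ⟨i, m₁, hm₁, hi⟩ := Nat.exists_eq_pow_mul_and_not_dvd hm0 2 (by norm_num)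
    have hm₁0 : m₁ ≠ 0 := by
      rintro rfl
      rw [mul_zero] at hi
      exact hm0 hi
    obtain ⟨j, m₂, hm₂, hj⟩ := Nat.exists_eq_pow_mul_and_not_dvd hm₁0 3 (by norm_num)
    have hm₂1 : m₂ = 1 := by
      by_contra hne
      obtain ⟨q, hq, hqd⟩ := Nat.exists_prime_and_dvd hne
      have hq2 : q ≠ 2 := by
        rintro rfl
        exact hm₁ (hj ▸ Dvd.dvd.mul_left hqd _)
      have hq3 : q ≠ 3 := by
        rintro rfl
        exact hm₂ hqd
      have hqo : q ∣ orderOf x := by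
        rw [hi, hj]
        exact Dvd.dvd.mul_left (Dvd.dvd.mul_left hqd _) _
      have := orderOf_pow_orderOf_div hm0 hqo
      exact hother q hq hq2 hq3 _ (Subgroup.pow_mem _ hx _) this
    rw [hm₂1, mul_one] at hj
    rw [hj] at hi
    -- the 2-part
    have h2 : (x ^ (3 ^ j)) ^ (2 ^ i) = 1 := by
      rw [← pow_mul, mul_comm, ← hi, pow_orderOf_eq_one]
    have h2' := hsq _ (Subgroup.pow_mem _ hx _) i h2
    have h3 : (x ^ (2 ^ i)) ^ (3 ^ j) = 1 := by
      rw [← pow_mul, ← hi, pow_orderOf_eq_one]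
    have h3' := hcu _ (Subgroup.pow_mem _ hx _) j h3
    have hd2 : orderOf x ∣ 3 ^ j * 2 := by
      apply orderOf_dvd_of_pow_eq_one
      rw [pow_mul]; exact h2'
    have hd3 : orderOf x ∣ 2 ^ i * 3 := by
      apply orderOf_dvd_of_pow_eq_one
      rw [pow_mul]; exact h3'
    have hi1 : i ≤ 1 := by
      by_contra hlt
      push Not at hlt
      have : 2 ^ 2 ∣ 3 ^ j * 2 := by
        refine Dvd.dvd.trans ?_ hd2
        rw [hi]
        exact Dvd.dvd.mul_right (pow_dvd_pow 2 hlt) _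
      have hc : Nat.Coprime (2 ^ 2) (3 ^ j) := by
        apply Nat.Coprime.pow
        norm_num
      have := hc.dvd_of_dvd_mul_left this
      norm_num at this
    have hj1 : j ≤ 1 := by
      by_contra hlt
      push Not at hlt
      have : 3 ^ 2 ∣ 2 ^ i * 3 := by
        refine Dvd.dvd.trans ?_ hd3
        rw [hi]
        exact Dvd.dvd.mul_left (pow_dvd_pow 3 hlt) _
      have hc : Nat.Coprime (3 ^ 2) (2 ^ i) := by
        apply Nat.Coprime.pow
        norm_num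
      have := hc.dvd_of_dvd_mul_left this
      norm_num at this
    apply orderOf_dvd_iff_pow_eq_one.mp
    rw [hi]
    have : 2 ^ i * 3 ^ j ∣ 2 ^ 1 * 3 ^ 1 :=
      Nat.mul_dvd_mul (pow_dvd_pow 2 hi1) (pow_dvd_pow 3 hj1)
    simpa using this
  -- the map from `ℤ/2 × ℤ/3`
  let ι₂ : ↥(σ.ker ⊓ (S₂ : Subgroup Γ)) →* σ.ker := Subgroup.inclusion inf_le_left
  let ι₃ : ↥(σ.ker ⊓ (S₃ : Subgroup Γ)) →* σ.ker := Subgroup.inclusion inf_le_left
  have hcomm : ∀ a b : σ.ker, a * b = b * a := by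
    intro a b
    apply Subtype.ext
    have := hcen a.2
    rw [Subgroup.mem_center_iff] at this
    exact (this b).symm
  let _ : CommGroup σ.ker := { (inferInstance : Group σ.ker) with mul_comm := hcomm }
  let φ : Multiplicative (ZMod 2) × Multiplicative (ZMod 3) →* σ.ker :=
    MonoidHom.coprod (ι₂.comp π₂) (ι₃.comp π₃)
  have hφ : Function.Surjective φ := by
    intro x
    have hx6 : (x : Γ) ^ 6 = 1 := h6 x x.2
    have h2 : ((x : Γ) ^ 3) ^ (2 ^ 1) = 1 := by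
      rw [← pow_mul]
      have : 3 * 2 ^ 1 = 6 := by norm_num
      rw [this]; exact hx6
    have h3 : ((x : Γ) ^ 4) ^ (3 ^ 1) = 1 := by
      rw [← pow_mul]
      have : 4 * 3 ^ 1 = 6 * 2 := by norm_num
      rw [this, pow_mul, hx6, one_pow]
    have hS2 : (x : Γ) ^ 3 ∈ (S₂ : Subgroup Γ) :=
      mem_sylow_of_mem_center 2 S₂ _ (hcen (Subgroup.pow_mem _ x.2 _)) 1 h2
    have hS3 : (x : Γ) ^ 4 ∈ (S₃ : Subgroup Γ) :=
      mem_sylow_of_mem_center 3 S₃ _ (hcen (Subgroup.pow_mem _ x.2 _)) 1 h3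
    obtain ⟨a, ha⟩ := hπ₂ ⟨(x : Γ) ^ 3, Subgroup.pow_mem _ x.2 _, hS2⟩
    obtain ⟨b, hb⟩ := hπ₃ ⟨(x : Γ) ^ 4, Subgroup.pow_mem _ x.2 _, hS3⟩
    refine ⟨(a, b), ?_⟩
    apply Subtype.ext
    show ((ι₂ (π₂ a) * ι₃ (π₃ b) : σ.ker) : Γ) = x
    rw [ha, hb]
    show (x : Γ) ^ 3 * (x : Γ) ^ 4 = x
    rw [← pow_add]
    calc (x : Γ) ^ (3 + 4) = (x : Γ) ^ 6 * (x : Γ) := by rw [← pow_succ]
      _ = (x : Γ) := by rw [hx6, one_mul]
  -- `ℤ/6 ≅ ℤ/2 × ℤ/3`
  let c : ZMod 6 ≃+* ZMod 2 × ZMod 3 := ZMod.chineseRemainder (by norm_num : Nat.Coprime 2 3)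
  let ψ : Multiplicative (ZMod 6) →* Multiplicative (ZMod 2) × Multiplicative (ZMod 3) :=
    { toFun := fun x => (Multiplicative.ofAdd (c (Multiplicative.toAdd x)).1,
        Multiplicative.ofAdd (c (Multiplicative.toAdd x)).2)
      map_one' := by
        show (Multiplicative.ofAdd (c 0).1, Multiplicative.ofAdd (c 0).2) = 1
        rw [map_zero]; rfl
      map_mul' := by
        intro x y
        show (Multiplicative.ofAdd (c (Multiplicative.toAdd x + Multiplicative.toAdd y)).1,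
          Multiplicative.ofAdd (c (Multiplicative.toAdd x + Multiplicative.toAdd y)).2) = _
        rw [map_add]; rfl }
  have hψ : Function.Surjective ψ := by
    rintro ⟨a, b⟩
    obtain ⟨t, ht⟩ := c.surjective (Multiplicative.toAdd a, Multiplicative.toAdd b)
    refine ⟨Multiplicative.ofAdd t, ?_⟩
    show (Multiplicative.ofAdd (c t).1, Multiplicative.ofAdd (c t).2) = (a, b)
    rw [ht]; rfl
  exact ⟨φ.comp ψ, hφ.comp hψ⟩

end mixed

end Cfsg.Agent.Lib.Helper70
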