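import Mathlib
import Cfsg.Prelude.Def_KGroupFacts

set_option autoImplicit false

namespace Cfsg.Agent.Lib.Helper70

open Subgroup
open scoped commutatorElement

universe u v w

section Pullback

variable {G : Type u} {Q : Type v} {E : Type w} [Group G] [Group Q] [Group E]

/-- the fibre product of `pr : G → Q` and `π : E → Q` -/
def pullbackSub (pr : G →* Q) (π : E →* Q) : Subgroup (G × E) :=
  (pr.comp (MonoidHom.fst G E)).eqLocus (π.comp (MonoidHom.snd G E))

theorem mem_pullbackSub (pr : G →* Q) (π : E →* Q) (x : G × E) :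
    x ∈ pullbackSub pr π ↔ pr x.1 = π x.2 := Iff.rfl

/-- the projection of the fibre product to `G` -/
def pullbackFst (pr : G →* Q) (π : E →* Q) : pullbackSub pr π →* G :=
  (MonoidHom.fst G E).comp (pullbackSub pr π).subtype

theorem pullbackFst_surjective (pr : G →* Q) (π : E →* Q) (hπ : Function.Surjective π) :
    Function.Surjective (pullbackFst pr π) := by
  intro a
  obtain ⟨b, hb⟩ := hπ (pr a)
  exact ⟨⟨(a, b), hb.symm⟩, rfl⟩

theorem mem_ker_pullbackFst (pr : G →* Q) (π : E →* Q) (x : pullbackSub pr π) :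
    x ∈ (pullbackFst pr π).ker ↔ x.1.1 = 1 := Iff.rfl

theorem snd_mem_ker_of_mem_ker (pr : G →* Q) (π : E →* Q) (x : pullbackSub pr π)
    (hx : x ∈ (pullbackFst pr π).ker) : x.1.2 ∈ π.ker := by
  have h1 : x.1.1 = 1 := hx
  have h2 : pr x.1.1 = π x.1.2 := x.2
  rw [MonoidHom.mem_ker, ← h2, h1, map_one]

/-- the kernel of the projection is the kernel of `π` -/
noncomputable def pullbackKerEquiv (pr : G →* Q) (π : E →* Q) :
    (pullbackFst pr π).ker ≃* π.ker := by
  let f : (pullbackFst pr π).ker →* π.ker :=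
    (((MonoidHom.snd G E).comp (pullbackSub pr π).subtype).comp
      (pullbackFst pr π).ker.subtype).codRestrict π.ker
      (fun x => snd_mem_ker_of_mem_ker pr π x.1 x.2)
  refine MulEquiv.ofBijective f ⟨?_, ?_⟩
  · intro x y hxy
    have h1 : x.1.1.2 = y.1.1.2 := congrArg Subtype.val hxy
    have hx : x.1.1.1 = 1 := x.2
    have hy : y.1.1.1 = 1 := y.2
    apply Subtype.ext
    apply Subtype.ext
    exact Prod.ext (hx.trans hy.symm) h1
  · intro k
    have hk : π k.1 = 1 := k.2
    have hmem : ((1 : G), (k : E)) ∈ pullbackSub pr π := by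
      rw [mem_pullbackSub]
      show pr 1 = π k.1
      rw [map_one, hk]
    refine ⟨⟨⟨(1, k.1), hmem⟩, rfl⟩, ?_⟩
    apply Subtype.ext
    rfl

/-- the fibre product of a central extension `pr` and a stem extension `π` is a stem extension of
`G`, provided some power map kills the kernel of `pr` and fixes the kernel of `π` -/
theorem pullbackFst_isStem (pr : G →* Q) (hpr : Function.Surjective pr) (π : E →* Q)
    (hπ : Function.Surjective π) (hcen : π.ker ≤ center E) (hder : π.ker ≤ commutator E) (n : ℕ)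
    (hxn : ∀ x ∈ pr.ker, x ^ n = 1) (hkn : ∀ k ∈ π.ker, k ^ n = k) :
    Cfsg.IsStemExtension (pullbackFst pr π) := by
  refine ⟨pullbackFst_surjective pr π hπ, ?_, ?_⟩
  · intro x hx
    have hk := hcen (snd_mem_ker_of_mem_ker pr π x hx)
    have h1 : x.1.1 = 1 := hx
    rw [Subgroup.mem_center_iff] at hk ⊢
    intro y
    apply Subtype.ext
    apply Prod.ext
    · show y.1.1 * x.1.1 = x.1.1 * y.1.1
      rw [h1, mul_one, one_mul]
    · exact hk y.1.2
  · intro x hx
    have hk : x.1.2 ∈ π.ker := snd_mem_ker_of_mem_ker pr π x hx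
    let sndΓ : pullbackSub pr π →* E := (MonoidHom.snd G E).comp (pullbackSub pr π).subtype
    have hS : commutator E ≤ (commutator (pullbackSub pr π)).map sndΓ := by
      rw [commutator_def, Subgroup.commutator_le]
      intro b₁ _ b₂ _
      obtain ⟨a₁, ha₁⟩ := hpr (π b₁)
      obtain ⟨a₂, ha₂⟩ := hpr (π b₂)
      refine ⟨⁅(⟨(a₁, b₁), ha₁⟩ : pullbackSub pr π), ⟨(a₂, b₂), ha₂⟩⁆, ?_, ?_⟩
      · rw [commutator_def]
        exact Subgroup.commutator_mem_commutator (Subgroup.mem_top _) (Subgroup.mem_top _)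
      · rw [map_commutatorElement]
        rfl
    obtain ⟨y, hy, hyk⟩ := hS (hder hk)
    have hy2 : y.1.2 = x.1.2 := hyk
    have hy1 : y.1.1 ∈ pr.ker := by
      have h2 : pr y.1.1 = π y.1.2 := y.2
      rw [MonoidHom.mem_ker, h2, hy2]
      exact hk
    have hpow : y ^ n = x := by
      apply Subtype.ext
      apply Prod.ext
      · show ((y ^ n : pullbackSub pr π) : G × E).1 = x.1.1
        have hx1 : x.1.1 = 1 := hx
        rw [Subgroup.coe_pow, Prod.pow_fst, hxn _ hy1, hx1]
      · show ((y ^ n : pullbackSub pr π) : G × E).2 = x.1.2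
        rw [Subgroup.coe_pow, Prod.pow_snd, hy2, hkn _ hk]
    rw [← hpow]
    exact Subgroup.pow_mem _ hy n

end Pullback

end Cfsg.Agent.Lib.Helper70
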