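import Mathlib
import Cfsg.Prelude.Def_KGroupFacts
import Cfsg.Agent.Lib.Helper70.SchurPullback

set_option autoImplicit false

namespace Cfsg.Agent.Lib.Helper70

open Subgroup
open scoped commutatorElement

universe u v w

section Pullback2

variable {G : Type u} {Q : Type v} {E : Type w} [Group G] [Group Q] [Group E]

/-- an element of the fibre product with trivial second component lies in the commutator
subgroup, if `pr` is a stem extension and some power map kills the kernel of `π` and fixes the
kernel of `pr` -/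
theorem pullback_fst_part_mem_commutator (pr : G →* Q) (π : E →* Q) (hπ : Function.Surjective π)
    (hder : pr.ker ≤ commutator G) (n : ℕ) (hkn : ∀ k ∈ π.ker, k ^ n = 1)
    (hxn : ∀ x ∈ pr.ker, x ^ n = x) (x : pullbackSub pr π) (hx : x.1.2 = 1) :
    x ∈ commutator (pullbackSub pr π) := by
  have hk : x.1.1 ∈ pr.ker := by
    have h2 : pr x.1.1 = π x.1.2 := x.2
    rw [MonoidHom.mem_ker, h2, hx, map_one]
  let fstΓ : pullbackSub pr π →* G := pullbackFst pr π
  have hS : commutator G ≤ (commutator (pullbackSub pr π)).map fstΓ := by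
    rw [commutator_def, Subgroup.commutator_le]
    intro a₁ _ a₂ _
    obtain ⟨b₁, hb₁⟩ := hπ (pr a₁)
    obtain ⟨b₂, hb₂⟩ := hπ (pr a₂)
    refine ⟨⁅(⟨(a₁, b₁), hb₁.symm⟩ : pullbackSub pr π), ⟨(a₂, b₂), hb₂.symm⟩⁆, ?_, ?_⟩
    · rw [commutator_def]
      exact Subgroup.commutator_mem_commutator (Subgroup.mem_top _) (Subgroup.mem_top _)
    · rw [map_commutatorElement]
      rfl
  obtain ⟨y, hy, hyk⟩ := hS (hder hk)
  have hy1 : y.1.1 = x.1.1 := hyk
  have hy2 : y.1.2 ∈ π.ker := by
    have h2 : pr y.1.1 = π y.1.2 := y.2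
    rw [MonoidHom.mem_ker, ← h2, hy1]
    exact hk
  have hpow : y ^ n = x := by
    apply Subtype.ext
    apply Prod.ext
    · show ((y ^ n : pullbackSub pr π) : G × E).1 = x.1.1
      rw [Subgroup.coe_pow, Prod.pow_fst, hy1, hxn _ hk]
    · show ((y ^ n : pullbackSub pr π) : G × E).2 = x.1.2
      rw [Subgroup.coe_pow, Prod.pow_snd, hkn _ hy2, hx]
  rw [← hpow]
  exact Subgroup.pow_mem _ hy n

/-- the projection of the fibre product to the common quotient -/
def pullbackBoth (pr : G →* Q) (π : E →* Q) : pullbackSub pr π →* Q :=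
  pr.comp (pullbackFst pr π)

theorem mem_ker_pullbackBoth (pr : G →* Q) (π : E →* Q) (x : pullbackSub pr π) :
    x ∈ (pullbackBoth pr π).ker ↔ x.1.1 ∈ pr.ker ∧ x.1.2 ∈ π.ker := by
  have h2 : pr x.1.1 = π x.1.2 := x.2
  constructor
  · intro h
    have h1 : pr x.1.1 = 1 := h
    exact ⟨h1, by rw [MonoidHom.mem_ker, ← h2, h1]⟩
  · intro h
    exact h.1

/-- the fibre product of two stem extensions whose kernels have coprime exponents is a stem
extension -/
theorem pullbackBoth_isStem (pr : G →* Q) (hpr : Function.Surjective pr) (π : E →* Q)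
    (hπ : Function.Surjective π) (hcen₁ : pr.ker ≤ center G) (hder₁ : pr.ker ≤ commutator G)
    (hcen₂ : π.ker ≤ center E) (hder₂ : π.ker ≤ commutator E) (n m : ℕ)
    (hxn : ∀ x ∈ pr.ker, x ^ n = 1) (hkn : ∀ k ∈ π.ker, k ^ n = k)
    (hkm : ∀ k ∈ π.ker, k ^ m = 1) (hxm : ∀ x ∈ pr.ker, x ^ m = x) :
    Cfsg.IsStemExtension (pullbackBoth pr π) := by
  refine ⟨hpr.comp (pullbackFst_surjective pr π hπ), ?_, ?_⟩
  · intro x hx
    obtain ⟨h1, h2⟩ := (mem_ker_pullbackBoth pr π x).mp hx
    have h1' := hcen₁ h1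
    have h2' := hcen₂ h2
    rw [Subgroup.mem_center_iff] at h1' h2' ⊢
    intro y
    apply Subtype.ext
    apply Prod.ext
    · exact h1' y.1.1
    · exact h2' y.1.2
  · intro x hx
    obtain ⟨h1, h2⟩ := (mem_ker_pullbackBoth pr π x).mp hx
    have hm1 : (x.1.1, (1 : E)) ∈ pullbackSub pr π := by
      rw [mem_pullbackSub]
      show pr x.1.1 = π 1
      rw [map_one]; exact h1
    have hm2 : ((1 : G), x.1.2) ∈ pullbackSub pr π := by
      rw [mem_pullbackSub]
      show pr 1 = π x.1.2
      rw [map_one]; exact h2.symm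
    have hx' : x = (⟨(x.1.1, 1), hm1⟩ : pullbackSub pr π) * ⟨(1, x.1.2), hm2⟩ := by
      apply Subtype.ext
      apply Prod.ext
      · show x.1.1 = x.1.1 * 1
        rw [mul_one]
      · show x.1.2 = 1 * x.1.2
        rw [one_mul]
    rw [hx']
    apply mul_mem
    · exact pullback_fst_part_mem_commutator pr π hπ hder₁ m hkm hxm _ rfl
    · have hst := pullbackFst_isStem pr hpr π hπ hcen₂ hder₂ n hxn hkn
      exact hst.2.2 (show (⟨(1, x.1.2), hm2⟩ : pullbackSub pr π) ∈ (pullbackFst pr π).ker from rfl)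

/-- the kernel of the fibre product of a double and a triple cover is cyclic of order six -/
theorem pullbackBoth_ker_equiv [Finite G] [Finite E] (pr : G →* Q) (π : E →* Q)
    (h2 : Nat.card pr.ker = 2) (h3 : Nat.card π.ker = 3) :
    Nonempty ((pullbackBoth pr π).ker ≃* Multiplicative (ZMod 6)) := by
  classical
  have hf2 : Fact (Nat.Prime 2) := ⟨Nat.prime_two⟩
  have hf3 : Fact (Nat.Prime 3) := ⟨Nat.prime_three⟩
  -- the bijection with the product of the kernels
  let f : (pullbackBoth pr π).ker → pr.ker × π.ker := fun x =>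
    (⟨x.1.1.1, ((mem_ker_pullbackBoth pr π x.1).mp x.2).1⟩,
      ⟨x.1.1.2, ((mem_ker_pullbackBoth pr π x.1).mp x.2).2⟩)
  have hf : Function.Bijective f := by
    constructor
    · intro x y hxy
      have h1 : x.1.1.1 = y.1.1.1 := congrArg (fun p => (p.1 : G)) hxy
      have h2 : x.1.1.2 = y.1.1.2 := congrArg (fun p => (p.2 : E)) hxy
      apply Subtype.ext
      apply Subtype.ext
      exact Prod.ext h1 h2
    · rintro ⟨⟨a, ha⟩, ⟨b, hb⟩⟩
      have hm : (a, b) ∈ pullbackSub pr π := by
        rw [mem_pullbackSub]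
        show pr a = π b
        rw [MonoidHom.mem_ker.mp ha, MonoidHom.mem_ker.mp hb]
      refine ⟨⟨⟨(a, b), hm⟩, ?_⟩, rfl⟩
      rw [mem_ker_pullbackBoth]
      exact ⟨ha, hb⟩
  have hcard : Nat.card (pullbackBoth pr π).ker = 6 := by
    rw [Nat.card_congr (Equiv.ofBijective f hf), Nat.card_prod, h2, h3]
  -- an element of order six
  obtain ⟨a, ha⟩ := exists_prime_orderOf_dvd_card' (G := pr.ker) 2 (by rw [h2])
  obtain ⟨b, hb⟩ := exists_prime_orderOf_dvd_card' (G := π.ker) 3 (by rw [h3])
  have hma : ((a : G), (1 : E)) ∈ pullbackSub pr π := by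
    rw [mem_pullbackSub]
    show pr a = π 1
    rw [map_one]; exact a.2
  have hmb : ((1 : G), (b : E)) ∈ pullbackSub pr π := by
    rw [mem_pullbackSub]
    show pr 1 = π b
    rw [map_one]; exact b.2.symm
  have hka : (⟨((a : G), (1 : E)), hma⟩ : pullbackSub pr π) ∈ (pullbackBoth pr π).ker := by
    rw [mem_ker_pullbackBoth]
    exact ⟨a.2, one_mem _⟩
  have hkb : (⟨((1 : G), (b : E)), hmb⟩ : pullbackSub pr π) ∈ (pullbackBoth pr π).ker := by
    rw [mem_ker_pullbackBoth]
    exact ⟨one_mem _, b.2⟩
  let A : (pullbackBoth pr π).ker := ⟨_, hka⟩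
  let B : (pullbackBoth pr π).ker := ⟨_, hkb⟩
  have hoA : orderOf A = 2 := by
    rw [← ha]
    have hinj : Function.Injective (fun t : pr.ker =>
        (⟨⟨((t : G), (1 : E)), by
          rw [mem_pullbackSub]; show pr t = π 1; rw [map_one]; exact t.2⟩, by
          rw [mem_ker_pullbackBoth]; exact ⟨t.2, one_mem _⟩⟩ : (pullbackBoth pr π).ker)) := by
      intro s t hst
      have := congrArg (fun p : (pullbackBoth pr π).ker => p.1.1.1) hst
      exact Subtype.ext this
    let φ : pr.ker →* (pullbackBoth pr π).ker :=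
      { toFun := fun t => ⟨⟨((t : G), (1 : E)), by
          rw [mem_pullbackSub]; show pr t = π 1; rw [map_one]; exact t.2⟩, by
          rw [mem_ker_pullbackBoth]; exact ⟨t.2, one_mem _⟩⟩
        map_one' := rfl
        map_mul' := by
          intro s t
          apply Subtype.ext
          apply Subtype.ext
          apply Prod.ext
          · rfl
          · show (1 : E) = 1 * 1
            rw [one_mul] }
    exact orderOf_injective φ hinj a
  have hoB : orderOf B = 3 := by
    rw [← hb]
    have hinj : Function.Injective (fun t : π.ker =>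
        (⟨⟨((1 : G), (t : E)), by
          rw [mem_pullbackSub]; show pr 1 = π t; rw [map_one]; exact t.2.symm⟩, by
          rw [mem_ker_pullbackBoth]; exact ⟨one_mem _, t.2⟩⟩ : (pullbackBoth pr π).ker)) := by
      intro s t hst
      have := congrArg (fun p : (pullbackBoth pr π).ker => p.1.1.2) hst
      exact Subtype.ext this
    let φ : π.ker →* (pullbackBoth pr π).ker :=
      { toFun := fun t => ⟨⟨((1 : G), (t : E)), by
          rw [mem_pullbackSub]; show pr 1 = π t; rw [map_one]; exact t.2.symm⟩, by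
          rw [mem_ker_pullbackBoth]; exact ⟨one_mem _, t.2⟩⟩
        map_one' := rfl
        map_mul' := by
          intro s t
          apply Subtype.ext
          apply Subtype.ext
          apply Prod.ext
          · show (1 : G) = 1 * 1
            rw [one_mul]
          · rfl }
    exact orderOf_injective φ hinj b
  have hAB : Commute A B := by
    apply Subtype.ext
    apply Subtype.ext
    apply Prod.ext
    · show (a : G) * 1 = 1 * (a : G)
      rw [mul_one, one_mul]
    · show (1 : E) * (b : E) = (b : E) * 1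
      rw [mul_one, one_mul]
  have hoAB : orderOf (A * B) = 6 := by
    rw [hAB.orderOf_mul_eq_mul_orderOf_of_coprime (by rw [hoA, hoB]; norm_num), hoA, hoB]
  have hcyc : IsCyclic (pullbackBoth pr π).ker :=
    isCyclic_of_orderOf_eq_card (A * B) (by rw [hoAB, hcard])
  exact ⟨mulEquivOfCyclicCardEq (by
    rw [hcard, Nat.card_congr Multiplicative.toAdd, Nat.card_zmod])⟩

end Pullback2

end Cfsg.Agent.Lib.Helper70
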