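import Cfsg.Agent.Lib.Helper70.SpinCenter

set_option autoImplicit false

namespace Cfsg.Agent.Lib.Helper70.Spin

open CliffordAlgebra
open scoped commutatorElement

noncomputable section

variable {n : ℕ}

/-- The root vector `e a - e b`. -/
def u (a b : Fin n) : Cl n := e a - e b

theorem u_mul_e {a b : Fin n} (hab : a ≠ b) (x : Fin n) :
    u a b * e x = -(e (Equiv.swap a b x) * u a b) := by
  unfold u
  by_cases hxa : x = a
  · subst hxa
    rw [Equiv.swap_apply_left, sub_mul, mul_sub, e_sq, e_sq]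
    abel
  · by_cases hxb : x = b
    · subst hxb
      rw [Equiv.swap_apply_right, sub_mul, mul_sub, e_sq, e_sq]
      abel
    · rw [Equiv.swap_apply_of_ne_of_ne hxa hxb, sub_mul, mul_sub, e_anti (Ne.symm hxa),
        e_anti (Ne.symm hxb)]
      abel

theorem u_sq {a b : Fin n} (hab : a ≠ b) : u a b * u a b = 2 := by
  unfold u
  rw [sub_mul, mul_sub, mul_sub, e_sq, e_sq, e_anti hab]
  abel_nf
  norm_num

theorem u_anti {a b c d : Fin n} (hac : a ≠ c) (had : a ≠ d) (hbc : b ≠ c) (hbd : b ≠ d) :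
    u a b * u c d = -(u c d * u a b) := by
  unfold u
  rw [sub_mul, mul_sub, mul_sub, sub_mul, mul_sub, mul_sub, e_anti hac, e_anti had, e_anti hbc,
    e_anti hbd]
  abel

theorem involute_u (a b : Fin n) : involute (u a b) = -u a b := by
  unfold u e
  rw [map_sub, involute_ι, involute_ι]; abel

theorem reverse_u (a b : Fin n) : reverse (u a b) = u a b := by
  unfold u e
  rw [map_sub, reverse_ι, reverse_ι]

theorem half_uu_mul {a b c d : Fin n} (hab : a ≠ b) (hcd : c ≠ d) :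
    ((1 / 2 : ℚ) • (u a b * u c d)) * ((1 / 2 : ℚ) • (u c d * u a b)) = 1 := by
  rw [smul_mul_smul_comm, mul_assoc (u a b), ← mul_assoc (u c d), u_sq hcd]
  have h2 : (2 : Cl n) = (2 : ℚ) • (1 : Cl n) := by
    rw [ofNat_smul_eq_nsmul ℚ]; simp
  rw [h2, smul_mul_assoc, one_mul, mul_smul_comm, u_sq hab, h2, smul_smul, smul_smul]
  norm_num

/-- The lift of `swap a b * swap c d`. -/
def gU (a b c d : Fin n) (hab : a ≠ b) (hcd : c ≠ d) : (Cl n)ˣ :=
  ⟨(1 / 2 : ℚ) • (u a b * u c d), (1 / 2 : ℚ) • (u c d * u a b), half_uu_mul hab hcd,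
    half_uu_mul hcd hab⟩

variable (n) in
/-- The group of pairs `(g, σ)` of an even unitary unit of the Clifford algebra and a
permutation it induces on the basis vectors. -/
def spinSub : Subgroup ((Cl n)ˣ × Equiv.Perm (Fin n)) where
  carrier := {p | involute (p.1 : Cl n) = p.1 ∧ (p.1 : Cl n) * reverse (p.1 : Cl n) = 1 ∧
    ∀ c, (p.1 : Cl n) * e c = e (p.2 c) * (p.1 : Cl n)}
  one_mem' := by
    refine ⟨by simp, by simp, by simp⟩
  mul_mem' := by
    rintro ⟨g, σ⟩ ⟨h, τ⟩ ⟨hg1, hg2, hg3⟩ ⟨hh1, hh2, hh3⟩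
    refine ⟨?_, ?_, ?_⟩
    · simp only [Prod.fst_mul, Units.val_mul, map_mul] at *
      rw [hg1, hh1]
    · simp only [Prod.fst_mul, Units.val_mul, reverse.map_mul] at *
      rw [mul_assoc, ← mul_assoc (h : Cl n), hh2, one_mul, hg2]
    · intro c
      simp only [Prod.fst_mul, Prod.snd_mul, Units.val_mul, Equiv.Perm.coe_mul,
        Function.comp_apply] at *
      rw [mul_assoc, hh3, ← mul_assoc, hg3, mul_assoc]
  inv_mem' := by
    rintro ⟨g, σ⟩ ⟨hg1, hg2, hg3⟩
    simp only [Set.mem_ofPred_eq, Prod.fst_inv, Prod.snd_inv] at *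
    have hinv : ((g⁻¹ : (Cl n)ˣ) : Cl n) = reverse (g : Cl n) :=
      Units.inv_eq_of_mul_eq_one_right hg2
    refine ⟨?_, ?_, ?_⟩
    · rw [hinv, ← reverse_involute, hg1]
    · rw [hinv, reverse_reverse, ← hinv, Units.inv_mul]
    · intro c
      have h := hg3 (σ⁻¹ c)
      simp only [Equiv.Perm.coe_inv, Equiv.apply_symm_apply] at h
      calc ((g⁻¹ : (Cl n)ˣ) : Cl n) * e c
          = ((g⁻¹ : (Cl n)ˣ) : Cl n) * (e c * (g : Cl n)) * ((g⁻¹ : (Cl n)ˣ) : Cl n) := by
            rw [mul_assoc, mul_assoc, Units.mul_inv, mul_one]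
        _ = e (σ⁻¹ c) * ((g⁻¹ : (Cl n)ˣ) : Cl n) := by
            rw [Equiv.Perm.coe_inv, ← h, ← mul_assoc, Units.inv_mul, one_mul]

theorem mem_spinSub {p : (Cl n)ˣ × Equiv.Perm (Fin n)} : p ∈ spinSub n ↔
    involute (p.1 : Cl n) = p.1 ∧ (p.1 : Cl n) * reverse (p.1 : Cl n) = 1 ∧
    ∀ c, (p.1 : Cl n) * e c = e (p.2 c) * (p.1 : Cl n) := Iff.rfl

theorem gen_mem_spinSub (a b c d : Fin n) (hab : a ≠ b) (hcd : c ≠ d) :
    (gU a b c d hab hcd, Equiv.swap a b * Equiv.swap c d) ∈ spinSub n := by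
  rw [mem_spinSub]
  refine ⟨?_, ?_, ?_⟩
  · simp only [gU, map_smul, map_mul, involute_u]
    simp
  · simp only [gU, map_smul, reverse.map_mul, reverse_u]
    exact half_uu_mul hab hcd
  · intro x
    simp only [gU, Equiv.Perm.coe_mul, Function.comp_apply]
    rw [smul_mul_assoc, mul_smul_comm, mul_assoc, u_mul_e hcd, mul_neg, ← mul_assoc,
      u_mul_e hab, neg_mul, neg_neg, mul_assoc]

theorem exists_mem_spinSub_of_swaps : ∀ (k : ℕ) (l : List (Equiv.Perm (Fin n))),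
    (∀ g ∈ l, Equiv.Perm.IsSwap g) → l.length = 2 * k → ∃ g, (g, l.prod) ∈ spinSub n := by
  intro k
  induction k with
  | zero =>
    intro l _ hl
    have : l = [] := List.length_eq_zero_iff.1 (by simpa using hl)
    subst this
    exact ⟨1, (spinSub n).one_mem⟩
  | succ k ih =>
    intro l hl hlen
    rw [Nat.mul_succ] at hlen
    obtain ⟨a, l, rfl⟩ := l.exists_of_length_succ hlen
    rw [List.length_cons, Nat.succ_inj] at hlen
    obtain ⟨b, l, rfl⟩ := l.exists_of_length_succ hlen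
    rw [List.length_cons, Nat.succ_inj] at hlen
    obtain ⟨g, hg⟩ := ih l (fun g hg => hl g (by simp [hg])) hlen
    obtain ⟨p, q, hpq, rfl⟩ := hl a (by simp)
    obtain ⟨r, s, hrs, rfl⟩ := hl b (by simp)
    refine ⟨gU p q r s hpq hrs * g, ?_⟩
    rw [List.prod_cons, List.prod_cons, ← mul_assoc]
    exact (spinSub n).mul_mem (gen_mem_spinSub p q r s hpq hrs) hg

theorem exists_mem_spinSub_of_mem_alternatingGroup (σ : Equiv.Perm (Fin n))
    (hσ : σ ∈ alternatingGroup (Fin n)) : ∃ g, (g, σ) ∈ spinSub n := by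
  obtain ⟨l, rfl, hl⟩ := Equiv.Perm.truncSwapFactors σ
  obtain ⟨k, hk⟩ := (Equiv.Perm.prod_list_swap_mem_alternatingGroup_iff_even_length hl).1 hσ
  rw [← two_mul] at hk
  exact exists_mem_spinSub_of_swaps k l hl hk

theorem neg_one_ne_one : (-1 : Cl n) ≠ 1 := by
  intro h
  have h4 : (2 : Cl n) = 0 := by
    have : (1 : Cl n) + 1 = 0 := by nth_rewrite 1 [← h]; simp
    rw [← this]; norm_num
  have h5 : (algebraMap ℚ (Cl n)) 2 = 0 := by rw [map_ofNat]; exact h4
  simp at h5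

/-- A kernel element is `±1`. -/
theorem eq_one_or_neg_one_of_mem_spinSub (g : (Cl n)ˣ) (hg : (g, 1) ∈ spinSub n) :
    g = 1 ∨ g = -1 := by
  obtain ⟨h1, h2, h3⟩ := mem_spinSub.mp hg
  simp only [Equiv.Perm.coe_one, id_eq] at h3
  obtain ⟨q, hq⟩ := exists_eq_algebraMap_of_commute (g : Cl n) h3 h1
  rw [hq, reverse.commutes, ← map_mul] at h2
  have h4 : q * q = 1 := by
    apply (algebraMap ℚ (Cl n)).injective
    rw [h2, map_one]
  rcases mul_self_eq_one_iff.mp h4 with rfl | rfl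
  · left; apply Units.ext; rw [hq]; simp
  · right; apply Units.ext; rw [hq]; simp

theorem gen_anti {a b c d : Fin n} (hab : a ≠ b) (hcd : c ≠ d) (hac : a ≠ c) (had : a ≠ d)
    (hbc : b ≠ c) (hbd : b ≠ d) :
    gU a b c d hab hcd * gU a c b d hac hbd = -(gU a c b d hac hbd * gU a b c d hab hcd) := by
  have hx := (mem_spinSub.mp (gen_mem_spinSub a b c d hab hcd)).2.2
  simp only [Equiv.Perm.coe_mul, Function.comp_apply] at hx
  have hσa : Equiv.swap a b (Equiv.swap c d a) = b := by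
    rw [Equiv.swap_apply_of_ne_of_ne hac had, Equiv.swap_apply_left]
  have hσb : Equiv.swap a b (Equiv.swap c d b) = a := by
    rw [Equiv.swap_apply_of_ne_of_ne hbc hbd, Equiv.swap_apply_right]
  have hσc : Equiv.swap a b (Equiv.swap c d c) = d := by
    rw [Equiv.swap_apply_left, Equiv.swap_apply_of_ne_of_ne (Ne.symm had) (Ne.symm hbd)]
  have hσd : Equiv.swap a b (Equiv.swap c d d) = c := by
    rw [Equiv.swap_apply_right, Equiv.swap_apply_of_ne_of_ne (Ne.symm hac) (Ne.symm hbc)]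
  have h1 : (gU a b c d hab hcd : Cl n) * u a c = u b d * (gU a b c d hab hcd : Cl n) := by
    unfold u
    rw [mul_sub, sub_mul, hx a, hx c, hσa, hσc]
  have h2 : (gU a b c d hab hcd : Cl n) * u b d = u a c * (gU a b c d hab hcd : Cl n) := by
    unfold u
    rw [mul_sub, sub_mul, hx b, hx d, hσb, hσd]
  apply Units.ext
  rw [Units.val_neg, Units.val_mul, Units.val_mul]
  have hy : (gU a c b d hac hbd : Cl n) = (1 / 2 : ℚ) • (u a c * u b d) := rfl
  rw [hy, mul_smul_comm, smul_mul_assoc, ← mul_assoc, h1, mul_assoc, h2, ← mul_assoc,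
    u_anti (Ne.symm hab) hbc (Ne.symm had) (Ne.symm hcd), neg_mul, smul_neg]

theorem exists_double_cover (hn : 4 ≤ n) : ∃ (Γ : Type) (_ : Group Γ) (_ : Finite Γ) (z : Γ)
    (_ : z ∈ Subgroup.center Γ), orderOf z = 2 ∧ z ∈ commutator Γ ∧
    ∃ _ : (Subgroup.zpowers z).Normal,
      Nonempty (Γ ⧸ Subgroup.zpowers z ≃* alternatingGroup (Fin n)) := by
  classical
  let Γ₁ : Subgroup ((Cl n)ˣ × Equiv.Perm (Fin n)) :=
    spinSub n ⊓ (alternatingGroup (Fin n)).comap (MonoidHom.snd _ _)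
  let π : Γ₁ →* alternatingGroup (Fin n) :=
    ((MonoidHom.snd _ _).comp Γ₁.subtype).codRestrict _ (fun x => x.2.2)
  have hπ : Function.Surjective π := by
    rintro ⟨σ, hσ⟩
    obtain ⟨g, hg⟩ := exists_mem_spinSub_of_mem_alternatingGroup σ hσ
    exact ⟨⟨(g, σ), hg, hσ⟩, rfl⟩
  have hz1 : ((-1 : (Cl n)ˣ), (1 : Equiv.Perm (Fin n))) ∈ Γ₁ := by
    refine Subgroup.mem_inf.mpr ⟨?_, ?_⟩
    · rw [mem_spinSub]
      refine ⟨by simp, by simp, by simp⟩
    · exact (alternatingGroup (Fin n)).one_mem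
  let z : Γ₁ := ⟨(-1, 1), hz1⟩
  have hzne : z ≠ 1 := by
    intro h
    have h' : ((z.1.1 : (Cl n)ˣ) : Cl n) = (((1 : Γ₁).1.1 : (Cl n)ˣ) : Cl n) := by rw [h]
    exact neg_one_ne_one (by simpa [z] using h')
  have hzsq : z ^ 2 = 1 := by
    apply Subtype.ext
    apply Prod.ext <;> simp [z, pow_two]
  have : Fact (Nat.Prime 2) := ⟨Nat.prime_two⟩
  have hord : orderOf z = 2 := orderOf_eq_prime hzsq hzne
  have hzc : z ∈ Subgroup.center Γ₁ := by
    rw [Subgroup.mem_center_iff]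
    rintro ⟨⟨g, σ⟩, hg⟩
    apply Subtype.ext
    apply Prod.ext <;> simp [z]
  have hker : π.ker = Subgroup.zpowers z := by
    apply le_antisymm
    · rintro ⟨⟨g, σ⟩, hg⟩ hx
      rw [MonoidHom.mem_ker] at hx
      have hσ : σ = 1 := congrArg Subtype.val hx
      subst hσ
      rcases eq_one_or_neg_one_of_mem_spinSub g hg.1 with rfl | rfl
      · exact (Subgroup.zpowers z).one_mem
      · exact Subgroup.mem_zpowers z
    · rw [Subgroup.zpowers_le, MonoidHom.mem_ker]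
      exact Subtype.ext rfl
  -- the commutator
  have h01 : (⟨0, by omega⟩ : Fin n) ≠ ⟨1, by omega⟩ := by simp [Fin.ext_iff]
  have h02 : (⟨0, by omega⟩ : Fin n) ≠ ⟨2, by omega⟩ := by simp [Fin.ext_iff]
  have h03 : (⟨0, by omega⟩ : Fin n) ≠ ⟨3, by omega⟩ := by simp [Fin.ext_iff]
  have h12 : (⟨1, by omega⟩ : Fin n) ≠ ⟨2, by omega⟩ := by simp [Fin.ext_iff]
  have h13 : (⟨1, by omega⟩ : Fin n) ≠ ⟨3, by omega⟩ := by simp [Fin.ext_iff]
  have h23 : (⟨2, by omega⟩ : Fin n) ≠ ⟨3, by omega⟩ := by simp [Fin.ext_iff]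
  have hmem : ∀ (a b c d : Fin n) (hab : a ≠ b) (hcd : c ≠ d),
      (gU a b c d hab hcd, Equiv.swap a b * Equiv.swap c d) ∈ Γ₁ := by
    intro a b c d hab hcd
    refine Subgroup.mem_inf.mpr ⟨gen_mem_spinSub a b c d hab hcd, ?_⟩
    rw [Subgroup.mem_comap, MonoidHom.coe_snd, Equiv.Perm.mem_alternatingGroup,
      Equiv.Perm.sign_mul, Equiv.Perm.sign_swap hab, Equiv.Perm.sign_swap hcd]
    decide
  let x : Γ₁ := ⟨_, hmem _ _ _ _ h01 h23⟩
  let y : Γ₁ := ⟨_, hmem _ _ _ _ h02 h13⟩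
  have hxy : ⁅x, y⁆ = z := by
    have hfst : (⁅x, y⁆ : Γ₁).1.1 = -1 := by
      have h := gen_anti h01 h23 h02 h03 h12 h13
      show ⁅x.1.1, y.1.1⁆ = -1
      rw [commutatorElement_def]
      show gU _ _ _ _ h01 h23 * gU _ _ _ _ h02 h13 * (gU _ _ _ _ h01 h23)⁻¹ *
        (gU _ _ _ _ h02 h13)⁻¹ = -1
      rw [h]
      simp
    have hmem2 := (mem_spinSub.mp (⁅x, y⁆ : Γ₁).2.1).2.2
    have hsnd : (⁅x, y⁆ : Γ₁).1.2 = 1 := by
      ext c
      have hc := hmem2 c
      rw [hfst] at hc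
      simp only [Units.val_neg, Units.val_one, neg_mul, one_mul, mul_neg, mul_one, neg_inj] at hc
      have := e_injective hc
      simp [← this]
    apply Subtype.ext
    exact Prod.ext hfst hsnd
  have hcomm : z ∈ commutator Γ₁ := by
    rw [← hxy, commutator_def]
    exact Subgroup.commutator_mem_commutator (Subgroup.mem_top x) (Subgroup.mem_top y)
  have : Finite π.ker := by
    rw [hker]
    apply Nat.finite_of_card_ne_zero
    rw [Nat.card_zpowers, hord]
    norm_num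
  have : Finite (Γ₁ ⧸ π.ker) :=
    Finite.of_equiv _ (QuotientGroup.quotientKerEquivOfSurjective π hπ).symm.toEquiv
  have hfin : Finite Γ₁ := Finite.of_subgroup_quotient π.ker
  have hnorm : (Subgroup.zpowers z).Normal := hker ▸ (inferInstance : π.ker.Normal)
  exact ⟨Γ₁, inferInstance, hfin, z, hzc, hord, hcomm, hnorm,
    ⟨(QuotientGroup.quotientMulEquivOfEq hker.symm).trans
      (QuotientGroup.quotientKerEquivOfSurjective π hπ)⟩⟩

end

end Cfsg.Agent.Lib.Helper70.Spin
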