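import Mathlib
import Cfsg.Prelude.Def_KGroupFacts
import Cfsg.Agent.Lib.Helper70.SpinCover
import Cfsg.Agent.Lib.Helper70.HexaCover
import Cfsg.Agent.Lib.Helper70.A7Cover
import Cfsg.Agent.Lib.Helper70.SchurMixed
import Cfsg.Agent.Lib.Helper70.SchurPullback2
import Cfsg.Agent.Lib.Helper70.AltSylow6
import Cfsg.Agent.Lib.Helper70.AltSylow7

set_option autoImplicit false

namespace Cfsg.Agent.Lib.Helper70.AltSixSeven

open Subgroup Cfsg.Agent.Lib.Helper70 Cfsg.Agent.Lib.Helper07

/-- gluing a double cover (given as a central quotient) and a triple cover to a sixfold cover -/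
theorem exists_sixfold_cover {n : ℕ} (hn : 4 ≤ n) {E : Type} [Group E] [Finite E]
    (π : E →* alternatingGroup (Fin n)) (hπ : Function.Surjective π)
    (hcen : π.ker ≤ center E) (hder : π.ker ≤ commutator E)
    (hcard : Nat.card π.ker = 3) :
    ∃ (Γ : Type) (_ : Group Γ) (_ : Finite Γ) (σ : Γ →* alternatingGroup (Fin n)),
      Cfsg.IsStemExtension σ ∧ Nonempty (σ.ker ≃* Multiplicative (ZMod 6)) := by
  classical
  obtain ⟨Γ₂, hG, hF, z, hzc, hzo, hzd, hzn, ⟨e⟩⟩ := Spin.exists_double_cover hn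
  let pr : Γ₂ →* alternatingGroup (Fin n) :=
    e.toMonoidHom.comp (QuotientGroup.mk' (zpowers z))
  have hpr : Function.Surjective pr :=
    e.surjective.comp (QuotientGroup.mk'_surjective _)
  have hker : pr.ker = zpowers z := by
    ext x
    rw [MonoidHom.mem_ker]
    show e (QuotientGroup.mk' (zpowers z) x) = 1 ↔ _
    rw [EmbeddingLike.map_eq_one_iff, QuotientGroup.mk'_apply, QuotientGroup.eq_one_iff]
  have hz2 : z ^ 2 = 1 := by rw [← hzo]; exact pow_orderOf_eq_one z
  have hcard2 : Nat.card pr.ker = 2 := by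
    rw [hker, Nat.card_zpowers, hzo]
  have hcen₁ : pr.ker ≤ center Γ₂ := by
    rw [hker, zpowers_le]; exact hzc
  have hder₁ : pr.ker ≤ commutator Γ₂ := by
    rw [hker, zpowers_le]; exact hzd
  have hx2 : ∀ x ∈ pr.ker, x ^ 2 = 1 := by
    intro x hx
    have : (⟨x, hx⟩ : pr.ker) ^ Nat.card pr.ker = 1 := pow_card_eq_one'
    rw [hcard2] at this
    exact congrArg Subtype.val this
  have hk3 : ∀ k ∈ π.ker, k ^ 3 = 1 := by
    intro k hk
    have : (⟨k, hk⟩ : π.ker) ^ Nat.card π.ker = 1 := pow_card_eq_one'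
    rw [hcard] at this
    exact congrArg Subtype.val this
  have hstem : Cfsg.IsStemExtension (pullbackBoth pr π) := by
    refine pullbackBoth_isStem pr hpr π hπ hcen₁ hder₁ hcen hder 4 3 ?_ ?_ hk3 ?_
    · intro x hx
      calc x ^ 4 = (x ^ 2) ^ 2 := by rw [← pow_mul]
        _ = 1 := by rw [hx2 x hx, one_pow]
    · intro k hk
      calc k ^ 4 = k ^ 3 * k := by rw [pow_succ]
        _ = k := by rw [hk3 k hk, one_mul]
    · intro x hx
      calc x ^ 3 = x ^ 2 * x := by rw [pow_succ]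
        _ = x := by rw [hx2 x hx, one_mul]
  exact ⟨pullbackSub pr π, inferInstance, inferInstance, pullbackBoth pr π, hstem,
    pullbackBoth_ker_equiv pr π hcard2 hcard⟩

/-- the Schur multiplier of the alternating group of degree six is cyclic of order six -/
theorem multiplier_six : Cfsg.HasCyclicSchurMultiplier (alternatingGroup (Fin 6)) 6 := by
  refine ⟨exists_sixfold_cover (by norm_num) Hexa.πE Hexa.πE_surjective Hexa.ker_πE_le_center
    Hexa.ker_πE_le_commutator Hexa.card_ker_πE, ?_⟩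
  intro Γ _ _ σ hσ
  obtain ⟨R₂, h₂⟩ := AltSyl6.exists_sylow_two
  obtain ⟨R₃, h₃⟩ := AltSyl6.exists_sylow_three
  exact exists_surj_zmod_six σ hσ R₂ R₃ h₂ h₃ (AltSyl6.no_other σ hσ)

/-- the Schur multiplier of the alternating group of degree seven is cyclic of order six -/
theorem multiplier_seven : Cfsg.HasCyclicSchurMultiplier (alternatingGroup (Fin 7)) 6 := by
  refine ⟨exists_sixfold_cover (by norm_num) A7c.πE A7c.πE_surjective A7c.ker_πE_le_center
    A7c.ker_πE_le_commutator A7c.card_ker_πE, ?_⟩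
  intro Γ _ _ σ hσ
  obtain ⟨R₂, h₂⟩ := AltSyl7.exists_sylow_two
  obtain ⟨R₃, h₃⟩ := AltSyl7.exists_sylow_three
  exact exists_surj_zmod_six σ hσ R₂ R₃ h₂ h₃ (AltSyl7.no_other σ hσ)

end Cfsg.Agent.Lib.Helper70.AltSixSeven
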