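import Mathlib
import Cfsg.Prelude.Def_KGroupFacts
import Cfsg.Agent.Lib.Helper07.SchurRed2
import Cfsg.Agent.S3951
import Cfsg.Agent.S3979

set_option autoImplicit false

namespace Cfsg.Agent.Lib.Helper70.AltSmall4

open Equiv Subgroup Cfsg.Agent.Lib.Helper07

/-- two commuting double transpositions -/
def a2 : Perm (Fin 4) := swap 0 1 * swap 2 3
def b2 : Perm (Fin 4) := swap 0 2 * swap 1 3

/-- the four-group inside the symmetric group -/
def fE : Multiplicative (ZMod 2 × ZMod 2) → Perm (Fin 4) :=
  fun a => a2 ^ (Multiplicative.toAdd a).1.val * b2 ^ (Multiplicative.toAdd a).2.val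

theorem fE_mul : ∀ a b : Multiplicative (ZMod 2 × ZMod 2), fE (a * b) = fE a * fE b := by decide

theorem fE_inj : ∀ a b : Multiplicative (ZMod 2 × ZMod 2), fE a = fE b → a = b := by decide

theorem fE_sign : ∀ a : Multiplicative (ZMod 2 × ZMod 2), Equiv.Perm.sign (fE a) = 1 := by
  decide

theorem fE_mem (a : Multiplicative (ZMod 2 × ZMod 2)) : fE a ∈ alternatingGroup (Fin 4) :=
  Equiv.Perm.mem_alternatingGroup.mpr (fE_sign a)

/-- the four-group inside the alternating group -/
def homE : Multiplicative (ZMod 2 × ZMod 2) →* alternatingGroup (Fin 4) :=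
  MonoidHom.mk' (fun a => ⟨fE a, fE_mem a⟩) (fun a b => Subtype.ext (fE_mul a b))

theorem homE_injective : Function.Injective homE := by
  intro a b hab
  exact fE_inj a b (congrArg Subtype.val hab)

theorem card_alt : Nat.card (alternatingGroup (Fin 4)) = 12 := by
  have h1 := two_mul_card_alternatingGroup (α := Fin 4)
  rw [Fintype.card_perm, Fintype.card_fin] at h1
  rw [Nat.card_eq_fintype_card]
  have : (4).factorial = 2 * 12 := by decide
  omega

/-- a Sylow 2-subgroup of the alternating group whose multiplier is a quotient of `ℤ/2` -/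
theorem exists_sylow_two : ∃ R : Sylow 2 (alternatingGroup (Fin 4)),
    MultQuot (R : Subgroup (alternatingGroup (Fin 4))) (Multiplicative (ZMod 2)) := by
  classical
  have hf2 : Fact (Nat.Prime 2) := ⟨Nat.prime_two⟩
  let P : Subgroup (alternatingGroup (Fin 4)) := homE.range
  let e : Multiplicative (ZMod 2 × ZMod 2) ≃* P := MonoidHom.ofInjective homE_injective
  have hcardP : Nat.card P = 4 := by
    rw [← Nat.card_congr e.toEquiv, Nat.card_congr Multiplicative.toAdd, Nat.card_prod,
      Nat.card_zmod]
  have hP : IsPGroup 2 P := IsPGroup.of_card (n := 2) (by rw [hcardP]; norm_num)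
  have hidx : ¬ 2 ∣ P.index := by
    have h1 := P.card_mul_index
    rw [hcardP, card_alt] at h1
    omega
  refine ⟨hP.toSylow hidx, ?_⟩
  rw [IsPGroup.toSylow_coe]
  have h := multQuot_of_hasSchurMultiplier (Cfsg.Agent.S3951.result 2 2 (dvd_refl 2))
  exact multQuot_of_mulEquiv e.symm h

theorem prime_sq_dvd : ∀ r < 4, r.Prime → r ^ 2 ∣ 12 → r = 2 := by decide

/-- the kernel of a finite stem extension has no elements of odd prime order -/
theorem no_other {Γ : Type} [Group Γ] [Finite Γ] (σ : Γ →* alternatingGroup (Fin 4))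
    (hσ : Cfsg.IsStemExtension σ) (r : ℕ) (hrp : r.Prime) (hr2 : r ≠ 2)
    (z : Γ) (hz : z ∈ σ.ker) : orderOf z ≠ r := by
  classical
  intro hzo
  have : Fact r.Prime := ⟨hrp⟩
  let R : Sylow r (alternatingGroup (Fin 4)) := default
  have hRc : IsCyclic (R : Subgroup (alternatingGroup (Fin 4))) := by
    have hcard : Nat.card R = r ^ (Nat.card (alternatingGroup (Fin 4))).factorization r :=
      Sylow.card_eq_multiplicity R
    rw [card_alt] at hcard
    have hk : (12 : ℕ).factorization r ≤ 1 := by
      by_contra hk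
      push Not at hk
      have h2 : r ^ 2 ∣ 12 := by
        apply (Nat.Prime.pow_dvd_iff_le_factorization hrp (by norm_num)).mpr
        omega
      have hle : r ^ 2 ≤ 12 := Nat.le_of_dvd (by norm_num) h2
      have hrb : r < 4 := by nlinarith
      exact hr2 (prime_sq_dvd r hrb hrp h2)
    rcases Nat.le_one_iff_eq_zero_or_eq_one.mp hk with h0 | h1
    · rw [h0, pow_zero] at hcard
      have : Subsingleton (R : Subgroup (alternatingGroup (Fin 4))) :=
        (Nat.card_eq_one_iff_unique.mp hcard).1
      exact isCyclic_of_subsingleton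
    · rw [h1, pow_one] at hcard
      exact isCyclic_of_prime_card hcard
  have hR : TrivMult (R : Subgroup (alternatingGroup (Fin 4))) :=
    trivMult_of_hasCyclicSchurMultiplier Cfsg.Agent.S3979.result
  exact no_order_r_of_sylow_trivMult σ hσ r R hR z hz hzo

/-- the kernel of a finite stem extension of the alternating group has order at most two -/
theorem card_ker_le_two {Γ : Type} [Group Γ] [Finite Γ] (σ : Γ →* alternatingGroup (Fin 4))
    (hσ : Cfsg.IsStemExtension σ) : Nat.card σ.ker ≤ 2 := by
  classical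
  have hf2 : Fact (Nat.Prime 2) := ⟨Nat.prime_two⟩
  have hpg : IsPGroup 2 σ.ker := by
    have hcard : ∀ r : ℕ, r.Prime → r ∣ Nat.card σ.ker → r = 2 := by
      intro r hr hdvd
      by_contra hr2
      have : Fact r.Prime := ⟨hr⟩
      obtain ⟨z, hz⟩ := exists_prime_orderOf_dvd_card' r hdvd
      have hzk : (z : Γ) ∈ σ.ker := z.2
      have hzo : orderOf (z : Γ) = r := by rw [Subgroup.orderOf_coe]; exact hz
      exact no_other σ hσ r hr hr2 z hzk hzo
    have hne : Nat.card σ.ker ≠ 0 := Nat.card_pos.ne'
    have := Nat.eq_prime_pow_of_unique_prime_dvd hne (fun {d} hd hdd => hcard d hd hdd)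
    exact IsPGroup.of_card this
  obtain ⟨R, hR⟩ := exists_sylow_two
  obtain ⟨π, hπ⟩ := exists_surjective_of_sylow_multQuot σ hσ 2 R hR hpg
  have h1 := Nat.card_le_card_of_surjective π hπ
  rwa [Nat.card_congr Multiplicative.toAdd, Nat.card_zmod] at h1

end Cfsg.Agent.Lib.Helper70.AltSmall4
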