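import Mathlib

set_option autoImplicit false

/-!
Computations in a group with central elements, used to normalise the lifts of the generators of
an alternating group in a central extension.
-/

namespace Cfsg.Agent.Lib.Helper70.AltStem

open Subgroup

variable {Γ : Type*} [Group Γ]

theorem central_comm {c : Γ} (hc : c ∈ center Γ) (a : Γ) : a * c = c * a :=
  Subgroup.mem_center_iff.mp hc a

theorem pow_three' (a : Γ) : a ^ 3 = a * a * a := by rw [pow_succ, pow_succ, pow_one]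

section TwoGen

variable {x w : Γ}

/-- the defect of the braid relation is an explicit product of relator values -/
theorem braid_defect_eq (hA : x * x ∈ center Γ) (hB : w * w ∈ center Γ)
    (hC : (x * w) ^ 3 ∈ center Γ) :
    (w * x * w)⁻¹ * (x * w * x) = ((w * w) * (w * w) * (x * x))⁻¹ * (x * w) ^ 3 := by
  have h1 : (w * x * w) * (w * x * w) = (w * w) * (w * w) * (x * x) := by
    calc (w * x * w) * (w * x * w) = w * x * (w * w) * x * w := by group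
      _ = (w * w) * (w * (x * x) * w) := by rw [central_comm hB (w * x)]; group
      _ = (w * w) * ((x * x) * (w * w)) := by rw [central_comm hA w]; group
      _ = (w * w) * (w * w) * (x * x) := by rw [central_comm hB (x * x)]; group
  have h2 : (w * x * w) * (x * w * x) = (x * w) ^ 3 := by
    calc (w * x * w) * (x * w * x) = w * (x * w) ^ 3 * w⁻¹ := by rw [pow_three']; group
      _ = (x * w) ^ 3 := by rw [central_comm hC w]; group
  calc (w * x * w)⁻¹ * (x * w * x)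
      = ((w * x * w) * (w * x * w))⁻¹ * ((w * x * w) * (x * w * x)) := by group
    _ = _ := by rw [h1, h2]

/-- rescaling the second generator by the braid defect makes the braid relation exact -/
theorem braid_update {β : Γ} (hβ : β ∈ center Γ) (hdef : w * x * w * β = x * w * x) :
    x * (w * β) * x = (w * β) * x * (w * β) := by
  calc x * (w * β) * x = x * w * (β * x) := by group
    _ = x * w * (x * β) := by rw [central_comm hβ x]
    _ = (x * w * x) * β := by group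
    _ = (w * x * w * β) * β := by rw [hdef]
    _ = w * (x * w * β) * β := by group
    _ = w * (β * (x * w)) * β := by rw [central_comm hβ (x * w)]
    _ = (w * β) * x * (w * β) := by group

/-- braided elements have the same square, if that square is central -/
theorem sq_eq_of_braid (hbr : x * w * x = w * x * w) (hA : x * x ∈ center Γ) :
    w * w = x * x := by
  have hw : w = (x * w) * x * (x * w)⁻¹ := by
    rw [eq_mul_inv_iff_mul_eq]
    calc w * (x * w) = w * x * w := by group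
      _ = x * w * x := hbr.symm
  calc w * w = ((x * w) * x * (x * w)⁻¹) * ((x * w) * x * (x * w)⁻¹) := by rw [← hw]
    _ = (x * w) * (x * x) * (x * w)⁻¹ := by group
    _ = x * x := by rw [central_comm hA (x * w)]; group

/-- braided elements with common central square `b` have product of cube `b ^ 3` -/
theorem cube_of_braid {b : Γ} (hbr : x * w * x = w * x * w) (hx : x * x = b) (hw : w * w = b)
    (hb : b ∈ center Γ) : (x * w) ^ 3 = b ^ 3 := by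
  calc (x * w) ^ 3 = (x * w * x) * (w * x * w) := by rw [pow_three']; group
    _ = (x * w * x) * (x * w * x) := by rw [← hbr]
    _ = x * w * (x * x) * w * x := by group
    _ = x * w * b * w * x := by rw [hx]
    _ = b * (x * (w * w) * x) := by rw [central_comm hb (x * w)]; group
    _ = b * (x * b * x) := by rw [hw]
    _ = b * (b * (x * x)) := by rw [central_comm hb x]; group
    _ = b ^ 3 := by rw [hx, pow_three']; group

/-- the commutator of two elements whose squares and whose product's square are central -/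
theorem comm_eq_of_sq (hA : x * x ∈ center Γ) :
    x * w * x⁻¹ * w⁻¹ = (x * w) ^ 2 * (x * x)⁻¹ * (w * w)⁻¹ := by
  have hA' : (x * x)⁻¹ ∈ center Γ := inv_mem hA
  calc x * w * x⁻¹ * w⁻¹ = x * w * x * ((x * x)⁻¹ * w) * (w * w)⁻¹ := by group
    _ = x * w * x * (w * (x * x)⁻¹) * (w * w)⁻¹ := by rw [central_comm hA' w]
    _ = (x * w) ^ 2 * (x * x)⁻¹ * (w * w)⁻¹ := by rw [pow_two]; group

/-- a central commutator with an element of central square has order at most two -/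
theorem comm_sq_eq_one {e : Γ} (he : e ∈ center Γ) (hxw : x * w = e * w * x)
    (hA : x * x ∈ center Γ) : e * e = 1 := by
  have h2 : x * x * w = e * e * (x * x * w) := by
    calc x * x * w = x * (x * w) := by group
      _ = x * (e * w * x) := by rw [hxw]
      _ = (x * e) * w * x := by group
      _ = e * x * w * x := by rw [central_comm he x]
      _ = e * (x * w) * x := by group
      _ = e * (e * w * x) * x := by rw [hxw]
      _ = e * e * (w * (x * x)) := by group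
      _ = e * e * (x * x * w) := by rw [central_comm hA w]
  have h3 : 1 * (x * x * w) = e * e * (x * x * w) := by rw [one_mul]; exact h2
  exact (mul_right_cancel h3).symm

end TwoGen


section More

variable {x w t u c : Γ}

theorem conj_rescale (hc : c ∈ center Γ) : u * (w * c) * u⁻¹ = (u * w * u⁻¹) * c := by
  calc u * (w * c) * u⁻¹ = u * w * (c * u⁻¹) := by group
    _ = u * w * (u⁻¹ * c) := by rw [← central_comm hc u⁻¹]
    _ = (u * w * u⁻¹) * c := by group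

theorem conj_by_rescale (hc : c ∈ center Γ) : (u * c) * w * (u * c)⁻¹ = u * w * u⁻¹ := by
  calc (u * c) * w * (u * c)⁻¹ = u * (c * w) * c⁻¹ * u⁻¹ := by group
    _ = u * (w * c) * c⁻¹ * u⁻¹ := by rw [← central_comm hc w]
    _ = u * w * u⁻¹ := by group

theorem mul_mul_central {a b c' : Γ} (hc : c ∈ center Γ) :
    (a * c) * (b * c') = (a * b) * (c * c') := by
  calc (a * c) * (b * c') = a * (c * b) * c' := by group
    _ = a * (b * c) * c' := by rw [← central_comm hc b]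
    _ = (a * b) * (c * c') := by group

theorem triple_rescale (hc : c ∈ center Γ) :
    (x * c) * (w * c) * (x * c) = (x * w * x) * (c * c * c) := by
  calc (x * c) * (w * c) * (x * c) = x * (c * w) * (c * x) * c := by group
    _ = x * (w * c) * (x * c) * c := by rw [← central_comm hc w, ← central_comm hc x]
    _ = x * w * (c * x) * c * c := by group
    _ = x * w * (x * c) * c * c := by rw [← central_comm hc x]
    _ = (x * w * x) * (c * c * c) := by group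

theorem braid_rescale (hc : c ∈ center Γ) (h : x * w * x = w * x * w) :
    (x * c) * (w * c) * (x * c) = (w * c) * (x * c) * (w * c) := by
  rw [triple_rescale hc, triple_rescale hc, h]

/-- conjugating by a product of two elements that commute with `x` up to central elements -/
theorem conj_mul_of_comm {w₁ w₂ e₁ e₂ : Γ} (he₁ : e₁ ∈ center Γ) (he₂ : e₂ ∈ center Γ)
    (h₁ : w₁ * x = e₁ * x * w₁) (h₂ : w₂ * x = e₂ * x * w₂) :
    (w₁ * w₂) * x * (w₁ * w₂)⁻¹ = x * (e₁ * e₂) := by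
  calc (w₁ * w₂) * x * (w₁ * w₂)⁻¹ = w₁ * (w₂ * x) * (w₁ * w₂)⁻¹ := by group
    _ = w₁ * (e₂ * x * w₂) * (w₁ * w₂)⁻¹ := by rw [h₂]
    _ = (w₁ * e₂) * x * w₂ * (w₁ * w₂)⁻¹ := by group
    _ = e₂ * w₁ * x * w₂ * (w₁ * w₂)⁻¹ := by rw [central_comm he₂ w₁]
    _ = e₂ * (w₁ * x) * w₂ * (w₁ * w₂)⁻¹ := by group
    _ = e₂ * (e₁ * x * w₁) * w₂ * (w₁ * w₂)⁻¹ := by rw [h₁]
    _ = (e₂ * e₁) * x := by group
    _ = x * (e₁ * e₂) := by
      rw [central_comm (mul_mem he₁ he₂) x, central_comm he₁ e₂]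

/-- the commutator of `x` and `w` is unchanged when `w` is conjugated by an element that
centralises `x` modulo the centre -/
theorem comm_shift {e w' : Γ} (he : e ∈ center Γ) (hc : c ∈ center Γ)
    (hxw : x * w = e * w * x) (hw' : u * w * u⁻¹ = w') (hx' : u * x * u⁻¹ = x * c) :
    x * w' = e * w' * x := by
  have h : (u * x * u⁻¹) * (u * w * u⁻¹) = e * (u * w * u⁻¹) * (u * x * u⁻¹) := by
    calc (u * x * u⁻¹) * (u * w * u⁻¹) = u * (x * w) * u⁻¹ := by group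
      _ = u * (e * w * x) * u⁻¹ := by rw [hxw]
      _ = (u * e) * w * x * u⁻¹ := by group
      _ = e * u * w * x * u⁻¹ := by rw [central_comm he u]
      _ = e * (u * w * u⁻¹) * (u * x * u⁻¹) := by group
  rw [hw', hx'] at h
  have h2 : x * w' * c = e * w' * x * c := by
    calc x * w' * c = x * (w' * c) := by group
      _ = x * (c * w') := by rw [central_comm hc w']
      _ = (x * c) * w' := by group
      _ = e * w' * (x * c) := h
      _ = e * w' * x * c := by group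
  exact mul_right_cancel h2

/-- conjugation by `w` inverts `x` up to an explicit product of relator values -/
theorem conj_inv_of_sq : w * x * w⁻¹ = x⁻¹ * ((x * w) ^ 2 * (w * w)⁻¹) := by
  rw [pow_two]; group

theorem eta_cube {η : Γ} (hη : η ∈ center Γ) (h : w * x * w⁻¹ = x⁻¹ * η)
    (ha : x ^ 3 ∈ center Γ) : η ^ 3 = x ^ 3 * x ^ 3 := by
  have h1 : w * x ^ 3 * w⁻¹ = x ^ 3 := by rw [central_comm ha w]; group
  have h2 : w * x ^ 3 * w⁻¹ = (x⁻¹) ^ 3 * η ^ 3 := by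
    rw [← conj_pow, h]
    exact Commute.mul_pow (central_comm hη x⁻¹) 3
  calc η ^ 3 = x ^ 3 * ((x⁻¹) ^ 3 * η ^ 3) := by group
    _ = x ^ 3 * x ^ 3 := by rw [← h2, h1]

theorem conj_of_conj_inv {w₁ w₂ η₁ η₂ : Γ} (hη₁ : η₁ ∈ center Γ) (hη₂ : η₂ ∈ center Γ)
    (h₁ : w₁ * x * w₁⁻¹ = x⁻¹ * η₁) (h₂ : w₂ * x * w₂⁻¹ = x⁻¹ * η₂) :
    (w₁ * w₂) * x * (w₁ * w₂)⁻¹ = x * (η₁⁻¹ * η₂) := by
  calc (w₁ * w₂) * x * (w₁ * w₂)⁻¹ = w₁ * (w₂ * x * w₂⁻¹) * w₁⁻¹ := by group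
    _ = w₁ * (x⁻¹ * η₂) * w₁⁻¹ := by rw [h₂]
    _ = w₁ * x⁻¹ * (η₂ * w₁⁻¹) := by group
    _ = w₁ * x⁻¹ * (w₁⁻¹ * η₂) := by rw [← central_comm hη₂ w₁⁻¹]
    _ = (w₁ * x * w₁⁻¹)⁻¹ * η₂ := by group
    _ = (x⁻¹ * η₁)⁻¹ * η₂ := by rw [h₁]
    _ = (η₁⁻¹ * x) * η₂ := by group
    _ = (x * η₁⁻¹) * η₂ := by rw [← central_comm (inv_mem hη₁) x]
    _ = x * (η₁⁻¹ * η₂) := by group

theorem eta_far {w₁ w₂ η₁ η₂ e : Γ} (hη₁ : η₁ ∈ center Γ) (hη₂ : η₂ ∈ center Γ)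
    (he : e ∈ center Γ) (h₁ : w₁ * x * w₁⁻¹ = x⁻¹ * η₁) (h₂ : w₂ * x * w₂⁻¹ = x⁻¹ * η₂)
    (hw : w₁ * w₂ = e * w₂ * w₁) : η₁ * η₁ = η₂ * η₂ := by
  have e1 := conj_of_conj_inv hη₁ hη₂ h₁ h₂
  have e2 := conj_of_conj_inv hη₂ hη₁ h₂ h₁
  have e3 : (w₁ * w₂) * x * (w₁ * w₂)⁻¹ = (w₂ * w₁) * x * (w₂ * w₁)⁻¹ := by
    rw [hw]
    calc (e * w₂ * w₁) * x * (e * w₂ * w₁)⁻¹
        = e * ((w₂ * w₁) * x * (w₂ * w₁)⁻¹) * e⁻¹ := by group
      _ = ((w₂ * w₁) * x * (w₂ * w₁)⁻¹) * e * e⁻¹ := by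
        rw [← central_comm he ((w₂ * w₁) * x * (w₂ * w₁)⁻¹)]
      _ = (w₂ * w₁) * x * (w₂ * w₁)⁻¹ := by group
  have e4 : η₁⁻¹ * η₂ = η₂⁻¹ * η₁ := mul_left_cancel (e1.symm.trans (e3.trans e2))
  calc η₁ * η₁ = η₂ * (η₂⁻¹ * η₁) * η₁ := by group
    _ = η₂ * (η₁⁻¹ * η₂) * η₁ := by rw [e4]
    _ = η₂ * η₁⁻¹ * (η₂ * η₁) := by group
    _ = η₂ * η₁⁻¹ * (η₁ * η₂) := by rw [central_comm hη₁ η₂]
    _ = η₂ * η₂ := by group

theorem eta_eq {η₁ η₂ a : Γ} (h₁ : η₁ ^ 3 = a) (h₂ : η₂ ^ 3 = a) (hsq : η₁ * η₁ = η₂ * η₂) :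
    η₁ = η₂ := by
  calc η₁ = η₁ ^ 3 * (η₁ * η₁)⁻¹ := by group
    _ = η₂ ^ 3 * (η₂ * η₂)⁻¹ := by rw [h₁, hsq, ← h₂]
    _ = η₂ := by group

/-- the defect of the Klein four relation in the lift of the alternating group of degree four -/
theorem a4_zeta (hB : w * w ∈ center Γ) (hC : (x * w) ^ 3 ∈ center Γ) :
    (x⁻¹ * w * x)⁻¹ * (w * (x * w * x⁻¹)) = (x * w) ^ 3 * (w * w)⁻¹ * (x ^ 3)⁻¹ := by
  calc (x⁻¹ * w * x)⁻¹ * (w * (x * w * x⁻¹))
      = x⁻¹ * w⁻¹ * (x * w) ^ 3 * w⁻¹ * x⁻¹ * x⁻¹ := by rw [pow_three']; group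
    _ = (x * w) ^ 3 * (x⁻¹ * w⁻¹) * w⁻¹ * x⁻¹ * x⁻¹ := by rw [central_comm hC (x⁻¹ * w⁻¹)]
    _ = (x * w) ^ 3 * (x⁻¹ * (w * w)⁻¹) * x⁻¹ * x⁻¹ := by group
    _ = (x * w) ^ 3 * ((w * w)⁻¹ * x⁻¹) * x⁻¹ * x⁻¹ := by
      rw [central_comm (inv_mem hB) x⁻¹]
    _ = (x * w) ^ 3 * (w * w)⁻¹ * (x ^ 3)⁻¹ := by group

theorem a4_rescale {ζ : Γ} (hζ : ζ ∈ center Γ)
    (h : w * (x * w * x⁻¹) = (x⁻¹ * w * x) * ζ) :
    (w * ζ⁻¹) * (x * (w * ζ⁻¹) * x⁻¹) = x⁻¹ * (w * ζ⁻¹) * x := by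
  have hc : ζ⁻¹ ∈ center Γ := inv_mem hζ
  have h1 : x⁻¹ * (w * ζ⁻¹) * x = (x⁻¹ * w * x) * ζ⁻¹ := by
    have := conj_rescale (u := x⁻¹) (w := w) hc
    rwa [inv_inv] at this
  rw [conj_rescale hc, mul_mul_central hc, h, h1]
  group

end More

section Afour

variable {x w t b : Γ}

theorem a4_cube (hx3 : x ^ 3 = 1) (hb : w * w = b)
    (hv : w * (x * w * x⁻¹) = x⁻¹ * w * x) : (x * w) ^ 3 = b := by
  calc (x * w) ^ 3 = x * (w * (x * w * x⁻¹)) * x * x * w := by rw [pow_three']; group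
    _ = x * (x⁻¹ * w * x) * x * x * w := by rw [hv]
    _ = w * x ^ 3 * w := by rw [pow_three']; group
    _ = b := by rw [hx3, mul_one, hb]

theorem a4_comm_aux (hb : w * w = b) (hbc : b ∈ center Γ)
    (hv : w * (x * w * x⁻¹) = x⁻¹ * w * x) :
    w * (x * w * x⁻¹) = b⁻¹ * (x * w * x⁻¹) * w := by
  have hv2 : (x * w * x⁻¹) * (x * w * x⁻¹) = b := by
    calc (x * w * x⁻¹) * (x * w * x⁻¹) = x * (w * w) * x⁻¹ := by group
      _ = b := by rw [hb, central_comm hbc x]; group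
  have hv3 : (x⁻¹ * w * x) * (x⁻¹ * w * x) = b := by
    calc (x⁻¹ * w * x) * (x⁻¹ * w * x) = x⁻¹ * (w * w) * x := by group
      _ = b := by rw [hb, central_comm hbc x⁻¹]; group
  have h4 : w * (x * w * x⁻¹) * (w * (x * w * x⁻¹)) = b := by rw [hv]; exact hv3
  calc w * (x * w * x⁻¹)
      = (w * (x * w * x⁻¹) * (w * (x * w * x⁻¹))) * (x * w * x⁻¹)⁻¹ * w⁻¹ := by group
    _ = b * (x * w * x⁻¹)⁻¹ * w⁻¹ := by rw [h4]
    _ = b * (((x * w * x⁻¹) * (x * w * x⁻¹))⁻¹ * (x * w * x⁻¹)) * ((w * w)⁻¹ * w) := by group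
    _ = b * (b⁻¹ * (x * w * x⁻¹)) * (b⁻¹ * w) := by rw [hv2, hb]
    _ = ((x * w * x⁻¹) * b⁻¹) * w := by group
    _ = b⁻¹ * (x * w * x⁻¹) * w := by rw [central_comm (inv_mem hbc) (x * w * x⁻¹)]

theorem a4_sq (hb : w * w = b) (hbc : b ∈ center Γ)
    (hv : w * (x * w * x⁻¹) = x⁻¹ * w * x) : b * b = 1 := by
  have h5 := a4_comm_aux hb hbc hv
  have h6 : b⁻¹ * b⁻¹ = 1 := comm_sq_eq_one (inv_mem hbc) h5 (by rw [hb]; exact hbc)
  calc b * b = (b⁻¹ * b⁻¹)⁻¹ := by rw [mul_inv_rev, inv_inv]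
    _ = 1 := by rw [h6, inv_one]

theorem a4_comm (hb : w * w = b) (hbc : b ∈ center Γ)
    (hv : w * (x * w * x⁻¹) = x⁻¹ * w * x) :
    w * (x * w * x⁻¹) = b * (x * w * x⁻¹) * w := by
  have h5 := a4_comm_aux hb hbc hv
  have h8 : b⁻¹ = b := inv_eq_of_mul_eq_one_right (a4_sq hb hbc hv)
  rwa [h8] at h5

/-- the dihedral relation linking the two kinds of commuting pairs of involutions -/
theorem d8_eq {e : Γ} (hx3 : x ^ 3 = 1) (hb : w * w = b) (ht : t * t = b) (hbc : b ∈ center Γ)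
    (hv : w * (x * w * x⁻¹) = x⁻¹ * w * x) (ht0 : t * x * t⁻¹ = x⁻¹) (he : e ∈ center Γ)
    (hwt : w * t = e * t * w) : e = b := by
  have hcomm := a4_comm hb hbc hv
  have hbb := a4_sq hb hbc hv
  have h1 : t * w * t⁻¹ = e⁻¹ * w := by
    calc t * w * t⁻¹ = e⁻¹ * (e * t * w) * t⁻¹ := by group
      _ = e⁻¹ * (w * t) * t⁻¹ := by rw [hwt]
      _ = e⁻¹ * w := by group
  have h2 : t * (x * w * x⁻¹) * t⁻¹ = e⁻¹ * (x⁻¹ * w * x) := by
    calc t * (x * w * x⁻¹) * t⁻¹ = (t * x * t⁻¹) * (t * w * t⁻¹) * (t * x * t⁻¹)⁻¹ := by group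
      _ = x⁻¹ * (e⁻¹ * w) * x⁻¹⁻¹ := by rw [ht0, h1]
      _ = (x⁻¹ * e⁻¹) * w * x := by group
      _ = e⁻¹ * x⁻¹ * w * x := by rw [central_comm (inv_mem he) x⁻¹]
      _ = e⁻¹ * (x⁻¹ * w * x) := by group
  have h3 : (x * w * x⁻¹) * (x⁻¹ * w * x) = w := by
    calc (x * w * x⁻¹) * (x⁻¹ * w * x)
        = (x * w * x⁻¹) * (x⁻¹ * (x ^ 3) * w * (x ^ 3)⁻¹ * x) := by rw [hx3]; group
      _ = x * (w * (x * w * x⁻¹)) * x⁻¹ := by group
      _ = x * (x⁻¹ * w * x) * x⁻¹ := by rw [hv]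
      _ = w := by group
  have h4 : (x * w * x⁻¹ * t) * (x * w * x⁻¹ * t) = (e⁻¹ * b) * w := by
    calc (x * w * x⁻¹ * t) * (x * w * x⁻¹ * t)
        = (x * w * x⁻¹) * (t * (x * w * x⁻¹) * t⁻¹) * (t * t) := by group
      _ = (x * w * x⁻¹) * (e⁻¹ * (x⁻¹ * w * x)) * b := by rw [h2, ht]
      _ = ((x * w * x⁻¹) * e⁻¹) * (x⁻¹ * w * x) * b := by group
      _ = (e⁻¹ * (x * w * x⁻¹)) * (x⁻¹ * w * x) * b := by
        rw [central_comm (inv_mem he) (x * w * x⁻¹)]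
      _ = e⁻¹ * ((x * w * x⁻¹) * (x⁻¹ * w * x)) * b := by group
      _ = e⁻¹ * w * b := by rw [h3]
      _ = e⁻¹ * (b * w) := by rw [mul_assoc, central_comm hbc w]
      _ = (e⁻¹ * b) * w := by group
  have hc' : (e⁻¹ * b)⁻¹ ∈ center Γ := inv_mem (mul_mem (inv_mem he) hbc)
  have h5 : w * (x * w * x⁻¹ * t) = (x * w * x⁻¹ * t) * w := by
    calc w * (x * w * x⁻¹ * t) = (e⁻¹ * b)⁻¹ * ((e⁻¹ * b) * w) * (x * w * x⁻¹ * t) := by group
      _ = (e⁻¹ * b)⁻¹ * ((x * w * x⁻¹ * t) * (x * w * x⁻¹ * t)) * (x * w * x⁻¹ * t) := by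
        rw [h4]
      _ = ((e⁻¹ * b)⁻¹ * (x * w * x⁻¹ * t)) * ((x * w * x⁻¹ * t) * (x * w * x⁻¹ * t)) := by
        group
      _ = ((x * w * x⁻¹ * t) * (e⁻¹ * b)⁻¹) * ((x * w * x⁻¹ * t) * (x * w * x⁻¹ * t)) := by
        rw [central_comm hc' (x * w * x⁻¹ * t)]
      _ = (x * w * x⁻¹ * t) * ((e⁻¹ * b)⁻¹ * ((e⁻¹ * b) * w)) := by rw [h4]; group
      _ = (x * w * x⁻¹ * t) * w := by group
  have h6 : w * (x * w * x⁻¹ * t) = (b * e) * ((x * w * x⁻¹ * t) * w) := by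
    calc w * (x * w * x⁻¹ * t) = (w * (x * w * x⁻¹)) * t := by group
      _ = (b * (x * w * x⁻¹) * w) * t := by rw [hcomm]
      _ = b * (x * w * x⁻¹) * (w * t) := by group
      _ = b * (x * w * x⁻¹) * (e * t * w) := by rw [hwt]
      _ = b * ((x * w * x⁻¹) * e) * t * w := by group
      _ = b * (e * (x * w * x⁻¹)) * t * w := by rw [central_comm he (x * w * x⁻¹)]
      _ = (b * e) * ((x * w * x⁻¹ * t) * w) := by group
  have h7 : b * e = 1 := by
    have : 1 * ((x * w * x⁻¹ * t) * w) = (b * e) * ((x * w * x⁻¹ * t) * w) := by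
      rw [one_mul, ← h6, h5]
    exact (mul_right_cancel this).symm
  calc e = b * b * e := by rw [hbb, one_mul]
    _ = b * (b * e) := by group
    _ = b := by rw [h7, mul_one]

end Afour

section Norm0

variable {x w a η : Γ}

theorem swap_comm {e : Γ} (hxw : x * w = e * w * x) : w * x = e⁻¹ * x * w := by
  calc w * x = e⁻¹ * (e * w * x) := by group
    _ = e⁻¹ * (x * w) := by rw [hxw]
    _ = e⁻¹ * x * w := by group

theorem norm0_aux (ha : a ∈ center Γ) (h : η ^ 3 = a * a) :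
    (a⁻¹ * η) ^ 3 = a⁻¹ ∧ η * (a⁻¹ * η) * (a⁻¹ * η) = 1 := by
  have ha' : a⁻¹ ∈ center Γ := inv_mem ha
  constructor
  · calc (a⁻¹ * η) ^ 3 = (a⁻¹) ^ 3 * η ^ 3 :=
        Commute.mul_pow (central_comm ha' η).symm 3
      _ = (a⁻¹) ^ 3 * (a * a) := by rw [h]
      _ = a⁻¹ := by group
  · calc η * (a⁻¹ * η) * (a⁻¹ * η) = (η * a⁻¹) * (η * a⁻¹) * η := by group
      _ = (a⁻¹ * η) * (a⁻¹ * η) * η := by rw [central_comm ha' η]
      _ = a⁻¹ * (η * a⁻¹) * η * η := by group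
      _ = a⁻¹ * (a⁻¹ * η) * η * η := by rw [central_comm ha' η]
      _ = a⁻¹ * a⁻¹ * η ^ 3 := by rw [pow_three']; group
      _ = a⁻¹ * a⁻¹ * (a * a) := by rw [h]
      _ = 1 := by group

/-- the rescaled lift of the three-cycle has order dividing three and is inverted -/
theorem norm0_main (ha : x ^ 3 ∈ center Γ) (hη : η ∈ center Γ) (h : η ^ 3 = x ^ 3 * x ^ 3) :
    (x * ((x ^ 3)⁻¹ * η)) ^ 3 = 1 ∧
      ∀ w : Γ, w * x * w⁻¹ = x⁻¹ * η →
        w * (x * ((x ^ 3)⁻¹ * η)) * w⁻¹ = (x * ((x ^ 3)⁻¹ * η))⁻¹ := by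
  obtain ⟨h1, h2⟩ := norm0_aux ha h
  have hz : (x ^ 3)⁻¹ * η ∈ center Γ := mul_mem (inv_mem ha) hη
  constructor
  · calc (x * ((x ^ 3)⁻¹ * η)) ^ 3 = x ^ 3 * ((x ^ 3)⁻¹ * η) ^ 3 :=
        Commute.mul_pow (central_comm hz x) 3
      _ = 1 := by rw [h1, mul_inv_cancel]
  · intro w hw
    have h3 : η * ((x ^ 3)⁻¹ * η) = ((x ^ 3)⁻¹ * η)⁻¹ := eq_inv_of_mul_eq_one_left h2
    calc w * (x * ((x ^ 3)⁻¹ * η)) * w⁻¹ = (w * x * w⁻¹) * ((x ^ 3)⁻¹ * η) := conj_rescale hz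
      _ = x⁻¹ * η * ((x ^ 3)⁻¹ * η) := by rw [hw]
      _ = x⁻¹ * (η * ((x ^ 3)⁻¹ * η)) := by rw [mul_assoc]
      _ = x⁻¹ * ((x ^ 3)⁻¹ * η)⁻¹ := by rw [h3]
      _ = ((x ^ 3)⁻¹ * η)⁻¹ * x⁻¹ := central_comm (inv_mem hz) x⁻¹
      _ = (x * ((x ^ 3)⁻¹ * η))⁻¹ := (mul_inv_rev x ((x ^ 3)⁻¹ * η)).symm

end Norm0

end Cfsg.Agent.Lib.Helper70.AltStem
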