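import Mathlib
import Cfsg.Agent.Lib.Helper70.AltStemA

set_option autoImplicit false

/-!
Normalising the lifts of the generators of an alternating group (in the presentation with a
three-cycle and involutions) in a central extension.
-/

namespace Cfsg.Agent.Lib.Helper70.AltStem

open Subgroup

variable {Γ : Type*} [Group Γ]

/-- the defining relations of the alternating group hold modulo the subgroup `Z` -/
structure CarZ (Z : Subgroup Γ) (y : ℕ → Γ) (k : ℕ) : Prop where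
  r1 : y 0 ^ 3 ∈ Z
  r2 : ∀ i, 1 ≤ i → i < k → y i * y i ∈ Z
  r3 : ∀ i, i + 1 < k → (y i * y (i + 1)) ^ 3 ∈ Z
  r4 : ∀ i j, i + 1 < j → j < k → (y i * y j) ^ 2 ∈ Z

/-- two families of elements agree modulo `Z` -/
def Resc (Z : Subgroup Γ) (y y' : ℕ → Γ) : Prop := ∀ i, (y i)⁻¹ * y' i ∈ Z

theorem Resc.refl (Z : Subgroup Γ) (y : ℕ → Γ) : Resc Z y y := fun i => by
  rw [inv_mul_cancel]; exact one_mem _

theorem Resc.trans {Z : Subgroup Γ} {y y' y'' : ℕ → Γ} (h1 : Resc Z y y') (h2 : Resc Z y' y'') :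
    Resc Z y y'' := fun i => by
  have h := mul_mem (h1 i) (h2 i)
  have e : (y i)⁻¹ * y' i * ((y' i)⁻¹ * y'' i) = (y i)⁻¹ * y'' i := by group
  rwa [e] at h

variable {Z : Subgroup Γ} (hZ : Z ≤ center Γ) {y : ℕ → Γ} {k : ℕ}

include hZ

theorem CarZ.resc {y' : ℕ → Γ} (h : CarZ Z y k) (hr : Resc Z y y') : CarZ Z y' k := by
  obtain ⟨c, hc, hy⟩ : ∃ c : ℕ → Γ, (∀ i, c i ∈ Z) ∧ ∀ i, y' i = y i * c i :=
    ⟨fun i => (y i)⁻¹ * y' i, hr, fun i => by group⟩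
  refine ⟨?_, ?_, ?_, ?_⟩
  · rw [hy 0, Commute.mul_pow (central_comm (hZ (hc 0)) (y 0)) 3]
    exact mul_mem h.r1 (pow_mem (hc 0) 3)
  · intro i h1 h2
    rw [hy i, mul_mul_central (hZ (hc i))]
    exact mul_mem (h.r2 i h1 h2) (mul_mem (hc i) (hc i))
  · intro i h1
    rw [hy i, hy (i + 1), mul_mul_central (hZ (hc i)),
      Commute.mul_pow (central_comm (hZ (mul_mem (hc i) (hc (i + 1)))) (y i * y (i + 1))) 3]
    exact mul_mem (h.r3 i h1) (pow_mem (mul_mem (hc i) (hc (i + 1))) 3)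
  · intro i j h1 h2
    rw [hy i, hy j, mul_mul_central (hZ (hc i)),
      Commute.mul_pow (central_comm (hZ (mul_mem (hc i) (hc j))) (y i * y j)) 2]
    exact mul_mem (h.r4 i j h1 h2) (pow_mem (mul_mem (hc i) (hc j)) 2)

/-- the lifts of the involutions can be chosen to satisfy the braid relations -/
theorem exists_braid (h : CarZ Z y k) :
    ∃ y', Resc Z y y' ∧ ∀ i, 1 ≤ i → i + 1 < k →
      y' i * y' (i + 1) * y' i = y' (i + 1) * y' i * y' (i + 1) := by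
  have key : ∀ t, ∃ y', Resc Z y y' ∧ ∀ i, 1 ≤ i → i + 1 < k → i + 1 ≤ t →
      y' i * y' (i + 1) * y' i = y' (i + 1) * y' i * y' (i + 1) := by
    intro t
    induction t with
    | zero => exact ⟨y, Resc.refl Z y, fun i h1 _ h3 => by omega⟩
    | succ t ih =>
      obtain ⟨y', hr, hbr⟩ := ih
      by_cases hcase : 1 ≤ t ∧ t + 1 < k
      · obtain ⟨ht1, htk⟩ := hcase
        have h' := h.resc hZ hr
        have hA : y' t * y' t ∈ Z := h'.r2 t ht1 (by omega)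
        have hB : y' (t + 1) * y' (t + 1) ∈ Z := h'.r2 (t + 1) (by omega) htk
        have hC : (y' t * y' (t + 1)) ^ 3 ∈ Z := h'.r3 t htk
        have hβ : (y' (t + 1) * y' t * y' (t + 1))⁻¹ * (y' t * y' (t + 1) * y' t) ∈ Z := by
          rw [braid_defect_eq (hZ hA) (hZ hB) (hZ hC)]
          exact mul_mem (inv_mem (mul_mem (mul_mem hB hB) hA)) hC
        refine ⟨Function.update y' (t + 1) (y' (t + 1) *
          ((y' (t + 1) * y' t * y' (t + 1))⁻¹ * (y' t * y' (t + 1) * y' t))), ?_, ?_⟩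
        · intro i
          by_cases hi : i = t + 1
          · rw [hi, Function.update_self]
            have h5 := mul_mem (hr (t + 1)) hβ
            rwa [mul_assoc] at h5
          · rw [Function.update_of_ne hi]; exact hr i
        · intro i h1 h2 h3
          by_cases hi : i = t
          · rw [hi, Function.update_self, Function.update_of_ne (by omega : t ≠ t + 1)]
            exact braid_update (hZ hβ) (by group)
          · have h4 : i + 1 ≤ t := by omega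
            rw [Function.update_of_ne (by omega : i + 1 ≠ t + 1),
              Function.update_of_ne (by omega : i ≠ t + 1)]
            exact hbr i h1 h2 h4
      · refine ⟨y', hr, fun i h1 h2 h3 => hbr i h1 h2 ?_⟩
        by_contra hlt
        have hit : i = t := by omega
        rw [hit] at h1 h2
        exact hcase ⟨h1, h2⟩
  obtain ⟨y', hr, hbr⟩ := key k
  exact ⟨y', hr, fun i h1 h2 => hbr i h1 h2 (by omega)⟩

theorem sq_eq_of_braids (h : CarZ Z y k)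
    (hbr : ∀ i, 1 ≤ i → i + 1 < k → y i * y (i + 1) * y i = y (i + 1) * y i * y (i + 1)) :
    ∀ i, 1 ≤ i → i < k → y i * y i = y 1 * y 1 := by
  intro i
  induction i with
  | zero => intro h1; omega
  | succ i ih =>
    intro h1 h2
    by_cases hi : i = 0
    · rw [hi]
    · have h3 := ih (by omega) (by omega)
      rw [← h3]
      exact sq_eq_of_braid (hbr i (by omega) h2) (hZ (h.r2 i (by omega) (by omega)))

theorem comm_mem (h : CarZ Z y k) {i j : ℕ} (h1 : 1 ≤ i) (h2 : i + 1 < j) (h3 : j < k) :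
    y i * y j * (y i)⁻¹ * (y j)⁻¹ ∈ Z := by
  rw [comm_eq_of_sq (hZ (h.r2 i h1 (by omega)))]
  exact mul_mem (mul_mem (h.r4 i j h2 h3) (inv_mem (h.r2 i h1 (by omega))))
    (inv_mem (h.r2 j (by omega) h3))

theorem far_comm (h : CarZ Z y k) {i j : ℕ} (h1 : 1 ≤ i) (h2 : i + 1 < j) (h3 : j < k) :
    ∃ e ∈ Z, y i * y j = e * y j * y i :=
  ⟨y i * y j * (y i)⁻¹ * (y j)⁻¹, comm_mem hZ h h1 h2 h3, by group⟩

theorem far_comm' (h : CarZ Z y k) {i j : ℕ} (h1 : 1 ≤ i) (h2 : i + 1 < j) (h3 : j < k) :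
    ∃ e ∈ Z, y j * y i = e * y i * y j := by
  obtain ⟨e, he, hxy⟩ := far_comm hZ h h1 h2 h3
  exact ⟨e⁻¹, inv_mem he, swap_comm hxy⟩

omit hZ in
theorem braid_conj
    (hbr : ∀ i, 1 ≤ i → i + 1 < k → y i * y (i + 1) * y i = y (i + 1) * y i * y (i + 1))
    {j : ℕ} (h1 : 1 ≤ j) (h2 : j + 1 < k) :
    (y j * y (j + 1)) * y j * (y j * y (j + 1))⁻¹ = y (j + 1) := by
  rw [mul_inv_eq_iff_eq_mul, hbr j h1 h2]
  group

/-- all pairs of lifts of commuting involutions have the same commutator -/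
theorem far_comm_eq (h : CarZ Z y k)
    (hbr : ∀ i, 1 ≤ i → i + 1 < k → y i * y (i + 1) * y i = y (i + 1) * y i * y (i + 1))
    {ε : Γ} (hεZ : ε ∈ Z) (hε : y 1 * y 3 = ε * y 3 * y 1) :
    ∀ i, 1 ≤ i → ∀ j, i + 1 < j → j < k → y i * y j = ε * y j * y i := by
  have far1 : ∀ j, 3 ≤ j → j < k → y 1 * y j = ε * y j * y 1 := by
    intro j
    induction j with
    | zero => intro h1; omega
    | succ j ih =>
      intro h1 h2
      by_cases hj : j = 2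
      · rw [hj]; exact hε
      · have h3 := ih (by omega) (by omega)
        obtain ⟨e₁, he₁, hh₁⟩ := far_comm' hZ h (i := 1) (j := j) le_rfl (by omega) (by omega)
        obtain ⟨e₂, he₂, hh₂⟩ := far_comm' hZ h (i := 1) (j := j + 1) le_rfl (by omega) h2
        exact comm_shift (hZ hεZ) (hZ (mul_mem he₁ he₂)) h3
          (braid_conj hbr (by omega) h2) (conj_mul_of_comm (hZ he₁) (hZ he₂) hh₁ hh₂)
  intro i
  induction i with
  | zero => intro h1; omega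
  | succ i ih =>
    intro h1 j h2 h3
    by_cases hi : i = 0
    · rw [hi]; exact far1 j (by omega) h3
    · have h4 := ih (by omega) j (by omega) h3
      have h5 := swap_comm h4
      obtain ⟨e₁, he₁, hh₁⟩ := far_comm hZ h (i := i) (j := j) (by omega) (by omega) h3
      obtain ⟨e₂, he₂, hh₂⟩ := far_comm hZ h (i := i + 1) (j := j) (by omega) h2 h3
      have h6 := comm_shift (hZ (inv_mem hεZ)) (hZ (mul_mem he₁ he₂)) h5
        (braid_conj hbr (by omega : 1 ≤ i) (by omega)) (conj_mul_of_comm (hZ he₁) (hZ he₂) hh₁ hh₂)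
      have h7 := swap_comm h6
      rwa [inv_inv] at h7

/-- the lift of the three-cycle can be chosen of order three and inverted by the lifts of the
involutions that invert the three-cycle -/
theorem exists_norm0 (hk : 6 ≤ k) (h : CarZ Z y k) :
    ∃ z ∈ Z, (y 0 * z) ^ 3 = 1 ∧
      ∀ j, 2 ≤ j → j < k → y j * (y 0 * z) * (y j)⁻¹ = (y 0 * z)⁻¹ := by
  have hηZ : ∀ j, 2 ≤ j → j < k → (y 0 * y j) ^ 2 * (y j * y j)⁻¹ ∈ Z := fun j h1 h2 =>
    mul_mem (h.r4 0 j (by omega) h2) (inv_mem (h.r2 j (by omega) h2))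
  have hconj : ∀ j, y j * y 0 * (y j)⁻¹ = (y 0)⁻¹ * ((y 0 * y j) ^ 2 * (y j * y j)⁻¹) :=
    fun j => conj_inv_of_sq
  have hcube : ∀ j, 2 ≤ j → j < k →
      ((y 0 * y j) ^ 2 * (y j * y j)⁻¹) ^ 3 = y 0 ^ 3 * y 0 ^ 3 := fun j h1 h2 =>
    eta_cube (hZ (hηZ j h1 h2)) (hconj j) (hZ h.r1)
  have hfar : ∀ j l, 2 ≤ j → j + 1 < l → l < k →
      (y 0 * y j) ^ 2 * (y j * y j)⁻¹ = (y 0 * y l) ^ 2 * (y l * y l)⁻¹ := by
    intro j l h1 h2 h3
    obtain ⟨e, he, hjl⟩ := far_comm hZ h (i := j) (j := l) (by omega) h2 h3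
    exact eta_eq (hcube j h1 (by omega)) (hcube l (by omega) h3)
      (eta_far (hZ (hηZ j h1 (by omega))) (hZ (hηZ l (by omega) h3)) (hZ he) (hconj j) (hconj l)
        hjl)
  have hall : ∀ j, 2 ≤ j → j < k →
      (y 0 * y j) ^ 2 * (y j * y j)⁻¹ = (y 0 * y 2) ^ 2 * (y 2 * y 2)⁻¹ := by
    intro j h1 h2
    by_cases hj2 : j = 2
    · rw [hj2]
    · by_cases hj3 : j = 3
      · rw [hj3, hfar 3 5 (by omega) (by omega) (by omega),
          hfar 2 5 (by omega) (by omega) (by omega)]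
      · exact (hfar 2 j (by omega) (by omega) h2).symm
  obtain ⟨hm1, hm2⟩ := norm0_main (hZ h.r1) (hZ (hηZ 2 le_rfl (by omega)))
    (hcube 2 le_rfl (by omega))
  refine ⟨(y 0 ^ 3)⁻¹ * ((y 0 * y 2) ^ 2 * (y 2 * y 2)⁻¹),
    mul_mem (inv_mem h.r1) (hηZ 2 le_rfl (by omega)), hm1, ?_⟩
  intro j h1 h2
  apply hm2
  rw [hconj j, hall j h1 h2]

/-- the values of the relators once the lifts are normalised -/
theorem final_values (hk : 4 ≤ k) (h : CarZ Z y k)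
    (hbr : ∀ i, 1 ≤ i → i + 1 < k → y i * y (i + 1) * y i = y (i + 1) * y i * y (i + 1))
    (h03 : y 0 ^ 3 = 1) (hc0 : ∀ j, 2 ≤ j → j < k → y j * y 0 * (y j)⁻¹ = (y 0)⁻¹)
    (hv : y 1 * (y 0 * y 1 * (y 0)⁻¹) = (y 0)⁻¹ * y 1 * y 0) :
    y 1 * y 1 ∈ Z ∧ (y 1 * y 1) * (y 1 * y 1) = 1 ∧
      (∀ i, 1 ≤ i → i < k → y i * y i = y 1 * y 1) ∧
      (∀ i, i + 1 < k → (y i * y (i + 1)) ^ 3 = y 1 * y 1) ∧
      (∀ i j, i + 1 < j → j < k → (y i * y j) ^ 2 = y 1 * y 1) := by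
  have hbZ : y 1 * y 1 ∈ Z := h.r2 1 le_rfl (by omega)
  have hbc := hZ hbZ
  have hsq := sq_eq_of_braids hZ h hbr
  have hbb : (y 1 * y 1) * (y 1 * y 1) = 1 := a4_sq rfl hbc hv
  refine ⟨hbZ, hbb, hsq, ?_, ?_⟩
  · intro i h1
    by_cases hi : i = 0
    · rw [hi]; exact a4_cube h03 rfl hv
    · rw [cube_of_braid (hbr i (by omega) h1) (hsq i (by omega) (by omega))
        (hsq (i + 1) (by omega) h1) hbc, pow_three', hbb, one_mul]
  · intro i j h1 h2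
    by_cases hi : i = 0
    · rw [hi]
      calc (y 0 * y j) ^ 2 = y 0 * (y j * y 0 * (y j)⁻¹) * (y j * y j) := by
            rw [pow_two]; group
        _ = y 1 * y 1 := by
          rw [hc0 j (by omega) h2, hsq j (by omega) h2, mul_inv_cancel, one_mul]
    · have hεZ := comm_mem hZ h (i := 1) (j := 3) le_rfl (by omega) (by omega)
      have hε : y 1 * y 3 = (y 1 * y 3 * (y 1)⁻¹ * (y 3)⁻¹) * y 3 * y 1 := by group
      have hεb : y 1 * y 3 * (y 1)⁻¹ * (y 3)⁻¹ = y 1 * y 1 :=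
        d8_eq h03 rfl (hsq 3 (by omega) (by omega)) hbc hv (hc0 3 (by omega) (by omega))
          (hZ hεZ) hε
      have hxw := far_comm_eq hZ h hbr hεZ hε i (by omega) j h1 h2
      rw [hεb] at hxw
      calc (y i * y j) ^ 2 = (y i * y j) * y i * y j := by rw [pow_two]; group
        _ = ((y 1 * y 1) * y j * y i) * y i * y j := by rw [hxw]
        _ = (y 1 * y 1) * y j * (y i * y i) * y j := by group
        _ = (y 1 * y 1) * y j * (y 1 * y 1) * y j := by rw [hsq i (by omega) (by omega)]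
        _ = (y 1 * y 1) * (y j * (y 1 * y 1)) * y j := by group
        _ = (y 1 * y 1) * ((y 1 * y 1) * y j) * y j := by rw [central_comm hbc (y j)]
        _ = (y 1 * y 1) * (y 1 * y 1) * (y j * y j) := by group
        _ = y 1 * y 1 := by rw [hbb, one_mul, hsq j (by omega) h2]

/-- in a central extension, lifts of the generators can be chosen so that all relators take
values in `{1, b}` for a central involution `b` -/
theorem exists_normal_form (hk : 6 ≤ k) (h : CarZ Z y k) :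
    ∃ (y' : ℕ → Γ) (b : Γ), Resc Z y y' ∧ b ∈ Z ∧ b * b = 1 ∧ y' 0 ^ 3 = 1 ∧
      (∀ i, 1 ≤ i → i < k → y' i * y' i = b) ∧
      (∀ i, i + 1 < k → (y' i * y' (i + 1)) ^ 3 = b) ∧
      (∀ i j, i + 1 < j → j < k → (y' i * y' j) ^ 2 = b) := by
  -- braid relations
  obtain ⟨y₁, hr₁, hbr₁⟩ := exists_braid hZ h
  have h₁ := h.resc hZ hr₁
  -- the three-cycle
  obtain ⟨z, hz, hz3, hzc⟩ := exists_norm0 hZ hk h₁
  have hr₂ : Resc Z y₁ (Function.update y₁ 0 (y₁ 0 * z)) := by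
    intro i
    by_cases hi : i = 0
    · rw [hi, Function.update_self, inv_mul_cancel_left]; exact hz
    · rw [Function.update_of_ne hi, inv_mul_cancel]; exact one_mem _
  obtain ⟨y₂, hy₂⟩ : ∃ y₂, y₂ = Function.update y₁ 0 (y₁ 0 * z) := ⟨_, rfl⟩
  rw [← hy₂] at hr₂
  have hy₂0 : y₂ 0 = y₁ 0 * z := by rw [hy₂, Function.update_self]
  have hy₂i : ∀ i, 1 ≤ i → y₂ i = y₁ i := fun i hi => by
    rw [hy₂, Function.update_of_ne (by omega : i ≠ 0)]
  have h₂ := h₁.resc hZ hr₂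
  have hbr₂ : ∀ i, 1 ≤ i → i + 1 < k → y₂ i * y₂ (i + 1) * y₂ i = y₂ (i + 1) * y₂ i * y₂ (i + 1) :=
    fun i h1 h2 => by rw [hy₂i i h1, hy₂i (i + 1) (by omega)]; exact hbr₁ i h1 h2
  have h03₂ : y₂ 0 ^ 3 = 1 := by rw [hy₂0]; exact hz3
  have hc0₂ : ∀ j, 2 ≤ j → j < k → y₂ j * y₂ 0 * (y₂ j)⁻¹ = (y₂ 0)⁻¹ := fun j h1 h2 => by
    rw [hy₂0, hy₂i j (by omega)]; exact hzc j h1 h2
  -- the Klein four relation
  have hζZ : ((y₂ 0)⁻¹ * y₂ 1 * y₂ 0)⁻¹ * (y₂ 1 * (y₂ 0 * y₂ 1 * (y₂ 0)⁻¹)) ∈ Z := by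
    rw [a4_zeta (hZ (h₂.r2 1 le_rfl (by omega))) (hZ (h₂.r3 0 (by omega)))]
    exact mul_mem (mul_mem (h₂.r3 0 (by omega)) (inv_mem (h₂.r2 1 le_rfl (by omega))))
      (inv_mem h₂.r1)
  obtain ⟨ζ, hζ⟩ : ∃ ζ, ζ = ((y₂ 0)⁻¹ * y₂ 1 * y₂ 0)⁻¹ * (y₂ 1 * (y₂ 0 * y₂ 1 * (y₂ 0)⁻¹)) :=
    ⟨_, rfl⟩
  rw [← hζ] at hζZ
  have hζv : y₂ 1 * (y₂ 0 * y₂ 1 * (y₂ 0)⁻¹) = ((y₂ 0)⁻¹ * y₂ 1 * y₂ 0) * ζ := by
    rw [hζ]; group
  have hcZ : ζ⁻¹ ∈ Z := inv_mem hζZ
  obtain ⟨y₃, hy₃⟩ : ∃ y₃ : ℕ → Γ, y₃ = fun i => if i = 0 then y₂ 0 else y₂ i * ζ⁻¹ := ⟨_, rfl⟩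
  have hy₃0 : y₃ 0 = y₂ 0 := by rw [hy₃]; exact if_pos rfl
  have hy₃i : ∀ i, 1 ≤ i → y₃ i = y₂ i * ζ⁻¹ := fun i hi => by
    rw [hy₃]; exact if_neg (by omega : ¬ i = 0)
  have hr₃ : Resc Z y₂ y₃ := by
    intro i
    by_cases hi : i = 0
    · rw [hi, hy₃0, inv_mul_cancel]; exact one_mem _
    · rw [hy₃i i (by omega), inv_mul_cancel_left]; exact hcZ
  have h₃ := h₂.resc hZ hr₃
  have hbr₃ : ∀ i, 1 ≤ i → i + 1 < k → y₃ i * y₃ (i + 1) * y₃ i = y₃ (i + 1) * y₃ i * y₃ (i + 1) :=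
    fun i h1 h2 => by
      rw [hy₃i i h1, hy₃i (i + 1) (by omega)]
      exact braid_rescale (hZ hcZ) (hbr₂ i h1 h2)
  have h03₃ : y₃ 0 ^ 3 = 1 := by rw [hy₃0]; exact h03₂
  have hc0₃ : ∀ j, 2 ≤ j → j < k → y₃ j * y₃ 0 * (y₃ j)⁻¹ = (y₃ 0)⁻¹ := fun j h1 h2 => by
    rw [hy₃0, hy₃i j (by omega), conj_by_rescale (hZ hcZ)]; exact hc0₂ j h1 h2
  have hv₃ : y₃ 1 * (y₃ 0 * y₃ 1 * (y₃ 0)⁻¹) = (y₃ 0)⁻¹ * y₃ 1 * y₃ 0 := by
    rw [hy₃0, hy₃i 1 le_rfl]
    exact a4_rescale (hZ hζZ) hζv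
  obtain ⟨f1, f2, f3, f4, f5⟩ := final_values hZ (by omega) h₃ hbr₃ h03₃ hc0₃ hv₃
  exact ⟨y₃, y₃ 1 * y₃ 1, (hr₁.trans hr₂).trans hr₃, f1, f2, h03₃, f3, f4, f5⟩

end Cfsg.Agent.Lib.Helper70.AltStem
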