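import Mathlib
import Cfsg.Agent.Lib.Helper70.AltStemB

set_option autoImplicit false

/-!
A central extension of a group with the presentation of an alternating group (of degree at least
eight), whose kernel lies in the commutator subgroup, has kernel of order at most two.
-/

namespace Cfsg.Agent.Lib.Helper70.AltStem

open Subgroup

/-- the relators of the alternating group of degree `k + 2` -/
def carRels (k : ℕ) : Set (FreeGroup (Fin k)) :=
  ({g : FreeGroup (Fin k) | ∃ i : Fin k, i.val = 0 ∧ g = FreeGroup.of i ^ 3} ∪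
   {g | ∃ i : Fin k, 1 ≤ i.val ∧ g = FreeGroup.of i ^ 2} ∪
   {g | ∃ i j : Fin k, j.val = i.val + 1 ∧ g = (FreeGroup.of i * FreeGroup.of j) ^ 3} ∪
   {g | ∃ i j : Fin k, i.val + 1 < j.val ∧ g = (FreeGroup.of i * FreeGroup.of j) ^ 2})

theorem comm_central_mul {Γ : Type*} [Group Γ] {a b c c' : Γ} (hc : c ∈ center Γ)
    (hc' : c' ∈ center Γ) :
    (a * c) * (b * c') * (a * c)⁻¹ * (b * c')⁻¹ = a * b * a⁻¹ * b⁻¹ := by
  rw [conj_by_rescale hc, conj_rescale hc']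
  group

theorem card_le_two_of_presented {k : ℕ} (hk : 6 ≤ k) {Q : Type*} [Group Q]
    (ψ : PresentedGroup (carRels k) ≃* Q) {Γ : Type*} [Group Γ] (Z : Subgroup Γ) [Z.Normal]
    (hZc : Z ≤ center Γ) (hZd : Z ≤ commutator Γ) (e : Γ ⧸ Z ≃* Q) : Nat.card Z ≤ 2 := by
  classical
  -- the projection
  have hσ_surj : Function.Surjective (fun γ : Γ => e (QuotientGroup.mk γ)) :=
    e.surjective.comp QuotientGroup.mk_surjective
  have hσ_ker : ∀ γ : Γ, e (QuotientGroup.mk γ) = 1 ↔ γ ∈ Z := fun γ => by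
    rw [EmbeddingLike.map_eq_one_iff, QuotientGroup.eq_one_iff]
  have hσ_mul : ∀ a b : Γ, e (QuotientGroup.mk (a * b)) = e (QuotientGroup.mk a) * e (QuotientGroup.mk b) :=
    fun a b => by rw [QuotientGroup.mk_mul, map_mul]
  have hσ_pow : ∀ (a : Γ) (n : ℕ), e (QuotientGroup.mk (a ^ n)) = e (QuotientGroup.mk a) ^ n :=
    fun a n => by rw [QuotientGroup.mk_pow, map_pow]
  -- the generators
  let p : ℕ → PresentedGroup (carRels k) := fun i =>
    if h : i < k then PresentedGroup.of ⟨i, h⟩ else 1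
  have hp : ∀ i (h : i < k), p i = PresentedGroup.of ⟨i, h⟩ := fun i h => dif_pos h
  have hp1 : p 0 ^ 3 = 1 := by
    rw [hp 0 (by omega)]
    have hmem : (FreeGroup.of (⟨0, by omega⟩ : Fin k)) ^ 3 ∈ carRels k :=
      Or.inl (Or.inl (Or.inl ⟨⟨0, by omega⟩, rfl, rfl⟩))
    have := PresentedGroup.one_of_mem hmem
    rwa [map_pow] at this
  have hp2 : ∀ i, 1 ≤ i → i < k → p i * p i = 1 := by
    intro i h1 h2
    rw [hp i h2]
    have hmem : (FreeGroup.of (⟨i, h2⟩ : Fin k)) ^ 2 ∈ carRels k :=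
      Or.inl (Or.inl (Or.inr ⟨⟨i, h2⟩, h1, rfl⟩))
    have := PresentedGroup.one_of_mem hmem
    rwa [map_pow, pow_two] at this
  have hp3 : ∀ i, i + 1 < k → (p i * p (i + 1)) ^ 3 = 1 := by
    intro i h1
    rw [hp i (by omega), hp (i + 1) h1]
    have hmem : (FreeGroup.of (⟨i, by omega⟩ : Fin k) * FreeGroup.of (⟨i + 1, h1⟩ : Fin k)) ^ 3
        ∈ carRels k :=
      Or.inl (Or.inr ⟨⟨i, by omega⟩, ⟨i + 1, h1⟩, rfl, rfl⟩)
    have := PresentedGroup.one_of_mem hmem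
    rwa [map_pow, map_mul] at this
  have hp4 : ∀ i j, i + 1 < j → j < k → (p i * p j) ^ 2 = 1 := by
    intro i j h1 h2
    rw [hp i (by omega), hp j h2]
    have hmem : (FreeGroup.of (⟨i, by omega⟩ : Fin k) * FreeGroup.of (⟨j, h2⟩ : Fin k)) ^ 2
        ∈ carRels k :=
      Or.inr ⟨⟨i, by omega⟩, ⟨j, h2⟩, h1, rfl⟩
    have := PresentedGroup.one_of_mem hmem
    rwa [map_pow, map_mul] at this
  -- lifts
  choose y hy using fun i : ℕ => hσ_surj (ψ (p i))
  have hy' : ∀ i, e (QuotientGroup.mk (y i)) = ψ (p i) := hy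
  have hcar : CarZ Z y k := by
    refine ⟨?_, ?_, ?_, ?_⟩
    · rw [← hσ_ker, hσ_pow, hy', ← map_pow, hp1, map_one]
    · intro i h1 h2
      rw [← hσ_ker, hσ_mul, hy', ← map_mul, hp2 i h1 h2, map_one]
    · intro i h1
      rw [← hσ_ker, hσ_pow, hσ_mul, hy', hy', ← map_mul, ← map_pow, hp3 i h1, map_one]
    · intro i j h1 h2
      rw [← hσ_ker, hσ_pow, hσ_mul, hy', hy', ← map_mul, ← map_pow, hp4 i j h1 h2, map_one]
  obtain ⟨y', b, hr, hbZ, hbb, g1, g2, g3, g4⟩ := exists_normal_form hZc hk hcar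
  -- the subgroup generated by `b`
  have hbc : b ∈ center Γ := hZc hbZ
  have hZ₀c : zpowers b ≤ center Γ := (zpowers_le).mpr hbc
  have hZ₀Z : zpowers b ≤ Z := (zpowers_le).mpr hbZ
  have hZ₀n : (zpowers b).Normal := ⟨fun n hn g => by
    have h1 : g * n = n * g := central_comm (hZ₀c hn) g
    rw [h1, mul_inv_cancel_right]; exact hn⟩
  have hb0 : ((b : Γ) : Γ ⧸ zpowers b) = 1 :=
    (QuotientGroup.eq_one_iff b).mpr (mem_zpowers b)
  -- the section
  let f : Fin k → Γ ⧸ zpowers b := fun i => ((y' i.val : Γ) : Γ ⧸ zpowers b)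
  have hf : ∀ r ∈ carRels k, FreeGroup.lift f r = 1 := by
    intro r hr'
    rcases hr' with ((⟨i, hi, rfl⟩ | ⟨i, hi, rfl⟩) | ⟨i, j, hij, rfl⟩) | ⟨i, j, hij, rfl⟩
    · rw [map_pow, FreeGroup.lift_apply_of]
      show ((y' i.val : Γ) : Γ ⧸ zpowers b) ^ 3 = 1
      rw [hi, ← QuotientGroup.mk_pow, g1, QuotientGroup.mk_one]
    · rw [map_pow, FreeGroup.lift_apply_of]
      show ((y' i.val : Γ) : Γ ⧸ zpowers b) ^ 2 = 1
      rw [← QuotientGroup.mk_pow, pow_two, g2 i.val hi i.isLt, hb0]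
    · rw [map_pow, map_mul, FreeGroup.lift_apply_of, FreeGroup.lift_apply_of]
      show (((y' i.val : Γ) : Γ ⧸ zpowers b) * ((y' j.val : Γ) : Γ ⧸ zpowers b)) ^ 3 = 1
      have hj := j.isLt
      rw [← QuotientGroup.mk_mul, ← QuotientGroup.mk_pow, hij, g3 i.val (by omega), hb0]
    · rw [map_pow, map_mul, FreeGroup.lift_apply_of, FreeGroup.lift_apply_of]
      show (((y' i.val : Γ) : Γ ⧸ zpowers b) * ((y' j.val : Γ) : Γ ⧸ zpowers b)) ^ 2 = 1
      rw [← QuotientGroup.mk_mul, ← QuotientGroup.mk_pow, g4 i.val j.val hij j.isLt, hb0]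
  let s : PresentedGroup (carRels k) →* Γ ⧸ zpowers b := PresentedGroup.toGroup hf
  let π : Γ ⧸ zpowers b →* Γ ⧸ Z :=
    QuotientGroup.map (zpowers b) Z (MonoidHom.id Γ) (by rw [comap_id]; exact hZ₀Z)
  have hπ : ∀ γ : Γ, π ((γ : Γ) : Γ ⧸ zpowers b) = ((γ : Γ) : Γ ⧸ Z) := fun γ => rfl
  have hcomp : ∀ q, e (π (s q)) = ψ q := by
    have h1 : (e.toMonoidHom.comp (π.comp s)) = ψ.toMonoidHom := by
      apply PresentedGroup.ext
      intro i
      show e (π (s (PresentedGroup.of i))) = ψ (PresentedGroup.of i)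
      have h2 : s (PresentedGroup.of i) = f i := PresentedGroup.toGroup.of hf
      rw [h2]
      show e (π ((y' i.val : Γ) : Γ ⧸ zpowers b)) = _
      rw [hπ]
      have h3 : (y' i.val : Γ) = y i.val * ((y i.val)⁻¹ * y' i.val) := by group
      have h4 : e (((y i.val)⁻¹ * y' i.val : Γ) : Γ ⧸ Z) = 1 := (hσ_ker _).mpr (hr i.val)
      rw [h3, hσ_mul, h4, mul_one, hy', hp i.val i.isLt]
    intro q
    exact DFunLike.congr_fun h1 q
  -- every element is a product of an element over the section and an element of `Z`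
  have hA : ∀ γ : Γ, ∃ κ : Γ, ((κ : Γ) : Γ ⧸ zpowers b) ∈ s.range ∧ κ⁻¹ * γ ∈ Z := by
    intro γ
    obtain ⟨κ, hκ⟩ := QuotientGroup.mk_surjective (s (ψ.symm (e ((γ : Γ) : Γ ⧸ Z))))
    refine ⟨κ, ⟨_, hκ.symm⟩, ?_⟩
    rw [← hσ_ker, hσ_mul, QuotientGroup.mk_inv, map_inv, inv_mul_eq_one]
    have h1 := hcomp (ψ.symm (e ((γ : Γ) : Γ ⧸ Z)))
    rw [← hκ, hπ, MulEquiv.apply_symm_apply] at h1
    exact h1
  have hB : commutator Γ ≤ s.range.comap (QuotientGroup.mk' (zpowers b)) := by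
    rw [commutator_def, Subgroup.commutator_le]
    intro γ₁ _ γ₂ _
    obtain ⟨κ₁, hκ₁, hz₁⟩ := hA γ₁
    obtain ⟨κ₂, hκ₂, hz₂⟩ := hA γ₂
    have e₁ : γ₁ = κ₁ * (κ₁⁻¹ * γ₁) := by group
    have e₂ : γ₂ = κ₂ * (κ₂⁻¹ * γ₂) := by group
    rw [commutatorElement_def, e₁, e₂, comm_central_mul (hZc hz₁) (hZc hz₂)]
    have hκ₁' : κ₁ ∈ s.range.comap (QuotientGroup.mk' (zpowers b)) := hκ₁
    have hκ₂' : κ₂ ∈ s.range.comap (QuotientGroup.mk' (zpowers b)) := hκ₂
    exact mul_mem (mul_mem (mul_mem hκ₁' hκ₂') (inv_mem hκ₁')) (inv_mem hκ₂')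
  have hC : Z ≤ zpowers b := by
    intro z hz
    obtain ⟨q, hq⟩ : ((z : Γ) : Γ ⧸ zpowers b) ∈ s.range := hB (hZd hz)
    have h1 := hcomp q
    rw [hq, hπ, (hσ_ker z).mpr hz] at h1
    have h2 : q = 1 := by
      apply ψ.injective
      rw [← h1, map_one]
    rw [h2, map_one] at hq
    exact (QuotientGroup.eq_one_iff z).mp hq.symm
  have hZeq : Z = zpowers b := le_antisymm hC hZ₀Z
  rw [hZeq, Nat.card_zpowers]
  exact orderOf_le_of_pow_eq_one (by norm_num) (by rw [pow_two]; exact hbb)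

end Cfsg.Agent.Lib.Helper70.AltStem
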