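import Mathlib
import Cfsg.Agent.Lib.Helper70.AltStemC
import Cfsg.Agent.Lib.Helper70.AltSmall4
import Cfsg.Agent.Lib.Helper70.AltSmall5
import Cfsg.Agent.S3335

set_option autoImplicit false

namespace Cfsg.Agent.Lib.Helper70.AltStem

open Subgroup

universe u

/-- a bound for the kernels of the stem extensions in the lowest universe gives the bound in
every universe -/
theorem card_le_two_of_type_zero {Q : Type} [Group Q]
    (H : ∀ (Γ : Type) [Group Γ] [Finite Γ] (σ : Γ →* Q), Cfsg.IsStemExtension σ →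
      Nat.card σ.ker ≤ 2)
    {Γ : Type u} [Group Γ] [Finite Γ] (Z : Subgroup Γ) [Z.Normal] (hZc : Z ≤ center Γ)
    (hZd : Z ≤ commutator Γ) (e : Γ ⧸ Z ≃* Q) : Nat.card Z ≤ 2 := by
  classical
  obtain ⟨Γ', hG', hF', ⟨φ⟩⟩ := Finite.exists_type_univ_nonempty_mulEquiv.{u, 0} Γ
  let σ : Γ' →* Q := (e.toMonoidHom.comp (QuotientGroup.mk' Z)).comp φ.symm.toMonoidHom
  have hσ_apply : ∀ x : Γ', σ x = e ((φ.symm x : Γ) : Γ ⧸ Z) := fun x => rfl
  have hker : ∀ x : Γ', x ∈ σ.ker ↔ φ.symm x ∈ Z := fun x => by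
    rw [MonoidHom.mem_ker, hσ_apply, EmbeddingLike.map_eq_one_iff, QuotientGroup.eq_one_iff]
  have hσ : Cfsg.IsStemExtension σ := by
    refine ⟨?_, ?_, ?_⟩
    · exact (e.surjective.comp QuotientGroup.mk_surjective).comp φ.symm.surjective
    · intro x hx
      have h1 := hZc ((hker x).mp hx)
      rw [Subgroup.mem_center_iff] at h1 ⊢
      intro g
      apply φ.symm.injective
      rw [map_mul, map_mul]
      exact h1 (φ.symm g)
    · intro x hx
      have h1 := hZd ((hker x).mp hx)
      have h2 : commutator Γ = (commutator Γ').map φ.symm.toMonoidHom := by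
        rw [commutator_def, commutator_def, Subgroup.map_commutator,
          Subgroup.map_top_of_surjective _ φ.symm.surjective]
      rw [h2] at h1
      obtain ⟨c, hc, hcx⟩ := h1
      have : c = x := φ.symm.injective hcx
      rwa [this] at hc
  have h2 := H Γ' σ hσ
  have hinj : Function.Injective (fun z : Z => (⟨φ z.1, (hker _).mpr (by
      rw [MulEquiv.symm_apply_apply]; exact z.2)⟩ : σ.ker)) := by
    intro z₁ z₂ h
    have h3 : φ z₁.1 = φ z₂.1 := congrArg Subtype.val h
    exact Subtype.ext (φ.injective h3)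
  exact le_trans (Nat.card_le_card_of_injective _ hinj) h2

/-- the multiplier of an alternating group of degree other than six and seven has order at most
two -/
theorem card_le_two (n : ℕ) (hn : 4 ≤ n) (h6 : n ≠ 6) (h7 : n ≠ 7) {Γ : Type u} [Group Γ]
    [Finite Γ] (Z : Subgroup Γ) [Z.Normal] (hZc : Z ≤ center Γ) (hZd : Z ≤ commutator Γ)
    (e : Γ ⧸ Z ≃* alternatingGroup (Fin n)) : Nat.card Z ≤ 2 := by
  by_cases h8 : 8 ≤ n
  · obtain ⟨ψ⟩ := Cfsg.Agent.S3335.result n (by omega)
    have hk : 6 ≤ n - 2 := by omega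
    exact card_le_two_of_presented hk (Q := alternatingGroup (Fin n)) ψ Z hZc hZd e
  · have h45 : n = 4 ∨ n = 5 := by omega
    rcases h45 with rfl | rfl
    · exact card_le_two_of_type_zero
        (fun Γ _ _ σ hσ => AltSmall4.card_ker_le_two σ hσ) Z hZc hZd e
    · exact card_le_two_of_type_zero
        (fun Γ _ _ σ hσ => AltSmall5.card_ker_le_two σ hσ) Z hZc hZd e

end Cfsg.Agent.Lib.Helper70.AltStem
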