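import Mathlib
import Cfsg.Agent.S1350
import Cfsg.Agent.S1417
import Cfsg.Agent.S1418
import Cfsg.Agent.S1420
import Cfsg.Agent.S1424
import Cfsg.Agent.Lib.Helper13.BG12B
import Cfsg.Agent.Lib.Helper18.BG134Fr
import Cfsg.Agent.Lib.Helper01.BG134T3N
import Cfsg.Agent.Lib.Helper91.BG125e
import Cfsg.Agent.Lib.Helper83.BG11e
import Cfsg.Agent.Lib.Helper55.Uniq3
import Cfsg.Agent.Lib.Helper55.SylowIn

/-!
# Keystone 142807 / 142839 (K-S1428-G8): BG 12.14(f)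

`M ≠ L` maximal, `q ∈ σ(M)`, `q ∉ σ(L)`, `X ≤ M` a nontrivial `q`-subgroup with `N_G(X) ≤ L`.
Then `q ∈ τ₂(L)`, `M ∩ L` is a complement of `L_σ` in `L`, and `L_σ ∩ M = 1`.
-/

set_option autoImplicit false

namespace Cfsg.Agent.Lib.Helper70.BG134

open Cfsg Cfsg.Agent.Lib.Helper55

variable {G : Type*} [Group G] [Finite G]

/-- **Keystone 142807/142839 (K-S1428-G8)** = BG 12.14(f). -/
theorem tau2_and_compl (hG : IsMinSimpleOddOrder G) {M L : Subgroup G} (hM : IsCoatom M)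
    (hL : IsCoatom L) (hne : L ≠ M) {q : ℕ} [Fact q.Prime] (hqM : q ∈ sigma M) (hqL : q ∉ sigma L)
    {X : Subgroup G} (hXq : IsPGroup q X) (hX1 : X ≠ ⊥) (hXM : X ≤ M)
    (hNX : Subgroup.normalizer (X : Set G) ≤ L) :
    q ∈ tau2 L ∧ IsComplIn (M ⊓ L) (sigmaCore L) L ∧ sigmaCore L ⊓ M = ⊥ := by
  have hq : q.Prime := Fact.out
  have hq2 : q ≠ 2 := ms_prime_ne_two hG hXq hX1
  have hXL : X ≤ L := Subgroup.le_normalizer.trans hNX
  have hXML : X ≤ M ⊓ L := le_inf hXM hXL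
  -- a Sylow `q`-subgroup of `M ∩ L` over `X`
  obtain ⟨S', hS'syl, hXS'⟩ := exists_isSylowIn_ge hXML hXq
  have hS'eq := hS'syl.map_toSylow
  have hXS : X ≤ ((hS'syl.toSylow : Sylow q ↥(M ⊓ L)) : Subgroup ↥(M ⊓ L)).map (M ⊓ L).subtype := by
    rw [hS'eq]; exact hXS'
  obtain ⟨-, hNS, hidx⟩ := Cfsg.Agent.S1424.result hG M hM q hqM X hXq hX1 hXM L hL hne hNX
    hS'syl.toSylow hXS
  rw [hS'eq] at hNS hidx
  have hS'M : S' ≤ M := hS'syl.1.trans inf_le_left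
  have hS'L : S' ≤ L := hS'syl.1.trans inf_le_right
  have hS'q : IsPGroup q S' := hS'syl.2.1
  have hS'sylL : IsSylowIn q L S' :=
    Cfsg.Agent.Lib.Helper18.BG134.isSylowIn_of_not_dvd_relIndex hS'L hS'q hidx
  have hqdX : q ∣ Nat.card X := ms_prime_dvd_card hG hXq hX1
  have hqdL : q ∣ Nat.card L := hqdX.trans (Subgroup.card_dvd_of_le hXL)
  -- `S'` is not cyclic
  have hS'nc : ¬ IsCyclic S' := by
    intro hcyc
    apply hqL
    refine ⟨hq, hqdL, hS'sylL.toSylow, ?_⟩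
    rw [hS'sylL.map_toSylow]
    exact (Cfsg.Agent.Lib.Helper01.BG134.normalizer_le_normalizer_of_isCyclic S' X hcyc hXS').trans
      hNX
  -- `q ∈ τ₂(L)`
  have hr2 : PRankLE q 2 ↥L := by
    by_contra h
    exact hqL (Cfsg.Agent.Lib.Helper13.BG12.mem_sigma_of_not_pRankLE_two hG hL hq h)
  have hr1 : ¬ PRankLE q 1 ↥L := fun h =>
    hS'nc (Cfsg.Agent.Lib.Helper13.BG12.isCyclic_of_pRankLE_one hq2 h hS'L hS'q)
  have hτ : q ∈ tau2 L := ⟨hq, hqL, hr2, hr1⟩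
  -- an elementary abelian subgroup `B ≤ S'` of order `q ^ 2`
  obtain ⟨B, hBS, hBe, hBc⟩ := Cfsg.Agent.Lib.Helper13.BG12.exists_elemAb_sq_le hq2 hS'q hS'nc
  have hBM : B ≤ M := hBS.trans hS'M
  have hBL : B ≤ L := hBS.trans hS'L
  have hBq : IsPGroup q B := hS'q.to_le hBS
  have hBnc : ¬ IsCyclic B := Cfsg.Agent.Lib.Helper83.BG11.not_isCyclic_of_elem hBe hBc
  have h17 := Cfsg.Agent.S1417.result hG L hL q hτ B ⟨hBL, hBe, hBc⟩
  have hbot : sigmaCore L ⊓ M = ⊥ := h17.2.2.2.2.1 M hM hne.symm hBM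
  -- `M ∩ L` is a `σ(L)'`-group
  have hHallL := (Cfsg.Agent.S1350.result hG L hL).1
  have hK : ∀ p : ℕ, p.Prime → p ∣ Nat.card ↥(M ⊓ L) → p ∉ sigma L := by
    intro p hp hpd hpσ
    have : Fact p.Prime := ⟨hp⟩
    obtain ⟨x, hx⟩ := exists_prime_orderOf_dvd_card' p hpd
    have hxo : orderOf (x : G) = p := by rw [Subgroup.orderOf_coe]; exact hx
    have hZp : IsPGroup p (Subgroup.zpowers (x : G)) :=
      IsPGroup.of_card (n := 1) (by rw [Nat.card_zpowers, hxo, pow_one])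
    have hZL : Subgroup.zpowers (x : G) ≤ L := by
      rw [Subgroup.zpowers_le]; exact x.2.2
    have hZσ : Subgroup.zpowers (x : G) ≤ sigmaCore L :=
      Cfsg.Agent.Lib.Helper91.BG125.le_sigmaCore_of_mem_sigma hG hL hpσ hZp hZL
    have hxm : (x : G) ∈ sigmaCore L ⊓ M :=
      ⟨hZσ (Subgroup.mem_zpowers _), x.2.1⟩
    rw [hbot, Subgroup.mem_bot] at hxm
    rw [hxm, orderOf_one] at hxo
    exact hp.one_lt.ne hxo
  obtain ⟨EL, hEL, hMLE⟩ :=
    Cfsg.Agent.Lib.Helper13.BG12.exists_complIn_ge hG hL hHallL (inf_le_right : M ⊓ L ≤ L) hK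
  have hBEL : B ≤ EL := (le_inf hBM hBL).trans hMLE
  have h18 := Cfsg.Agent.S1418.result hG L hL EL hEL q hτ B ⟨hBEL, hBe, hBc⟩
  -- a complement of `M_σ` in `M`, to quote S1420
  have hHallM := (Cfsg.Agent.S1350.result hG M hM).1
  obtain ⟨EM, hEM, -⟩ :=
    Cfsg.Agent.Lib.Helper13.BG12.exists_complIn_ge hG hM hHallM (bot_le : (⊥ : Subgroup G) ≤ M)
      (by
        intro p hp hpd
        rw [Subgroup.card_bot] at hpd
        exact absurd (Nat.dvd_one.mp hpd) hp.one_lt.ne')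
  have hNB : Subgroup.normalizer (B : Set G) ≤ M :=
    (Cfsg.Agent.S1420.result hG M hM EM hEM).2.2.1 q B hqM hBq hBM hBnc
  have hELM : EL ≤ M ⊓ L := le_inf (h18.1.1.trans hNB) hEL.1
  have hEq : M ⊓ L = EL := le_antisymm hMLE hELM
  exact ⟨hτ, hEq ▸ hEL, hbot⟩

end Cfsg.Agent.Lib.Helper70.BG134
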