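import Mathlib
import Cfsg.Prelude.Def_OddOrderLocal
import Cfsg.Agent.S1354

/-!
# K-1381-C (keystone 138103): `C_{M'}(x) = K*` for `x ∈ K#`

Leaf of the pack K-1381 (S1381, architect helper71).
-/

set_option autoImplicit false

namespace Cfsg.Agent.Lib.Helper70.BG1381

open Cfsg Subgroup
open scoped Pointwise

variable {G : Type*} [Group G] [Finite G]

omit [Finite G] in
/-- Pure group theory: if `C` centralizes `K`, `C ≤ D` and `D ⊓ K = ⊥`, then `D ⊓ (K ⊔ C) = C`. -/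
theorem inf_sup_eq_of_centralizes {D K C : Subgroup G} (hCK : C ≤ centralizer (K : Set G))
    (hCD : C ≤ D) (hDK : D ⊓ K = ⊥) : D ⊓ (K ⊔ C) = C := by
  apply le_antisymm
  · intro y hy
    obtain ⟨hyD, hyKC⟩ := Subgroup.mem_inf.1 hy
    have hCN : C ≤ normalizer (K : Set G) := hCK.trans (Subgroup.centralizer_le_normalizer _)
    have hyKC' : y ∈ K ⊔ C := hyKC
    rw [sup_comm] at hyKC'
    have hcoe : ((C ⊔ K : Subgroup G) : Set G) = (C : Set G) * (K : Set G) :=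
      Subgroup.coe_mul_of_left_le_normalizer_right C K hCN
    have hy' : y ∈ ((C ⊔ K : Subgroup G) : Set G) := hyKC'
    rw [hcoe] at hy'
    obtain ⟨c, hc, k, hk, rfl⟩ := Set.mem_mul.1 hy'
    have hc' : c ∈ C := hc
    have hk' : k ∈ K := hk
    have hkD : k ∈ D := by
      have : k = c⁻¹ * (c * k) := by group
      rw [this]
      exact D.mul_mem (D.inv_mem (hCD hc')) hyD
    have hk1 : k = 1 := by
      have : k ∈ D ⊓ K := Subgroup.mem_inf.2 ⟨hkD, hk'⟩
      rw [hDK] at this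
      exact Subgroup.mem_bot.1 this
    rw [hk1, mul_one]
    exact hc'
  · exact le_inf hCD le_sup_right

/-- KEYSTONE 138103  K-1381-C  `derived_inf_centralizer`.  `C_{M'}(x) = K*` for `x ∈ K#`. -/
theorem derived_inf_centralizer (hG : IsMinSimpleOddOrder G) {M K U : Subgroup G} (hM : IsCoatom M)
    (hKU : IsSigmaDecomposition M K U) (hK1 : K ≠ ⊥) (hd : ⁅M, M⁆ = U ⊔ sigmaCore M)
    (hcompl : IsComplIn ⁅M, M⁆ K M) :
    ∀ x ∈ K, x ≠ 1 → ⁅M, M⁆ ⊓ centralizer ({x} : Set G) = sigmaCore M ⊓ centralizer (K : Set G) := by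
  intro x hx hx1
  have h1354 := (Cfsg.Agent.S1354.result hG M hM K hKU.cyclic hKU.hall).2 hK1 x hx hx1
  have hDM : ⁅M, M⁆ ≤ M := hcompl.1
  have hDK : ⁅M, M⁆ ⊓ K = ⊥ := hcompl.2.2.1
  have hCD : sigmaCore M ⊓ centralizer (K : Set G) ≤ ⁅M, M⁆ := by
    rw [hd]
    exact inf_le_left.trans le_sup_right
  have hCK : sigmaCore M ⊓ centralizer (K : Set G) ≤ centralizer (K : Set G) := inf_le_right
  calc ⁅M, M⁆ ⊓ centralizer ({x} : Set G)
      = ⁅M, M⁆ ⊓ (M ⊓ centralizer ({x} : Set G)) := by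
        rw [← inf_assoc, inf_eq_left.2 hDM]
    _ = ⁅M, M⁆ ⊓ (K ⊔ (sigmaCore M ⊓ centralizer (K : Set G))) := by rw [h1354]
    _ = sigmaCore M ⊓ centralizer (K : Set G) := inf_sup_eq_of_centralizes hCK hCD hDK

end Cfsg.Agent.Lib.Helper70.BG1381
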