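import Mathlib

/-!
# K-1383-E3 (keystone 138306): `|K| ∣ p + 1` when `K` fixes no line of `P / Z`

Pure group theory.  Also the shared facts on nonabelian groups of order `p ^ 3` used by E2.
-/

set_option autoImplicit false
set_option linter.unusedSectionVars false
set_option linter.unusedVariables false
set_option linter.deprecated false
set_option linter.style.haveILetI false

namespace Cfsg.Agent.Lib.Helper70.BG1383

open scoped Pointwise commutatorElement

/-- a free action: the order of the group divides the size of the set -/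
theorem card_dvd_of_free_action {K X : Type*} [Group K] [Finite K] [MulAction K X] [Finite X]
    (hfree : ∀ (k : K) (x : X), k • x = x → k = 1) : Nat.card K ∣ Nat.card X := by
  classical
  haveI := Fintype.ofFinite K
  haveI := Fintype.ofFinite X
  haveI : Fintype (Quotient (MulAction.orbitRel K X)) := Fintype.ofFinite _
  have hstab : ∀ x : X, Fintype.card (MulAction.stabilizer K x) = 1 := by
    intro x
    rw [Fintype.card_eq_one_iff]
    refine ⟨1, fun k => ?_⟩
    exact Subtype.ext (hfree k.1 x (MulAction.mem_stabilizer_iff.1 k.2))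
  have h := MulAction.card_eq_sum_card_group_div_card_stabilizer K X
  simp only [hstab, Nat.div_one, Finset.sum_const, Finset.card_univ, smul_eq_mul] at h
  rw [Nat.card_eq_fintype_card, Nat.card_eq_fintype_card, h]
  exact Dvd.intro_left _ rfl

/-- a nonabelian group of order `p ^ 3`: the centre has order `p` and contains the commutator
subgroup -/
theorem center_facts {Q : Type*} [Group Q] [Finite Q] (p : ℕ) [Fact p.Prime]
    (hQ : Nat.card Q = p ^ 3) (hna : ¬ ∀ a b : Q, a * b = b * a) :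
    Nat.card (Subgroup.center Q) = p ∧ commutator Q ≤ Subgroup.center Q := by
  have hp := (Fact.out : p.Prime)
  have hpg : IsPGroup p Q := IsPGroup.of_card hQ
  haveI : Nontrivial Q := by
    rw [← Finite.one_lt_card_iff_nontrivial, hQ]
    exact Nat.one_lt_pow (by norm_num) hp.one_lt
  haveI := hpg.center_nontrivial
  have hdvd : Nat.card (Subgroup.center Q) ∣ p ^ 3 := hQ ▸ Subgroup.card_subgroup_dvd_card _
  obtain ⟨k, hk3, hk⟩ := (Nat.dvd_prime_pow hp).1 hdvd
  have hmul := Subgroup.card_eq_card_quotient_mul_card_subgroup (Subgroup.center Q)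
  rw [hQ, hk] at hmul
  have hk0 : k ≠ 0 := by
    rintro rfl
    rw [pow_zero] at hk
    have : 1 < Nat.card (Subgroup.center Q) := Finite.one_lt_card
    omega
  have hk3' : k ≠ 3 := by
    rintro rfl
    apply hna
    have htop : Subgroup.center Q = ⊤ := Subgroup.eq_top_of_card_eq _ (by rw [hk, hQ])
    intro a b
    have ha : a ∈ Subgroup.center Q := htop ▸ Subgroup.mem_top a
    exact ((Subgroup.mem_center_iff.1 ha) b).symm
  have hk2 : k ≠ 2 := by
    rintro rfl
    apply hna
    have hq : Nat.card (Q ⧸ Subgroup.center Q) = p := by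
      have h1 : p ^ 3 = p * p ^ 2 := by ring
      rw [h1] at hmul
      exact (Nat.eq_of_mul_eq_mul_right (pow_pos hp.pos 2) hmul).symm
    haveI : IsCyclic (Q ⧸ Subgroup.center Q) := isCyclic_of_prime_card hq
    exact commutative_of_cyclic_center_quotient (QuotientGroup.mk' (Subgroup.center Q))
      (by rw [QuotientGroup.ker_mk'])
  have hk1 : k = 1 := by omega
  subst hk1
  rw [pow_one] at hk hmul
  refine ⟨hk, ?_⟩
  have hq : Nat.card (Q ⧸ Subgroup.center Q) = p ^ 2 := by
    have h1 : p ^ 3 = p ^ 2 * p := by ring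
    rw [h1] at hmul
    exact (Nat.eq_of_mul_eq_mul_right hp.pos hmul).symm
  have hcomm := IsPGroup.commutative_of_card_eq_prime_sq hq
  rw [commutator_def, Subgroup.commutator_le]
  intro a _ b _
  apply (QuotientGroup.eq_one_iff (N := Subgroup.center Q) ⁅a, b⁆).1
  have : ((⁅a, b⁆ : Q) : Q ⧸ Subgroup.center Q) = ⁅(a : Q ⧸ Subgroup.center Q), (b : Q ⧸ _)⁆ := by
    simp [commutatorElement_def]
  rw [this, commutatorElement_eq_one_iff_commute]
  exact hcomm _ _

/-- a nonabelian subgroup `P` of order `p ^ 3` and a subgroup `Z ≤ ⁅P, P⁆` of order `p`: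
`Z` is the centre of `P` and equals `⁅P, P⁆` -/
theorem center_setup {G : Type*} [Group G] [Finite G] (p : ℕ) [Fact p.Prime] (P Z : Subgroup G)
    (hP : Nat.card P = p ^ 3) (hPna : ¬ IsMulCommutative P) (hZc : Nat.card Z = p)
    (hZ' : Z ≤ ⁅P, P⁆) :
    Z ≤ P ∧ (∀ z ∈ Z, ∀ x ∈ P, z * x = x * z) ∧
      (∀ x ∈ P, (∀ y ∈ P, x * y = y * x) → x ∈ Z) ∧ ⁅P, P⁆ = Z := by
  have hna : ¬ ∀ a b : ↥P, a * b = b * a := fun h => hPna ⟨⟨h⟩⟩
  obtain ⟨hc, hle⟩ := center_facts p hP hna
  have hcard : Nat.card ((Subgroup.center ↥P).map P.subtype) = p := by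
    rw [Subgroup.card_map_of_injective P.subtype_injective, hc]
  have hcomm_le : ⁅P, P⁆ ≤ (Subgroup.center ↥P).map P.subtype := by
    rw [← Subgroup.map_subtype_commutator]
    exact Subgroup.map_mono hle
  have hZeq : Z = (Subgroup.center ↥P).map P.subtype :=
    Subgroup.eq_of_le_of_card_ge (hZ'.trans hcomm_le) (by rw [hcard, hZc])
  refine ⟨?_, ?_, ?_, ?_⟩
  · rw [hZeq]; exact Subgroup.map_subtype_le _
  · intro z hz x hx
    rw [hZeq] at hz
    obtain ⟨z', hz', rfl⟩ := Subgroup.mem_map.1 hz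
    have := (Subgroup.mem_center_iff.1 hz') ⟨x, hx⟩
    have h2 := congrArg Subtype.val this
    simpa using h2.symm
  · intro x hx hall
    rw [hZeq]
    refine Subgroup.mem_map.2 ⟨⟨x, hx⟩, ?_, rfl⟩
    rw [Subgroup.mem_center_iff]
    intro g
    exact Subtype.ext (hall g.1 g.2).symm
  · exact le_antisymm (by rw [hZeq]; exact hcomm_le) hZ'

/-- for `v ∈ P \ Z` the subgroup `⟨v⟩ Z` has order `p ^ 2` -/
theorem card_line {G : Type*} [Group G] [Finite G] (p : ℕ) [Fact p.Prime] (P Z : Subgroup G)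
    (hP : Nat.card P = p ^ 3) (hZc : Nat.card Z = p) (hZP : Z ≤ P)
    (hcent : ∀ z ∈ Z, ∀ x ∈ P, z * x = x * z)
    (hcen' : ∀ x ∈ P, (∀ y ∈ P, x * y = y * x) → x ∈ Z) (v : G) (hv : v ∈ P) (hvZ : v ∉ Z) :
    Nat.card ↥(Subgroup.zpowers v ⊔ Z) = p ^ 2 := by
  have hp := (Fact.out : p.Prime)
  have hMP : Subgroup.zpowers v ⊔ Z ≤ P := sup_le (Subgroup.zpowers_le.2 hv) hZP
  have hdvd : Nat.card ↥(Subgroup.zpowers v ⊔ Z) ∣ p ^ 3 := hP ▸ Subgroup.card_dvd_of_le hMP
  obtain ⟨k, hk3, hk⟩ := (Nat.dvd_prime_pow hp).1 hdvd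
  have hZM : Z ≤ Subgroup.zpowers v ⊔ Z := le_sup_right
  have hvM : v ∈ Subgroup.zpowers v ⊔ Z := le_sup_left (a := Subgroup.zpowers v) (Subgroup.mem_zpowers v)
  have hk2 : 2 ≤ k := by
    by_contra hcon
    have hk1 : k ≤ 1 := by omega
    have hle : Nat.card ↥(Subgroup.zpowers v ⊔ Z) ≤ Nat.card Z := by
      rw [hk, hZc]
      calc p ^ k ≤ p ^ 1 := Nat.pow_le_pow_right hp.pos hk1
        _ = p := pow_one p
    have := Subgroup.eq_of_le_of_card_ge hZM hle
    exact hvZ (this ▸ hvM)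
  have hk3' : k ≠ 3 := by
    rintro rfl
    have hMeq : Subgroup.zpowers v ⊔ Z = P :=
      Subgroup.eq_of_le_of_card_ge hMP (by rw [hk, hP])
    apply hvZ
    apply hcen' v hv
    intro y hy
    have hle : Subgroup.zpowers v ⊔ Z ≤ Subgroup.centralizer ({v} : Set G) := by
      refine sup_le ?_ ?_
      · rw [Subgroup.zpowers_le, Subgroup.mem_centralizer_iff]
        intro h hh
        rw [Set.mem_singleton_iff] at hh
        rw [hh]
      · intro z hz
        rw [Subgroup.mem_centralizer_iff]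
        intro h hh
        rw [Set.mem_singleton_iff] at hh
        rw [hh]
        exact (hcent z hz v hv).symm
    have hy' : y ∈ Subgroup.centralizer ({v} : Set G) := hle (hMeq ▸ hy)
    exact (Subgroup.mem_centralizer_iff.1 hy' v rfl)
  have : k = 2 := by omega
  rw [hk, this]

theorem mem_conj_smul {G : Type*} [Group G] {g x : G} {L : Subgroup G} :
    x ∈ MulAut.conj g • L ↔ g⁻¹ * x * g ∈ L := by
  rw [Subgroup.mem_pointwise_smul_iff_inv_smul_mem, ← map_inv, MulAut.smul_def, MulAut.conj_apply,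
    inv_inv]

theorem card_conj_smul {G : Type*} [Group G] (g : G) (L : Subgroup G) :
    Nat.card ↥(MulAut.conj g • L) = Nat.card L := by
  rw [Subgroup.pointwise_smul_def]
  apply Subgroup.card_map_of_injective
  intro a b hab
  exact MulAction.injective (MulAut.conj g) hab

/-- the lines of `P / Z`, as subgroups of order `p ^ 2` between `Z` and `P` -/
def Lines {G : Type*} [Group G] (p : ℕ) (P Z : Subgroup G) : Type _ :=
  {L : Subgroup G // Z ≤ L ∧ L ≤ P ∧ Nat.card L = p ^ 2}

instance {G : Type*} [Group G] [Finite G] (p : ℕ) (P Z : Subgroup G) : Finite (Lines p P Z) := by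
  unfold Lines; infer_instance

/-- `K` acts on the lines by conjugation -/
@[reducible] def linesAction {G : Type*} [Group G] (p : ℕ) (P Z K : Subgroup G)
    (hKP : K ≤ Subgroup.normalizer (P : Set G)) (hKZ : ∀ k ∈ K, ∀ z ∈ Z, k * z * k⁻¹ = z) :
    MulAction ↥K (Lines p P Z) where
  smul k L := ⟨MulAut.conj (k : G) • L.1, by
    refine ⟨?_, ?_, ?_⟩
    · intro z hz
      rw [mem_conj_smul]
      have := hKZ (k : G)⁻¹ (K.inv_mem k.2) z hz
      rw [inv_inv] at this
      rw [this]
      exact L.2.1 hz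
    · intro x hx
      rw [mem_conj_smul] at hx
      have h1 := (Subgroup.mem_normalizer_iff.1 (hKP k.2) ((k : G)⁻¹ * x * k)).1 (L.2.2.1 hx)
      have h2 : (k : G) * ((k : G)⁻¹ * x * k) * (k : G)⁻¹ = x := by group
      rwa [h2] at h1
    · rw [card_conj_smul]; exact L.2.2.2⟩
  one_smul L := by
    apply Subtype.ext
    show MulAut.conj ((1 : ↥K) : G) • L.1 = L.1
    rw [Subgroup.coe_one, map_one, one_smul]
  mul_smul k₁ k₂ L := by
    apply Subtype.ext
    show MulAut.conj ((k₁ * k₂ : ↥K) : G) • L.1 = MulAut.conj (k₁ : G) • (MulAut.conj (k₂ : G) • L.1)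
    rw [Subgroup.coe_mul, map_mul, mul_smul]

theorem card_filter_diff {G : Type*} [Group G] [Fintype G] [DecidableEq G] (H Z : Subgroup G)
    [DecidablePred (· ∈ H)] [DecidablePred (· ∈ Z)] (hZH : Z ≤ H) :
    (Finset.univ.filter (fun v : G => v ∈ H ∧ v ∉ Z)).card = Nat.card H - Nat.card Z := by
  have h1 : Finset.univ.filter (fun v : G => v ∈ H ∧ v ∉ Z) =
      Finset.univ.filter (fun v : G => v ∈ H) \ Finset.univ.filter (fun v : G => v ∈ Z) := by
    ext v; simp
  have h2 : Finset.univ.filter (fun v : G => v ∈ Z) ⊆ Finset.univ.filter (fun v : G => v ∈ H) := by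
    intro v hv
    simp only [Finset.mem_filter, Finset.mem_univ, true_and] at hv ⊢
    exact hZH hv
  rw [h1, Finset.card_sdiff_of_subset h2, Nat.card_eq_fintype_card, Nat.card_eq_fintype_card,
    Fintype.card_of_subtype (Finset.univ.filter (fun v : G => v ∈ H)) (fun x => by simp),
    Fintype.card_of_subtype (Finset.univ.filter (fun v : G => v ∈ Z)) (fun x => by simp)]

/-- there are `p + 1` lines -/
theorem card_lines {G : Type*} [Group G] [Finite G] (p : ℕ) [Fact p.Prime] (P Z : Subgroup G)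
    (hP : Nat.card P = p ^ 3) (hZc : Nat.card Z = p) (hZP : Z ≤ P)
    (hcent : ∀ z ∈ Z, ∀ x ∈ P, z * x = x * z)
    (hcen' : ∀ x ∈ P, (∀ y ∈ P, x * y = y * x) → x ∈ Z) :
    Nat.card (Lines p P Z) = p + 1 := by
  classical
  have hpp := (Fact.out : p.Prime)
  haveI := Fintype.ofFinite G
  let s : Finset G := Finset.univ.filter (fun v : G => v ∈ P ∧ v ∉ Z)
  let t : Finset (Subgroup G) :=
    Finset.univ.filter (fun L : Subgroup G => Z ≤ L ∧ L ≤ P ∧ Nat.card L = p ^ 2)
  let f : G → Subgroup G := fun v => Subgroup.zpowers v ⊔ Z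
  have hmaps : ∀ v ∈ s, f v ∈ t := by
    intro v hv
    simp only [s, Finset.mem_filter, Finset.mem_univ, true_and] at hv
    simp only [t, f, Finset.mem_filter, Finset.mem_univ, true_and]
    exact ⟨le_sup_right, sup_le (Subgroup.zpowers_le.2 hv.1) hZP,
      card_line p P Z hP hZc hZP hcent hcen' v hv.1 hv.2⟩
  have hsum := Finset.card_eq_sum_card_fiberwise hmaps
  have hfib : ∀ L ∈ t, (s.filter (fun v => f v = L)).card = p ^ 2 - p := by
    intro L hL
    simp only [t, Finset.mem_filter, Finset.mem_univ, true_and] at hL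
    have heq : s.filter (fun v => f v = L) = Finset.univ.filter (fun v : G => v ∈ L ∧ v ∉ Z) := by
      ext v
      simp only [s, f, Finset.mem_filter, Finset.mem_univ, true_and]
      constructor
      · rintro ⟨⟨hvP, hvZ⟩, hfv⟩
        refine ⟨?_, hvZ⟩
        rw [← hfv]
        exact Subgroup.mem_sup_left (Subgroup.mem_zpowers v)
      · rintro ⟨hvL, hvZ⟩
        have hvP : v ∈ P := hL.2.1 hvL
        refine ⟨⟨hvP, hvZ⟩, ?_⟩
        have hle : Subgroup.zpowers v ⊔ Z ≤ L := sup_le (Subgroup.zpowers_le.2 hvL) hL.1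
        exact Subgroup.eq_of_le_of_card_ge hle
          (by rw [hL.2.2, card_line p P Z hP hZc hZP hcent hcen' v hvP hvZ])
    rw [heq, card_filter_diff L Z hL.1, hL.2.2, hZc]
  have hs : s.card = p ^ 3 - p := by
    simp only [s]
    rw [card_filter_diff P Z hZP, hP, hZc]
  rw [Finset.sum_congr rfl hfib, Finset.sum_const, smul_eq_mul, hs] at hsum
  have hcard : Nat.card (Lines p P Z) = t.card := by
    show Nat.card {L : Subgroup G // Z ≤ L ∧ L ≤ P ∧ Nat.card L = p ^ 2} = t.card
    rw [Nat.card_eq_fintype_card, Fintype.card_subtype]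
  rw [hcard]
  have h2 : 2 ≤ p := hpp.two_le
  have h3 : p ≤ p ^ 2 := by nlinarith
  have h4 : p ≤ p ^ 3 := by nlinarith [pow_pos hpp.pos 2]
  have h5 : 0 < p ^ 2 - p := by
    have : p < p ^ 2 := by nlinarith
    omega
  have h6 : p ^ 3 - p = (p + 1) * (p ^ 2 - p) := by
    zify [h3, h4]
    ring
  rw [h6] at hsum
  exact (Nat.eq_of_mul_eq_mul_right h5 hsum).symm

/-- KEYSTONE 138306  K-1383-E3 -/
theorem card_dvd_succ_of_no_invariant_line {G : Type*} [Group G] [Finite G] (p : ℕ) [Fact p.Prime]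
    (hp : p ≠ 2) (P K : Subgroup G) (hP : Nat.card P = p ^ 3) (hPna : ¬ IsMulCommutative P)
    (hKP : K ≤ Subgroup.normalizer (P : Set G)) (hKc : IsCyclic K)
    (hcop : (Nat.card K).Coprime p) (hodd : Odd (Nat.card K))
    (hZ : Nat.card ↥(P ⊓ Subgroup.centralizer (K : Set G)) = p)
    (hZ' : P ⊓ Subgroup.centralizer (K : Set G) ≤ ⁅P, P⁆)
    (hfix : ∀ k ∈ K, k ≠ 1 →
      P ⊓ Subgroup.centralizer ({k} : Set G) = P ⊓ Subgroup.centralizer (K : Set G))
    (hline : ∀ a ∈ K, a ≠ 1 → ∀ v ∈ P, v ∉ Subgroup.centralizer (K : Set G) →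
      a * v * a⁻¹ ∉ Subgroup.zpowers v ⊔ (P ⊓ Subgroup.centralizer (K : Set G))) :
    Nat.card K ∣ p + 1 := by
  classical
  have hpp := (Fact.out : p.Prime)
  obtain ⟨hZP, hcent, hcen', -⟩ :=
    center_setup p P (P ⊓ Subgroup.centralizer (K : Set G)) hP hPna hZ hZ'
  have hKZ : ∀ k ∈ K, ∀ z ∈ P ⊓ Subgroup.centralizer (K : Set G), k * z * k⁻¹ = z := by
    intro k hk z hz
    have := Subgroup.mem_centralizer_iff.1 (Subgroup.mem_inf.1 hz).2 k hk
    rw [this, mul_inv_cancel_right]
  letI := linesAction p P (P ⊓ Subgroup.centralizer (K : Set G)) K hKP hKZ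
  rw [← card_lines p P (P ⊓ Subgroup.centralizer (K : Set G)) hP hZ hZP hcent hcen']
  apply card_dvd_of_free_action
  intro k L hkL
  by_contra hk1
  have hk1' : (k : G) ≠ 1 := fun h => hk1 (Subtype.ext h)
  have hkL' : MulAut.conj (k : G) • L.1 = L.1 := congrArg Subtype.val hkL
  -- a vector of the line outside `Z`
  have hex : ∃ v ∈ L.1, v ∉ P ⊓ Subgroup.centralizer (K : Set G) := by
    by_contra hcon
    push Not at hcon
    have hle : L.1 ≤ P ⊓ Subgroup.centralizer (K : Set G) := fun v hv => hcon v hv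
    have := Subgroup.card_le_of_le hle
    rw [L.2.2.2, hZ] at this
    have h2 : 2 ≤ p := hpp.two_le
    nlinarith
  obtain ⟨v, hvL, hvZ⟩ := hex
  have hvP : v ∈ P := L.2.2.1 hvL
  have hvC : v ∉ Subgroup.centralizer (K : Set G) := fun h => hvZ (Subgroup.mem_inf.2 ⟨hvP, h⟩)
  have hLeq : Subgroup.zpowers v ⊔ (P ⊓ Subgroup.centralizer (K : Set G)) = L.1 :=
    Subgroup.eq_of_le_of_card_ge (sup_le (Subgroup.zpowers_le.2 hvL) L.2.1)
      (by rw [L.2.2.2, card_line p P _ hP hZ hZP hcent hcen' v hvP hvZ])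
  apply hline (k : G) k.2 hk1' v hvP hvC
  rw [hLeq, ← hkL', mem_conj_smul]
  have : (k : G)⁻¹ * ((k : G) * v * (k : G)⁻¹) * (k : G) = v := by group
  rw [this]
  exact hvL

end Cfsg.Agent.Lib.Helper70.BG1383
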