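import Mathlib
import Cfsg.Agent.S1350
import Cfsg.Agent.S1418
import Cfsg.Agent.S1423
import Cfsg.Agent.Lib.Helper15.BG139Defs
import Cfsg.Agent.Lib.Helper15.BG139Defs2
import Cfsg.Agent.Lib.Helper31.BG12a
import Cfsg.Agent.Lib.Helper13.BG12B
import Cfsg.Agent.Lib.Helper11.BG134P2
import Cfsg.Agent.Lib.Helper55.Uniq
import Cfsg.Agent.Lib.Helper71.BG10Hall
import Cfsg.Agent.Lib.Helper71.BG10Sub
import Cfsg.Agent.Lib.Helper71.BG11a

/-!
# BG Theorem 13.9 (S1378), keystone 137814 (K-S1378-K2a): `Loc.tau2_act`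

Step 15(i) of `notes/BG13_9_proof_helper15.md`: in the case `r ∈ τ₂(H)`, a complement `EH` of `H_σ`
over `C_{M_σ}(P) P` and `A ≤ EH` elementary abelian of order `r²` on which `C_{M_σ}(P)` acts
with `C_A(X) = P` for every non-trivial `X ≤ C_{M_σ}(P)`.
-/

set_option autoImplicit false
set_option linter.unusedSectionVars false
set_option linter.unusedVariables false
set_option linter.style.haveILetI false

namespace Cfsg.Agent.Lib.Helper70.BG139

open Cfsg Cfsg.Agent.Lib.Helper55 Cfsg.Agent.Lib.Helper31.BG134 Cfsg.Agent.Lib.Helper15.BG139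

variable {G : Type*} [Group G] [Finite G]

/-- a subgroup of `p`-rank one contains no `E_{p^2}` -/
theorem k2a_false_of_elemAb_sq_le {p : ℕ} (hpp : p.Prime) {M A : Subgroup G}
    (hr : PRankLE p 1 ↥M)
    (hAM : A ≤ M) (hAe : IsElementaryAbelian p A) (hAc : Nat.card A = p ^ 2) : False := by
  have hcomm : ∀ a ∈ A, ∀ b ∈ A, a * b = b * a := by
    intro a ha b hb
    have := hAe.1.is_comm.comm ⟨a, ha⟩ ⟨b, hb⟩
    exact congrArg Subtype.val this
  have := (pRankLE_sub_iff.mp hr) A hAM hcomm hAe.2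
  rw [hAc, pow_one] at this
  nlinarith [hpp.two_le]

/-- S1423 for a subgroup of prime order `t ∈ β(M)`: `C_G(X) ≤ M`. -/
theorem k2a_centralizer_le_of_beta (hG : IsMinSimpleOddOrder G) {M : Subgroup G} (hM : IsCoatom M)
    {t : ℕ} (ht : t ∈ beta M) {X : Subgroup G} (hXM : X ≤ M) (hXc : Nat.card X = t) :
    Subgroup.centralizer (X : Set G) ≤ M := by
  have htp : t.Prime := ht.1.1
  haveI : Fact t.Prime := ⟨htp⟩
  exact ((Cfsg.Agent.S1423.result hG M hM t
    (Cfsg.Agent.Lib.Helper71.BG10.alpha_subset_sigma hG hM ht.1) X hXM hXc default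
    (Or.inl ht)).1).1

/-- **KEYSTONE 137814  K-S1378-K2a**  (step 15(i)). -/
theorem Loc.tau2_act {M P H : Subgroup G} {r : ℕ} (l : Loc M P H r) (hr2 : r ∈ tau2 H) :
    ∃ EH A : Subgroup G, T2 M P H EH A r := by
  have hG := l.o.hG
  have hM := l.o.hM
  have hH := l.hH
  have hr : r.Prime := l.o.hr1.1
  haveI : Fact r.Prime := ⟨hr⟩
  have hHallH := (Cfsg.Agent.S1350.result hG H hH).1
  have hPH : P ≤ H := Subgroup.le_normalizer.trans l.hNH
  have hCH : CP M P ≤ H := by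
    have h := l.hC
    rw [← h]; exact inf_le_right
  have hKH : CP M P ⊔ P ≤ H := sup_le hCH hPH
  have hCσ : CP M P ≤ sigmaCore M := inf_le_left
  have hCcent : ∀ c ∈ CP M P, ∀ y ∈ P, y * c = c * y := by
    intro c hc y hy
    exact Subgroup.mem_centralizer_iff.mp hc.2 y hy
  have hPN : P ≤ Subgroup.normalizer ((CP M P : Subgroup G) : Set G) := by
    refine le_trans ?_ (Subgroup.centralizer_le_normalizer _)
    intro y hy
    rw [Subgroup.mem_centralizer_iff]
    intro c hc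
    exact (hCcent c hc y hy).symm
  have hKprimes : ∀ q : ℕ, q.Prime → q ∣ Nat.card ↥(CP M P ⊔ P) → q ∉ sigma H := by
    intro q hq hqd
    have h1 := Cfsg.Agent.Lib.Helper11.BG134.card_sup_dvd_of_le_normalizer (CP M P) P hPN
    have h2 : q ∣ Nat.card ↥(CP M P) * Nat.card P := hqd.trans h1
    rcases (Nat.Prime.dvd_mul hq).mp h2 with h3 | h3
    · have h4 : q ∣ Nat.card (sigmaCore M) := h3.trans (Subgroup.card_dvd_of_le hCσ)
      have h5 : q ∈ sigma M := Cfsg.Agent.Lib.Helper71.BG11.sigmaCore_pi hG hM hq h4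
      exact fun h => l.hσ q h h5
    · rw [l.o.hPc] at h3
      rw [(Nat.prime_dvd_prime_iff_eq hq hr).mp h3]
      exact hr2.2.1
  obtain ⟨EH, hEH, hKE⟩ :=
    Cfsg.Agent.Lib.Helper13.BG12.exists_complIn_ge hG hH hHallH hKH hKprimes
  obtain ⟨A, hAE, hAel, hAc⟩ :=
    Cfsg.Agent.Lib.Helper13.BG12.exists_elemAb_sq_le_compl hG hH hHallH hr2 hEH
  obtain ⟨⟨hAn, hAX⟩, -, -⟩ :=
    Cfsg.Agent.S1418.result hG H hH EH hEH r hr2 A ⟨hAE, hAel, hAc⟩
  have hPA : P ≤ A := hAX P (le_sup_right.trans hKE) l.o.hPc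
  refine ⟨EH, A, ⟨hEH, hKE, hAE, hAel, hAc, hAn, hPA, ?_⟩⟩
  intro X hXC hX1
  have hPCX : P ≤ Subgroup.centralizer (X : Set G) := by
    intro y hy
    rw [Subgroup.mem_centralizer_iff]
    intro x hx
    exact (hCcent x (hXC hx) y hy).symm
  have hPle : P ≤ A ⊓ Subgroup.centralizer (X : Set G) := le_inf hPA hPCX
  by_contra hne
  -- `A ⊓ C(X)` has order `r` or `r²`
  have hd : Nat.card ↥(A ⊓ Subgroup.centralizer (X : Set G)) ∣ r ^ 2 := by
    rw [← hAc]; exact Subgroup.card_dvd_of_le inf_le_left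
  obtain ⟨k, hk2, hk⟩ := (Nat.dvd_prime_pow hr).mp hd
  have hrd : r ∣ Nat.card ↥(A ⊓ Subgroup.centralizer (X : Set G)) := by
    have := Subgroup.card_dvd_of_le hPle
    rwa [l.o.hPc] at this
  have hAC : A ≤ Subgroup.centralizer (X : Set G) := by
    interval_cases k
    · rw [hk, pow_zero] at hrd
      exact absurd (Nat.dvd_one.mp hrd) hr.one_lt.ne'
    · exfalso
      apply hne
      symm
      apply Subgroup.eq_of_le_of_card_ge hPle
      rw [hk, pow_one, l.o.hPc]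
    · have : A ⊓ Subgroup.centralizer (X : Set G) = A := by
        apply Subgroup.eq_of_le_of_card_ge inf_le_left
        rw [hk, hAc]
      rw [← this]; exact inf_le_right
  -- `Y ≤ X` of prime order `q`
  have hXcard : Nat.card X ≠ 1 := fun h => hX1 (Subgroup.card_eq_one.mp h)
  obtain ⟨q, hq, hqd⟩ := Nat.exists_prime_and_dvd hXcard
  haveI : Fact q.Prime := ⟨hq⟩
  obtain ⟨y, hy⟩ := exists_prime_orderOf_dvd_card' q hqd
  have hyG : orderOf (y : G) = q := by rw [Subgroup.orderOf_coe, hy]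
  set Y : Subgroup G := Subgroup.zpowers (y : G) with hYdef
  have hYX : Y ≤ X := Subgroup.zpowers_le.mpr y.2
  have hYc : Nat.card Y = q := by rw [hYdef, Nat.card_zpowers, hyG]
  have hqC : q ∣ Nat.card ↥(CP M P) := hqd.trans (Subgroup.card_dvd_of_le hXC)
  have hqβ : q ∈ beta M := l.o.hCβ q hq hqC
  have hYM : Y ≤ M :=
    hYX.trans (hXC.trans (hCσ.trans (Cfsg.Agent.Lib.Helper71.BG11.sigmaCore_le M)))
  have hCYM := k2a_centralizer_le_of_beta hG hM hqβ hYM hYc
  have hAM : A ≤ M := hAC.trans ((Subgroup.centralizer_le hYX).trans hCYM)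
  exact k2a_false_of_elemAb_sq_le hr l.o.hr1.2.2.2.2 hAM hAel hAc

end Cfsg.Agent.Lib.Helper70.BG139
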