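import Mathlib
import Cfsg.Agent.Lib.Helper15.BG139Defs
import Cfsg.Agent.Lib.Helper31.BG12a
import Cfsg.Agent.Lib.Helper83.BG134G7
import Cfsg.Agent.Lib.Helper11.BG134P2
import Cfsg.Agent.Lib.Helper71.BG11a
import Cfsg.Agent.Lib.Helper13.BG12A

/-!
# Keystone 137812 (K-S1378-L13): step 13 of BG 13.9 — `C_{M_σ}(P)` is a `β(M)`-group
-/

set_option autoImplicit false

namespace Cfsg.Agent.Lib.Helper70.BG139

open Cfsg Cfsg.Agent.Lib.Helper55 Cfsg.Agent.Lib.Helper31.BG134 Cfsg.Agent.Lib.Helper15.BG139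

variable {G : Type*} [Group G] [Finite G]

/-- A `r`-group `P` normalizing `K` (of order prime to `r`) and stabilizing the coset `m K` under
conjugation fixes an element of that coset. -/
theorem exists_fixed_in_coset {r : ℕ} [Fact r.Prime] (P K : Subgroup G) (hP : IsPGroup r P)
    (hPK : P ≤ Subgroup.normalizer (K : Set G)) (hK : ¬ r ∣ Nat.card K) (m : G)
    (hm : ∀ x ∈ P, m⁻¹ * (x * m * x⁻¹) ∈ K) :
    ∃ m' : G, m⁻¹ * m' ∈ K ∧ ∀ x ∈ P, x * m' * x⁻¹ = m' := by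
  classical
  let T := {z : G // m⁻¹ * z ∈ K}
  have hcl : ∀ x ∈ P, ∀ z : G, m⁻¹ * z ∈ K → m⁻¹ * (x * z * x⁻¹) ∈ K := by
    intro x hx z hz
    have h1 : x * (m⁻¹ * z) * x⁻¹ ∈ K := (Subgroup.mem_normalizer_iff.mp (hPK hx) _).mp hz
    have e : m⁻¹ * (x * z * x⁻¹) = (m⁻¹ * (x * m * x⁻¹)) * (x * (m⁻¹ * z) * x⁻¹) := by group
    rw [e]
    exact K.mul_mem (hm x hx) h1
  letI : MulAction P T :=
    { smul := fun x z => ⟨(x : G) * z.1 * (x : G)⁻¹, hcl x x.2 z.1 z.2⟩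
      one_smul := by
        intro z
        apply Subtype.ext
        show ((1 : P) : G) * z.1 * ((1 : P) : G)⁻¹ = z.1
        simp
      mul_smul := by
        intro x y z
        apply Subtype.ext
        show ((x * y : P) : G) * z.1 * ((x * y : P) : G)⁻¹ =
          (x : G) * ((y : G) * z.1 * (y : G)⁻¹) * (x : G)⁻¹
        rw [Subgroup.coe_mul]
        group }
  have hcard : Nat.card T = Nat.card K := by
    refine Nat.card_congr
      { toFun := fun z => ⟨m⁻¹ * z.1, z.2⟩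
        invFun := fun k => ⟨m * k.1, by simpa using k.2⟩
        left_inv := by intro z; apply Subtype.ext; simp
        right_inv := by intro k; apply Subtype.ext; simp }
  obtain ⟨z, hz⟩ := hP.nonempty_fixed_point_of_prime_not_dvd_card T (by rw [hcard]; exact hK)
  refine ⟨z.1, z.2, ?_⟩
  intro x hx
  have := hz ⟨x, hx⟩
  exact congrArg Subtype.val this

/-- **Keystone 137812 (K-S1378-L13)**: step 13. -/
theorem Cfg.cent_le_beta {M N S : Subgroup G} {p : ℕ} (c : Cfg M N S p) {P : Subgroup G} {r : ℕ}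
    (hr : r.Prime) (hPc : Nat.card P = r) (hrM : r ∉ sigma M) (hPD : P ≤ M ⊓ N)
    (hCD : M ⊓ N ⊓ Subgroup.centralizer (P : Set G) ≤ P) :
    ∀ q : ℕ, q.Prime → q ∣ Nat.card ↥(CP M P) → q ∈ beta M := by
  obtain ⟨hG, hM, hN, hnc, hpM, hpN, hS, hNS⟩ := c
  have : Fact p.Prime := ⟨hpM.1⟩
  have : Fact r.Prime := ⟨hr⟩
  have hMN : M ≠ N := fun h => hnc 1 (by rw [cj_one]; exact h)
  have hSp : IsPGroup p S := hS.2.1
  have hSN : S ≤ N := (Subgroup.le_normalizer.trans hNS).trans inf_le_right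
  -- `S ≠ ⊥`
  have hS1 : S ≠ ⊥ := by
    intro h0
    have hpG : p ∣ Nat.card G := hpM.2.1.trans (Subgroup.card_subgroup_dvd_card M)
    obtain ⟨x, hx⟩ := exists_prime_orderOf_dvd_card' p hpG
    have hZp : IsPGroup p (Subgroup.zpowers x) :=
      IsPGroup.of_card (n := 1) (by rw [Nat.card_zpowers, hx, pow_one])
    have h1 := hS.2.2 (Subgroup.zpowers x) le_top hZp (by rw [h0]; exact bot_le)
    rw [h0] at h1
    have h2 : x = 1 := by
      have : x ∈ (⊥ : Subgroup G) := h1 ▸ Subgroup.mem_zpowers x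
      exact Subgroup.mem_bot.mp this
    rw [h2, orderOf_one] at hx
    exact hpM.1.one_lt.ne hx
  have h7 := Cfsg.Agent.Lib.Helper83.BG134.eq_beta_mul_inf hG hN hM hMN hpN hpM hSp hS1 hSN
    (hNS.trans inf_le_left)
  set B := piCoreOf (beta M) M with hB
  have hBn : M ≤ Subgroup.normalizer (B : Set G) :=
    Cfsg.Agent.Lib.Helper31.le_normalizer_piCoreOf (beta M) M
  have hBM : B ≤ M := Cfsg.Agent.Lib.Helper31.piCoreOf_le (beta M) M
  have hBπ : ∀ q : ℕ, q.Prime → q ∣ Nat.card B → q ∈ beta M :=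
    Cfsg.Agent.Lib.Helper31.piCoreOf_pi (beta M) M
  -- `r ∤ |B|`
  have hrB : ¬ r ∣ Nat.card B := by
    intro h
    have hβ := hBπ r hr h
    exact hrM (Cfsg.Agent.Lib.Helper13.BG12.mem_sigma_of_not_pRankLE_two hG hM hr hβ.1.2)
  set K := B ⊓ (M ⊓ N) with hK
  have hrK : ¬ r ∣ Nat.card K := fun h => hrB (h.trans (Subgroup.card_dvd_of_le inf_le_left))
  have hDK : M ⊓ N ≤ Subgroup.normalizer (K : Set G) := by
    intro x hx
    rw [Subgroup.mem_normalizer_iff]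
    intro k
    have h1 := Subgroup.mem_normalizer_iff.mp (hBn hx.1) k
    constructor
    · intro hk
      exact ⟨h1.mp hk.1, (M ⊓ N).mul_mem ((M ⊓ N).mul_mem hx hk.2) ((M ⊓ N).inv_mem hx)⟩
    · intro hk
      refine ⟨h1.mpr hk.1, ?_⟩
      have : k = x⁻¹ * (x * k * x⁻¹) * x := by group
      rw [this]
      exact (M ⊓ N).mul_mem ((M ⊓ N).mul_mem ((M ⊓ N).inv_mem hx) hk.2) hx
  have hPr : IsPGroup r P := IsPGroup.of_card (n := 1) (by rw [hPc, pow_one])
  have hPM : P ≤ M := hPD.trans inf_le_left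
  -- the key inclusion
  have key : CP M P ≤ B ⊔ P := by
    intro y hy
    have hyM : y ∈ M := Cfsg.Agent.Lib.Helper71.BG11.sigmaCore_le M hy.1
    have hyc : ∀ x ∈ P, x * y = y * x := fun x hx => Subgroup.mem_centralizer_iff.mp hy.2 x hx
    obtain ⟨b, hb, m, hm, rfl⟩ := h7 y hyM
    have hmD : m ∈ M ⊓ N := ⟨hm.2, hm.1⟩
    have hmK : ∀ x ∈ P, m⁻¹ * (x * m * x⁻¹) ∈ K := by
      intro x hx
      have hxD : x ∈ M ⊓ N := hPD hx
      have e1 : x * m * x⁻¹ = (x * b * x⁻¹)⁻¹ * (b * m) := by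
        have := hyc x hx
        have e : x * m * x⁻¹ = (x * b * x⁻¹)⁻¹ * (x * (b * m)) * x⁻¹ := by group
        rw [e, this]; group
      refine ⟨?_, ?_⟩
      · rw [e1]
        have h1 : x * b * x⁻¹ ∈ B := (Subgroup.mem_normalizer_iff.mp (hBn hxD.1) b).mp hb
        have h2 : (x * b * x⁻¹)⁻¹ * b ∈ B := B.mul_mem (B.inv_mem h1) hb
        have e : m⁻¹ * ((x * b * x⁻¹)⁻¹ * (b * m)) = m⁻¹ * ((x * b * x⁻¹)⁻¹ * b) * m⁻¹⁻¹ := by group
        rw [e]
        exact (Subgroup.mem_normalizer_iff.mp (hBn (M.inv_mem hmD.1)) _).mp h2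
      · exact (M ⊓ N).mul_mem ((M ⊓ N).inv_mem hmD)
          ((M ⊓ N).mul_mem ((M ⊓ N).mul_mem hxD hmD) ((M ⊓ N).inv_mem hxD))
    obtain ⟨m', hm'K, hm'c⟩ := exists_fixed_in_coset P K hPr (hPD.trans hDK) hrK m hmK
    have hm'D : m' ∈ M ⊓ N := by
      have : m' = m * (m⁻¹ * m') := by group
      rw [this]
      exact (M ⊓ N).mul_mem hmD hm'K.2
    have hm'P : m' ∈ P := by
      apply hCD
      refine ⟨hm'D, ?_⟩
      show m' ∈ Subgroup.centralizer (P : Set G)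
      rw [Subgroup.mem_centralizer_iff]
      intro x hx
      have := hm'c x hx
      calc x * m' = (x * m' * x⁻¹) * x := by group
        _ = m' * x := by rw [this]
    have hd : m⁻¹ * m' ∈ B := hm'K.1
    have e : b * m = (b * (m' * (m⁻¹ * m')⁻¹ * m'⁻¹)) * m' := by group
    rw [e]
    refine Subgroup.mul_mem_sup (B.mul_mem hb ?_) hm'P
    exact (Subgroup.mem_normalizer_iff.mp (hBn (hPM hm'P)) _).mp (B.inv_mem hd)
  intro q hq hqd
  have hqσ : q ∈ sigma M :=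
    Cfsg.Agent.Lib.Helper71.BG11.sigmaCore_pi hG hM hq (hqd.trans (Subgroup.card_dvd_of_le inf_le_left))
  have hqr : q ≠ r := fun h => hrM (h ▸ hqσ)
  have h1 : q ∣ Nat.card ↥(B ⊔ P) := hqd.trans (Subgroup.card_dvd_of_le key)
  have h2 : Nat.card ↥(B ⊔ P) ∣ Nat.card B * Nat.card P :=
    Cfsg.Agent.Lib.Helper11.BG134.card_sup_dvd_of_le_normalizer B P (hPM.trans hBn)
  rw [hPc] at h2
  rcases (Nat.Prime.dvd_mul hq).mp (h1.trans h2) with h | h
  · exact hBπ q hq h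
  · exact absurd ((Nat.prime_dvd_prime_iff_eq hq hr).mp h) hqr

end Cfsg.Agent.Lib.Helper70.BG139
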