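import Mathlib
import Cfsg.Agent.Lib.Helper15.BG139Defs
import Cfsg.Agent.Lib.Helper31.BG12a
import Cfsg.Agent.Lib.Helper71.BG1310Glue

/-!
# K-S1353-D1 (keystone 135306): `tau1_nonregular_of_tau3`, as a corollary of helper71's pack

`E₃` nonregular (`C_{Mσ}(S₀) ≠ 1`, `s ∈ τ₃(M)`) ⟹ every subgroup `P ≤ E` of prime order
`p ∈ τ₁(M)` is nonregular: take Hall subgroups `E₁ ≥ P`, `E₃ ≥ S₀` of `E`; then `NR M E E₁ E₃`
holds (13.3(b): `C_{Mσ}(S₀) = C_{Mσ}(E₃)`) and `NR.C1_ne_bot` gives `C_{Mσ}(E₁) ≠ 1`.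
The hypotheses `hpa`, `hD6` of the spec are not needed.
-/

set_option autoImplicit false
set_option linter.unusedSectionVars false
set_option linter.unusedVariables false

namespace Cfsg.Agent.Lib.Helper70.BG14

open Cfsg Cfsg.Agent.Lib.Helper55 Cfsg.Agent.Lib.Helper31.BG134 Cfsg.Agent.Lib.Helper15.BG139

variable {G : Type*} [Group G] [Finite G]

theorem tau1_nonregular_of_tau3 (hG : IsMinSimpleOddOrder G) {M E S₀ P : Subgroup G}
    (hM : IsCoatom M) (hE : IsComplIn E (sigmaCore M) M) {s : ℕ} (hs : s ∈ tau3 M)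
    (hS₀E : S₀ ≤ E) (hS₀c : Nat.card S₀ = s)
    (hC₃ : sigmaCore M ⊓ Subgroup.centralizer (S₀ : Set G) ≠ ⊥) {p : ℕ} (hp : p ∈ tau1 M)
    (hPE : P ≤ E) (hPc : Nat.card P = p)
    (hpa : ∀ L EL EL₁ : Subgroup G, IsCoatom L → IsComplIn EL (sigmaCore L) L →
      IsPiHallOf (tau1 L) EL₁ EL → PrimeAct L EL₁)
    (hD6 : ∀ (H : Subgroup G) (p' : ℕ) (P' : Subgroup G), IsCoatom H → (∀ g : G, cj g M ≠ H) →
      E ≤ H → E ≤ Subgroup.normalizer (S₀ : Set G) → Subgroup.normalizer (S₀ : Set G) ≤ H →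
      s ∈ tau2 H → p'.Prime → p' ∉ sigma H → P' ≤ E → Nat.card P' = p' →
      sigmaCore M ⊓ Subgroup.centralizer (S₀ : Set G) ≤ Subgroup.centralizer (P' : Set G)) :
    sigmaCore M ⊓ Subgroup.centralizer (P : Set G) ≠ ⊥ := by
  have hsp : s.Prime := hs.1
  have hpp : p.Prime := hp.1
  have hEtop : E ≠ ⊤ := fun h => hM.1 (top_le_iff.mp (h ▸ hE.1))
  have hsolv : Group.IsSolvable ↥E := ms_solvable hG hEtop
  have hS₀1 : S₀ ≠ ⊥ := by
    intro h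
    rw [h, Subgroup.card_bot] at hS₀c
    exact hsp.one_lt.ne hS₀c
  obtain ⟨E₃, hE₃, hS₀E₃⟩ :=
    Cfsg.Agent.Lib.Helper54.BG134.exists_isPiHallOf_ge hsolv (tau3 M) hS₀E (by
      intro r hr hrd
      rw [hS₀c] at hrd
      rw [(Nat.prime_dvd_prime_iff_eq hr hsp).mp hrd]
      exact hs)
  obtain ⟨E₁, hE₁, hPE₁⟩ :=
    Cfsg.Agent.Lib.Helper54.BG134.exists_isPiHallOf_ge hsolv (tau1 M) hPE (by
      intro r hr hrd
      rw [hPc] at hrd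
      rw [(Nat.prime_dvd_prime_iff_eq hr hpp).mp hrd]
      exact hp)
  have hE₃1 : E₃ ≠ ⊥ := by
    intro h
    apply hS₀1
    rw [eq_bot_iff, ← h]
    exact hS₀E₃
  have hpa3 : CP M S₀ = CP M E₃ :=
    Cfsg.Agent.Lib.Helper90.BG1310.prime_action_tau3 hG hM hE hE₃ hS₀E₃ hS₀1
  have c : Cfsg.Agent.Lib.Helper71.BG1310.NR M E E₁ E₃ :=
    ⟨hG, hM, hE, hE₁, hE₃, hE₃1, by rw [← hpa3]; exact hC₃⟩
  have hC1 : CP M E₁ ≠ ⊥ := Cfsg.Agent.Lib.Helper71.BG1310.NR.C1_ne_bot c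
  intro hbot
  apply hC1
  rw [eq_bot_iff, ← hbot]
  exact inf_le_inf_left _ (Subgroup.centralizer_le (by exact_mod_cast hPE₁))

end Cfsg.Agent.Lib.Helper70.BG14
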