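import Mathlib
import Cfsg.Agent.Lib.Helper70.BQSDefs
import Cfsg.Agent.Lib.Helper14.BQSB1
import Cfsg.Agent.Lib.Helper03.BQSB3
import Cfsg.Agent.Lib.Helper80.BQSB4
import Cfsg.Agent.Lib.Helper18.BQSB57
import Cfsg.Agent.Lib.Helper58.BQSB6
import Cfsg.Agent.Lib.Helper26.BQSB8
import Cfsg.Agent.Lib.Helper80.BQSB910

/-! PACK K-BQS (S3912): glue.  Solvable + property B (abelian subgroups of equal order are conjugate) implies that
every quotient has property B.  Leaves: B1 helper14, B2 helper63 (used inside B3), B3 helper3 (and helper80), B4 helper80 (and helper81),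
B57 helper18, B6 helper58 (and helper75), B8 helper26, B9 + B10 helper80 (and helper63); on top of S3908, S3909 (helper69) and S3911 (pack K-BQ, helper53). -/

set_option autoImplicit false

namespace Cfsg.Agent.Lib.Helper70.BQSGlue

open Cfsg Cfsg.Agent.Lib.Helper70.BQS

/-- (STAR) for a normal elementary abelian `r`-subgroup. -/
theorem star {G : Type*} [Group G] [Finite G] (hsol : Group.IsSolvable G) (hB : PropB G)
    (s3908 : ∀ P : Sylow 2 G, IsCyclic ↥(P : Subgroup G) ∨ Cfsg.IsElementaryAbelian 2 (P : Subgroup G) ∨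
      ∃ k : ℕ, Nonempty (↥(P : Subgroup G) ≃* QuaternionGroup (2 ^ k)))
    (s3909 : ∀ (M : Subgroup G) [M.Normal], (∀ a : G, (∃ m ∈ M, orderOf m = orderOf a) → a ∈ M) ∧
      ∀ (p t : ℕ) [Fact p.Prime], 2 ≤ t → Nat.card ↥M = p ^ t → Cfsg.IsElementaryAbelian p M →
        ∀ P : Sylow p G, (P : Subgroup G) = M)
    (s3911 : ∀ (M : Subgroup G) [M.Normal], Odd (Nat.card ↥M) → PropB (G ⧸ M))
    (M : Subgroup G) [M.Normal] (r t : ℕ) (hr : r.Prime) (hcard : Nat.card ↥M = r ^ t)
    (hel : Cfsg.IsElementaryAbelian r M) : PropB (G ⧸ M) := by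
  by_cases hr2 : r = 2
  · subst hr2
    by_cases ht : 2 ≤ t
    · -- `M` is the Sylow 2-subgroup
      have hsyl := (s3909 M).2 2 t ht hcard hel
      obtain ⟨P⟩ : Nonempty (Sylow 2 G) := inferInstance
      have hPM : (P : Subgroup G) = M := hsyl P
      apply Cfsg.Agent.Lib.Helper03.BQS.propB_quot_of_coprime hB M
      have := P.card_coprime_index
      rwa [hPM] at this
    · -- `card M ∣ 2`
      have ht' : t = 0 ∨ t = 1 := by omega
      rcases ht' with rfl | rfl
      · -- `M = ⊥`
        have : Odd (Nat.card ↥M) := by rw [hcard]; decide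
        exact s3911 M this
      · have hM2 : Nat.card ↥M = 2 := by simpa using hcard
        obtain ⟨S⟩ : Nonempty (Sylow 2 G) := inferInstance
        rcases s3908 S with hc | he | ⟨k, ⟨e⟩⟩
        · exact Cfsg.Agent.Lib.Helper18.BQS.propB_quot_of_card_two hB M hM2 S (Cfsg.Agent.Lib.Helper80.BQS.smallComm_of_isCyclic S hc)
        · exact Cfsg.Agent.Lib.Helper18.BQS.propB_quot_of_card_two hB M hM2 S
            (Cfsg.Agent.Lib.Helper26.BQS.smallComm_of_card_dvd_eight S (Cfsg.Agent.Lib.Helper80.BQS.card_dvd_eight_of_elementary M hM2 (s3909 M).1 S he))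
        · have hcardS : Nat.card ↥(S : Subgroup G) = 4 * 2 ^ k := by
            have : NeZero (2 ^ k) := ⟨by positivity⟩
            rw [Nat.card_congr e.toEquiv, Nat.card_eq_fintype_card, QuaternionGroup.card]
          rcases Nat.eq_zero_or_pos k with rfl | hk
          · exact Cfsg.Agent.Lib.Helper18.BQS.propB_quot_of_card_two hB M hM2 S
              (Cfsg.Agent.Lib.Helper26.BQS.smallComm_of_card_dvd_eight S (by rw [hcardS]; norm_num))
          · have hk1 : k = 1 := Cfsg.Agent.Lib.Helper58.BQS.quat_k_eq_one hsol hB S k hk e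
            subst hk1
            exact Cfsg.Agent.Lib.Helper18.BQS.propB_quot_of_card_two hB M hM2 S
              (Cfsg.Agent.Lib.Helper26.BQS.smallComm_of_card_dvd_eight S (by rw [hcardS]; norm_num))
  · -- odd order
    apply s3911 M
    rw [hcard]
    have : Odd r := hr.odd_of_ne_two hr2
    exact this.pow

/-- main induction -/
theorem main_aux.{u}
    (s3908 : ∀ (G : Type u) [Group G] [Finite G], PropB G → ∀ P : Sylow 2 G,
      IsCyclic ↥(P : Subgroup G) ∨ Cfsg.IsElementaryAbelian 2 (P : Subgroup G) ∨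
      ∃ k : ℕ, Nonempty (↥(P : Subgroup G) ≃* QuaternionGroup (2 ^ k)))
    (s3909 : ∀ (G : Type u) [Group G] [Finite G], PropB G → ∀ (M : Subgroup G) [M.Normal],
      (∀ a : G, (∃ m ∈ M, orderOf m = orderOf a) → a ∈ M) ∧
      ∀ (p t : ℕ) [Fact p.Prime], 2 ≤ t → Nat.card ↥M = p ^ t → Cfsg.IsElementaryAbelian p M →
        ∀ P : Sylow p G, (P : Subgroup G) = M)
    (s3911 : ∀ (G : Type u) [Group G] [Finite G], PropB G → ∀ (M : Subgroup G) [M.Normal],
      Odd (Nat.card ↥M) → PropB (G ⧸ M)) :
    ∀ (n : ℕ) (G : Type u) [Group G] [Finite G], Nat.card G = n → Group.IsSolvable G → PropB G →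
      ∀ (M : Subgroup G) [M.Normal], PropB (G ⧸ M) := by
  intro n
  induction n using Nat.strong_induction_on with
  | _ n ih =>
    intro G _ _ hn hsol hB M _
    by_cases hM : M = ⊥
    · subst hM
      exact Cfsg.Agent.Lib.Helper14.BQS.propB_of_mulEquiv (QuotientGroup.quotientBot (G := G)).symm hB
    · obtain ⟨M₁, hle, hnorm, hne, r, t, hr, hcard, hel⟩ :=
        Cfsg.Agent.Lib.Helper80.BQS.exists_normal_elementary_abelian_le hsol M hM
      haveI := hnorm
      have hstar : PropB (G ⧸ M₁) :=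
        star hsol hB (s3908 G hB) (fun M' _ => s3909 G hB M') (fun M' _ h => s3911 G hB M' h)
          M₁ r t hr hcard hel
      have hsolq : Group.IsSolvable (G ⧸ M₁) := by
        haveI := hsol
        infer_instance
      have hlt : Nat.card (G ⧸ M₁) < n := by
        rw [← hn, ← Subgroup.index_eq_card, ← M₁.card_mul_index]
        have h1 : 1 < Nat.card ↥M₁ := by
          rw [Subgroup.one_lt_card_iff_ne_bot]
          exact hne
        have h2 : 0 < M₁.index := Nat.pos_of_ne_zero Subgroup.index_ne_zero_of_finite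
        nlinarith
      have key := ih _ hlt (G ⧸ M₁) rfl hsolq hstar (M.map (QuotientGroup.mk' M₁))
      exact Cfsg.Agent.Lib.Helper14.BQS.propB_of_mulEquiv (QuotientGroup.quotientQuotientEquivQuotient M₁ M hle) key

end Cfsg.Agent.Lib.Helper70.BQSGlue
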