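import Mathlib
import Cfsg.Prelude
import Cfsg.Agent.Lib.Helper70.CycSylLocal
import Cfsg.Agent.S5748

/-!
# S4016: the case `C_G(P) = P` (the group is a CT-group)
-/

namespace Cfsg.Agent.Lib.Helper70.CycSyl

open Subgroup
open scoped Pointwise

universe u

variable {G : Type u} [Group G] [Finite G] {p : ℕ} [hp : Fact p.Prime]

/-- in case I the centralizer of a Sylow `p`-subgroup is the Sylow subgroup -/
theorem SCtx.centralizer_sylow_le (h : SCtx p G)
    (hI : ∀ (P : Sylow p G) (x : G), x ∈ centralizer ((P : Subgroup G) : Set G) →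
      (orderOf x).Coprime p → x = 1) (Q : Sylow p G) :
    centralizer ((Q : Subgroup G) : Set G) ≤ (Q : Subgroup G) := by
  intro c hc
  obtain ⟨a, b, hab', ha, hb, ⟨k, hk⟩, hcop⟩ := Cfsg.Agent.Lib.Helper09.SqF.primary_dec c p hp.out
  have hz : zpowers c ≤ centralizer ((Q : Subgroup G) : Set G) := by rw [zpowers_le]; exact hc
  have haQ : a ∈ (Q : Subgroup G) :=
    mem_sylow_of_mem_normalizer Q (Subgroup.centralizer_le_normalizer _ (hz ha)) hk
  have hb1 : b = 1 := hI Q b (hz hb) hcop
  rw [← hab', hb1, mul_one]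
  exact haQ

/-- in case I all centralizers of nonidentity elements are abelian -/
theorem SCtx.centralizer_comm (h : SCtx p G)
    (hI : ∀ (P : Sylow p G) (x : G), x ∈ centralizer ((P : Subgroup G) : Set G) →
      (orderOf x).Coprime p → x = 1) {a : G} (ha : a ≠ 1) :
    ∀ b ∈ centralizer ({a} : Set G), ∀ c ∈ centralizer ({a} : Set G), b * c = c * b := by
  by_cases hpa : p ∣ orderOf a
  · -- u = a^(n/p) of order p
    obtain ⟨m, hm⟩ := hpa
    have hn0 : orderOf a ≠ 0 := (orderOf_pos a).ne'
    have hm0 : m ≠ 0 := by rintro rfl; rw [mul_zero] at hm; exact hn0 hm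
    have hu : orderOf (a ^ m) = p := by
      rw [orderOf_pow' _ hm0, hm, Nat.gcd_eq_right (Dvd.intro_left _ rfl),
        Nat.mul_div_cancel _ (Nat.pos_of_ne_zero hm0)]
    obtain ⟨Q, hQ⟩ := h.exists_sylow_of_orderOf (g := a ^ m) (k := 1) (by rw [hu, pow_one])
    have hu1 : a ^ m ≠ 1 := by
      intro h1; rw [h1, orderOf_one] at hu; exact hp.out.one_lt.ne hu
    have hle : centralizer ({a} : Set G) ≤ (Q : Subgroup G) := by
      intro x hx
      apply h.centralizer_sylow_le hI Q
      apply h.centralizer_le Q hQ hu1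
      rw [mem_centralizer_singleton_iff] at hx ⊢
      exact ((show Commute x a from hx).pow_right m).eq
    intro b hb c hc
    exact h.sylow_comm Q b (hle hb) c (hle hc)
  · -- a is a p'-element: its centralizer is a p'-group
    have hcop : (orderOf a).Coprime p := ((Nat.Prime.coprime_iff_not_dvd hp.out).mpr hpa).symm
    have hnd : ¬ p ∣ Nat.card (centralizer ({a} : Set G)) := by
      intro hd
      obtain ⟨u, hu⟩ := exists_prime_orderOf_dvd_card' (G := centralizer ({a} : Set G)) p hd
      have hu' : orderOf (u : G) = p := (Subgroup.orderOf_coe u).trans hu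
      obtain ⟨Q, hQ⟩ := h.exists_sylow_of_orderOf (g := (u : G)) (k := 1) (by rw [hu', pow_one])
      have hu1 : (u : G) ≠ 1 := by
        intro h1; rw [h1, orderOf_one] at hu'; exact hp.out.one_lt.ne hu'
      have haC : a ∈ centralizer ((Q : Subgroup G) : Set G) := by
        apply h.centralizer_le Q hQ hu1
        rw [mem_centralizer_singleton_iff]
        exact (mem_centralizer_singleton_iff.mp u.2).symm
      exact ha (hI Q a haC hcop)
    have := h.hyp.2 _ hnd
    intro b hb c hc
    exact congrArg Subtype.val (this.is_comm.comm (⟨b, hb⟩ : centralizer ({a} : Set G)) ⟨c, hc⟩)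

/-- Case I is impossible, given the `PSL₂(2^f)` keystone. -/
theorem SCtx.false_of_caseI (h : SCtx p G)
    (hI : ∀ (P : Sylow p G) (x : G), x ∈ centralizer ((P : Subgroup G) : Set G) →
      (orderOf x).Coprime p → x = 1)
    (hKC : ∀ (F : Type) [Field F] [Fintype F] (f : ℕ), 2 ≤ f → Fintype.card F = 2 ^ f →
      ∃ H : Subgroup (Matrix.ProjectiveSpecialLinearGroup (Fin 2) F),
        ¬ p ∣ Nat.card H ∧ ¬ IsMulCommutative H) : False := by
  have := h.simple
  have hCT : ∀ a b c : G, a ≠ 1 → b ≠ 1 → c ≠ 1 → Commute a b → Commute b c → Commute a c := by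
    intro a b c _ hb _ hab hbc
    have h1 : a ∈ centralizer ({b} : Set G) := by
      rw [mem_centralizer_singleton_iff]; exact hab.eq
    have h2 : c ∈ centralizer ({b} : Set G) := by
      rw [mem_centralizer_singleton_iff]; exact hbc.eq.symm
    exact h.centralizer_comm hI hb a h1 c h2
  obtain ⟨F, _, _, f, hf, hF, ⟨e⟩⟩ := (Cfsg.Agent.S5748.result h.nc).mp hCT
  obtain ⟨H, hH1, hH2⟩ := hKC F f hf hF
  -- transport H to G
  let H' : Subgroup G := H.map e.symm.toMonoidHom
  let e2 : H ≃* H' := H.equivMapOfInjective e.symm.toMonoidHom e.symm.injective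
  have hcard : Nat.card H' = Nat.card H := Nat.card_congr e2.symm.toEquiv
  have hab := h.hyp.2 H' (by rw [hcard]; exact hH1)
  apply hH2
  refine ⟨⟨fun a b => ?_⟩⟩
  apply e2.injective
  rw [map_mul, map_mul]
  exact hab.is_comm.comm _ _

end Cfsg.Agent.Lib.Helper70.CycSyl
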