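import Mathlib
import Cfsg.Prelude
import Cfsg.Agent.Lib.Helper70.CycSylLocal
import Cfsg.Agent.Lib.Helper70.CycSylK
import Cfsg.Agent.Lib.Helper18.CycSylGH

/-!
# S4016: `p = 3` and `r = 2`
-/

namespace Cfsg.Agent.Lib.Helper70.CycSyl

open Subgroup
open scoped Pointwise
open Cfsg.Agent.Lib.Helper18.CycSyl

universe u

variable {G : Type u} [Group G] [Finite G] {p : ℕ} [hp : Fact p.Prime]

/-- arithmetic: `r ∣ p - 1` and `p ∣ r² - 1` force `p = 3`, `r = 2`. -/
theorem arith_three_two {p r : ℕ} (hp : p.Prime) (hr : r.Prime) (h1 : r ∣ p - 1)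
    (h2 : r ^ 2 ≡ 1 [MOD p]) : p = 3 ∧ r = 2 := by
  have hp2 : 2 ≤ p := hp.two_le
  have hr2 : 2 ≤ r := hr.two_le
  have hrp : r ≤ p - 1 := Nat.le_of_dvd (by omega) h1
  -- p ∣ r^2 - 1 = (r-1)(r+1)
  have hdvd : p ∣ r ^ 2 - 1 := (Nat.modEq_iff_dvd' (by nlinarith)).mp h2.symm
  have hfac : r ^ 2 - 1 = (r - 1) * (r + 1) := by
    have : r ^ 2 = (r - 1) * (r + 1) + 1 := by
      obtain ⟨k, rfl⟩ : ∃ k, r = k + 1 := ⟨r - 1, by omega⟩
      simp; ring
    omega
  rw [hfac] at hdvd
  rcases (Nat.Prime.dvd_mul hp).mp hdvd with h3 | h3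
  · exfalso
    have := Nat.le_of_dvd (by omega) h3
    omega
  · have hle := Nat.le_of_dvd (by omega) h3
    have hpr : p = r + 1 := by omega
    -- r and r+1 both prime
    rcases Nat.Prime.eq_two_or_odd hr with h4 | h4
    · subst h4; exact ⟨hpr, rfl⟩
    · exfalso
      rcases Nat.Prime.eq_two_or_odd hp with h5 | h5
      · omega
      · omega

/-- K-I -/
theorem three_two (h : SCtx p G) (P : Sylow p G) {x : G}
    (hxC : x ∈ centralizer ((P : Subgroup G) : Set G)) {r : ℕ} [hr : Fact r.Prime] (hxr : orderOf x = r)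
    (hrp : r ≠ p) : p = 3 ∧ r = 2 := by
  classical
  have hx1 : x ≠ 1 := by
    intro h1; rw [h1, orderOf_one] at hxr; exact hr.out.one_lt.ne hxr
  have hcopx : (orderOf x).Coprime p := by
    rw [hxr]; exact (Nat.coprime_primes hr.out hp.out).mpr hrp
  obtain ⟨R, g, hxR, hpA, hgp, hgN, hfpf⟩ := exists_fpf_pelement h P hxC hxr hrp
  set A := centralizer ((R : Subgroup G) : Set G) with hA
  have hAab := h.hyp.2 A hpA
  have hAcomm : ∀ a ∈ A, ∀ b ∈ A, a * b = b * a := by
    intro a ha b hb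
    exact congrArg Subtype.val (hAab.is_comm.comm (⟨a, ha⟩ : A) ⟨b, hb⟩)
  have hpR : ¬ p ∣ Nat.card (R : Subgroup G) := by
    obtain ⟨n, hn⟩ := IsPGroup.iff_card.mp R.isPGroup'
    rw [hn]
    intro hd
    exact hrp ((Nat.prime_dvd_prime_iff_eq hp.out hr.out).mp (hp.out.dvd_of_dvd_pow hd)).symm
  have hRab := h.hyp.2 (R : Subgroup G) hpR
  have hRA : (R : Subgroup G) ≤ A := by
    intro a ha
    rw [hA, mem_centralizer_iff]
    intro b hb
    exact congrArg Subtype.val (hRab.is_comm.comm (⟨b, hb⟩ : (R : Subgroup G)) ⟨a, ha⟩)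
  have hxA : x ∈ A := hRA hxR
  have hCx := centralizer_eq_normalizer h P hxC hx1 hcopx
  have hAN : A ≤ normalizer ((P : Subgroup G) : Set G) := by
    intro a ha
    rw [← hCx, mem_centralizer_singleton_iff]
    exact hAcomm a ha x hxA
  have hAcop : ∀ a ∈ A, (orderOf a).Coprime p := by
    intro a ha
    have := orderOf_dvd_natCard (⟨a, ha⟩ : A)
    rw [Subgroup.orderOf_mk] at this
    exact Nat.Coprime.coprime_dvd_left this ((Nat.Prime.coprime_iff_not_dvd hp.out).mpr hpA).symm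
  have hgconj : ∀ a ∈ A, g * a * g⁻¹ ∈ A := fun a ha => (mem_normalizer_iff.mp hgN a).mp ha
  -- the subgroup E of elements of A of order dividing r
  let E : Subgroup G :=
    { carrier := {y | y ∈ A ∧ y ^ r = 1}
      mul_mem' := by
        rintro a b ⟨ha, ha'⟩ ⟨hb, hb'⟩
        refine ⟨mul_mem ha hb, ?_⟩
        rw [(show Commute a b from hAcomm a ha b hb).mul_pow, ha', hb', one_mul]
      one_mem' := ⟨one_mem _, one_pow _⟩
      inv_mem' := by
        rintro a ⟨ha, ha'⟩
        exact ⟨inv_mem ha, by rw [inv_pow, ha', inv_one]⟩ }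
  have hE : ∀ y, y ∈ E ↔ y ∈ A ∧ y ^ r = 1 := fun y => Iff.rfl
  have hgE : ∀ y ∈ E, g * y * g⁻¹ ∈ E := by
    intro y hy
    rw [hE] at hy ⊢
    refine ⟨hgconj y hy.1, ?_⟩
    rw [conj_pow, hy.2]; group
  let E0 : Subgroup G := E ⊓ centralizer ((P : Subgroup G) : Set G)
  have hxE0 : x ∈ E0 := by
    refine Subgroup.mem_inf.mpr ⟨(hE x).mpr ⟨hxA, ?_⟩, hxC⟩
    rw [← hxr]; exact pow_orderOf_eq_one x
  -- κ
  obtain ⟨κ, hκmul, hκ0, hκ1⟩ := exists_kappa h P
  have hEN : ∀ y ∈ E, y ∈ normalizer ((P : Subgroup G) : Set G) := fun y hy => hAN ((hE y).mp hy).1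
  have hκone : κ 1 = 1 := (hκ1 1 (one_mem _)).mpr (one_mem _)
  have hκpow : ∀ y ∈ E, (κ y) ^ r = 1 := by
    intro y hy
    have hyN := hEN y hy
    have hpow : ∀ n : ℕ, κ (y ^ n) = (κ y) ^ n := by
      intro n
      induction n with
      | zero => simp [hκone]
      | succ n ih =>
        rw [pow_succ, hκmul _ (pow_mem hyN n) _ hyN, ih, pow_succ]
    rw [← hpow, ((hE y).mp hy).2, hκone]
  have hκinv : ∀ y ∈ E, κ y⁻¹ * κ y = 1 := by
    intro y hy
    rw [← hκmul _ (inv_mem (hEN y hy)) _ (hEN y hy), inv_mul_cancel, hκone]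
  -- (a) |E| ≤ r * |E0|
  let S : Finset (ZMod p) := Polynomial.nthRootsFinset r (1 : ZMod p)
  have hScard : S.card ≤ r := by
    simp only [S]
    rw [Polynomial.nthRootsFinset_def]
    exact (Multiset.toFinset_card_le _).trans (Polynomial.card_nthRoots r 1)
  have hmemS : ∀ y ∈ E, κ y ∈ S := by
    intro y hy
    simp only [S]
    rw [Polynomial.mem_nthRootsFinset hr.out.pos]
    exact hκpow y hy
  let rep : ZMod p → G := fun s => if hs : ∃ y ∈ E, κ y = s then Classical.choose hs else 1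
  have hrep : ∀ y ∈ E, rep (κ y) ∈ E ∧ κ (rep (κ y)) = κ y := by
    intro y hy
    have hs : ∃ y' ∈ E, κ y' = κ y := ⟨y, hy, rfl⟩
    simp only [rep, dif_pos hs]
    exact Classical.choose_spec hs
  have hfib : ∀ y ∈ E, (rep (κ y))⁻¹ * y ∈ E0 := by
    intro y hy
    obtain ⟨h1, h2⟩ := hrep y hy
    refine Subgroup.mem_inf.mpr ⟨mul_mem (inv_mem h1) hy, ?_⟩
    rw [← hκ1 _ (mul_mem (inv_mem (hEN _ h1)) (hEN y hy)), hκmul _ (inv_mem (hEN _ h1)) _ (hEN y hy)]
    calc κ (rep (κ y))⁻¹ * κ y = κ (rep (κ y))⁻¹ * κ (rep (κ y)) := by rw [h2]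
      _ = 1 := hκinv _ h1
  have hcardE : Nat.card E ≤ r * Nat.card E0 := by
    let φ : E → S × E0 := fun y => (⟨κ y, hmemS y y.2⟩, ⟨(rep (κ y))⁻¹ * y, hfib y y.2⟩)
    have hφ : Function.Injective φ := by
      intro y y' hyy'
      simp only [φ, Prod.mk.injEq, Subtype.mk.injEq] at hyy'
      obtain ⟨h1, h2⟩ := hyy'
      rw [h1] at h2
      exact Subtype.ext (mul_left_cancel h2)
    calc Nat.card E ≤ Nat.card (S × E0) := Nat.card_le_card_of_injective φ hφ
      _ = Nat.card S * Nat.card E0 := Nat.card_prod _ _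
      _ ≤ r * Nat.card E0 := by
        apply Nat.mul_le_mul_right
        rw [Nat.card_eq_fintype_card, Fintype.card_coe]
        exact hScard
  -- (b) E0 ∩ g E0 g⁻¹ = 1
  have hdisj : ∀ z ∈ E0, ∀ z' ∈ E0, z = g * z' * g⁻¹ → z = 1 := by
    intro z hz z' hz' hzz'
    by_contra hz1
    have hzcop : (orderOf z).Coprime p := hAcop z ((hE z).mp hz.1).1
    -- z centralizes g • P
    have hzgP : z ∈ centralizer (((g • P : Sylow p G) : Subgroup G) : Set G) := by
      rw [mem_centralizer_iff]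
      intro v hv
      have hv2 : v ∈ MulAut.conj g • (P : Subgroup G) := hv
      rw [mem_pointwise_smul_iff_inv_smul_mem] at hv2
      have hv' : g⁻¹ * v * g ∈ (P : Subgroup G) := by simpa [MulAut.smul_def] using hv2
      have hc := (mem_centralizer_iff.mp hz'.2) _ hv'
      -- hc : g⁻¹ v g * z' = z' * (g⁻¹ v g)
      rw [hzz']
      calc v * (g * z' * g⁻¹) = g * ((g⁻¹ * v * g) * z') * g⁻¹ := by group
        _ = g * (z' * (g⁻¹ * v * g)) * g⁻¹ := by rw [hc]
        _ = g * z' * g⁻¹ * v := by group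
    have hgP : g • P = P := sylow_eq_of_mem_centralizer h P (g • P) hz.2 hzgP hz1 hzcop
    have hgNP : g ∈ normalizer ((P : Subgroup G) : Set G) := Sylow.smul_eq_iff_mem_normalizer.mp hgP
    have hgP' : g ∈ (P : Subgroup G) := mem_sylow_of_mem_normalizer P hgNP (k := 1) (by rw [hgp, pow_one])
    have hgx : g * x = x * g := (mem_centralizer_iff.mp hxC g hgP')
    exact hx1 (hfpf x hxA hgx)
  have hcardE0 : Nat.card E0 * Nat.card E0 ≤ Nat.card E := by
    let ψ : E0 × E0 → E := fun ab => ⟨ab.1 * (g * ab.2 * g⁻¹), mul_mem ab.1.2.1 (hgE _ ab.2.2.1)⟩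
    have hψ : Function.Injective ψ := by
      rintro ⟨a, b⟩ ⟨a', b'⟩ hab
      simp only [ψ, Subtype.mk.injEq] at hab
      -- a'⁻¹ a = g (b' b⁻¹) g⁻¹
      have h1 : (a' : G)⁻¹ * a = g * ((b' : G) * (b : G)⁻¹) * g⁻¹ := by
        have : (a : G) = a' * (g * b' * g⁻¹) * (g * b * g⁻¹)⁻¹ := by
          rw [← hab]; group
        rw [this]; group
      have h2 := hdisj _ (mul_mem (inv_mem a'.2) a.2) _ (mul_mem b'.2 (inv_mem b.2)) h1
      have ha : a = a' := by
        apply Subtype.ext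
        have := inv_mul_eq_one.mp h2
        exact this.symm
      have hb : b = b' := by
        apply Subtype.ext
        rw [h2] at h1
        have h3 : (b' : G) * (b : G)⁻¹ = 1 := by
          have : (b' : G) * (b : G)⁻¹ = g⁻¹ * (g * ((b' : G) * (b : G)⁻¹) * g⁻¹) * g := by group
          rw [this, ← h1]; group
        exact (mul_inv_eq_one.mp h3).symm
      rw [ha, hb]
    calc Nat.card E0 * Nat.card E0 = Nat.card (E0 × E0) := (Nat.card_prod _ _).symm
      _ ≤ Nat.card E := Nat.card_le_card_of_injective ψ hψ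
  -- r ∣ |E0|
  have hrE0 : r ≤ Nat.card E0 := by
    have := orderOf_dvd_natCard (⟨x, hxE0⟩ : E0)
    rw [Subgroup.orderOf_mk, hxr] at this
    exact Nat.le_of_dvd Nat.card_pos this
  have hE0pos : 0 < Nat.card E0 := Nat.card_pos
  have hE0r : Nat.card E0 = r := by
    have : Nat.card E0 * Nat.card E0 ≤ r * Nat.card E0 := hcardE0.trans hcardE
    have := Nat.le_of_mul_le_mul_right this hE0pos
    omega
  have hEr : Nat.card E = r ^ 2 := by
    rw [hE0r] at hcardE0 hcardE
    rw [pow_two]; omega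
  -- (c) |E| ≡ 1 mod p
  have hmod : Nat.card E ≡ 1 [MOD p] := by
    have : Fintype E := Fintype.ofFinite E
    let f : Function.End E := fun y => ⟨g * y * g⁻¹, hgE y y.2⟩
    have hfpow : ∀ n : ℕ, ∀ y : E, ((f ^ n) y : G) = g ^ n * y * (g ^ n)⁻¹ := by
      intro n
      induction n with
      | zero =>
        intro y
        show ((y : E) : G) = _
        simp
      | succ n ih =>
        intro y
        rw [pow_succ']
        show g * (((f ^ n) y : E) : G) * g⁻¹ = _
        rw [ih, pow_succ']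
        group
    have hf : f ^ p ^ 1 = 1 := by
      funext y
      apply Subtype.ext
      rw [hfpow, pow_one, ← hgp, pow_orderOf_eq_one]
      show _ = ((y : E) : G)
      simp
    have h1 := Equiv.Perm.card_fixedPoints_modEq (p := p) (n := 1) hf
    have hfix : Fintype.card (Function.fixedPoints f) = 1 := by
      rw [Fintype.card_eq_one_iff]
      refine ⟨⟨1, ?_⟩, ?_⟩
      · show f 1 = 1
        apply Subtype.ext
        simp [f]
      · rintro ⟨y, hy⟩
        apply Subtype.ext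
        apply Subtype.ext
        have hy' : f y = y := hy
        have h2 : g * (y : G) * g⁻¹ = y := congrArg Subtype.val hy'
        have h3 : g * (y : G) = y * g := by
          calc g * (y : G) = (g * y * g⁻¹) * g := by group
            _ = y * g := by rw [h2]
        exact hfpf y ((hE y).mp y.2).1 h3
    rw [Nat.card_eq_fintype_card]
    rw [hfix] at h1
    convert h1
  -- r ∣ p - 1
  have hrp1 : r ∣ p - 1 := by
    -- an element of E outside C(P)
    have hne : ∃ y ∈ E, y ∉ centralizer ((P : Subgroup G) : Set G) := by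
      by_contra hcon
      have hcon' : E ≤ centralizer ((P : Subgroup G) : Set G) := fun y hy =>
        by_contra (fun hn => hcon ⟨y, hy, hn⟩)
      have : E0 = E := inf_of_le_left hcon'
      have hr2 := hr.out.two_le
      rw [this, hEr] at hE0r
      nlinarith
    obtain ⟨y, hyE, hyC⟩ := hne
    have hky1 : κ y ≠ 1 := fun hk => hyC ((hκ1 y (hEN y hyE)).mp hk)
    have hky0 : κ y ≠ 0 := hκ0 y (hEN y hyE)
    have hkyr : (κ y) ^ r = 1 := hκpow y hyE
    have hfermat : (κ y) ^ (p - 1) = 1 := ZMod.pow_card_sub_one_eq_one hky0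
    by_contra hnd
    have hcop : Nat.Coprime r (p - 1) := (Nat.Prime.coprime_iff_not_dvd hr.out).mpr hnd
    have : orderOf (κ y) ∣ Nat.gcd r (p - 1) :=
      Nat.dvd_gcd (orderOf_dvd_of_pow_eq_one hkyr) (orderOf_dvd_of_pow_eq_one hfermat)
    rw [hcop.gcd_eq_one, Nat.dvd_one, orderOf_eq_one_iff] at this
    exact hky1 this
  rw [hEr] at hmod
  exact arith_three_two hp.out hr.out hrp1 hmod

end Cfsg.Agent.Lib.Helper70.CycSyl
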