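import Mathlib
import Cfsg.Prelude
import Cfsg.Agent.Lib.Helper70.CycSylCT
import Cfsg.Agent.Lib.Helper70.CycSylI
import Cfsg.Agent.Lib.Helper42.CycSylA
import Cfsg.Agent.Lib.Helper66.CycSylC
import Cfsg.Agent.Lib.Helper18.CycSylGH
import Cfsg.Agent.Lib.Helper12.CycSylJCore
import Cfsg.Agent.Lib.Helper54.CycSylZ

/-!
# S4016: assembly
-/

namespace Cfsg.Agent.Lib.Helper70.CycSyl

open Subgroup
open scoped Pointwise
open Cfsg.Agent.Lib.Helper18.CycSyl

universe u

variable {G : Type u} [Group G] [Finite G] {p : ℕ} [hp : Fact p.Prime]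

/-- Case II is impossible. -/
theorem SCtx.false_of_caseII (h : SCtx p G) (P : Sylow p G) {x₀ : G}
    (hx₀C : x₀ ∈ centralizer ((P : Subgroup G) : Set G)) (hx₀cop : (orderOf x₀).Coprime p)
    (hx₀1 : x₀ ≠ 1) : False := by
  -- a power of x₀ of prime order r
  have hn1 : orderOf x₀ ≠ 1 := fun h1 => hx₀1 (orderOf_eq_one_iff.mp h1)
  set r := (orderOf x₀).minFac with hr
  have hrprime : r.Prime := Nat.minFac_prime hn1
  haveI : Fact r.Prime := ⟨hrprime⟩
  have hrdvd : r ∣ orderOf x₀ := Nat.minFac_dvd _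
  obtain ⟨m, hm⟩ := hrdvd
  have hn0 : orderOf x₀ ≠ 0 := (orderOf_pos x₀).ne'
  have hm0 : m ≠ 0 := by rintro rfl; rw [mul_zero] at hm; exact hn0 hm
  have hxr : orderOf (x₀ ^ m) = r := by
    rw [orderOf_pow' _ hm0, hm, Nat.gcd_eq_right (Dvd.intro_left _ rfl),
      Nat.mul_div_cancel _ (Nat.pos_of_ne_zero hm0)]
  have hrp : r ≠ p := by
    intro hrp
    have : p ∣ orderOf x₀ := hrp ▸ Nat.minFac_dvd _
    exact (Nat.Prime.coprime_iff_not_dvd hp.out).mp hx₀cop.symm this
  have hxC : x₀ ^ m ∈ centralizer ((P : Subgroup G) : Set G) := pow_mem hx₀C m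
  obtain ⟨hp3, hr2⟩ := three_two h P hxC hxr hrp
  have hx2 : orderOf (x₀ ^ m) = 2 := hxr.trans hr2
  have hx1 : x₀ ^ m ≠ 1 := by
    intro h1; rw [h1, orderOf_one] at hx2; omega
  have hcop : (orderOf (x₀ ^ m)).Coprime p := by
    rw [hx2, hp3]; decide
  have h2p : (2 : ℕ) ≠ p := by rw [hp3]; decide
  obtain ⟨huniq, hcard, hconj⟩ := Cfsg.Agent.Lib.Helper12.CycSyl.structure_of_three_core h P hxC hx2 hp3
    (fun P _ hxC hx1 hcop => centralizer_eq_normalizer h P hxC hx1 hcop)
    (fun P Q _ hxP hxQ hx1 hcop => sylow_eq_of_mem_centralizer h P Q hxP hxQ hx1 hcop)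
    (exists_fpf_pelement h P hxC (r := 2) hx2 h2p)
    (exists_kappa h P)
  exact Cfsg.Agent.Lib.Helper54.CycSyl.false_of_structure h P hxC hx2 hp3
    (centralizer_eq_normalizer h P hxC hx1 hcop) huniq hcard hconj

/-- no simple minimal counterexample -/
theorem SCtx.false (h : SCtx p G) : False := by
  by_cases hII : ∃ (P : Sylow p G) (x : G), x ∈ centralizer ((P : Subgroup G) : Set G) ∧
      (orderOf x).Coprime p ∧ x ≠ 1
  · obtain ⟨P, x, hxC, hcop, hx1⟩ := hII
    exact h.false_of_caseII P hxC hcop hx1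
  · apply h.false_of_caseI
    · intro P x hxC hcop
      by_contra hx1
      exact hII ⟨P, x, hxC, hcop, hx1⟩
    · intro F _ _ f hf hF
      exact Cfsg.Agent.Lib.Helper66.CycSyl.psl2_exists_nonabelian_pprime hf hF h.p_ne_two

/-- main induction -/
theorem concl_of_hyp_aux (p : ℕ) [Fact p.Prime] : ∀ (n : ℕ) (G : Type u) [Group G] [Finite G],
    Nat.card G = n → Hyp p G → Concl p G := by
  intro n
  induction n using Nat.strong_induction_on with
  | _ n IH =>
    intro G _ _ hn hyp
    have ih : ∀ (H : Type u) [Group H] [Finite H], Nat.card H < Nat.card G → Hyp p H → Concl p H := by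
      intro H _ _ hlt hH
      exact IH (Nat.card H) (hn ▸ hlt) H rfl hH
    by_cases hs : IsSimpleGroup G
    · by_cases hc : IsMulCommutative G
      · right
        intro P
        constructor
        intro n hn g
        have : g * n * g⁻¹ = n := by
          rw [hc.is_comm.comm g n]; group
        rw [this]; exact hn
      · exfalso
        refine SCtx.false (p := p) (G := G) ⟨hs, hc, hyp, ?_⟩
        intro H hH
        apply ih H _ (hyp_subgroup hyp H)
        have h1 : 1 < H.index := Subgroup.one_lt_index_of_ne_top hH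
        have h2 := H.card_mul_index
        have hpos : 0 < Nat.card H := Nat.card_pos
        nlinarith
    · exact Cfsg.Agent.Lib.Helper42.CycSyl.concl_of_not_isSimpleGroup hyp ih hs

end Cfsg.Agent.Lib.Helper70.CycSyl
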