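import Mathlib

set_option autoImplicit false

namespace Cfsg.Agent.Lib.Helper70

open Subgroup

/-- If `cor ∘ tr` is the `m`-th power map with `m` prime to `p`, the `p`-primary component of `A`
is isomorphic to a direct factor of `B`. -/
theorem exists_direct_factor_of_tr_cor {A B : Type*} [CommGroup A] [CommGroup B] [Finite A]
    (p m : ℕ) [hp : Fact p.Prime] (hpm : ¬ p ∣ m) (tr : A →* B) (cor : B →* A)
    (h : ∀ a, cor (tr a) = a ^ m) :
    ∃ C D : Subgroup B, C ⊓ D = ⊥ ∧ C ⊔ D = ⊤ ∧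
      Nonempty (CommGroup.primaryComponent A p ≃* C) := by
  classical
  set N := Nat.card A with hN
  have hN0 : N ≠ 0 := Nat.card_pos.ne'
  set k := N.factorization p with hk
  set s := N / p ^ k with hs
  have hNks : p ^ k * s = N := Nat.ordProj_mul_ordCompl_eq_self N p
  have hps : Nat.Coprime p s := Nat.coprime_ordCompl hp.out hN0
  have hpm' : Nat.Coprime p m := (Nat.Prime.coprime_iff_not_dvd hp.out).mpr hpm
  have hpms : Nat.Coprime (m * s) p := (Nat.Coprime.mul_left hpm'.symm hps.symm)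
  set Ap := CommGroup.primaryComponent A p with hAp
  -- elements of `Ap` killed by `m * s` are trivial
  have htriv : ∀ a ∈ Ap, a ^ (m * s) = 1 → a = 1 := by
    intro a ha h1
    obtain ⟨n, hn⟩ := CommGroup.mem_primaryComponent.mp ha
    have h2 : orderOf a ∣ m * s := orderOf_dvd_of_pow_eq_one h1
    have h3 : orderOf a ∣ p ^ n := orderOf_dvd_of_pow_eq_one hn
    have h4 : orderOf a = 1 := Nat.eq_one_of_dvd_coprimes (hpms.pow_right n) h2 h3
    exact orderOf_eq_one_iff.mp h4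
  let φ : A →* A := powMonoidHom s
  let C : Subgroup B := Ap.map tr
  let D : Subgroup B := (φ.comp cor).ker
  have hpowN : ∀ a : A, a ^ N = 1 := fun a => pow_card_eq_one'
  refine ⟨C, D, ?_, ?_, ?_⟩
  · rw [eq_bot_iff]
    rintro b ⟨⟨a, ha, rfl⟩, hbD⟩
    have h1 : (cor (tr a)) ^ s = 1 := hbD
    rw [h, ← pow_mul] at h1
    rw [htriv a ha h1, map_one]
    exact Subgroup.mem_bot.mpr rfl
  · rw [eq_top_iff]
    intro b _
    set a₀ := cor b with ha₀
    set a₁ := a₀ ^ s with ha₁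
    have ha₁p : a₁ ^ (p ^ k) = 1 := by
      rw [ha₁, ← pow_mul, mul_comm, hNks]; exact hpowN a₀
    have ha₁mem : a₁ ∈ Ap := CommGroup.mem_primaryComponent.mpr ⟨k, ha₁p⟩
    have hcop : Nat.Coprime (m * s) (orderOf a₁) :=
      Nat.Coprime.coprime_dvd_right (orderOf_dvd_of_pow_eq_one ha₁p) (hpms.pow_right k)
    obtain ⟨w, hw⟩ := exists_pow_eq_self_of_coprime hcop
    set a₃ := a₁ ^ w with ha₃
    have ha₃mem : a₃ ∈ Ap := Ap.pow_mem ha₁mem w
    have ha₃pow : a₃ ^ (m * s) = a₁ := by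
      rw [ha₃, ← pow_mul, mul_comm, pow_mul, hw]
    rw [Subgroup.mem_sup]
    refine ⟨tr a₃, ⟨a₃, ha₃mem, rfl⟩, b * (tr a₃)⁻¹, ?_, by rw [mul_comm b, mul_inv_cancel_left]⟩
    show (cor (b * (tr a₃)⁻¹)) ^ s = 1
    rw [map_mul, map_inv, h, mul_pow, inv_pow, ← pow_mul, ha₃pow, ← ha₀, ← ha₁, mul_inv_cancel]
  · let f : Ap →* C := (tr.comp Ap.subtype).codRestrict C
      (fun a => Subgroup.mem_map_of_mem tr a.2)
    refine ⟨MulEquiv.ofBijective f ⟨?_, ?_⟩⟩
    · rw [injective_iff_map_eq_one]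
      rintro ⟨a, ha⟩ hfa
      have h1 : tr a = 1 := congrArg Subtype.val hfa
      have h2 : a ^ m = 1 := by rw [← h, h1, map_one]
      have h3 : a ^ (m * s) = 1 := by rw [pow_mul, h2, one_pow]
      exact Subtype.ext (htriv a ha h3)
    · rintro ⟨b, a, ha, rfl⟩
      exact ⟨⟨a, ha⟩, rfl⟩

end Cfsg.Agent.Lib.Helper70
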