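import Mathlib
import Cfsg.Prelude.Def_Blocks
import Cfsg.Agent.Lib.Helper70.IPDefs
import Cfsg.Agent.Lib.Helper83.Quotient
import Cfsg.Agent.Lib.Helper83.Linear
import Cfsg.Agent.Lib.Helper65.IPMono
import Cfsg.Agent.Lib.Helper42.IPAExt
import Cfsg.Agent.Lib.Helper66.IPAMul
import Cfsg.Agent.Lib.Helper45.IPARam

/-!
# K-IP (S4463) CASE A, the `p`-group case (parallel hand): `H = ` preimage of `Z(G ⧸ K)`.
-/

set_option autoImplicit false

namespace Cfsg.Agent.Lib.Helper70.IPA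

open Cfsg Cfsg.Agent.Lib.Helper70.IP

universe u

theorem pgroup_case {G : Type u} [Group G] [Finite G] (b : ℕ) (hb : DegLE G b)
    (K : Subgroup G) [hK : K.Normal] (hmax : MaxNonab K) {p : ℕ} [Fact p.Prime]
    (hp : IsPGroup p (G ⧸ K)) :
    ∃ H : Subgroup G, H ≠ ⊤ ∧ H.index ≤ b ^ 2 ∧
      ∀ ψ : IrrCharacter H, charDegree (ψ : H → ℂ) < b := by
  classical
  have hmono : MonoQ (G ⧸ K) := Cfsg.Agent.Lib.Helper65.IP.monoQ_of_maxNonab K hmax
  have hnab : ∃ a c : G ⧸ K, a * c ≠ c * a := by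
    by_contra h
    push Not at h
    apply hmax.2.1
    rw [commutator_eq_closure, Subgroup.closure_le]
    rintro _ ⟨a, c, rfl⟩
    rw [SetLike.mem_coe, ← QuotientGroup.eq_one_iff, commutatorElement_def]
    have h1 := h (a : G ⧸ K) (c : G ⧸ K)
    rw [QuotientGroup.mk_mul, QuotientGroup.mk_mul, QuotientGroup.mk_mul, QuotientGroup.mk_inv,
      QuotientGroup.mk_inv, h1]
    group
  obtain ⟨θb, hθb, hθ1, hθvan, hθnorm, hθidx⟩ :=
    Cfsg.Agent.Lib.Helper45.IPA.exists_ramified hp hnab hmono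
  obtain ⟨θ, hθdef⟩ : ∃ θ : G → ℂ, θ = fun g : G => θb (QuotientGroup.mk g) := ⟨_, rfl⟩
  have hθ : IsIrrCharacter G θ := hθdef ▸ Cfsg.Agent.Lib.Helper83.isIrrCharacter_inflate K hθb
  have hdeg : charDegree θ = charDegree θb := by rw [hθdef]; rfl
  obtain ⟨Z, hZ⟩ : ∃ Z : Subgroup G,
      Z = (Subgroup.center (G ⧸ K)).comap (QuotientGroup.mk' K) := ⟨_, rfl⟩
  have hZidx : Z.index = (charDegree θ) ^ 2 := by
    rw [hZ, Subgroup.index_comap_of_surjective _ (QuotientGroup.mk'_surjective K), hdeg, hθidx]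
  have hθb' : charDegree θ ≤ b := hb ⟨θ, hθ⟩
  have hθ1' : 1 < charDegree θ := hdeg ▸ hθ1
  have hmemZ : ∀ g : G, g ∈ Z ↔ (QuotientGroup.mk g : G ⧸ K) ∈ Subgroup.center (G ⧸ K) := by
    intro g
    rw [hZ, Subgroup.mem_comap]
    rfl
  refine ⟨Z, ?_, ?_, ?_⟩
  · intro htop
    rw [htop, Subgroup.index_top] at hZidx
    have : 1 < (charDegree θ) ^ 2 := Nat.one_lt_pow (by norm_num) hθ1'
    omega
  · rw [hZidx]
    exact Nat.pow_le_pow_left hθb' 2
  · intro ψ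
    by_contra hge
    push Not at hge
    obtain ⟨χ, hχ, hχdeg, hχZ⟩ :=
      Cfsg.Agent.Lib.Helper42.IPA.ext_of_degree_eq b hb Z ψ.2 hge
    have hχZ' : IsIrrCharacter Z (fun z : Z => χ z) := by
      have : (fun z : Z => χ z) = (ψ : Z → ℂ) := funext hχZ
      rw [this]
      exact ψ.2
    have hvan : ∀ g : G, g ∉ Z → θ g = 0 := by
      intro g hg
      rw [hθdef]
      exact hθvan _ (fun h => hg ((hmemZ g).2 h))
    have hnorm : ∀ z : G, z ∈ Z → ‖θ z‖ = (charDegree θ : ℝ) := by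
      intro z hz
      rw [hdeg, hθdef]
      exact hθnorm _ ((hmemZ z).1 hz)
    obtain ⟨hirr, hmuldeg⟩ :=
      Cfsg.Agent.Lib.Helper66.IPA.irr_mul_of_vanish Z hχ hθ hχZ' hvan hnorm hZidx.symm
    have hle := hb ⟨χ * θ, hirr⟩
    simp only at hle
    rw [hmuldeg, hχdeg] at hle
    have hbpos : 0 < b := by
      rw [← hχdeg]
      exact Cfsg.Agent.Lib.Helper83.irr_charDegree_pos ⟨χ, hχ⟩
    have : b * 2 ≤ b * charDegree θ := Nat.mul_le_mul_left b hθ1'
    omega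

end Cfsg.Agent.Lib.Helper70.IPA
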