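import Mathlib
import Cfsg.Prelude.Def_Blocks
import Cfsg.Agent.Lib.Helper70.IPDefs
import Cfsg.Agent.Lib.Helper83.Decompose
import Cfsg.Agent.Lib.Helper83.Linear
import Cfsg.Agent.Lib.Helper22.BlockRegular

/-!
# K-IP-SUB (keystone 446303): the degrees of a subgroup are bounded by those of the group
-/

set_option autoImplicit false

namespace Cfsg.Agent.Lib.Helper70.IP

open Cfsg Cfsg.Agent.Lib.Helper83

universe u

theorem degLE_subgroup {G : Type u} [Group G] [Finite G] (b : ℕ) (hb : DegLE G b)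
    (H : Subgroup G) : DegLE H b := by
  classical
  intro ψ
  haveI : Fintype G := Fintype.ofFinite G
  haveI : Fintype H := Fintype.ofFinite H
  haveI : Fintype (IrrCharacter H) := Fintype.ofFinite _
  obtain ⟨χ, hχ⟩ := Cfsg.Agent.Lib.Helper22.exists_irr_over H ψ
  set φ : H → ℂ := fun h : H => (χ : G → ℂ) (h : G) with hφdef
  have hφ : IsCharacter H φ := isCharacter_restrict H (IrrCharacter_isCharacter χ)
  have hdec := char_eq_sum_irrMult hφ
  have hmψ : irrMult φ ψ ≠ 0 := by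
    intro h0
    apply hχ
    rw [← irrMult_cast hφ ψ, h0, Nat.cast_zero]
  have hdeg : charDegree (χ : G → ℂ)
      = ∑ ξ : IrrCharacter H, irrMult φ ξ * charDegree (ξ : H → ℂ) := by
    have h1 : (charDegree (χ : G → ℂ) : ℂ) = φ 1 := by
      rw [charDegree_cast (IrrCharacter_isCharacter χ)]; simp [hφdef]
    have h2 : φ 1 = ∑ ξ : IrrCharacter H, (irrMult φ ξ : ℂ) * (charDegree (ξ : H → ℂ) : ℂ) := by
      conv_lhs => rw [hdec]
      rw [Finset.sum_apply]
      refine Finset.sum_congr rfl (fun ξ _ => ?_)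
      rw [Pi.smul_apply, smul_eq_mul, charDegree_cast (IrrCharacter_isCharacter ξ)]
    have h3 : (charDegree (χ : G → ℂ) : ℂ)
        = ((∑ ξ : IrrCharacter H, irrMult φ ξ * charDegree (ξ : H → ℂ) : ℕ) : ℂ) := by
      rw [h1, h2]; push_cast; rfl
    exact_mod_cast h3
  have hterm : irrMult φ ψ * charDegree (ψ : H → ℂ)
      ≤ ∑ ξ : IrrCharacter H, irrMult φ ξ * charDegree (ξ : H → ℂ) :=
    Finset.single_le_sum (f := fun ξ : IrrCharacter H => irrMult φ ξ * charDegree (ξ : H → ℂ))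
      (fun _ _ => Nat.zero_le _) (Finset.mem_univ ψ)
  have h1 : 1 ≤ irrMult φ ψ := Nat.one_le_iff_ne_zero.mpr hmψ
  calc charDegree (ψ : H → ℂ) ≤ irrMult φ ψ * charDegree (ψ : H → ℂ) :=
        Nat.le_mul_of_pos_left _ h1
    _ ≤ charDegree (χ : G → ℂ) := by rw [hdeg]; exact hterm
    _ ≤ b := hb χ

end Cfsg.Agent.Lib.Helper70.IP
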