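import Mathlib
import Cfsg.Prelude.Def_Blocks
import Cfsg.Agent.Lib.Helper70.IPDefs
import Cfsg.Agent.Lib.Helper83.Decompose
import Cfsg.Agent.Lib.Helper83.Orthogonality
import Cfsg.Agent.Lib.Helper83.Linear
import Cfsg.Agent.Lib.Helper77.CD3MAXK
import Cfsg.Agent.Lib.Helper01.IPAFrob
import Cfsg.Agent.Lib.Helper01.IPL1
import Cfsg.Agent.Lib.Helper40.IPQuot
import Cfsg.Agent.Lib.Helper46.IPNUM
import Cfsg.Agent.Lib.Helper60.IPL2
import Cfsg.Agent.Lib.Helper65.IPMono
import Cfsg.Agent.Lib.Helper66.IPNOAB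
import Cfsg.Agent.Lib.Helper70.IPAPgroup
import Cfsg.Agent.Lib.Helper70.IPSub
import Cfsg.Agent.Lib.Helper79.IPAVG
import Cfsg.Agent.Lib.Helper79.IPFIVE
import Cfsg.Agent.Lib.Helper89.IPInd

/-!
# Pack K-IP (S4463): glue. Perfect case + main induction over the leaves 446301-446311.
-/

set_option autoImplicit false

namespace Cfsg.Agent.Lib.Helper70.IPGlue

open Cfsg Cfsg.Agent.Lib.Helper70.IP

universe u


/-- CASE A (446311): `G ⧸ K` solvable: `p`-group case (helper69 / helper70) or Frobenius case (helper1). -/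
theorem solvable_case {G : Type u} [Group G] [Finite G] (b : ℕ) (hb : DegLE G b)
    (K : Subgroup G) [hK : K.Normal] (hmax : MaxNonab K) (hs : Group.IsSolvable (G ⧸ K)) :
    ∃ H : Subgroup G, H ≠ ⊤ ∧ H.index ≤ b ^ 2 ∧
      ∀ ψ : IrrCharacter H, charDegree (ψ : H → ℂ) < b := by
  by_cases h : ∃ p : ℕ, p.Prime ∧ IsPGroup p (G ⧸ K)
  · obtain ⟨p, hp, hpg⟩ := h
    haveI : Fact p.Prime := ⟨hp⟩
    exact Cfsg.Agent.Lib.Helper70.IPA.pgroup_case b hb K hmax hpg
  · exact Cfsg.Agent.Lib.Helper01.IPA.frobenius_case b hb K hmax hs (fun p hp hpg => h ⟨p, hp, hpg⟩)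

/-- arithmetic for the step: `i ≤ b²`, `1 ≤ b` ⟹ `i * ((b-1)!)² ≤ (b!)²`. -/
theorem step_arith (b i : ℕ) (hb1 : 1 ≤ b) (hi : i ≤ b ^ 2) :
    i * ((b - 1).factorial) ^ 2 ≤ (b.factorial) ^ 2 := by
  obtain ⟨k, rfl⟩ : ∃ k, b = k + 1 := ⟨b - 1, by omega⟩
  rw [Nat.add_sub_cancel, Nat.factorial_succ, mul_pow]
  exact Nat.mul_le_mul_right _ hi

theorem perfect_case {G : Type u} [Group G] [Finite G] (b : ℕ) (hb : DegLE G b)
    (K : Subgroup G) [hK : K.Normal] (hmax : MaxNonab K) (hns : ¬ Group.IsSolvable (G ⧸ K)) :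
    Red G b := by
  classical
  have hQ : MonoQ (G ⧸ K) := Cfsg.Agent.Lib.Helper65.IP.monoQ_of_maxNonab K hmax
  obtain ⟨hab, hcent⟩ := Cfsg.Agent.Lib.Helper66.IP.no_abelian_normal hQ hns
  have hbQ : DegLE (G ⧸ K) b := Cfsg.Agent.Lib.Helper40.IP.degLE_quotient b hb K
  have h5 : 5 ≤ b := Cfsg.Agent.Lib.Helper79.IP.five_le hab hns b hbQ
  haveI : Nontrivial (G ⧸ K) := by
    by_contra h
    rw [not_nontrivial_iff_subsingleton] at h
    exact hns inferInstance
  obtain ⟨x, hx1, hxi⟩ := Cfsg.Agent.Lib.Helper79.IP.exists_small_class b hbQ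
  obtain ⟨H, hH⟩ : ∃ H : Subgroup G,
      H = (Subgroup.centralizer ({x} : Set (G ⧸ K))).comap (QuotientGroup.mk' K) := ⟨_, rfl⟩
  have hHidx : H.index ≤ b ^ 2 := by
    rw [hH, Subgroup.index_comap_of_surjective _ (QuotientGroup.mk'_surjective K)]
    exact hxi
  have hHcomm : ¬ commutator G ≤ H := by
    intro hle
    apply hcent x hx1
    have hmap : commutator (G ⧸ K) = (commutator G).map (QuotientGroup.mk' K) := by
      rw [commutator_def, commutator_def, Subgroup.map_commutator,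
        ← MonoidHom.range_eq_map, MonoidHom.range_eq_top.2 (QuotientGroup.mk'_surjective K)]
    rw [hmap, Subgroup.map_le_iff_le_comap, ← hH]
    exact hle
  have hHtop : H ≠ ⊤ := by
    intro h
    apply hHcomm
    rw [h]
    exact le_top
  have hbH : DegLE H b := Cfsg.Agent.Lib.Helper70.IP.degLE_subgroup b hb H
  by_cases hgood : ∀ ψ : IrrCharacter H, charDegree (ψ : H → ℂ) < b
  · exact ⟨H, b - 1, hHtop, fun ψ => Nat.le_sub_one_of_lt (hgood ψ),
      step_arith b H.index (by omega) hHidx⟩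
  · push Not at hgood
    obtain ⟨ψ, hψ⟩ := hgood
    have hψb : charDegree (ψ : H → ℂ) = b := le_antisymm (hbH ψ) hψ
    have hcore := Cfsg.Agent.Lib.Helper60.IP.core_index_le b hb H ψ hψb
    obtain ⟨C, hC⟩ : ∃ C : Subgroup G, C = H.normalCore := ⟨_, rfl⟩
    have hCH : C ≤ H := hC ▸ Subgroup.normalCore_le H
    have hCcomm : ¬ commutator G ≤ C := fun h => hHcomm (h.trans hCH)
    have hCtop : C ≠ ⊤ := by
      intro h
      apply hCcomm
      rw [h]
      exact le_top
    haveI : C.Normal := hC ▸ Subgroup.normalCore_normal H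
    have hL1 := Cfsg.Agent.Lib.Helper01.IP.two_mul_degLE_of_normal b hb C hCcomm
    refine ⟨C, b / 2, hCtop, fun θ => ?_, ?_⟩
    · have := hL1 θ
      omega
    · have hidx : C.index ≤ b ^ 4 := by
        have h1 := C.index_mul_card
        have h2 := H.index_mul_card
        have hcpos : 0 < Nat.card C := Nat.card_pos
        have hcore' : Nat.card H ≤ b ^ 2 * Nat.card C := by rw [hC]; exact hcore
        have h3 : C.index * Nat.card C ≤ (b ^ 2 * b ^ 2) * Nat.card C := by
          rw [h1, ← h2]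
          calc H.index * Nat.card H ≤ b ^ 2 * (b ^ 2 * Nat.card C) :=
                Nat.mul_le_mul hHidx hcore'
            _ = (b ^ 2 * b ^ 2) * Nat.card C := by ring
        have h4 := Nat.le_of_mul_le_mul_right h3 hcpos
        calc C.index ≤ b ^ 2 * b ^ 2 := h4
          _ = b ^ 4 := by ring
      calc C.index * ((b / 2).factorial) ^ 2 ≤ b ^ 4 * ((b / 2).factorial) ^ 2 :=
            Nat.mul_le_mul_right _ hidx
        _ ≤ (b.factorial) ^ 2 := Cfsg.Agent.Lib.Helper46.IP.num_bound b h5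

theorem main_aux : ∀ n : ℕ, ∀ (G : Type u) [Group G] [Finite G], Nat.card G = n →
    ∀ b : ℕ, DegLE G b → HasAb G ((b.factorial) ^ 2) := by
  intro n
  induction n using Nat.strong_induction_on with
  | _ n ih =>
    intro G _ _ hn b hb
    by_cases hnab : ∃ a c : G, a * c ≠ c * a
    · haveI : Nonempty (IrrCharacter G) := ⟨Cfsg.Agent.Lib.Helper83.trivChar G⟩
      obtain ⟨χ0, hχ0⟩ := Finite.exists_max (fun χ : IrrCharacter G => charDegree (χ : G → ℂ))
      obtain ⟨b0, hb0def⟩ : ∃ b0, b0 = charDegree (χ0 : G → ℂ) := ⟨_, rfl⟩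
      have hb0 : DegLE G b0 := fun χ => hb0def ▸ hχ0 χ
      have hatt : ∃ χ : IrrCharacter G, charDegree (χ : G → ℂ) = b0 := ⟨χ0, hb0def.symm⟩
      have hb0b : b0 ≤ b := hb0def ▸ hb χ0
      have hb01 : 1 ≤ b0 := hb0def ▸ Cfsg.Agent.Lib.Helper83.irr_charDegree_pos χ0
      have hmono : (b0.factorial) ^ 2 ≤ (b.factorial) ^ 2 :=
        Nat.pow_le_pow_left (Nat.factorial_le hb0b) 2
      suffices h : HasAb G ((b0.factorial) ^ 2) by
        obtain ⟨A, hA, hAi⟩ := h
        exact ⟨A, hA, hAi.trans hmono⟩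
      have hR : Red G b0 := by
        obtain ⟨K, hKn, hK1, hK2⟩ :=
          Cfsg.Agent.Lib.Helper77.CD3.exists_max_normal_nonabelian hnab
        haveI := hKn
        have hmax : MaxNonab K := ⟨hKn, hK1, hK2⟩
        by_cases hs : Group.IsSolvable (G ⧸ K)
        · obtain ⟨H, hHtop, hHi, hHd⟩ := solvable_case b0 hb0 K hmax hs
          exact ⟨H, b0 - 1, hHtop, fun ψ => Nat.le_sub_one_of_lt (hHd ψ),
            step_arith b0 H.index hb01 hHi⟩
        · exact perfect_case b0 hb0 K hmax hs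
      apply Cfsg.Agent.Lib.Helper89.IP.hasAb_of_red b0 hR
      intro H hH c hc
      have hlt : Nat.card H < n := by
        rw [← hn]
        have h1 := H.index_mul_card
        have hidx : H.index ≠ 1 := fun h => hH (Subgroup.index_eq_one.1 h)
        have hipos : 0 < H.index := Nat.pos_of_ne_zero Subgroup.index_ne_zero_of_finite
        have hcpos : 0 < Nat.card H := Nat.card_pos
        have h2 : 2 ≤ H.index := by omega
        calc Nat.card H < 2 * Nat.card H := by omega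
          _ ≤ H.index * Nat.card H := Nat.mul_le_mul_right _ h2
          _ = Nat.card G := h1
      exact ih (Nat.card H) hlt H rfl c hc
    · push Not at hnab
      refine ⟨⊤, fun x _ y _ => hnab x y, ?_⟩
      rw [Subgroup.index_top]
      exact Nat.one_le_pow _ _ (Nat.factorial_pos b)

theorem result_aux {G : Type u} [Group G] [Finite G] (b : ℕ)
    (hb : IsGreatest {d : ℕ | ∃ χ : Cfsg.IrrCharacter G, Cfsg.charDegree (χ : G → ℂ) = d} b) :
    ∃ A : Subgroup G, (∀ x ∈ A, ∀ y ∈ A, x * y = y * x) ∧ A.index ≤ (Nat.factorial b) ^ 2 :=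
  main_aux (Nat.card G) G rfl b (fun χ => hb.2 ⟨χ, rfl⟩)

end Cfsg.Agent.Lib.Helper70.IPGlue
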