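import Mathlib

set_option autoImplicit false

namespace Cfsg.Agent.Lib.Helper70.Meta

open Subgroup

theorem finite_of_metacyclic_relations {G : Type*} [Group G] (a b : G) (m n r t : ℕ)
    (hm : 0 < m) (hn : 0 < n) (hgen : closure {a, b} = ⊤) (h1 : a ^ m = 1)
    (h2 : b ^ n = a ^ t) (h3 : b * a * b⁻¹ = a ^ r) : Finite G := by
  classical
  set N := zpowers a with hN
  have hafin : IsOfFinOrder a := isOfFinOrder_iff_pow_eq_one.mpr ⟨m, hm, h1⟩
  have hNfin : Finite N := hafin.finite_zpowers.to_subtype
  -- conjugation by elements of the group preserves `N`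
  have hconj : ∀ g : G, ∀ h ∈ N, g * h * g⁻¹ ∈ N := by
    intro g
    have hg : g ∈ closure {a, b} := by rw [hgen]; trivial
    induction hg using Subgroup.closure_induction with
    | mem g hg =>
      rcases hg with rfl | rfl
      · intro h hh
        exact N.mul_mem (N.mul_mem (mem_zpowers g) hh) (N.inv_mem (mem_zpowers g))
      · intro h hh
        obtain ⟨k, rfl⟩ := hh
        have : g * a ^ k * g⁻¹ = (a ^ r) ^ k := by
          rw [← h3, conj_zpow]
        rw [this]
        exact N.zpow_mem (N.pow_mem (mem_zpowers a) r) k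
    | one => intro h hh; simpa using hh
    | mul g₁ g₂ _ _ ih₁ ih₂ =>
      intro h hh
      have := ih₁ _ (ih₂ h hh)
      have e : g₁ * g₂ * h * (g₁ * g₂)⁻¹ = g₁ * (g₂ * h * g₂⁻¹) * g₁⁻¹ := by group
      rw [e]; exact this
    | inv g _ ih =>
      intro h hh
      -- conjugation by `g` is an injective self-map of the finite set `N`, hence surjective
      let c : N → N := fun x => ⟨g * x * g⁻¹, ih x x.2⟩
      have hinj : Function.Injective c := by
        intro x y hxy
        have := congrArg Subtype.val hxy
        simp only [c] at this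
        exact Subtype.ext (mul_left_cancel (mul_right_cancel this))
      obtain ⟨x, hx⟩ := (Finite.injective_iff_surjective.mp hinj) ⟨h, hh⟩
      have hx' : g * x * g⁻¹ = h := congrArg Subtype.val hx
      have : g⁻¹ * h * g⁻¹⁻¹ = x := by rw [← hx']; group
      rw [this]; exact x.2
  have hNn : N.Normal := ⟨fun h hh g => hconj g h hh⟩
  -- the quotient is cyclic, generated by the image of `b`
  have hq : (⊤ : Subgroup (G ⧸ N)) ≤ zpowers (QuotientGroup.mk b : G ⧸ N) := by
    have h0 : (closure {a, b}).map (QuotientGroup.mk' N) = ⊤ := by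
      rw [hgen, ← MonoidHom.range_eq_map, MonoidHom.range_eq_top]
      exact QuotientGroup.mk'_surjective N
    rw [← h0, MonoidHom.map_closure, closure_le]
    rintro _ ⟨g, hg, rfl⟩
    rcases hg with rfl | rfl
    · have : (QuotientGroup.mk' N) g = 1 := (QuotientGroup.eq_one_iff g).mpr (mem_zpowers g)
      rw [this]; exact one_mem _
    · exact mem_zpowers _
  have hbfin : IsOfFinOrder (QuotientGroup.mk b : G ⧸ N) := by
    refine isOfFinOrder_iff_pow_eq_one.mpr ⟨n, hn, ?_⟩
    rw [← QuotientGroup.mk_pow, h2]
    exact (QuotientGroup.eq_one_iff _).mpr (N.pow_mem (mem_zpowers a) t)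
  have hzfin : Finite (zpowers (QuotientGroup.mk b : G ⧸ N)) := hbfin.finite_zpowers.to_subtype
  have hQfin : Finite (G ⧸ N) := by
    have : zpowers (QuotientGroup.mk b : G ⧸ N) = ⊤ := top_le_iff.mp hq
    rw [this] at hzfin
    exact Finite.of_equiv _ (Subgroup.topEquiv (G := G ⧸ N)).toEquiv
  exact Finite.of_subgroup_quotient N

end Cfsg.Agent.Lib.Helper70.Meta
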