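import Mathlib

set_option autoImplicit false

namespace Cfsg.Agent.Lib.Helper70.Meta

section Model

variable (N g : ℕ) (hg : g ∣ N) (r : ℕ)

/-- the linear map `(i, c) ↦ (r i, c + i)` on `ZMod N × ZMod g` -/
def fmap (v : ZMod N × ZMod g) : ZMod N × ZMod g :=
  ((r : ZMod N) * v.1, v.2 + ZMod.castHom hg (ZMod g) v.1)

theorem fmap_add (u v : ZMod N × ZMod g) : fmap N g hg r (u + v) = fmap N g hg r u + fmap N g hg r v := by
  unfold fmap
  ext
  · simp [mul_add]
  · simp only [Prod.snd_add, Prod.fst_add, map_add]; ring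

theorem fmap_iterate (j : ℕ) (v : ZMod N × ZMod g) :
    (fmap N g hg r)^[j] v = ((r : ZMod N) ^ j * v.1,
      v.2 + ZMod.castHom hg (ZMod g) ((∑ i ∈ Finset.range j, (r : ZMod N) ^ i) * v.1)) := by
  induction j with
  | zero => simp
  | succ j ih =>
    rw [Function.iterate_succ_apply', ih]
    unfold fmap
    ext
    · simp only; ring
    · simp only [Finset.sum_range_succ, map_add, map_mul, add_mul]; ring

/-- translation by `v` -/
def tau (v : ZMod N × ZMod g) : Equiv.Perm (ZMod N × ZMod g) := Equiv.addRight v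

theorem tau_apply (v u : ZMod N × ZMod g) : tau N g v u = u + v := rfl

theorem tau_mul (v v' : ZMod N × ZMod g) : tau N g v * tau N g v' = tau N g (v + v') := by
  ext u : 1
  rw [Equiv.Perm.mul_apply, tau_apply, tau_apply, tau_apply]
  abel

theorem tau_zero : tau N g 0 = 1 := by
  ext u : 1
  rw [tau_apply, add_zero]; rfl

theorem tau_pow (v : ZMod N × ZMod g) (k : ℕ) : tau N g v ^ k = tau N g (k • v) := by
  induction k with
  | zero => rw [pow_zero, zero_smul, tau_zero]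
  | succ k ih => rw [pow_succ, ih, tau_mul, succ_nsmul]

theorem tau_inv (v : ZMod N × ZMod g) : (tau N g v)⁻¹ = tau N g (-v) := by
  apply inv_eq_of_mul_eq_one_right
  rw [tau_mul, add_neg_cancel, tau_zero]

theorem tau_eq_one_iff (v : ZMod N × ZMod g) : tau N g v = 1 ↔ v = 0 := by
  constructor
  · intro h
    have := congrArg (fun σ : Equiv.Perm (ZMod N × ZMod g) => σ 0) h
    simpa [tau_apply] using this
  · rintro rfl; exact tau_zero N g

/-- the permutation given by `fmap` when its `n`-th iterate is the identity -/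
def bperm (n : ℕ) (hn : 0 < n) (hf : (fmap N g hg r)^[n] = id) :
    Equiv.Perm (ZMod N × ZMod g) where
  toFun := fmap N g hg r
  invFun := (fmap N g hg r)^[n - 1]
  left_inv v := by
    rw [← Function.iterate_succ_apply, Nat.succ_eq_add_one, Nat.sub_add_cancel hn, hf]; rfl
  right_inv v := by
    have h := Function.iterate_succ_apply' (fmap N g hg r) (n - 1) v
    rw [Nat.succ_eq_add_one, Nat.sub_add_cancel hn, hf] at h
    exact h.symm

theorem bperm_apply (n : ℕ) (hn : 0 < n) (hf : (fmap N g hg r)^[n] = id) (v : ZMod N × ZMod g) :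
    bperm N g hg r n hn hf v = fmap N g hg r v := rfl

theorem bperm_pow (n : ℕ) (hn : 0 < n) (hf : (fmap N g hg r)^[n] = id) :
    bperm N g hg r n hn hf ^ n = 1 := by
  ext v : 1
  rw [← Equiv.Perm.iterate_eq_pow]
  show (fmap N g hg r)^[n] v = v
  rw [hf]; rfl

theorem bperm_conj (n : ℕ) (hn : 0 < n) (hf : (fmap N g hg r)^[n] = id) (v : ZMod N × ZMod g) :
    bperm N g hg r n hn hf * tau N g v * (bperm N g hg r n hn hf)⁻¹ =
      tau N g (fmap N g hg r v) := by
  ext u : 1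
  rw [Equiv.Perm.mul_apply, Equiv.Perm.mul_apply, tau_apply, tau_apply, bperm_apply, fmap_add,
    ← bperm_apply N g hg r n hn hf]
  simp only [Equiv.Perm.coe_inv, Equiv.apply_symm_apply]

theorem commute_tau_bperm (n : ℕ) (hn : 0 < n) (hf : (fmap N g hg r)^[n] = id)
    (v : ZMod N × ZMod g) (hv : fmap N g hg r v = v) :
    Commute (tau N g v) (bperm N g hg r n hn hf) := by
  have h := bperm_conj N g hg r n hn hf v
  rw [hv] at h
  show tau N g v * bperm N g hg r n hn hf = bperm N g hg r n hn hf * tau N g v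
  calc tau N g v * bperm N g hg r n hn hf
      = (bperm N g hg r n hn hf * tau N g v * (bperm N g hg r n hn hf)⁻¹) *
          bperm N g hg r n hn hf := by rw [h]
    _ = bperm N g hg r n hn hf * tau N g v := by group

theorem commute_tau_tau (v v' : ZMod N × ZMod g) : Commute (tau N g v) (tau N g v') := by
  show tau N g v * tau N g v' = tau N g v' * tau N g v
  rw [tau_mul, tau_mul, add_comm]

theorem tau_one_pow (k : ℕ) : tau N g (1, 0) ^ k = tau N g ((k : ZMod N), 0) := by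
  rw [tau_pow]
  congr 1
  ext <;> simp

end Model

theorem model_exists (dd a' b' σ l n : ℕ) (hdd : 0 < dd) (hb' : 0 < b') (hn : 0 < n)
    (hcop : Nat.Coprime a' b')
    (hs : ∑ i ∈ Finset.range n, (dd * a' + 1) ^ i = b' * σ)
    (hrn : (dd * a' + 1) ^ n = dd * b' * (a' * σ) + 1) :
    ∃ (Γ : Type) (_ : Group Γ) (α β : Γ),
      (Commute (α ^ (dd * b')) α ∧ Commute (α ^ (dd * b')) β) ∧
      (Commute (β * α * β⁻¹ * (α ^ (dd * a' + 1))⁻¹) α ∧
        Commute (β * α * β⁻¹ * (α ^ (dd * a' + 1))⁻¹) β) ∧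
      (Commute (β ^ n * (α ^ (b' * l))⁻¹) α ∧ Commute (β ^ n * (α ^ (b' * l))⁻¹) β) ∧
      ∀ j : ℕ, ((α ^ (dd * b')) ^ a' * (β * α * β⁻¹ * (α ^ (dd * a' + 1))⁻¹) ^ b') ^ j = 1 →
        Nat.gcd l (Nat.gcd dd σ) ∣ j := by
  set g := Nat.gcd l (Nat.gcd dd σ) with hgdef
  have hgl : g ∣ l := Nat.gcd_dvd_left _ _
  have hgd : g ∣ dd := (Nat.gcd_dvd_right _ _).trans (Nat.gcd_dvd_left _ _)
  have hgσ : g ∣ σ := (Nat.gcd_dvd_right _ _).trans (Nat.gcd_dvd_right _ _)
  have hg0 : 0 < g := Nat.pos_of_dvd_of_pos hgd hdd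
  set N := dd * b' * g with hNdef
  have hgN : g ∣ N := Dvd.intro_left _ rfl
  obtain ⟨r, hrdef⟩ : ∃ r : ℕ, r = dd * a' + 1 := ⟨_, rfl⟩
  rw [← hrdef] at hs hrn ⊢
  have hcast : ∀ k : ℕ, ((k : ZMod N) = 0) ↔ N ∣ k := fun k => ZMod.natCast_eq_zero_iff k N
  have hcastg : ∀ k : ℕ, ((k : ZMod g) = 0) ↔ g ∣ k := fun k => ZMod.natCast_eq_zero_iff k g
  -- r ^ n = 1 in ZMod N
  have hrn1 : (r : ZMod N) ^ n = 1 := by
    have h0 : ((dd * b' * (a' * σ) : ℕ) : ZMod N) = 0 := by
      rw [hcast]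
      obtain ⟨c, hc⟩ := hgσ
      exact ⟨a' * c, by rw [hNdef, hc]; ring⟩
    rw [← Nat.cast_pow, hrn, Nat.cast_add, Nat.cast_one, h0, zero_add]
  have hsum0 : ZMod.castHom hgN (ZMod g) (∑ i ∈ Finset.range n, (r : ZMod N) ^ i) = 0 := by
    have : (∑ i ∈ Finset.range n, (r : ZMod N) ^ i) = ((b' * σ : ℕ) : ZMod N) := by
      rw [← hs]; push_cast; rfl
    rw [this, map_natCast, hcastg]
    exact Dvd.dvd.mul_left hgσ b'
  have hf : (fmap N g hgN r)^[n] = id := by
    funext v
    rw [fmap_iterate, hrn1, one_mul, map_mul, hsum0, zero_mul, add_zero]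
    rfl
  -- fixed vectors
  have hfix1 : fmap N g hgN r (((dd * b' : ℕ) : ZMod N), 0) = (((dd * b' : ℕ) : ZMod N), 0) := by
    unfold fmap
    ext
    · show (r : ZMod N) * ((dd * b' : ℕ) : ZMod N) = ((dd * b' : ℕ) : ZMod N)
      have h0 : ((dd * a' * (dd * b') : ℕ) : ZMod N) = 0 := by
        rw [hcast]
        obtain ⟨c, hc⟩ := hgd
        exact ⟨c * a', by rw [hNdef]; nth_rewrite 1 [hc]; ring⟩
      have : (r : ZMod N) * ((dd * b' : ℕ) : ZMod N) =
          ((dd * a' * (dd * b') : ℕ) : ZMod N) + ((dd * b' : ℕ) : ZMod N) := by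
        rw [hrdef]; push_cast; ring
      rw [this, h0, zero_add]
    · show (0 : ZMod g) + ZMod.castHom hgN (ZMod g) ((dd * b' : ℕ) : ZMod N) = 0
      rw [map_natCast, zero_add, hcastg]
      exact Dvd.dvd.mul_right hgd b'
  have hfix2 : fmap N g hgN r (((b' * l : ℕ) : ZMod N), 0) = (((b' * l : ℕ) : ZMod N), 0) := by
    unfold fmap
    ext
    · show (r : ZMod N) * ((b' * l : ℕ) : ZMod N) = ((b' * l : ℕ) : ZMod N)
      have h0 : ((dd * a' * (b' * l) : ℕ) : ZMod N) = 0 := by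
        rw [hcast]
        obtain ⟨c, hc⟩ := hgl
        exact ⟨a' * c, by rw [hNdef]; nth_rewrite 1 [hc]; ring⟩
      have : (r : ZMod N) * ((b' * l : ℕ) : ZMod N) =
          ((dd * a' * (b' * l) : ℕ) : ZMod N) + ((b' * l : ℕ) : ZMod N) := by
        rw [hrdef]; push_cast; ring
      rw [this, h0, zero_add]
    · show (0 : ZMod g) + ZMod.castHom hgN (ZMod g) ((b' * l : ℕ) : ZMod N) = 0
      rw [map_natCast, zero_add, hcastg]
      exact Dvd.dvd.mul_left hgl b'
  have hfix3 : fmap N g hgN r ((0 : ZMod N), (1 : ZMod g)) = (0, 1) := by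
    unfold fmap
    ext
    · show (r : ZMod N) * 0 = 0
      rw [mul_zero]
    · show (1 : ZMod g) + ZMod.castHom hgN (ZMod g) 0 = 1
      rw [map_zero, add_zero]
  have hf10 : fmap N g hgN r ((1 : ZMod N), (0 : ZMod g)) = ((r : ZMod N), 1) := by
    unfold fmap
    ext
    · show (r : ZMod N) * 1 = r
      rw [mul_one]
    · show (0 : ZMod g) + ZMod.castHom hgN (ZMod g) 1 = 1
      rw [map_one, zero_add]
  let α := tau N g ((1 : ZMod N), (0 : ZMod g))
  let β := bperm N g hgN r n hn hf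
  have hx : α ^ (dd * b') = tau N g (((dd * b' : ℕ) : ZMod N), 0) := tau_one_pow N g _
  have hz : β * α * β⁻¹ * (α ^ r)⁻¹ = tau N g ((0 : ZMod N), (1 : ZMod g)) := by
    rw [bperm_conj, hf10, tau_one_pow, tau_inv, tau_mul]
    congr 1
    ext <;> simp
  have hy : β ^ n * (α ^ (b' * l))⁻¹ = tau N g (-(((b' * l : ℕ) : ZMod N), 0)) := by
    rw [bperm_pow, one_mul, tau_one_pow, tau_inv]
  refine ⟨Equiv.Perm (ZMod N × ZMod g), inferInstance, α, β, ?_, ?_, ?_, ?_⟩
  · rw [hx]
    exact ⟨commute_tau_tau N g _ _, commute_tau_bperm N g hgN r n hn hf _ hfix1⟩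
  · rw [hz]
    exact ⟨commute_tau_tau N g _ _, commute_tau_bperm N g hgN r n hn hf _ hfix3⟩
  · rw [hy]
    refine ⟨commute_tau_tau N g _ _, commute_tau_bperm N g hgN r n hn hf _ ?_⟩
    have hneg : fmap N g hgN r (-(((b' * l : ℕ) : ZMod N), 0)) =
        -fmap N g hgN r (((b' * l : ℕ) : ZMod N), 0) := by
      have h1 := fmap_add N g hgN r (-(((b' * l : ℕ) : ZMod N), 0)) (((b' * l : ℕ) : ZMod N), 0)
      rw [neg_add_cancel] at h1
      have h2 : fmap N g hgN r (0 : ZMod N × ZMod g) = 0 := by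
        unfold fmap; ext <;> simp
      rw [h2] at h1
      exact eq_neg_of_add_eq_zero_left h1.symm
    rw [hneg, hfix2]
  · intro j hj
    rw [hx, hz, tau_pow, tau_pow, tau_mul, tau_pow, tau_eq_one_iff] at hj
    have hsm : ∀ (k : ℕ) (u : ZMod N × ZMod g),
        k • u = ((k : ZMod N) * u.1, (k : ZMod g) * u.2) := by
      intro k u
      ext <;> simp
    have h1 := congrArg Prod.fst hj
    have h2 := congrArg Prod.snd hj
    simp only [hsm, Prod.fst_add, Prod.snd_add, mul_zero, add_zero, zero_add, mul_one,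
      Prod.fst_zero, Prod.snd_zero] at h1 h2
    have h1' : ((j * (a' * (dd * b')) : ℕ) : ZMod N) = 0 := by exact_mod_cast h1
    have h2' : ((j * b' : ℕ) : ZMod g) = 0 := by exact_mod_cast h2
    rw [hcast] at h1'
    rw [hcastg] at h2'
    have h3 : g ∣ j * a' := by
      have : dd * b' * g ∣ dd * b' * (j * a') := by
        have e : dd * b' * (j * a') = j * (a' * (dd * b')) := by ring
        rw [e]; exact h1'
      exact Nat.dvd_of_mul_dvd_mul_left (Nat.mul_pos hdd hb') this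
    have h4 : g ∣ Nat.gcd (j * a') (j * b') := Nat.dvd_gcd h3 h2'
    rw [Nat.gcd_mul_left, hcop.gcd_eq_one, mul_one] at h4
    exact h4

end Cfsg.Agent.Lib.Helper70.Meta
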