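import Mathlib

set_option autoImplicit false

namespace Cfsg.Agent.Lib.Helper70.Meta

theorem nt_facts (m n r l : ℕ) (hm : 0 < m) (hr : 0 < r) (hrn : r ^ n ≡ 1 [MOD m]) :
    ∃ dd a' b' σ : ℕ, 0 < dd ∧ 0 < b' ∧ m = dd * b' ∧ r = dd * a' + 1 ∧ Nat.Coprime a' b' ∧
      ∑ i ∈ Finset.range n, r ^ i = b' * σ ∧ r ^ n = dd * b' * (a' * σ) + 1 ∧
      m * l / Nat.gcd m (r - 1) = b' * l ∧
      Nat.gcd m (r - 1) * Nat.gcd m (∑ i ∈ Finset.range n, r ^ i) / m = Nat.gcd dd σ := by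
  set dd := Nat.gcd m (r - 1) with hdd
  have hdd0 : 0 < dd := Nat.gcd_pos_of_pos_left _ hm
  obtain ⟨b', hb'⟩ : dd ∣ m := Nat.gcd_dvd_left _ _
  obtain ⟨a', ha'⟩ : dd ∣ r - 1 := Nat.gcd_dvd_right _ _
  have hb'0 : 0 < b' := by
    rcases Nat.eq_zero_or_pos b' with h | h
    · rw [h, mul_zero] at hb'; omega
    · exact h
  have hcop : Nat.Coprime a' b' := by
    have h1 : Nat.gcd (dd * b') (dd * a') = dd := by rw [← hb', ← ha']
    rw [Nat.gcd_mul_left] at h1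
    have h2 : Nat.gcd b' a' = 1 := by
      have : dd * Nat.gcd b' a' = dd * 1 := by rw [h1, mul_one]
      exact Nat.eq_of_mul_eq_mul_left hdd0 this
    exact Nat.Coprime.symm h2
  have hr' : r = dd * a' + 1 := by omega
  set s := ∑ i ∈ Finset.range n, r ^ i with hs
  have hgeom : (r - 1) * s = r ^ n - 1 := by
    have h1 : ((r : ℤ) - 1) * ∑ i ∈ Finset.range n, (r : ℤ) ^ i = (r : ℤ) ^ n - 1 :=
      mul_geom_sum (r : ℤ) n
    have h2 : 1 ≤ r ^ n := Nat.one_le_pow _ _ hr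
    zify [hr, h2]
    rw [hs]
    push_cast
    exact h1
  have hmdvd : m ∣ r ^ n - 1 := (Nat.modEq_iff_dvd' (Nat.one_le_pow _ _ hr)).mp hrn.symm
  have hb's : b' ∣ s := by
    have h1 : dd * b' ∣ dd * (a' * s) := by
      rw [← hb', ← mul_assoc, ← ha', hgeom]; exact hmdvd
    have h2 : b' ∣ a' * s := Nat.dvd_of_mul_dvd_mul_left hdd0 h1
    exact (Nat.Coprime.dvd_of_dvd_mul_left hcop.symm h2)
  obtain ⟨σ, hσ⟩ := hb's
  refine ⟨dd, a', b', σ, hdd0, hb'0, hb', hr', hcop, hσ, ?_, ?_, ?_⟩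
  · have h2 : 1 ≤ r ^ n := Nat.one_le_pow _ _ hr
    have : r ^ n - 1 = dd * b' * (a' * σ) := by
      rw [← hgeom, ha', hσ]; ring
    omega
  · rw [hb', mul_assoc, Nat.mul_div_cancel_left _ hdd0]
  · have h1 : Nat.gcd m s = b' * Nat.gcd dd σ := by
      rw [hb', hσ, mul_comm dd b', Nat.gcd_mul_left]
    rw [h1, hb']
    have : dd * (b' * Nat.gcd dd σ) = dd * b' * Nat.gcd dd σ := by ring
    rw [this, Nat.mul_div_cancel_left _ (Nat.mul_pos hdd0 hb'0)]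

end Cfsg.Agent.Lib.Helper70.Meta
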