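import Mathlib

set_option autoImplicit false

namespace Cfsg.Agent.Lib.Helper70.Meta

open Subgroup

section Rel

variable {H : Type*} [Group H] (A B : H) (m n r t : ℕ)

/-- conjugating a power of `A` by `B` when `z = B A B⁻¹ (A^r)⁻¹` is central -/
theorem conj_pow_eq (hz : B * A * B⁻¹ * (A ^ r)⁻¹ ∈ center H) (k : ℕ) :
    B * A ^ k * B⁻¹ = (B * A * B⁻¹ * (A ^ r)⁻¹) ^ k * A ^ (r * k) := by
  set z := B * A * B⁻¹ * (A ^ r)⁻¹ with hzdef
  have hBA : B * A * B⁻¹ = z * A ^ r := by rw [hzdef]; group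
  have hcomm : Commute z (A ^ r) := (Subgroup.mem_center_iff.mp hz (A ^ r)).symm
  have h1 : B * A ^ k * B⁻¹ = (B * A * B⁻¹) ^ k := by
    rw [conj_pow]
  rw [h1, hBA, hcomm.mul_pow, ← pow_mul]

/-- (R1): `x ^ r * z ^ m = x` for `x = A ^ m` central -/
theorem rel_one (hx : A ^ m ∈ center H) (hz : B * A * B⁻¹ * (A ^ r)⁻¹ ∈ center H) :
    (B * A * B⁻¹ * (A ^ r)⁻¹) ^ m * (A ^ m) ^ r = A ^ m := by
  have h1 := conj_pow_eq A B r hz m
  have h2 : B * A ^ m * B⁻¹ = A ^ m := by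
    have := Subgroup.mem_center_iff.mp hx B
    rw [this, mul_inv_cancel_right]
  rw [h2] at h1
  rw [← pow_mul, mul_comm m r]
  exact h1.symm

/-- iterated conjugation -/
theorem conj_iter_eq (hz : B * A * B⁻¹ * (A ^ r)⁻¹ ∈ center H) (j : ℕ) :
    B ^ j * A * (B ^ j)⁻¹ =
      (B * A * B⁻¹ * (A ^ r)⁻¹) ^ (∑ i ∈ Finset.range j, r ^ i) * A ^ (r ^ j) := by
  set z := B * A * B⁻¹ * (A ^ r)⁻¹ with hzdef
  induction j with
  | zero => simp
  | succ j ih =>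
    have hzc : ∀ g : H, g * z = z * g := fun g => Subgroup.mem_center_iff.mp hz g
    have h1 : B ^ (j + 1) * A * (B ^ (j + 1))⁻¹ = B * (B ^ j * A * (B ^ j)⁻¹) * B⁻¹ := by
      rw [pow_succ']; group
    rw [h1, ih]
    have h2 : B * (z ^ (∑ i ∈ Finset.range j, r ^ i) * A ^ r ^ j) * B⁻¹ =
        z ^ (∑ i ∈ Finset.range j, r ^ i) * (B * A ^ r ^ j * B⁻¹) := by
      have hzk : ∀ g : H, g * z ^ (∑ i ∈ Finset.range j, r ^ i) =
          z ^ (∑ i ∈ Finset.range j, r ^ i) * g := fun g =>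
        Subgroup.mem_center_iff.mp ((center H).pow_mem hz _) g
      rw [← mul_assoc, hzk B, mul_assoc, mul_assoc, mul_assoc]
    rw [h2, conj_pow_eq A B r hz (r ^ j), ← mul_assoc, ← pow_add, Finset.sum_range_succ,
      pow_succ, mul_comm r (r ^ j)]

/-- (R2): `z ^ s * A ^ (r ^ n) = A` -/
theorem rel_two (hz : B * A * B⁻¹ * (A ^ r)⁻¹ ∈ center H) (hy : B ^ n * (A ^ t)⁻¹ ∈ center H) :
    (B * A * B⁻¹ * (A ^ r)⁻¹) ^ (∑ i ∈ Finset.range n, r ^ i) * A ^ (r ^ n) = A := by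
  rw [← conj_iter_eq A B r hz n]
  set y := B ^ n * (A ^ t)⁻¹ with hydef
  have hBn : B ^ n = y * A ^ t := by rw [hydef]; group
  have hyc : ∀ g : H, g * y = y * g := fun g => Subgroup.mem_center_iff.mp hy g
  rw [hBn, mul_inv_rev]
  have : y * A ^ t * A * ((A ^ t)⁻¹ * y⁻¹) = y * (A ^ t * A * (A ^ t)⁻¹) * y⁻¹ := by group
  rw [this, ← hyc, mul_inv_cancel_right]
  rw [← pow_succ, pow_succ', mul_inv_cancel_right]

/-- (R3): `z ^ t * A ^ (r * t) = A ^ t` -/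
theorem rel_three (hz : B * A * B⁻¹ * (A ^ r)⁻¹ ∈ center H) (hy : B ^ n * (A ^ t)⁻¹ ∈ center H) :
    (B * A * B⁻¹ * (A ^ r)⁻¹) ^ t * A ^ (r * t) = A ^ t := by
  rw [← conj_pow_eq A B r hz t]
  set y := B ^ n * (A ^ t)⁻¹ with hydef
  have hAt : A ^ t = y⁻¹ * B ^ n := by rw [hydef]; group
  have hyc : ∀ g : H, g * y⁻¹ = y⁻¹ * g := fun g =>
    Subgroup.mem_center_iff.mp ((center H).inv_mem hy) g
  rw [hAt, ← mul_assoc, hyc B, mul_assoc, mul_assoc]
  congr 1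
  rw [← mul_assoc, ← pow_succ', pow_succ, mul_inv_cancel_right]

end Rel

section W

variable {H : Type*} [Group H] (A B x z : H) (dd a' b' σ l n : ℕ)

/-- the generator `w = x ^ a' * z ^ b'` of the multiplier is killed by `gcd l (gcd dd σ)` -/
theorem w_pow_eq_one (hxA : A ^ (dd * b') = x)
    (hzA : B * A * B⁻¹ * (A ^ (dd * a' + 1))⁻¹ = z) (hx : x ∈ center H) (hz : z ∈ center H)
    (hy : B ^ n * (A ^ (b' * l))⁻¹ ∈ center H)
    (hs : ∑ i ∈ Finset.range n, (dd * a' + 1) ^ i = b' * σ)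
    (hrn : (dd * a' + 1) ^ n = dd * b' * (a' * σ) + 1) :
    (x ^ a' * z ^ b') ^ (Nat.gcd l (Nat.gcd dd σ)) = 1 := by
  have hx' : A ^ (dd * b') ∈ center H := hxA ▸ hx
  have hz' : B * A * B⁻¹ * (A ^ (dd * a' + 1))⁻¹ ∈ center H := hzA ▸ hz
  have hxz : Commute x z := (Subgroup.mem_center_iff.mp hx z).symm
  have hpow : ∀ k : ℕ, (x ^ a' * z ^ b') ^ k = x ^ (a' * k) * z ^ (b' * k) := by
    intro k
    rw [((hxz.pow_left a').pow_right b').mul_pow, ← pow_mul, ← pow_mul]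
  have hzx : ∀ i j : ℕ, x ^ i * z ^ j = z ^ j * x ^ i := fun i j =>
    ((hxz.pow_left i).pow_right j).eq
  -- (W1)
  have h1 : (x ^ a' * z ^ b') ^ dd = 1 := by
    rw [hpow]
    have := rel_one A B (dd * b') (dd * a' + 1) hx' hz'
    rw [hzA, hxA, pow_succ, ← mul_assoc] at this
    have h' : z ^ (dd * b') * x ^ (dd * a') = 1 := mul_right_cancel (b := x) (by rw [this, one_mul])
    rw [mul_comm a' dd, mul_comm b' dd, hzx]
    exact h'
  -- (W2)
  have h2 : (x ^ a' * z ^ b') ^ σ = 1 := by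
    rw [hpow]
    have := rel_two A B n (dd * a' + 1) (b' * l) hz' hy
    rw [hzA, hs, hrn, pow_succ, pow_mul A (dd * b') (a' * σ), hxA, ← mul_assoc] at this
    have h' : z ^ (b' * σ) * x ^ (a' * σ) = 1 := mul_right_cancel (b := A) (by rw [this, one_mul])
    rw [hzx]
    exact h'
  -- (W3)
  have h3 : (x ^ a' * z ^ b') ^ l = 1 := by
    rw [hpow]
    have := rel_three A B n (dd * a' + 1) (b' * l) hz' hy
    have e1 : (dd * a' + 1) * (b' * l) = dd * b' * (a' * l) + b' * l := by ring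
    rw [hzA, e1, pow_add, pow_mul A (dd * b') (a' * l), hxA, ← mul_assoc] at this
    have h' : z ^ (b' * l) * x ^ (a' * l) = 1 :=
      mul_right_cancel (b := A ^ (b' * l)) (by rw [this, one_mul])
    rw [hzx]
    exact h'
  have hd1 := orderOf_dvd_of_pow_eq_one h1
  have hd2 := orderOf_dvd_of_pow_eq_one h2
  have hd3 := orderOf_dvd_of_pow_eq_one h3
  exact orderOf_dvd_iff_pow_eq_one.mp (Nat.dvd_gcd hd3 (Nat.dvd_gcd hd1 hd2))

end W

end Cfsg.Agent.Lib.Helper70.Meta
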