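import Mathlib
import Cfsg.Prelude.Def_KGroupFacts
import Cfsg.Agent.Lib.Helper70.StemExt

set_option autoImplicit false

namespace Cfsg.Agent.Lib.Helper70

open Subgroup
open scoped commutatorElement

universe u v

/-- commutators are unchanged by central factors -/
theorem commutatorElement_central_mul {G : Type*} [Group G] {z w : G} (hz : z ∈ center G)
    (hw : w ∈ center G) (x y : G) : ⁅z * x, w * y⁆ = ⁅x, y⁆ := by
  have hzc : ∀ g : G, g * z = z * g := fun g => Subgroup.mem_center_iff.mp hz g
  have hwc : ∀ g : G, g * w = w * g := fun g => Subgroup.mem_center_iff.mp hw g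
  have hzi : ∀ g : G, g * z⁻¹ = z⁻¹ * g :=
    fun g => Subgroup.mem_center_iff.mp ((center G).inv_mem hz) g
  have hwi : ∀ g : G, g * w⁻¹ = w⁻¹ * g :=
    fun g => Subgroup.mem_center_iff.mp ((center G).inv_mem hw) g
  rw [commutatorElement_def, commutatorElement_def]
  calc z * x * (w * y) * (z * x)⁻¹ * (w * y)⁻¹
      = z * x * (w * y) * (x⁻¹ * z⁻¹) * (y⁻¹ * w⁻¹) := by rw [mul_inv_rev, mul_inv_rev]
    _ = z * (x * w) * y * x⁻¹ * z⁻¹ * y⁻¹ * w⁻¹ := by group
    _ = z * (w * x) * y * x⁻¹ * z⁻¹ * y⁻¹ * w⁻¹ := by rw [hwc x]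
    _ = z * w * (x * y * x⁻¹ * z⁻¹) * y⁻¹ * w⁻¹ := by group
    _ = z * w * (z⁻¹ * (x * y * x⁻¹)) * y⁻¹ * w⁻¹ := by rw [hzi (x * y * x⁻¹)]
    _ = z * (w * z⁻¹) * (x * y * x⁻¹ * y⁻¹) * w⁻¹ := by group
    _ = z * (z⁻¹ * w) * (x * y * x⁻¹ * y⁻¹) * w⁻¹ := by rw [hzi w]
    _ = w * (x * y * x⁻¹ * y⁻¹) * w⁻¹ := by group
    _ = (x * y * x⁻¹ * y⁻¹) * w * w⁻¹ := by rw [hwc]
    _ = x * y * x⁻¹ * y⁻¹ := by group

/-- a group with a central subgroup of finite index has finitely many commutators -/
theorem finite_commutatorSet_of_central_finiteIndex {G : Type*} [Group G] (Z : Subgroup G)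
    (hZ : Z ≤ center G) [hfi : Z.FiniteIndex] : Finite (commutatorSet G) := by
  have : Finite (G ⧸ Z) := Subgroup.finite_quotient_of_finiteIndex
  let f : (G ⧸ Z) × (G ⧸ Z) → G := fun p => ⁅p.1.out, p.2.out⁆
  have hsub : commutatorSet G ⊆ Set.range f := by
    rintro g ⟨a, b, rfl⟩
    refine ⟨((a : G ⧸ Z), (b : G ⧸ Z)), ?_⟩
    show ⁅(a : G ⧸ Z).out, (b : G ⧸ Z).out⁆ = ⁅a, b⁆
    have ha : a⁻¹ * (a : G ⧸ Z).out ∈ Z := QuotientGroup.eq.mp (QuotientGroup.out_eq' (a : G ⧸ Z)).symm
    have hb : b⁻¹ * (b : G ⧸ Z).out ∈ Z := QuotientGroup.eq.mp (QuotientGroup.out_eq' (b : G ⧸ Z)).symm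
    have ha' : (a : G ⧸ Z).out * a⁻¹ ∈ center G := by
      have h1 := hZ ha
      have : (a : G ⧸ Z).out * a⁻¹ = a * (a⁻¹ * (a : G ⧸ Z).out) * a⁻¹ := by group
      rw [this]
      exact (inferInstance : (center G).Normal).conj_mem _ h1 a
    have hb' : (b : G ⧸ Z).out * b⁻¹ ∈ center G := by
      have h1 := hZ hb
      have : (b : G ⧸ Z).out * b⁻¹ = b * (b⁻¹ * (b : G ⧸ Z).out) * b⁻¹ := by group
      rw [this]
      exact (inferInstance : (center G).Normal).conj_mem _ h1 b
    have := commutatorElement_central_mul ha' hb' a b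
    rw [inv_mul_cancel_right, inv_mul_cancel_right] at this
    exact this
  exact (Set.finite_range f).subset hsub |>.to_subtype

/-- **Schur**: a group with a central subgroup of finite index has finite commutator subgroup -/
theorem finite_commutator_of_central_finiteIndex {G : Type*} [Group G] (Z : Subgroup G)
    (hZ : Z ≤ center G) [hfi : Z.FiniteIndex] : Finite (commutator G) := by
  have := finite_commutatorSet_of_central_finiteIndex Z hZ
  infer_instance

/-- two lifts of a map from a perfect group along a central extension agree -/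
theorem perfect_lift_unique {G X Q : Type*} [Group G] [Group X] [Group Q] [hG : Group.IsPerfect G]
    (ξ : X →* Q) (hξ : ξ.ker ≤ center X) (η₁ η₂ : G →* X) (h : ξ.comp η₁ = ξ.comp η₂) :
    η₁ = η₂ := by
  have hz : ∀ g : G, η₁ g * (η₂ g)⁻¹ ∈ center X := by
    intro g
    apply hξ
    rw [MonoidHom.mem_ker, map_mul, map_inv]
    have := DFunLike.congr_fun h g
    simp only [MonoidHom.comp_apply] at this
    rw [this, mul_inv_cancel]
  have hle : commutator G ≤ MonoidHom.eqLocus η₁ η₂ := by
    rw [commutator_eq_closure, Subgroup.closure_le]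
    rintro g ⟨a, b, rfl⟩
    show η₁ ⁅a, b⁆ = η₂ ⁅a, b⁆
    rw [map_commutatorElement, map_commutatorElement]
    have := commutatorElement_central_mul (hz a) (hz b) (η₂ a) (η₂ b)
    rw [inv_mul_cancel_right, inv_mul_cancel_right] at this
    exact this
  ext g
  have : g ∈ commutator G := by rw [hG.commutator_eq_top]; exact Subgroup.mem_top g
  exact hle this

/-- a stem extension of a perfect group is perfect -/
theorem isPerfect_of_stem {E G : Type*} [Group E] [Group G] [hG : Group.IsPerfect G] (τ : E →* G)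
    (hτ : Function.Surjective τ) (hk : τ.ker ≤ commutator E) : Group.IsPerfect E := by
  refine ⟨eq_top_iff.mpr fun e _ => ?_⟩
  have h1 : τ e ∈ (commutator E).map τ := by
    have : (commutator E).map τ = commutator G := by
      rw [commutator_def, commutator_def, Subgroup.map_commutator,
        ← MonoidHom.range_eq_map, MonoidHom.range_eq_top.mpr hτ]
    rw [this, hG.commutator_eq_top]; exact Subgroup.mem_top _
  obtain ⟨c, hc, hce⟩ := h1
  have h2 : e * c⁻¹ ∈ τ.ker := by
    rw [MonoidHom.mem_ker, map_mul, map_inv, hce, mul_inv_cancel]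
  have h3 := (commutator E).mul_mem (hk h2) hc
  rwa [inv_mul_cancel_right] at h3

/-- in a central extension `ρ : P → G` of a perfect group, every element is a product of an element of
the commutator subgroup and a central element of the kernel -/
theorem exists_mul_of_central_ext_perfect {P G : Type*} [Group P] [Group G] [hG : Group.IsPerfect G]
    (ρ : P →* G) (hρ : Function.Surjective ρ) (p : P) :
    ∃ d ∈ commutator P, ∃ z ∈ ρ.ker, p = z * d := by
  have h1 : ρ p ∈ (commutator P).map ρ := by
    have : (commutator P).map ρ = commutator G := by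
      rw [commutator_def, commutator_def, Subgroup.map_commutator,
        ← MonoidHom.range_eq_map, MonoidHom.range_eq_top.mpr hρ]
    rw [this, hG.commutator_eq_top]; exact Subgroup.mem_top _
  obtain ⟨d, hd, hdp⟩ := h1
  refine ⟨d, hd, p * d⁻¹, ?_, by group⟩
  rw [MonoidHom.mem_ker, map_mul, map_inv, hdp, mul_inv_cancel]

/-- the commutator subgroup of a central extension of a perfect group is perfect -/
theorem commutator_isPerfect_of_central_ext {P G : Type*} [Group P] [Group G]
    [hG : Group.IsPerfect G] (ρ : P →* G) (hρ : Function.Surjective ρ) (hk : ρ.ker ≤ center P) :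
    Group.IsPerfect (commutator P) := by
  rw [Subgroup.isPerfect_iff]
  apply le_antisymm (Subgroup.commutator_le_left _ _)
  have hsub : commutatorSet P ⊆ (⁅commutator P, commutator P⁆ : Subgroup P) := by
    rintro g ⟨a, b, rfl⟩
    obtain ⟨d₁, hd₁, z₁, hz₁, rfl⟩ := exists_mul_of_central_ext_perfect ρ hρ a
    obtain ⟨d₂, hd₂, z₂, hz₂, rfl⟩ := exists_mul_of_central_ext_perfect ρ hρ b
    rw [SetLike.mem_coe, commutatorElement_central_mul (hk hz₁) (hk hz₂)]
    exact Subgroup.commutator_mem_commutator hd₁ hd₂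
  calc commutator P = Subgroup.closure (commutatorSet P) := commutator_eq_closure P
    _ ≤ ⁅commutator P, commutator P⁆ := (Subgroup.closure_le _).mpr hsub

/-- the restriction of a central extension of a perfect group to the commutator subgroup -/
theorem restrict_commutator_isStem {P G : Type*} [Group P] [Group G]
    [hG : Group.IsPerfect G] (ρ : P →* G) (hρ : Function.Surjective ρ) (hk : ρ.ker ≤ center P) :
    Cfsg.IsStemExtension (ρ.comp (commutator P).subtype) := by
  have hperf := commutator_isPerfect_of_central_ext ρ hρ hk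
  refine ⟨?_, ?_, ?_⟩
  · intro g
    obtain ⟨p, rfl⟩ := hρ g
    obtain ⟨d, hd, z, hz, rfl⟩ := exists_mul_of_central_ext_perfect ρ hρ p
    refine ⟨⟨d, hd⟩, ?_⟩
    rw [MonoidHom.comp_apply, map_mul, MonoidHom.mem_ker.mp hz, one_mul]
    rfl
  · intro x hx
    rw [Subgroup.mem_center_iff]
    intro y
    have hx' : (x : P) ∈ ρ.ker := hx
    have := Subgroup.mem_center_iff.mp (hk hx') (y : P)
    exact Subtype.ext this
  · intro x _
    rw [hperf.commutator_eq_top]
    exact Subgroup.mem_top x

theorem universal_of_trivial_multiplier {G : Type u} {Q : Type v} [Group G] [Group Q] [Finite G]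
    (hG : Group.IsPerfect G) (π : G →* Q)
    (hM : Cfsg.HasCyclicSchurMultiplier G 1)
    (X : Type u) [Group X] (ξ : X →* Q) (hξ : Function.Surjective ξ) (hξk : ξ.ker ≤ center X) :
    ∃ η : G →* X, ξ.comp η = π := by
  let P : Subgroup (G × X) := (π.comp (MonoidHom.fst G X)).eqLocus (ξ.comp (MonoidHom.snd G X))
  have hP : ∀ t : G × X, t ∈ P ↔ π t.1 = ξ t.2 := fun t => Iff.rfl
  let ρ : P →* G := (MonoidHom.fst G X).comp P.subtype
  have hρ : Function.Surjective ρ := by
    intro g
    obtain ⟨x, hx⟩ := hξ (π g)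
    exact ⟨⟨(g, x), (hP _).mpr hx.symm⟩, rfl⟩
  have hρk : ρ.ker ≤ center P := by
    intro t ht
    have h1 : (t : G × X).1 = 1 := ht
    have h2 : (t : G × X).2 ∈ ξ.ker := by
      rw [MonoidHom.mem_ker, ← (hP _).mp t.2, h1, map_one]
    rw [Subgroup.mem_center_iff]
    intro s
    apply Subtype.ext
    apply Prod.ext
    · show (s : G × X).1 * (t : G × X).1 = (t : G × X).1 * (s : G × X).1
      rw [h1, mul_one, one_mul]
    · show (s : G × X).2 * (t : G × X).2 = (t : G × X).2 * (s : G × X).2
      exact Subgroup.mem_center_iff.mp (hξk h2) _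
  have : Finite (P ⧸ ρ.ker) :=
    Finite.of_equiv G (QuotientGroup.quotientKerEquivOfSurjective ρ hρ).symm.toEquiv
  have : ρ.ker.FiniteIndex := Subgroup.finiteIndex_of_finite_quotient
  have : Finite (commutator P) := finite_commutator_of_central_finiteIndex ρ.ker hρk
  have hstem := restrict_commutator_isStem ρ hρ hρk
  have hker := ker_eq_bot_of_hasCyclicSchurMultiplier_one hM (commutator P) _ hstem
  have hinj : Function.Injective (ρ.comp (commutator P).subtype) :=
    (MonoidHom.ker_eq_bot_iff _).mp hker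
  let e : commutator P ≃* G := MulEquiv.ofBijective _ ⟨hinj, hstem.1⟩
  refine ⟨(MonoidHom.snd G X).comp (P.subtype.comp ((commutator P).subtype.comp e.symm.toMonoidHom)), ?_⟩
  ext g
  have h1 : e (e.symm g) = g := e.apply_symm_apply g
  have h2 : (((e.symm g : commutator P) : P) : G × X).1 = g := h1
  have h3 := (hP _).mp ((e.symm g : commutator P) : P).2
  show ξ (((e.symm g : commutator P) : P) : G × X).2 = π g
  rw [← h3, h2]

theorem trivial_multiplier_of_universal {G : Type u} {Q : Type v} [Group G] [Group Q] [Finite G]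
    (hG : Group.IsPerfect G) (π : G →* Q) (hπ : Function.Surjective π) (hker : π.ker ≤ center G)
    (huniv : ∀ (X : Type u) [Group X] (ξ : X →* Q), Function.Surjective ξ → ξ.ker ≤ center X →
      ∃ η : G →* X, ξ.comp η = π) :
    Cfsg.HasCyclicSchurMultiplier G 1 := by
  apply hasCyclicSchurMultiplier_one_of_forall
  intro E _ _ τ hτ
  obtain ⟨hτs, hτc, hτk⟩ := hτ
  have hE : Group.IsPerfect E := isPerfect_of_stem τ hτs hτk
  -- the composite is a central extension
  have hcen : (π.comp τ).ker ≤ center E := by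
    intro e he
    have h1 : τ e ∈ center G := hker (by rw [MonoidHom.mem_ker]; exact he)
    have h2 : (MulAut.conj e).toMonoidHom = MonoidHom.id E := by
      apply perfect_lift_unique τ hτc
      ext y
      show τ (e * y * e⁻¹) = τ y
      rw [map_mul, map_mul, map_inv, (Subgroup.mem_center_iff.mp h1 (τ y)).symm, mul_inv_cancel_right]
    rw [Subgroup.mem_center_iff]
    intro y
    have := DFunLike.congr_fun h2 y
    have h3 : e * y * e⁻¹ = y := this
    calc y * e = (e * y * e⁻¹) * e := by rw [h3]
      _ = e * y := by group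
  obtain ⟨η, hη⟩ := huniv E (π.comp τ) (hπ.comp hτs) hcen
  have hid : τ.comp η = MonoidHom.id G := by
    apply perfect_lift_unique π hker
    rw [← MonoidHom.comp_assoc, hη]; rfl
  have hid' : ∀ g : G, τ (η g) = g := fun g => DFunLike.congr_fun hid g
  -- every commutator lies in the range of `η`
  have hrange : commutator E ≤ η.range := by
    rw [commutator_eq_closure, Subgroup.closure_le]
    rintro c ⟨a, b, rfl⟩
    have hza : a * (η (τ a))⁻¹ ∈ center E := by
      apply hτc; rw [MonoidHom.mem_ker, map_mul, map_inv, hid', mul_inv_cancel]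
    have hzb : b * (η (τ b))⁻¹ ∈ center E := by
      apply hτc; rw [MonoidHom.mem_ker, map_mul, map_inv, hid', mul_inv_cancel]
    have := commutatorElement_central_mul hza hzb (η (τ a)) (η (τ b))
    rw [inv_mul_cancel_right, inv_mul_cancel_right] at this
    rw [SetLike.mem_coe, this, ← map_commutatorElement]
    exact ⟨_, rfl⟩
  rw [eq_bot_iff]
  intro e he
  have he' : e ∈ η.range := hrange (by rw [hE.commutator_eq_top]; exact Subgroup.mem_top e)
  obtain ⟨g, rfl⟩ := he'
  rw [MonoidHom.mem_ker, hid'] at he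
  rw [Subgroup.mem_bot, he, map_one]

end Cfsg.Agent.Lib.Helper70
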