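import Mathlib
import Cfsg.Prelude.Def_KGroupFacts
import Cfsg.Agent.Lib.Helper70.SchurBasic

set_option autoImplicit false

namespace Cfsg.Agent.Lib.Helper70

open Subgroup
open scoped commutatorElement

universe u v w

/-- complement lemma: a subgroup `N` of an abelian group mapping to a free abelian group of finite rank
contains a subgroup `S` meeting the kernel trivially and with the same image. -/
theorem exists_complement_of_free {Z B : Type*} [CommGroup Z] [CommGroup B] {ι : Type*} [Finite ι]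
    (b : Module.Basis ι ℤ (Additive B)) (θ : Z →* B) (N : Subgroup Z) :
    ∃ S : Subgroup Z, S ≤ N ∧ S ⊓ θ.ker = ⊥ ∧ S.map θ = N.map θ := by
  let θl : Additive Z →ₗ[ℤ] Additive B := (MonoidHom.toAdditive θ).toIntLinearMap
  have hθl : ∀ a : Additive Z, θl a = Additive.ofMul (θ (Additive.toMul a)) := fun a => rfl
  let Nl : Submodule ℤ (Additive Z) := AddSubgroup.toIntSubmodule (Subgroup.toAddSubgroup N)
  have hNl : ∀ a : Additive Z, a ∈ Nl ↔ Additive.toMul a ∈ N := fun a => Iff.rfl
  let L : Submodule ℤ (Additive B) := Nl.map θl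
  obtain ⟨n, ⟨bL⟩⟩ := Submodule.nonempty_basis_of_pid b L
  have : Module.Free ℤ L := Module.Free.of_basis bL
  let f : Nl →ₗ[ℤ] L := (θl.domRestrict Nl).codRestrict L (fun x => ⟨x, x.2, rfl⟩)
  have hf : Function.Surjective f := by
    rintro ⟨y, x, hx, rfl⟩
    exact ⟨⟨x, hx⟩, rfl⟩
  obtain ⟨h, hh⟩ := Module.projective_lifting_property f LinearMap.id hf
  have hh' : ∀ l : L, f (h l) = l := fun l => LinearMap.congr_fun hh l
  have hval : ∀ l : L, θ (Additive.toMul ((h l : Nl) : Additive Z)) = Additive.toMul (l : Additive B) := by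
    intro l
    have := congrArg Subtype.val (hh' l)
    exact congrArg Additive.toMul this
  let S : Subgroup Z :=
    { carrier := {z | ∃ l : L, Additive.toMul ((h l : Nl) : Additive Z) = z}
      one_mem' := ⟨0, by simp⟩
      mul_mem' := by
        rintro _ _ ⟨l₁, rfl⟩ ⟨l₂, rfl⟩
        exact ⟨l₁ + l₂, by simp⟩
      inv_mem' := by
        rintro _ ⟨l, rfl⟩
        exact ⟨-l, by simp⟩ }
  have hS : ∀ z : Z, z ∈ S ↔ ∃ l : L, Additive.toMul ((h l : Nl) : Additive Z) = z := fun z => Iff.rfl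
  refine ⟨S, ?_, ?_, ?_⟩
  · rintro z ⟨l, rfl⟩
    exact (hNl _).mp (h l).2
  · rw [eq_bot_iff]
    rintro z ⟨⟨l, rfl⟩, hz⟩
    have hz' : θ (Additive.toMul ((h l : Nl) : Additive Z)) = 1 := hz
    rw [hval] at hz'
    have hl : l = 0 := by
      apply Subtype.ext
      exact hz'
    rw [Subgroup.mem_bot, hl]
    simp
  · apply le_antisymm
    · apply Subgroup.map_mono
      rintro z ⟨l, rfl⟩
      exact (hNl _).mp (h l).2
    · rintro _ ⟨x, hx, rfl⟩
      let l : L := ⟨Additive.ofMul (θ x), Additive.ofMul x, (hNl _).mpr hx, rfl⟩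
      refine ⟨Additive.toMul ((h l : Nl) : Additive Z), ⟨l, rfl⟩, ?_⟩
      rw [hval]
      rfl

section Pres

variable {Q : Type u} [Group Q] {X : Type w} (p : X → Q)

/-- the homomorphism from the free group on `X` induced by `p : X → Q` -/
def presHom : FreeGroup X →* Q := FreeGroup.lift p

/-- the relation subgroup `R` -/
def presR : Subgroup (FreeGroup X) := (presHom p).ker

instance presR_normal : (presR p).Normal := by
  unfold presR; infer_instance

/-- `[R, F]` -/
def presC : Subgroup (FreeGroup X) := ⁅presR p, ⊤⁆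

instance presC_normal : (presC p).Normal := by
  unfold presC; infer_instance

theorem presC_le_presR : presC p ≤ presR p := Subgroup.commutator_le_left _ _

theorem presC_le_commutator : presC p ≤ commutator (FreeGroup X) :=
  Subgroup.commutator_mono le_top le_rfl

/-- `H = F / [R, F]` -/
abbrev PresH := FreeGroup X ⧸ presC p

/-- the induced map `H → Q` -/
def presπ : PresH p →* Q :=
  QuotientGroup.lift (presC p) (presHom p) (fun _ hx => presC_le_presR p hx)

@[simp] theorem presπ_mk (x : FreeGroup X) : presπ p (QuotientGroup.mk x) = presHom p x := rfl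

theorem presHom_surjective (hp : Function.Surjective p) : Function.Surjective (presHom p) := by
  intro q
  obtain ⟨x, rfl⟩ := hp q
  exact ⟨FreeGroup.of x, by simp [presHom]⟩

theorem presπ_surjective' (hp : Function.Surjective (presHom p)) :
    Function.Surjective (presπ p) := by
  intro q
  obtain ⟨x, rfl⟩ := hp q
  exact ⟨QuotientGroup.mk x, rfl⟩

theorem mem_presπ_ker (h : PresH p) :
    h ∈ (presπ p).ker ↔ ∃ r ∈ presR p, (QuotientGroup.mk r : PresH p) = h := by
  constructor
  · intro hh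
    obtain ⟨x, rfl⟩ := QuotientGroup.mk_surjective h
    exact ⟨x, hh, rfl⟩
  · rintro ⟨r, hr, rfl⟩
    exact hr

theorem presπ_ker_le_center : (presπ p).ker ≤ center (PresH p) := by
  intro h hh
  obtain ⟨r, hr, rfl⟩ := (mem_presπ_ker p h).mp hh
  rw [Subgroup.mem_center_iff]
  intro g
  obtain ⟨y, rfl⟩ := QuotientGroup.mk_surjective g
  have hc : ⁅r, y⁆ ∈ presC p := Subgroup.commutator_mem_commutator hr (Subgroup.mem_top y)
  have h1 : (QuotientGroup.mk ⁅r, y⁆ : PresH p) = 1 := (QuotientGroup.eq_one_iff _).mpr hc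
  rw [commutatorElement_def] at h1
  have h2 : (QuotientGroup.mk r : PresH p) * QuotientGroup.mk y * (QuotientGroup.mk r)⁻¹ *
      (QuotientGroup.mk y)⁻¹ = 1 := by
    simpa using h1
  calc (QuotientGroup.mk y : PresH p) * QuotientGroup.mk r
      = ((QuotientGroup.mk r : PresH p) * QuotientGroup.mk y * (QuotientGroup.mk r)⁻¹ *
          (QuotientGroup.mk y)⁻¹)⁻¹ * (QuotientGroup.mk r * QuotientGroup.mk y) := by group
    _ = QuotientGroup.mk r * QuotientGroup.mk y := by rw [h2, inv_one, one_mul]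

/-- **lifting property**: `H` maps to every central extension of `Q` -/
theorem exists_lift_presH {Δ : Type v} [Group Δ] (τ : Δ →* Q) (hτ : Function.Surjective τ)
    (hk : τ.ker ≤ center Δ) : ∃ φ : PresH p →* Δ, τ.comp φ = presπ p := by
  choose s hs using hτ
  let φ₀ : FreeGroup X →* Δ := FreeGroup.lift (fun x => s (p x))
  have h0 : τ.comp φ₀ = presHom p := by
    ext x
    simp [φ₀, presHom, hs]
  have hR : ∀ r ∈ presR p, φ₀ r ∈ center Δ := by
    intro r hr
    apply hk
    rw [MonoidHom.mem_ker, ← MonoidHom.comp_apply, h0]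
    exact hr
  have hC : presC p ≤ φ₀.ker := by
    unfold presC
    rw [Subgroup.commutator_le]
    intro r hr y _
    rw [MonoidHom.mem_ker, map_commutatorElement, commutatorElement_eq_one_iff_commute]
    exact (Subgroup.mem_center_iff.mp (hR r hr) (φ₀ y)).symm
  refine ⟨QuotientGroup.lift (presC p) φ₀ hC, ?_⟩
  apply MonoidHom.ext
  intro h
  obtain ⟨y, rfl⟩ := QuotientGroup.mk_surjective h
  show τ (φ₀ y) = presHom p y
  rw [← h0]; rfl

/-- the map `H → F^ab` -/
def presθ : PresH p →* Abelianization (FreeGroup X) :=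
  QuotientGroup.lift (presC p) Abelianization.of (by
    rw [Abelianization.ker_of]; exact presC_le_commutator p)

theorem presθ_ker : (presθ p).ker = commutator (PresH p) := by
  have hmap : commutator (PresH p) = (commutator (FreeGroup X)).map (QuotientGroup.mk' (presC p)) := by
    rw [commutator_def, commutator_def, Subgroup.map_commutator,
      ← MonoidHom.range_eq_map, MonoidHom.range_eq_top.mpr (QuotientGroup.mk'_surjective _)]
  apply le_antisymm
  · intro h hh
    obtain ⟨y, rfl⟩ := QuotientGroup.mk_surjective h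
    have : y ∈ (Abelianization.of : FreeGroup X →* _).ker := hh
    rw [Abelianization.ker_of] at this
    rw [hmap]
    exact ⟨y, this, rfl⟩
  · exact Abelianization.commutator_subset_ker _

end Pres

section Pres2

variable {Q : Type u} [Group Q] {X : Type w} (p : X → Q)

/-- the multiplier subgroup `M = R̄ ∩ H'` of `H` -/
def presM : Subgroup (PresH p) := (presπ p).ker ⊓ commutator (PresH p)

theorem presM_le_ker : presM p ≤ (presπ p).ker := inf_le_left
theorem presM_le_commutator : presM p ≤ commutator (PresH p) := inf_le_right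
theorem presM_le_center : presM p ≤ center (PresH p) :=
  (presM_le_ker p).trans (presπ_ker_le_center p)

variable {p}

theorem lift_surjective_of_stem' (hp : Function.Surjective (presHom p)) {Δ : Type v} [Group Δ] (τ : Δ →* Q)
    (hτ : Cfsg.IsStemExtension τ) (φ : PresH p →* Δ) (hφ : τ.comp φ = presπ p) :
    Function.Surjective φ := by
  obtain ⟨hτs, hτc, hτk⟩ := hτ
  have hφ' : ∀ h, τ (φ h) = presπ p h := fun h => DFunLike.congr_fun hφ h
  have hdecomp : ∀ δ : Δ, ∃ h : PresH p, δ * (φ h)⁻¹ ∈ τ.ker := by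
    intro δ
    obtain ⟨h, hh⟩ := presπ_surjective' p hp (τ δ)
    refine ⟨h, ?_⟩
    rw [MonoidHom.mem_ker, map_mul, map_inv, hφ', hh, mul_inv_cancel]
  have hcomm : commutator Δ ≤ φ.range := by
    rw [commutator_eq_closure, Subgroup.closure_le]
    rintro c ⟨a, b, rfl⟩
    obtain ⟨ha, hza⟩ := hdecomp a
    obtain ⟨hb, hzb⟩ := hdecomp b
    have := commutatorElement_central_mul (hτc hza) (hτc hzb) (φ ha) (φ hb)
    rw [inv_mul_cancel_right, inv_mul_cancel_right] at this
    rw [SetLike.mem_coe, this, ← map_commutatorElement]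
    exact ⟨_, rfl⟩
  intro δ
  obtain ⟨h, hz⟩ := hdecomp δ
  have h1 : δ * (φ h)⁻¹ ∈ φ.range := hcomm (hτk hz)
  have h2 := φ.range.mul_mem h1 (⟨h, rfl⟩ : φ h ∈ φ.range)
  rw [inv_mul_cancel_right] at h2
  exact h2

theorem map_presM_of_stem' (hp : Function.Surjective (presHom p)) {Δ : Type v} [Group Δ] (τ : Δ →* Q)
    (hτ : Cfsg.IsStemExtension τ) (φ : PresH p →* Δ) (hφ : τ.comp φ = presπ p) :
    (presM p).map φ = τ.ker := by
  have hsurj := lift_surjective_of_stem' hp τ hτ φ hφ
  obtain ⟨hτs, hτc, hτk⟩ := hτ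
  have hφ' : ∀ h, τ (φ h) = presπ p h := fun h => DFunLike.congr_fun hφ h
  apply le_antisymm
  · rintro _ ⟨h, hh, rfl⟩
    rw [MonoidHom.mem_ker, hφ']
    exact presM_le_ker p hh
  · intro z hz
    have h1 : z ∈ (commutator (PresH p)).map φ := by
      have : (commutator (PresH p)).map φ = commutator Δ := by
        rw [commutator_def, commutator_def, Subgroup.map_commutator,
          ← MonoidHom.range_eq_map, MonoidHom.range_eq_top.mpr hsurj]
      rw [this]; exact hτk hz
    obtain ⟨c, hc, rfl⟩ := h1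
    refine ⟨c, ⟨?_, hc⟩, rfl⟩
    show presπ p c = 1
    rw [← hφ']
    exact hz

end Pres2

section Pres3

variable {Q : Type u} [Group Q] {X : Type w} {p : X → Q}

open scoped IsMulCommutative in
theorem exists_presComplement [Finite X] (N : Subgroup (PresH p)) (hN : N ≤ (presπ p).ker)
    (hNM : ∀ r ∈ (presπ p).ker, ∃ n ∈ N, ∃ m ∈ presM p, r = n * m) :
    ∃ S : Subgroup (PresH p), S ≤ N ∧ S ⊓ presM p = ⊥ ∧
      ∀ r ∈ (presπ p).ker, ∃ s ∈ S, ∃ m ∈ presM p, r = s * m := by
  have hNZ : N ≤ center (PresH p) := hN.trans (presπ_ker_le_center p)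
  let θZ : center (PresH p) →* Abelianization (FreeGroup X) := (presθ p).comp (center (PresH p)).subtype
  let b : Module.Basis X ℤ (Additive (Abelianization (FreeGroup X))) := FreeAbelianGroup.basis X
  obtain ⟨SZ, hSZN, hSZk, hSZm⟩ := exists_complement_of_free (Z := center (PresH p)) b θZ (N.subgroupOf (center (PresH p)))
  refine ⟨SZ.map (center (PresH p)).subtype, ?_, ?_, ?_⟩
  · rintro _ ⟨z, hz, rfl⟩
    exact hSZN hz
  · rw [eq_bot_iff]
    rintro _ ⟨⟨z, hz, rfl⟩, hzM⟩
    have h1 : z ∈ θZ.ker := by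
      rw [MonoidHom.mem_ker]
      show presθ p (z : PresH p) = 1
      rw [← MonoidHom.mem_ker, presθ_ker]
      exact presM_le_commutator p hzM
    have h2 : z ∈ SZ ⊓ θZ.ker := ⟨hz, h1⟩
    rw [hSZk, Subgroup.mem_bot] at h2
    rw [Subgroup.mem_bot, h2]; rfl
  · intro r hr
    obtain ⟨n, hn, m₀, hm₀, rfl⟩ := hNM r hr
    have hnZ : n ∈ center (PresH p) := hNZ hn
    have h1 : θZ ⟨n, hnZ⟩ ∈ (N.subgroupOf (center (PresH p))).map θZ :=
      ⟨⟨n, hnZ⟩, by rw [SetLike.mem_coe, Subgroup.mem_subgroupOf]; exact hn, rfl⟩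
    rw [← hSZm] at h1
    obtain ⟨s, hs, hsn⟩ := h1
    have hsN : (s : PresH p) ∈ N := hSZN hs
    have hθ : presθ p (s : PresH p) = presθ p n := hsn
    refine ⟨(s : PresH p), ⟨s, hs, rfl⟩, (s : PresH p)⁻¹ * n * m₀, ?_, by group⟩
    apply (presM p).mul_mem _ hm₀
    refine ⟨?_, ?_⟩
    · exact (presπ p).ker.mul_mem ((presπ p).ker.inv_mem (hN hsN)) (hN hn)
    · rw [← presθ_ker]
      show presθ p ((s : PresH p)⁻¹ * n) = 1
      rw [map_mul, map_inv, hθ, inv_mul_cancel]

end Pres3

theorem normal_of_le_center {G : Type*} [Group G] {S : Subgroup G} (h : S ≤ center G) : S.Normal := by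
  refine ⟨fun s hs g => ?_⟩
  have : g * s * g⁻¹ = s := by
    rw [(Subgroup.mem_center_iff.mp (h hs) g), mul_inv_cancel_right]
  rw [this]; exact hs

/-- a group with a finite normal subgroup and finite quotient is finite -/
theorem finite_of_finite_ker_of_finite_range {G K : Type*} [Group G] [Group K] (f : G →* K)
    [Finite f.ker] [Finite K] : Finite G := by
  have : Finite (G ⧸ f.ker) :=
    Finite.of_injective _ (QuotientGroup.kerLift_injective f)
  exact Finite.of_equiv _ (Subgroup.groupEquivQuotientProdSubgroup (s := f.ker)).symm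

section Cover

variable {Q : Type u} [Group Q] {X : Type w} {p : X → Q}

theorem finite_commutator_presH' [Finite Q] (hp : Function.Surjective (presHom p)) :
    Finite (commutator (PresH p)) := by
  have : Finite (PresH p ⧸ (presπ p).ker) :=
    Finite.of_equiv Q (QuotientGroup.quotientKerEquivOfSurjective (presπ p)
      (presπ_surjective' p hp)).symm.toEquiv
  have : (presπ p).ker.FiniteIndex := Subgroup.finiteIndex_of_finite_quotient
  exact finite_commutator_of_central_finiteIndex (presπ p).ker (presπ_ker_le_center p)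

theorem finite_presM' [Finite Q] (hp : Function.Surjective (presHom p)) : Finite (presM p) := by
  have := finite_commutator_presH' (p := p) hp
  exact Finite.of_injective _ (Subgroup.inclusion_injective (presM_le_commutator p))

variable (S : Subgroup (PresH p)) [S.Normal] (hS : S ≤ (presπ p).ker)

/-- the map from the quotient `H / S` to `Q` -/
def coverHom : PresH p ⧸ S →* Q := QuotientGroup.lift S (presπ p) hS

@[simp] theorem coverHom_mk (h : PresH p) :
    coverHom S hS (QuotientGroup.mk h) = presπ p h := rfl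

theorem coverHom_surjective' (hp : Function.Surjective (presHom p)) : Function.Surjective (coverHom S hS) := by
  intro q
  obtain ⟨h, rfl⟩ := presπ_surjective' p hp q
  exact ⟨QuotientGroup.mk h, rfl⟩

theorem mem_coverHom_ker (y : PresH p ⧸ S) :
    y ∈ (coverHom S hS).ker ↔ ∃ r ∈ (presπ p).ker, (QuotientGroup.mk r : PresH p ⧸ S) = y := by
  constructor
  · intro hy
    obtain ⟨h, rfl⟩ := QuotientGroup.mk_surjective y
    exact ⟨h, hy, rfl⟩
  · rintro ⟨r, hr, rfl⟩
    exact hr

theorem coverHom_isStem' (hp : Function.Surjective (presHom p))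
    (hdec : ∀ r ∈ (presπ p).ker, ∃ s ∈ S, ∃ m ∈ presM p, r = s * m) :
    Cfsg.IsStemExtension (coverHom S hS) := by
  refine ⟨coverHom_surjective' S hS hp, ?_, ?_⟩
  · intro y hy
    obtain ⟨r, hr, rfl⟩ := (mem_coverHom_ker S hS y).mp hy
    rw [Subgroup.mem_center_iff]
    intro g
    obtain ⟨h, rfl⟩ := QuotientGroup.mk_surjective g
    have := Subgroup.mem_center_iff.mp (presπ_ker_le_center p hr) h
    show (QuotientGroup.mk (h * r) : PresH p ⧸ S) = QuotientGroup.mk (r * h)
    rw [this]
  · intro y hy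
    obtain ⟨r, hr, rfl⟩ := (mem_coverHom_ker S hS y).mp hy
    obtain ⟨s, hs, m, hm, rfl⟩ := hdec r hr
    have h1 : (QuotientGroup.mk (s * m) : PresH p ⧸ S) = QuotientGroup.mk m := by
      rw [QuotientGroup.mk_mul, (QuotientGroup.eq_one_iff s).mpr hs, one_mul]
    rw [h1]
    have hmap : (commutator (PresH p)).map (QuotientGroup.mk' S) = commutator (PresH p ⧸ S) := by
      rw [commutator_def, commutator_def, Subgroup.map_commutator,
        ← MonoidHom.range_eq_map, MonoidHom.range_eq_top.mpr (QuotientGroup.mk'_surjective _)]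
    rw [← hmap]
    exact ⟨m, presM_le_commutator p hm, rfl⟩

theorem coverHom_kerEquiv (hSM : S ⊓ presM p = ⊥)
    (hdec : ∀ r ∈ (presπ p).ker, ∃ s ∈ S, ∃ m ∈ presM p, r = s * m) :
    Nonempty (presM p ≃* (coverHom S hS).ker) := by
  let f : presM p →* (coverHom S hS).ker :=
    ((QuotientGroup.mk' S).comp (presM p).subtype).codRestrict (coverHom S hS).ker (by
      intro m
      exact (mem_coverHom_ker S hS _).mpr ⟨m, presM_le_ker p m.2, rfl⟩)
  have hf : ∀ m : presM p, ((f m : (coverHom S hS).ker) : PresH p ⧸ S) = QuotientGroup.mk (m : PresH p) :=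
    fun m => rfl
  refine ⟨MulEquiv.ofBijective f ⟨?_, ?_⟩⟩
  · rw [injective_iff_map_eq_one]
    intro m hm
    have h1 : (QuotientGroup.mk (m : PresH p) : PresH p ⧸ S) = 1 := by
      rw [← hf, hm]; rfl
    have h2 : (m : PresH p) ∈ S := (QuotientGroup.eq_one_iff _).mp h1
    have h3 : (m : PresH p) ∈ S ⊓ presM p := ⟨h2, m.2⟩
    rw [hSM, Subgroup.mem_bot] at h3
    exact Subtype.ext h3
  · rintro ⟨y, hy⟩
    obtain ⟨r, hr, rfl⟩ := (mem_coverHom_ker S hS y).mp hy
    obtain ⟨s, hs, m, hm, rfl⟩ := hdec r hr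
    refine ⟨⟨m, hm⟩, Subtype.ext ?_⟩
    rw [hf]
    show (QuotientGroup.mk m : PresH p ⧸ S) = QuotientGroup.mk (s * m)
    rw [QuotientGroup.mk_mul, (QuotientGroup.eq_one_iff s).mpr hs, one_mul]

theorem finite_cover' [Finite Q] (hp : Function.Surjective (presHom p)) (hS₂ : S ≤ (presπ p).ker)
    (hSM : S ⊓ presM p = ⊥)
    (hdec : ∀ r ∈ (presπ p).ker, ∃ s ∈ S, ∃ m ∈ presM p, r = s * m) :
    Finite (PresH p ⧸ S) := by
  obtain ⟨e⟩ := coverHom_kerEquiv S hS₂ hSM hdec
  have := finite_presM' (p := p) hp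
  have : Finite (coverHom S hS₂).ker := Finite.of_equiv _ e.toEquiv
  exact finite_of_finite_ker_of_finite_range (coverHom S hS₂)

end Cover

section Main

variable {Q : Type u} [Group Q]

/-- the multiplier of `Q` as a commutative group -/
noncomputable instance presM_commGroup {X : Type w} (p : X → Q) : CommGroup (presM p) :=
  { (inferInstance : Group (presM p)) with
    mul_comm := fun a b => Subtype.ext
      ((Subgroup.mem_center_iff.mp (presM_le_center p b.2) (a : PresH p))) }

/-- the canonical multiplier of `Q` -/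
abbrev SchurM (Q : Type u) [Group Q] : Subgroup (PresH (id : Q → Q)) := presM (id : Q → Q)

theorem exists_schur_cover_over [Finite Q] {Δ : Type v} [Group Δ] (τ : Δ →* Q)
    (hτ : Cfsg.IsStemExtension τ) :
    ∃ (Γ : Type u) (_ : Group Γ) (_ : Finite Γ) (σ : Γ →* Q), Cfsg.IsStemExtension σ ∧
      Nonempty (SchurM Q ≃* σ.ker) ∧ ∃ β : Γ →* Δ, Function.Surjective β ∧ τ.comp β = σ := by
  have hp : Function.Surjective (presHom (id : Q → Q)) :=
    presHom_surjective _ Function.surjective_id
  obtain ⟨φ, hφ⟩ := exists_lift_presH (id : Q → Q) τ hτ.1 hτ.2.1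
  have hφs := lift_surjective_of_stem' hp τ hτ φ hφ
  have hφM := map_presM_of_stem' hp τ hτ φ hφ
  have hφ' : ∀ h, τ (φ h) = presπ id h := fun h => DFunLike.congr_fun hφ h
  let N : Subgroup (PresH (id : Q → Q)) := φ.ker ⊓ (presπ id).ker
  have hNM : ∀ r ∈ (presπ (id : Q → Q)).ker, ∃ n ∈ N, ∃ m ∈ presM (id : Q → Q), r = n * m := by
    intro r hr
    have h1 : φ r ∈ τ.ker := by rw [MonoidHom.mem_ker, hφ']; exact hr
    rw [← hφM] at h1
    obtain ⟨m, hm, hmr⟩ := h1
    refine ⟨r * m⁻¹, ⟨?_, ?_⟩, m, hm, by group⟩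
    · show φ (r * m⁻¹) = 1
      rw [map_mul, map_inv, hmr, mul_inv_cancel]
    · exact (presπ id).ker.mul_mem hr ((presπ id).ker.inv_mem (presM_le_ker _ hm))
  obtain ⟨S, hSN, hSM, hdec⟩ := exists_presComplement N inf_le_right hNM
  have hS : S ≤ (presπ (id : Q → Q)).ker := hSN.trans inf_le_right
  have : S.Normal := normal_of_le_center (hS.trans (presπ_ker_le_center _))
  have : Finite (PresH (id : Q → Q) ⧸ S) := finite_cover' S hp hS hSM hdec
  refine ⟨PresH (id : Q → Q) ⧸ S, inferInstance, inferInstance, coverHom S hS,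
    coverHom_isStem' S hS hp hdec, coverHom_kerEquiv S hS hSM hdec,
    QuotientGroup.lift S φ (hSN.trans inf_le_left), ?_, ?_⟩
  · intro δ
    obtain ⟨h, rfl⟩ := hφs δ
    exact ⟨QuotientGroup.mk h, rfl⟩
  · apply MonoidHom.ext
    intro y
    obtain ⟨h, rfl⟩ := QuotientGroup.mk_surjective y
    exact hφ' h

/-- **Schur**: every finite group has a Schur multiplier, namely `SchurM Q`. -/
theorem hasSchurMultiplier_schurM [Finite Q] : Cfsg.HasSchurMultiplier Q (SchurM Q) := by
  have hp : Function.Surjective (presHom (id : Q → Q)) :=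
    presHom_surjective _ Function.surjective_id
  constructor
  · have hid : Cfsg.IsStemExtension (MonoidHom.id Q) :=
      ⟨Function.surjective_id, by rw [MonoidHom.ker_id]; exact bot_le,
        by rw [MonoidHom.ker_id]; exact bot_le⟩
    obtain ⟨Γ, hΓ, hfin, σ, hσ, ⟨e⟩, -⟩ := exists_schur_cover_over (MonoidHom.id Q) hid
    exact ⟨Γ, hΓ, hfin, σ, hσ, ⟨e.symm⟩⟩
  · intro Γ _ _ σ hσ
    obtain ⟨φ, hφ⟩ := exists_lift_presH (id : Q → Q) σ hσ.1 hσ.2.1
    have hφM := map_presM_of_stem' hp σ hσ φ hφ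
    refine ⟨(φ.comp (SchurM Q).subtype).codRestrict σ.ker (fun m => ?_), ?_⟩
    · rw [← hφM]; exact ⟨m, m.2, rfl⟩
    · rintro ⟨z, hz⟩
      rw [← hφM] at hz
      obtain ⟨m, hm, rfl⟩ := hz
      exact ⟨⟨m, hm⟩, rfl⟩

/-- uniqueness of the Schur multiplier -/
theorem schurMultiplier_unique [Finite Q] {A : Type v} [CommGroup A]
    (hA : Cfsg.HasSchurMultiplier Q A) : Nonempty (A ≃* SchurM Q) := by
  have hp : Function.Surjective (presHom (id : Q → Q)) :=
    presHom_surjective _ Function.surjective_id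
  have : Finite (SchurM Q) := finite_presM' hp
  obtain ⟨⟨Γ₀, _, _, σ₀, hσ₀, ⟨e₀⟩⟩, hA₂⟩ := hA
  obtain ⟨⟨Γ₁, _, _, σ₁, hσ₁, ⟨e₁⟩⟩, hM₂⟩ := hasSchurMultiplier_schurM (Q := Q)
  obtain ⟨f, hf⟩ := hM₂ Γ₀ σ₀ hσ₀   -- SchurM Q → σ₀.ker ≃ A
  obtain ⟨g, hg⟩ := hA₂ Γ₁ σ₁ hσ₁   -- A → σ₁.ker ≃ SchurM
  let f' : SchurM Q →* A := e₀.toMonoidHom.comp f
  have hf' : Function.Surjective f' := e₀.surjective.comp hf
  let g' : A →* SchurM Q := e₁.toMonoidHom.comp g
  have hg' : Function.Surjective g' := e₁.surjective.comp hg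
  have : Finite A := Finite.of_surjective f' hf'
  have hcard : Nat.card A ≤ Nat.card (SchurM Q) := Nat.card_le_card_of_surjective f' hf'
  have hbij : Function.Bijective g' := by
    refine ⟨?_, hg'⟩
    exact (Function.Surjective.bijective_of_nat_card_le hg' hcard).1
  exact ⟨MulEquiv.ofBijective g' hbij⟩

end Main

theorem exists_surj_of_ker_le {G₁ G₂ G₃ : Type*} [Group G₁] [Group G₂] [Group G₃] (f : G₁ →* G₂)
    (hf : Function.Surjective f) (g : G₁ →* G₃) (hg : Function.Surjective g) (hk : f.ker ≤ g.ker) :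
    ∃ ψ : G₂ →* G₃, Function.Surjective ψ ∧ ψ.comp f = g := by
  refine ⟨f.liftOfSurjective hf ⟨g, hk⟩, ?_, ?_⟩
  · intro z
    obtain ⟨x, rfl⟩ := hg z
    exact ⟨f x, f.liftOfRightInverse_comp_apply _ _ ⟨g, hk⟩ x⟩
  · exact f.liftOfRightInverse_comp _ _ ⟨g, hk⟩

/-- Hopf form of "trivial multiplier" -/
theorem presR_inf_commutator_le_presC_of_trivial {Γ : Type v} [Group Γ] [Finite Γ]
    (hΓ : Cfsg.HasCyclicSchurMultiplier Γ 1) :
    presR (id : Γ → Γ) ⊓ commutator (FreeGroup Γ) ≤ presC (id : Γ → Γ) := by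
  obtain ⟨⟨E, _, _, ρ, hρ, ⟨e⟩⟩, -⟩ := hasSchurMultiplier_schurM (Q := Γ)
  have hker := ker_eq_bot_of_hasCyclicSchurMultiplier_one hΓ E ρ hρ
  have htriv : ∀ m : SchurM Γ, m = 1 := by
    intro m
    have h1 : (e.symm m : ρ.ker) = 1 := by
      have : ((e.symm m : ρ.ker) : E) ∈ (⊥ : Subgroup E) := by
        rw [← hker]; exact (e.symm m).2
      rw [Subgroup.mem_bot] at this
      exact Subtype.ext this
    have := congrArg e h1
    rwa [e.apply_symm_apply, map_one] at this
  intro x hx
  have hm : (QuotientGroup.mk x : PresH (id : Γ → Γ)) ∈ SchurM Γ := by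
    refine ⟨?_, ?_⟩
    · show presπ id (QuotientGroup.mk x) = 1
      exact hx.1
    · have hmap : (commutator (FreeGroup Γ)).map (QuotientGroup.mk' (presC (id : Γ → Γ))) =
          commutator (PresH (id : Γ → Γ)) := by
        rw [_root_.commutator_def, _root_.commutator_def, Subgroup.map_commutator,
          ← MonoidHom.range_eq_map, MonoidHom.range_eq_top.mpr (QuotientGroup.mk'_surjective _)]
      rw [← hmap]
      exact ⟨x, hx.2, rfl⟩
  have := htriv ⟨_, hm⟩
  have h2 : (QuotientGroup.mk x : PresH (id : Γ → Γ)) = 1 := congrArg Subtype.val this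
  exact (QuotientGroup.eq_one_iff x).mp h2

theorem exists_surj_ker_of_trivial_multiplier {Q : Type u} [Group Q] {Γ : Type v} [Group Γ]
    [Finite Γ] (σ : Γ →* Q) (hσ : Cfsg.IsStemExtension σ) (hΓ : Cfsg.HasCyclicSchurMultiplier Γ 1)
    {Δ : Type w} [Group Δ] (τ : Δ →* Q) (hτ : Cfsg.IsStemExtension τ) :
    ∃ π : σ.ker →* τ.ker, Function.Surjective π := by
  have hpσ : Function.Surjective (presHom (σ : Γ → Q)) := presHom_surjective _ hσ.1
  have hA := presR_inf_commutator_le_presC_of_trivial hΓ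
  -- relation between the two presentations
  have hcomp : presHom (σ : Γ → Q) = σ.comp (presHom (id : Γ → Γ)) := by
    ext x
    simp [presHom]
  have hcomp' : ∀ x, presHom (σ : Γ → Q) x = σ (presHom (id : Γ → Γ) x) :=
    fun x => DFunLike.congr_fun hcomp x
  have hRle : presR (id : Γ → Γ) ≤ presR (σ : Γ → Q) := by
    intro x hx
    show presHom (σ : Γ → Q) x = 1
    rw [hcomp', show presHom (id : Γ → Γ) x = 1 from hx, map_one]
  have hCle : presC (id : Γ → Γ) ≤ presC (σ : Γ → Q) := Subgroup.commutator_mono hRle le_rfl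
  -- lifting
  obtain ⟨φ, hφ⟩ := exists_lift_presH (σ : Γ → Q) τ hτ.1 hτ.2.1
  have hφM := map_presM_of_stem' hpσ τ hτ φ hφ
  have hφ' : ∀ h, τ (φ h) = presπ (σ : Γ → Q) h := fun h => DFunLike.congr_fun hφ h
  let φ₀ : FreeGroup Γ →* Δ := φ.comp (QuotientGroup.mk' (presC (σ : Γ → Q)))
  let K : Subgroup (FreeGroup Γ) := presR (σ : Γ → Q) ⊓ commutator (FreeGroup Γ)
  let f₁ : K →* σ.ker := ((presHom (id : Γ → Γ)).comp K.subtype).codRestrict σ.ker (by
    intro x
    show σ (presHom (id : Γ → Γ) (x : FreeGroup Γ)) = 1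
    rw [← hcomp']
    exact x.2.1)
  let f₂ : K →* τ.ker := (φ₀.comp K.subtype).codRestrict τ.ker (by
    intro x
    show τ (φ (QuotientGroup.mk (x : FreeGroup Γ))) = 1
    rw [hφ']
    exact x.2.1)
  have hf₁ : Function.Surjective f₁ := by
    rintro ⟨z, hz⟩
    have h1 : z ∈ (commutator (FreeGroup Γ)).map (presHom (id : Γ → Γ)) := by
      have : (commutator (FreeGroup Γ)).map (presHom (id : Γ → Γ)) = commutator Γ := by
        rw [_root_.commutator_def, _root_.commutator_def, Subgroup.map_commutator,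
          ← MonoidHom.range_eq_map,
          MonoidHom.range_eq_top.mpr (presHom_surjective _ Function.surjective_id)]
      rw [this]; exact hσ.2.2 hz
    obtain ⟨x, hx, rfl⟩ := h1
    refine ⟨⟨x, ?_, hx⟩, rfl⟩
    show presHom (σ : Γ → Q) x = 1
    rw [hcomp']; exact hz
  have hf₂ : Function.Surjective f₂ := by
    rintro ⟨z, hz⟩
    rw [← hφM] at hz
    obtain ⟨m, hm, rfl⟩ := hz
    have hmap : (commutator (FreeGroup Γ)).map (QuotientGroup.mk' (presC (σ : Γ → Q))) =
        commutator (PresH (σ : Γ → Q)) := by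
      rw [_root_.commutator_def, _root_.commutator_def, Subgroup.map_commutator,
        ← MonoidHom.range_eq_map, MonoidHom.range_eq_top.mpr (QuotientGroup.mk'_surjective _)]
    have h1 := presM_le_commutator _ hm
    rw [← hmap] at h1
    obtain ⟨x, hx, rfl⟩ := h1
    refine ⟨⟨x, ?_, hx⟩, rfl⟩
    exact presM_le_ker _ hm
  have hk : f₁.ker ≤ f₂.ker := by
    intro x hx
    have h1 : presHom (id : Γ → Γ) (x : FreeGroup Γ) = 1 :=
      congrArg Subtype.val (MonoidHom.mem_ker.mp hx)
    have h2 : (x : FreeGroup Γ) ∈ presC (σ : Γ → Q) := hCle (hA ⟨h1, x.2.2⟩)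
    rw [MonoidHom.mem_ker]
    apply Subtype.ext
    show φ (QuotientGroup.mk (x : FreeGroup Γ)) = 1
    rw [(QuotientGroup.eq_one_iff _).mpr h2, map_one]
  obtain ⟨ψ, hψ, -⟩ := exists_surj_of_ker_le f₁ hf₁ f₂ hf₂ hk
  exact ⟨ψ, hψ⟩

/-! ### compatibility wrappers: the original signatures, with `hp : Function.Surjective p` -/
section Compat

variable {Q : Type u} [Group Q] {X : Type w}

theorem presπ_surjective (p : X → Q) (hp : Function.Surjective p) : Function.Surjective (presπ p) :=
  presπ_surjective' p (presHom_surjective p hp)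

theorem lift_surjective_of_stem {p : X → Q} (hp : Function.Surjective p) {Δ : Type v} [Group Δ]
    (τ : Δ →* Q) (hτ : Cfsg.IsStemExtension τ) (φ : PresH p →* Δ) (hφ : τ.comp φ = presπ p) :
    Function.Surjective φ :=
  lift_surjective_of_stem' (presHom_surjective p hp) τ hτ φ hφ

theorem map_presM_of_stem {p : X → Q} (hp : Function.Surjective p) {Δ : Type v} [Group Δ]
    (τ : Δ →* Q) (hτ : Cfsg.IsStemExtension τ) (φ : PresH p →* Δ) (hφ : τ.comp φ = presπ p) :
    (presM p).map φ = τ.ker :=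
  map_presM_of_stem' (presHom_surjective p hp) τ hτ φ hφ

theorem finite_commutator_presH {p : X → Q} [Finite Q] (hp : Function.Surjective p) :
    Finite (commutator (PresH p)) :=
  finite_commutator_presH' (presHom_surjective p hp)

theorem finite_presM {p : X → Q} [Finite Q] (hp : Function.Surjective p) : Finite (presM p) :=
  finite_presM' (presHom_surjective p hp)

theorem coverHom_surjective {p : X → Q} (S : Subgroup (PresH p)) [S.Normal]
    (hS : S ≤ (presπ p).ker) (hp : Function.Surjective p) :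
    Function.Surjective (coverHom S hS) :=
  coverHom_surjective' S hS (presHom_surjective p hp)

theorem coverHom_isStem {p : X → Q} (S : Subgroup (PresH p)) [S.Normal]
    (hS : S ≤ (presπ p).ker) (hp : Function.Surjective p)
    (hdec : ∀ r ∈ (presπ p).ker, ∃ s ∈ S, ∃ m ∈ presM p, r = s * m) :
    Cfsg.IsStemExtension (coverHom S hS) :=
  coverHom_isStem' S hS (presHom_surjective p hp) hdec

theorem finite_cover {p : X → Q} (S : Subgroup (PresH p)) [S.Normal] [Finite Q]
    (hp : Function.Surjective p) (hS₂ : S ≤ (presπ p).ker) (hSM : S ⊓ presM p = ⊥)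
    (hdec : ∀ r ∈ (presπ p).ker, ∃ s ∈ S, ∃ m ∈ presM p, r = s * m) :
    Finite (PresH p ⧸ S) :=
  finite_cover' S (presHom_surjective p hp) hS₂ hSM hdec

end Compat

end Cfsg.Agent.Lib.Helper70
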