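import Mathlib
import Cfsg.Prelude.Def_KGroupFacts
import Cfsg.Agent.Lib.Helper70.SchurBasic
import Cfsg.Agent.Lib.Helper70.SchurPres

set_option autoImplicit false

namespace Cfsg.Agent.Lib.Helper70

open Subgroup
open scoped commutatorElement

universe u v w

section Gen

variable {Q : Type u} [Group Q]

/-- for a central extension `τ` and a lift `φ : H → Δ`, the multiplier maps onto `ker τ ∩ Δ'` -/
theorem map_presM_of_central {X : Type w} {p : X → Q} (hp : Function.Surjective (presHom p)) {Δ : Type v}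
    [Group Δ] (τ : Δ →* Q) (hτc : τ.ker ≤ center Δ) (φ : PresH p →* Δ)
    (hφ : τ.comp φ = presπ p) : (presM p).map φ = τ.ker ⊓ commutator Δ := by
  have hφ' : ∀ h, τ (φ h) = presπ p h := fun h => DFunLike.congr_fun hφ h
  have hdecomp : ∀ δ : Δ, ∃ h : PresH p, δ * (φ h)⁻¹ ∈ τ.ker := by
    intro δ
    obtain ⟨h, hh⟩ := presπ_surjective' p hp (τ δ)
    refine ⟨h, ?_⟩
    rw [MonoidHom.mem_ker, map_mul, map_inv, hφ', hh, mul_inv_cancel]
  have hcomm : commutator Δ ≤ (commutator (PresH p)).map φ := by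
    rw [commutator_eq_closure, Subgroup.closure_le]
    rintro c ⟨a, b, rfl⟩
    obtain ⟨ha, hza⟩ := hdecomp a
    obtain ⟨hb, hzb⟩ := hdecomp b
    have := commutatorElement_central_mul (hτc hza) (hτc hzb) (φ ha) (φ hb)
    rw [inv_mul_cancel_right, inv_mul_cancel_right] at this
    rw [SetLike.mem_coe, this, ← map_commutatorElement]
    refine ⟨⁅ha, hb⁆, ?_, rfl⟩
    rw [SetLike.mem_coe, commutator_eq_closure]
    exact Subgroup.subset_closure ⟨ha, hb, rfl⟩
  apply le_antisymm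
  · rintro _ ⟨h, hh, rfl⟩
    refine ⟨?_, ?_⟩
    · show τ (φ h) = 1
      rw [hφ']
      exact presM_le_ker p hh
    · have h1 : (commutator (PresH p)).map φ ≤ commutator Δ := by
        rw [_root_.commutator_def, _root_.commutator_def, Subgroup.map_commutator]
        exact Subgroup.commutator_mono le_top le_top
      exact h1 ⟨h, presM_le_commutator p hh, rfl⟩
  · rintro z ⟨hz1, hz2⟩
    obtain ⟨c, hc, rfl⟩ := hcomm hz2
    refine ⟨c, ⟨?_, hc⟩, rfl⟩
    show presπ p c = 1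
    rw [← hφ']
    exact hz1

theorem exists_cover_over_gen [Finite Q] {X : Type u} [Finite X] (p : X → Q)
    (hp : Function.Surjective (presHom p)) {Δ : Type v} [Group Δ] (τ : Δ →* Q)
    (hτ : Cfsg.IsStemExtension τ) :
    ∃ (Γ : Type u) (_ : Group Γ) (_ : Finite Γ) (σ : Γ →* Q), Cfsg.IsStemExtension σ ∧
      Nonempty (presM p ≃* σ.ker) ∧ ∃ β : Γ →* Δ, Function.Surjective β ∧ τ.comp β = σ := by
  obtain ⟨φ, hφ⟩ := exists_lift_presH p τ hτ.1 hτ.2.1
  have hφs := lift_surjective_of_stem' hp τ hτ φ hφ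
  have hφM := map_presM_of_stem' hp τ hτ φ hφ
  have hφ' : ∀ h, τ (φ h) = presπ p h := fun h => DFunLike.congr_fun hφ h
  let N : Subgroup (PresH p) := φ.ker ⊓ (presπ p).ker
  have hNM : ∀ r ∈ (presπ p).ker, ∃ n ∈ N, ∃ m ∈ presM p, r = n * m := by
    intro r hr
    have h1 : φ r ∈ τ.ker := by rw [MonoidHom.mem_ker, hφ']; exact hr
    rw [← hφM] at h1
    obtain ⟨m, hm, hmr⟩ := h1
    refine ⟨r * m⁻¹, ⟨?_, ?_⟩, m, hm, by group⟩
    · show φ (r * m⁻¹) = 1
      rw [map_mul, map_inv, hmr, mul_inv_cancel]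
    · exact (presπ p).ker.mul_mem hr ((presπ p).ker.inv_mem (presM_le_ker _ hm))
  obtain ⟨S, hSN, hSM, hdec⟩ := exists_presComplement N inf_le_right hNM
  have hS : S ≤ (presπ p).ker := hSN.trans inf_le_right
  have : S.Normal := normal_of_le_center (hS.trans (presπ_ker_le_center _))
  have : Finite (PresH p ⧸ S) := finite_cover' S hp hS hSM hdec
  refine ⟨PresH p ⧸ S, inferInstance, inferInstance, coverHom S hS,
    coverHom_isStem' S hS hp hdec, coverHom_kerEquiv S hS hSM hdec,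
    QuotientGroup.lift S φ (hSN.trans inf_le_left), ?_, ?_⟩
  · intro δ
    obtain ⟨h, rfl⟩ := hφs δ
    exact ⟨QuotientGroup.mk h, rfl⟩
  · apply MonoidHom.ext
    intro y
    obtain ⟨h, rfl⟩ := QuotientGroup.mk_surjective y
    exact hφ' h

/-- the multiplier computed from any finite generating family -/
theorem hasSchurMultiplier_presM [Finite Q] {X : Type u} [Finite X] (p : X → Q)
    (hp : Function.Surjective (presHom p)) : Cfsg.HasSchurMultiplier Q (presM p) := by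
  constructor
  · have hid : Cfsg.IsStemExtension (MonoidHom.id Q) :=
      ⟨Function.surjective_id, by rw [MonoidHom.ker_id]; exact bot_le,
        by rw [MonoidHom.ker_id]; exact bot_le⟩
    obtain ⟨Γ, hΓ, hfin, σ, hσ, ⟨e⟩, -⟩ := exists_cover_over_gen p hp (MonoidHom.id Q) hid
    exact ⟨Γ, hΓ, hfin, σ, hσ, ⟨e.symm⟩⟩
  · intro Γ _ _ σ hσ
    obtain ⟨φ, hφ⟩ := exists_lift_presH p σ hσ.1 hσ.2.1
    have hφM := map_presM_of_stem' hp σ hσ φ hφ
    refine ⟨(φ.comp (presM p).subtype).codRestrict σ.ker (fun m => ?_), ?_⟩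
    · rw [← hφM]; exact ⟨m, m.2, rfl⟩
    · rintro ⟨z, hz⟩
      rw [← hφM] at hz
      obtain ⟨m, hm, rfl⟩ := hz
      exact ⟨⟨m, hm⟩, rfl⟩

/-- any two Schur multipliers are isomorphic -/
theorem schurMultiplier_equiv [Finite Q] {A : Type v} {B : Type w} [CommGroup A] [CommGroup B]
    (hA : Cfsg.HasSchurMultiplier Q A) (hB : Cfsg.HasSchurMultiplier Q B) : Nonempty (A ≃* B) := by
  obtain ⟨e₁⟩ := schurMultiplier_unique hA
  obtain ⟨e₂⟩ := schurMultiplier_unique hB
  exact ⟨e₁.trans e₂.symm⟩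

/-- transport of `HasSchurMultiplier` along an isomorphism of the multiplier -/
theorem hasSchurMultiplier_of_mulEquiv {A : Type v} {B : Type w} [CommGroup A] [CommGroup B]
    (hA : Cfsg.HasSchurMultiplier Q A) (e : A ≃* B) : Cfsg.HasSchurMultiplier Q B := by
  obtain ⟨⟨Γ, hΓ, hfin, σ, hσ, ⟨e₀⟩⟩, h2⟩ := hA
  refine ⟨⟨Γ, hΓ, hfin, σ, hσ, ⟨e₀.trans e⟩⟩, ?_⟩
  intro Γ' _ _ σ' hσ'
  obtain ⟨π, hπ⟩ := h2 Γ' σ' hσ'
  exact ⟨π.comp e.symm.toMonoidHom, hπ.comp e.symm.surjective⟩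

end Gen

end Cfsg.Agent.Lib.Helper70
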