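import Mathlib

set_option autoImplicit false

namespace Cfsg.Agent.Lib.Helper70

theorem mem_closure_iff_ofMul_mem_span {Z : Type*} [CommGroup Z] (s : Set Z) (z : Z) :
    z ∈ Subgroup.closure s ↔ Additive.ofMul z ∈ Submodule.span ℤ (Additive.ofMul '' s) := by
  constructor
  · intro hz
    induction hz using Subgroup.closure_induction with
    | mem x hx => exact Submodule.subset_span ⟨x, hx, rfl⟩
    | one => simp
    | mul x y _ _ hx hy => 
      rw [ofMul_mul]; exact Submodule.add_mem _ hx hy
    | inv x _ hx => 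
      rw [ofMul_inv]; exact Submodule.neg_mem _ hx
  · intro hz
    have key : ∀ a ∈ Submodule.span ℤ (Additive.ofMul '' s), Additive.toMul a ∈ Subgroup.closure s := by
      intro a ha
      induction ha using Submodule.span_induction with
      | mem x hx => 
        obtain ⟨y, hy, rfl⟩ := hx
        exact Subgroup.subset_closure hy
      | zero => simp
      | add x y _ _ hx hy => 
        rw [toMul_add]; exact Subgroup.mul_mem _ hx hy
      | smul c x _ hx => 
        rw [toMul_zsmul]; exact Subgroup.zpow_mem _ hx c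
    exact key _ hz

/-- the abstract rank bound: in a commutative group `Z`, if the subgroup `B` generated by a family `b : ι → Z`
maps onto a subgroup of finite exponent-index in a free abelian group `V` of rank `n`, then
`B ⊓ ker` is generated by `|ι| - n` elements. -/
theorem exists_finset_closure_eq_inf_ker {Z V : Type*} [CommGroup Z] [CommGroup V] {ι : Type*}
    [Fintype ι] {κ : Type*} [Fintype κ] (bV : Module.Basis κ ℤ (Additive V)) (θ : Z →* V) (b : ι → Z)
    (m : ℕ) (hm : m ≠ 0)
    (hfin : ∀ v : V, v ^ m ∈ (Subgroup.closure (Set.range b)).map θ) :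
    ∃ S : Finset Z, S.card ≤ Fintype.card ι - Fintype.card κ ∧
      Subgroup.closure (S : Set Z) = Subgroup.closure (Set.range b) ⊓ θ.ker := by
  classical
  have : Module.Free ℤ (Additive V) := Module.Free.of_basis bV
  have : Module.Finite ℤ (Additive V) := Module.Finite.of_basis bV
  set n := Fintype.card κ with hn
  have hVn : Module.finrank ℤ (Additive V) = n := by
    rw [Module.finrank_eq_card_basis bV]
  let Ψ : (ι →₀ ℤ) →ₗ[ℤ] Additive Z := Finsupp.linearCombination ℤ (fun i => Additive.ofMul (b i))
  let θl : Additive Z →ₗ[ℤ] Additive V := (MonoidHom.toAdditive θ).toIntLinearMap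
  have hθl : ∀ a : Additive Z, θl a = Additive.ofMul (θ (Additive.toMul a)) := fun a => rfl
  have hΨrange : ∀ z : Z, z ∈ Subgroup.closure (Set.range b) ↔ ∃ w, Ψ w = Additive.ofMul z := by
    intro z
    rw [mem_closure_iff_ofMul_mem_span, ← Set.range_comp, ← Finsupp.range_linearCombination]
    rfl
  let Λ : (ι →₀ ℤ) →ₗ[ℤ] Additive V := θl ∘ₗ Ψ
  let K := LinearMap.ker Λ
  -- rank of the range
  have hrange : n ≤ Module.finrank ℤ (LinearMap.range Λ) := by
    let μ : Additive V →ₗ[ℤ] Additive V := (m : ℤ) • LinearMap.id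
    have hμinj : Function.Injective μ := by
      intro x y hxy
      have h1 : (m : ℤ) • x = (m : ℤ) • y := hxy
      have hm' : (m : ℤ) ≠ 0 := by exact_mod_cast hm
      exact smul_right_injective _ hm' h1
    have h1 : LinearMap.range μ ≤ LinearMap.range Λ := by
      rintro _ ⟨v, rfl⟩
      obtain ⟨z, hz, hzv⟩ := hfin (Additive.toMul v)
      obtain ⟨w, hw⟩ := (hΨrange z).mp hz
      refine ⟨w, ?_⟩
      show θl (Ψ w) = (m : ℤ) • v
      rw [hw, hθl, toMul_ofMul, hzv, ofMul_pow, ofMul_toMul, natCast_zsmul]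
    calc n = Module.finrank ℤ (Additive V) := hVn.symm
      _ = Module.finrank ℤ (LinearMap.range μ) := (LinearMap.finrank_range_of_inj hμinj).symm
      _ ≤ Module.finrank ℤ (LinearMap.range Λ) := Submodule.finrank_mono h1
  have hK : Module.finrank ℤ K ≤ Fintype.card ι - n := by
    have h1 : Module.finrank ℤ ((ι →₀ ℤ) ⧸ K) + Module.finrank ℤ K = Module.finrank ℤ (ι →₀ ℤ) :=
      Submodule.finrank_quotient_add_finrank (R := ℤ) K
    have h2 : Module.finrank ℤ ((ι →₀ ℤ) ⧸ K) = Module.finrank ℤ (LinearMap.range Λ) :=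
      Λ.quotKerEquivRange.finrank_eq
    rw [Module.finrank_finsupp_self] at h1
    omega
  let bK := Module.finBasis ℤ K
  let g : Fin (Module.finrank ℤ K) → Z := fun i => Additive.toMul (Ψ (bK i : ι →₀ ℤ))
  refine ⟨Finset.univ.image g, ?_, ?_⟩
  · calc (Finset.univ.image g).card ≤ (Finset.univ : Finset (Fin (Module.finrank ℤ K))).card :=
        Finset.card_image_le
      _ = Module.finrank ℤ K := by simp
      _ ≤ _ := hK
  · apply le_antisymm
    · rw [Subgroup.closure_le]
      intro z hz
      rw [Finset.coe_image] at hz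
      obtain ⟨i, -, rfl⟩ := hz
      refine ⟨(hΨrange _).mpr ⟨(bK i : ι →₀ ℤ), rfl⟩, ?_⟩
      have : Λ (bK i : ι →₀ ℤ) = 0 := (bK i).2
      show θ (g i) = 1
      exact congrArg Additive.toMul this
    · rintro z ⟨hz1, hz2⟩
      obtain ⟨w, hw⟩ := (hΨrange z).mp hz1
      have hwK : w ∈ K := by
        show θl (Ψ w) = 0
        rw [hw, hθl, toMul_ofMul, MonoidHom.mem_ker.mp hz2]; rfl
      have hrepr := bK.sum_repr ⟨w, hwK⟩
      have h3 : Ψ w = ∑ i, (bK.repr ⟨w, hwK⟩ i) • Ψ (bK i : ι →₀ ℤ) := by
        have := congrArg (fun k : K => Ψ (k : ι →₀ ℤ)) hrepr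
        simp only [Submodule.coe_sum, Submodule.coe_smul, map_sum, map_zsmul] at this
        exact this.symm
      have h4 : z = ∏ i, (g i) ^ (bK.repr ⟨w, hwK⟩ i) := by
        have := congrArg Additive.toMul h3
        rw [hw, toMul_ofMul, toMul_sum] at this
        simpa [g, toMul_zsmul] using this
      rw [h4]
      apply Subgroup.prod_mem
      intro i _
      apply Subgroup.zpow_mem
      apply Subgroup.subset_closure
      rw [Finset.coe_image]
      exact ⟨i, by simp, rfl⟩

end Cfsg.Agent.Lib.Helper70
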