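import Mathlib
import Cfsg.Agent.Lib.Helper70.SchurPres2
import Cfsg.Agent.Lib.Helper70.RankBound

set_option autoImplicit false

namespace Cfsg.Agent.Lib.Helper70

open Subgroup
open scoped commutatorElement

universe u

theorem presHom_presentedGroup_of {X : Type u} (rels : Set (FreeGroup X)) :
    presHom (PresentedGroup.of (rels := rels)) = PresentedGroup.mk rels := by
  apply FreeGroup.ext_hom
  intro x
  simp [presHom, PresentedGroup.of]

theorem presHom_presentedGroup_of_surjective {X : Type u} (rels : Set (FreeGroup X)) :
    Function.Surjective (presHom (PresentedGroup.of (rels := rels))) := by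
  rw [presHom_presentedGroup_of]
  exact PresentedGroup.mk_surjective rels

theorem presR_presentedGroup_of {X : Type u} (rels : Set (FreeGroup X)) :
    presR (PresentedGroup.of (rels := rels)) = Subgroup.normalClosure rels := by
  unfold presR
  rw [presHom_presentedGroup_of]
  exact QuotientGroup.ker_mk' _

/-- the kernel of `H → Q` is generated by the images of the relators -/
theorem presπ_ker_presentedGroup {X : Type u} (rels : Set (FreeGroup X)) :
    (presπ (PresentedGroup.of (rels := rels))).ker =
      Subgroup.closure ((fun r => (QuotientGroup.mk r : PresH (PresentedGroup.of (rels := rels)))) '' rels) := by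
  set p := PresentedGroup.of (rels := rels) with hp
  set C := Subgroup.closure ((fun r => (QuotientGroup.mk r : PresH p)) '' rels) with hC
  have hrel : ∀ r ∈ rels, (QuotientGroup.mk r : PresH p) ∈ (presπ p).ker := by
    intro r hr
    rw [mem_presπ_ker]
    refine ⟨r, ?_, rfl⟩
    rw [hp, presR_presentedGroup_of]
    exact Subgroup.subset_normalClosure hr
  have hCle : C ≤ (presπ p).ker := by
    rw [hC, Subgroup.closure_le]
    rintro _ ⟨r, hr, rfl⟩
    exact hrel r hr
  apply le_antisymm
  · have hCn : C.Normal := normal_of_le_center (hCle.trans (presπ_ker_le_center p))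
    have h1 : Subgroup.normalClosure rels ≤ C.comap (QuotientGroup.mk' (presC p)) := by
      apply Subgroup.normalClosure_le_normal
      intro r hr
      exact Subgroup.subset_closure ⟨r, hr, rfl⟩
    intro h hh
    obtain ⟨r, hr, rfl⟩ := (mem_presπ_ker p _).mp hh
    rw [hp, presR_presentedGroup_of] at hr
    exact h1 hr
  · exact hCle

open scoped IsMulCommutative in
/-- **rank bound**: for a finite group presented by generators `X` and a finite set of relators, the
multiplier `presM` is generated by `|rels| - |X|` elements -/
theorem exists_finset_closure_eq_presM {X : Type u} [Fintype X] (rels : Finset (FreeGroup X))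
    [Finite (PresentedGroup (rels : Set (FreeGroup X)))] :
    ∃ S : Finset (PresH (PresentedGroup.of (rels := (rels : Set (FreeGroup X))))),
      S.card ≤ rels.card - Fintype.card X ∧
      Subgroup.closure (S : Set (PresH (PresentedGroup.of (rels := (rels : Set (FreeGroup X)))))) =
        presM (PresentedGroup.of (rels := (rels : Set (FreeGroup X)))) := by
  classical
  set p := PresentedGroup.of (rels := (rels : Set (FreeGroup X))) with hp
  let Zs : Subgroup (PresH p) := center (PresH p)
  have hkerp : (presπ p).ker =
      Subgroup.closure ((fun r => (QuotientGroup.mk r : PresH p)) '' (rels : Set (FreeGroup X))) :=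
    presπ_ker_presentedGroup (rels : Set (FreeGroup X))
  have hrelc : ∀ r : {r : FreeGroup X // r ∈ rels}, (QuotientGroup.mk (r : FreeGroup X) : PresH p) ∈ Zs := by
    intro r
    apply presπ_ker_le_center p
    rw [hkerp]
    exact Subgroup.subset_closure ⟨r.1, r.2, rfl⟩
  let b : {r : FreeGroup X // r ∈ rels} → Zs := fun r => ⟨QuotientGroup.mk (r : FreeGroup X), hrelc r⟩
  let θ : Zs →* Abelianization (FreeGroup X) := (presθ p).comp Zs.subtype
  let bV : Module.Basis X ℤ (Additive (Abelianization (FreeGroup X))) := FreeAbelianGroup.basis X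
  have hker : (presπ p).ker = (Subgroup.closure (Set.range b)).map Zs.subtype := by
    rw [hkerp, MonoidHom.map_closure, ← Set.range_comp]
    congr 1
    ext h
    constructor
    · rintro ⟨r, hr, rfl⟩
      exact ⟨⟨r, hr⟩, rfl⟩
    · rintro ⟨r, rfl⟩
      exact ⟨r.1, r.2, rfl⟩
  have hm : Nat.card (PresentedGroup (rels : Set (FreeGroup X))) ≠ 0 := Nat.card_pos.ne'
  have hfin : ∀ v : Abelianization (FreeGroup X),
      v ^ Nat.card (PresentedGroup (rels : Set (FreeGroup X))) ∈ (Subgroup.closure (Set.range b)).map θ := by
    intro v
    obtain ⟨y, rfl⟩ := QuotientGroup.mk_surjective v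
    have h1 : (QuotientGroup.mk y : PresH p) ^ Nat.card (PresentedGroup (rels : Set (FreeGroup X))) ∈
        (presπ p).ker := by
      rw [MonoidHom.mem_ker, map_pow, pow_card_eq_one']
    rw [hker] at h1
    obtain ⟨z, hz, hzy⟩ := h1
    refine ⟨z, hz, ?_⟩
    show presθ p (z : PresH p) = _
    have : (z : PresH p) = (QuotientGroup.mk y : PresH p) ^ Nat.card (PresentedGroup (rels : Set (FreeGroup X))) := hzy
    rw [this, map_pow]
    rfl
  obtain ⟨S, hScard, hS⟩ := exists_finset_closure_eq_inf_ker bV θ b _ hm hfin
  refine ⟨S.image Subtype.val, ?_, ?_⟩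
  · refine Finset.card_image_le.trans ?_
    have : Fintype.card {r : FreeGroup X // r ∈ rels} = rels.card := by simp
    rw [← this]
    exact hScard
  · have h1 : Subgroup.closure ((S.image Subtype.val : Finset (PresH p)) : Set (PresH p)) =
        (Subgroup.closure (S : Set Zs)).map Zs.subtype := by
      rw [MonoidHom.map_closure, Finset.coe_image]
      rfl
    rw [h1, hS]
    ext h
    constructor
    · rintro ⟨z, ⟨hz1, hz2⟩, rfl⟩
      refine ⟨?_, ?_⟩
      · rw [hker]; exact ⟨z, hz1, rfl⟩
      · rw [← presθ_ker]; exact hz2
    · rintro ⟨hh1, hh2⟩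
      rw [hker] at hh1
      obtain ⟨z, hz, rfl⟩ := hh1
      refine ⟨z, ⟨hz, ?_⟩, rfl⟩
      rw [← presθ_ker] at hh2
      exact hh2

end Cfsg.Agent.Lib.Helper70
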