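import Mathlib
import Cfsg.Agent.Lib.Helper70.SchurPres2
import Cfsg.Agent.Lib.Helper70.SchurRank
import Cfsg.Agent.Lib.Helper70.MetaRel
import Cfsg.Agent.Lib.Helper70.MetaNT
import Cfsg.Agent.Lib.Helper70.MetaModel
import Cfsg.Agent.Lib.Helper70.MetaFinite

set_option autoImplicit false

namespace Cfsg.Agent.Lib.Helper70.Meta

open Subgroup
open scoped commutatorElement

universe u v

/-- an element commuting with all generator images commutes with the whole image of `lift` -/
theorem commute_lift_of_commute {X : Type u} {Γ : Type v} [Group Γ] (f : X → Γ) (c : Γ)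
    (hc : ∀ x, Commute c (f x)) (g : FreeGroup X) : Commute c (FreeGroup.lift f g) := by
  induction g using FreeGroup.induction_on with
  | C1 => rw [map_one]; exact Commute.one_right c
  | of x => rw [FreeGroup.lift_apply_of]; exact hc x
  | inv_of x ih => rw [map_inv]; exact ih.inv_right
  | mul x y ihx ihy => rw [map_mul]; exact ihx.mul_right ihy

/-- a map of the generators under which all relators become central (in the image) kills `[R, F]` -/
theorem presC_le_ker_lift {X : Type u} (rels : Set (FreeGroup X)) {Γ : Type v} [Group Γ] (f : X → Γ)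
    (hrel : ∀ r ∈ rels, ∀ x, Commute (FreeGroup.lift f r) (f x)) :
    presC (PresentedGroup.of (rels := rels)) ≤ (FreeGroup.lift f).ker := by
  let S : Subgroup (FreeGroup X) :=
    { carrier := {r | ∀ g, Commute (FreeGroup.lift f r) (FreeGroup.lift f g)}
      one_mem' := fun g => by rw [map_one]; exact Commute.one_left _
      mul_mem' := fun {a b} ha hb g => by rw [map_mul]; exact (ha g).mul_left (hb g)
      inv_mem' := fun {a} ha g => by rw [map_inv]; exact (ha g).inv_left }
  have hSn : S.Normal := by
    constructor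
    intro r hr g k
    have h1 : FreeGroup.lift f (g * r * g⁻¹) = FreeGroup.lift f r := by
      rw [map_mul, map_mul, map_inv, (hr g).eq.symm, mul_inv_cancel_right]
    show Commute (FreeGroup.lift f (g * r * g⁻¹)) (FreeGroup.lift f k)
    rw [h1]; exact hr k
  have hRS : presR (PresentedGroup.of (rels := rels)) ≤ S := by
    rw [presR_presentedGroup_of]
    apply Subgroup.normalClosure_le_normal
    intro r hr g
    exact commute_lift_of_commute f _ (hrel r hr) g
  unfold presC
  rw [Subgroup.commutator_le]
  intro r hr g _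
  rw [MonoidHom.mem_ker, map_commutatorElement, commutatorElement_eq_one_iff_commute]
  exact hRS hr g

/-- elements of the closure of three central elements -/
theorem mem_closure_triple_of_central {H : Type*} [Group H] (x y z : H) (hx : x ∈ center H)
    (hy : y ∈ center H) (hz : z ∈ center H) (h : H) (hh : h ∈ closure ({x, y, z} : Set H)) :
    ∃ i j k : ℤ, h = x ^ i * y ^ j * z ^ k := by
  have cx : ∀ g : H, Commute x g := fun g => (Subgroup.mem_center_iff.mp hx g).symm
  have cy : ∀ g : H, Commute y g := fun g => (Subgroup.mem_center_iff.mp hy g).symm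
  have cz : ∀ g : H, Commute z g := fun g => (Subgroup.mem_center_iff.mp hz g).symm
  induction hh using Subgroup.closure_induction with
  | mem g hg =>
    rcases hg with rfl | rfl | rfl
    · exact ⟨1, 0, 0, by simp⟩
    · exact ⟨0, 1, 0, by simp⟩
    · exact ⟨0, 0, 1, by simp⟩
  | one => exact ⟨0, 0, 0, by simp⟩
  | mul g₁ g₂ _ _ ih₁ ih₂ =>
    obtain ⟨i, j, k, rfl⟩ := ih₁
    obtain ⟨i', j', k', rfl⟩ := ih₂
    refine ⟨i + i', j + j', k + k', ?_⟩
    rw [zpow_add, zpow_add, zpow_add]
    have e1 : Commute (z ^ k) (x ^ i' * y ^ j') := ((cz _).zpow_left k)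
    have e2 : Commute (y ^ j) (x ^ i') := ((cy _).zpow_left j)
    calc x ^ i * y ^ j * z ^ k * (x ^ i' * y ^ j' * z ^ k')
        = x ^ i * y ^ j * (z ^ k * (x ^ i' * y ^ j')) * z ^ k' := by group
      _ = x ^ i * y ^ j * ((x ^ i' * y ^ j') * z ^ k) * z ^ k' := by rw [e1.eq]
      _ = x ^ i * (y ^ j * x ^ i') * y ^ j' * (z ^ k * z ^ k') := by group
      _ = x ^ i * (x ^ i' * y ^ j) * y ^ j' * (z ^ k * z ^ k') := by rw [e2.eq]
      _ = x ^ i * x ^ i' * (y ^ j * y ^ j') * (z ^ k * z ^ k') := by group
  | inv g _ ih =>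
    obtain ⟨i, j, k, rfl⟩ := ih
    refine ⟨-i, -j, -k, ?_⟩
    rw [zpow_neg, zpow_neg, zpow_neg]
    have e1 : Commute (z ^ k) (x ^ i * y ^ j) := ((cz _).zpow_left k)
    have e2 : Commute (y ^ j) (x ^ i) := ((cy _).zpow_left j)
    calc (x ^ i * y ^ j * z ^ k)⁻¹ = (z ^ k * (x ^ i * y ^ j))⁻¹ := by rw [e1.eq]
      _ = (y ^ j * x ^ i)⁻¹ * (z ^ k)⁻¹ := by rw [e2.eq]; group
      _ = (x ^ i)⁻¹ * (y ^ j)⁻¹ * (z ^ k)⁻¹ := by group


section Main

variable (dd a' b' σ l n : ℕ)

/-- the three relators of the metacyclic presentation (in the reparametrised form) -/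
def mrels : Set (FreeGroup Bool) :=
  {FreeGroup.of true ^ (dd * b'),
    (FreeGroup.of false) ^ n * (FreeGroup.of true ^ (b' * l))⁻¹,
    FreeGroup.of false * FreeGroup.of true * (FreeGroup.of false)⁻¹ *
      (FreeGroup.of true ^ (dd * a' + 1))⁻¹}

theorem image_mrels {β : Type*} (F : FreeGroup Bool → β) :
    F '' (mrels dd a' b' l n) = {F (FreeGroup.of true ^ (dd * b')),
      F ((FreeGroup.of false) ^ n * (FreeGroup.of true ^ (b' * l))⁻¹),
      F (FreeGroup.of false * FreeGroup.of true * (FreeGroup.of false)⁻¹ *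
        (FreeGroup.of true ^ (dd * a' + 1))⁻¹)} := by
  unfold mrels
  rw [Set.image_insert_eq, Set.image_insert_eq, Set.image_singleton]

theorem finite_presentedGroup_mrels (hdd : 0 < dd) (hb' : 0 < b') (hn : 0 < n) :
    Finite (PresentedGroup (mrels dd a' b' l n)) := by
  set rels := mrels dd a' b' l n with hrels
  have hgen : closure ({PresentedGroup.of (rels := rels) true, PresentedGroup.of false} :
      Set (PresentedGroup rels)) = ⊤ := by
    rw [← PresentedGroup.closure_range_of rels, Bool.range_eq, Set.pair_comm]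
  have h1 : (PresentedGroup.of (rels := rels) true) ^ (dd * b') = 1 := by
    have : PresentedGroup.mk rels (FreeGroup.of true ^ (dd * b')) = 1 :=
      PresentedGroup.one_of_mem (by rw [hrels]; unfold mrels; simp)
    rwa [map_pow] at this
  have h2 : (PresentedGroup.of (rels := rels) false) ^ n =
      (PresentedGroup.of (rels := rels) true) ^ (b' * l) := by
    have : PresentedGroup.mk rels ((FreeGroup.of false) ^ n * (FreeGroup.of true ^ (b' * l))⁻¹) = 1 :=
      PresentedGroup.one_of_mem (by rw [hrels]; unfold mrels; simp)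
    rw [map_mul, map_inv, map_pow, map_pow, mul_inv_eq_one] at this
    exact this
  have h3 : PresentedGroup.of (rels := rels) false * PresentedGroup.of true *
      (PresentedGroup.of false)⁻¹ = (PresentedGroup.of (rels := rels) true) ^ (dd * a' + 1) := by
    have : PresentedGroup.mk rels (FreeGroup.of false * FreeGroup.of true * (FreeGroup.of false)⁻¹ *
      (FreeGroup.of true ^ (dd * a' + 1))⁻¹) = 1 :=
      PresentedGroup.one_of_mem (by rw [hrels]; unfold mrels; simp)
    rw [map_mul, map_inv, map_pow, map_mul, map_mul, map_inv, mul_inv_eq_one] at this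
    exact this
  exact finite_of_metacyclic_relations _ _ (dd * b') n (dd * a' + 1) (b' * l)
    (Nat.mul_pos hdd hb') hn hgen h1 h2 h3


theorem metacyclic_multiplier (hdd : 0 < dd) (hb' : 0 < b') (hn : 0 < n)
    (hcop : Nat.Coprime a' b')
    (hs : ∑ i ∈ Finset.range n, (dd * a' + 1) ^ i = b' * σ)
    (hrn : (dd * a' + 1) ^ n = dd * b' * (a' * σ) + 1) :
    Cfsg.HasCyclicSchurMultiplier (PresentedGroup (mrels dd a' b' l n))
      (Nat.gcd l (Nat.gcd dd σ)) := by
  classical
  have : Finite (PresentedGroup (mrels dd a' b' l n)) := finite_presentedGroup_mrels dd a' b' l n hdd hb' hn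
  set p : Bool → PresentedGroup (mrels dd a' b' l n) := PresentedGroup.of with hp
  set g := Nat.gcd l (Nat.gcd dd σ) with hg
  -- generators of H
  set A : PresH p := QuotientGroup.mk (FreeGroup.of true) with hA
  set B : PresH p := QuotientGroup.mk (FreeGroup.of false) with hB
  set x : PresH p := A ^ (dd * b') with hx
  set y : PresH p := B ^ n * (A ^ (b' * l))⁻¹ with hy
  set z : PresH p := B * A * B⁻¹ * (A ^ (dd * a' + 1))⁻¹ with hz
  have hker : (presπ p).ker = closure ({x, y, z} : Set (PresH p)) := by
    refine (presπ_ker_presentedGroup (mrels dd a' b' l n)).trans ?_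
    rw [image_mrels]
    rfl
  have hxk : x ∈ (presπ p).ker := by rw [hker]; exact subset_closure (by simp)
  have hyk : y ∈ (presπ p).ker := by rw [hker]; exact subset_closure (by simp)
  have hzk : z ∈ (presπ p).ker := by rw [hker]; exact subset_closure (by simp)
  have hxc : x ∈ center (PresH p) := presπ_ker_le_center p hxk
  have hyc : y ∈ center (PresH p) := presπ_ker_le_center p hyk
  have hzc : z ∈ center (PresH p) := presπ_ker_le_center p hzk
  set w : PresH p := x ^ a' * z ^ b' with hw
  have hwg : w ^ g = 1 := w_pow_eq_one A B x z dd a' b' σ l n rfl rfl hxc hzc hyc hs hrn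
  have hxz : Commute x z := (Subgroup.mem_center_iff.mp hxc z).symm
  -- exponent homomorphisms
  have hexp : ∀ c : Bool → ℤ, ∃ E : PresH p →* Multiplicative ℤ,
      E A = Multiplicative.ofAdd (c true) ∧ E B = Multiplicative.ofAdd (c false) := by
    intro c
    refine ⟨QuotientGroup.lift (presC p) (FreeGroup.lift (fun b => Multiplicative.ofAdd (c b)))
      (fun h hh => Abelianization.commutator_subset_ker _ (presC_le_commutator p hh)), ?_, ?_⟩
    · rw [hA, QuotientGroup.lift_mk, FreeGroup.lift_apply_of]
    · rw [hB, QuotientGroup.lift_mk, FreeGroup.lift_apply_of]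
  obtain ⟨E₁, hE₁A, hE₁B⟩ := hexp (fun b => if b then 1 else 0)
  obtain ⟨E₂, hE₂A, hE₂B⟩ := hexp (fun b => if b then 0 else 1)
  -- the multiplier is generated by `w`
  have hM : presM p = zpowers w := by
    apply le_antisymm
    · intro h hh
      obtain ⟨hh1, hh2⟩ := hh
      rw [hker] at hh1
      obtain ⟨i, j, k, hijk⟩ := mem_closure_triple_of_central x y z hxc hyc hzc h hh1
      have hE1 : E₁ h = 1 := Abelianization.commutator_subset_ker E₁ hh2
      have hE2 : E₂ h = 1 := Abelianization.commutator_subset_ker E₂ hh2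
      have e1 : Multiplicative.toAdd (E₁ h) = i * (dd * b') - j * (b' * l) - k * (dd * a') := by
        rw [hijk, hx, hy, hz]
        simp only [map_mul, map_zpow, map_pow, map_inv, hE₁A, hE₁B, toAdd_mul, toAdd_zpow,
          toAdd_pow, toAdd_inv, toAdd_ofAdd]
        simp
        ring
      have e2 : Multiplicative.toAdd (E₂ h) = j * n := by
        rw [hijk, hx, hy, hz]
        simp only [map_mul, map_zpow, map_pow, map_inv, hE₂A, hE₂B, toAdd_mul, toAdd_zpow,
          toAdd_pow, toAdd_inv, toAdd_ofAdd]
        simp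
      rw [hE1, toAdd_one] at e1
      rw [hE2, toAdd_one] at e2
      have hj : j = 0 := by
        have hn' : (n : ℤ) ≠ 0 := by exact_mod_cast hn.ne'
        rcases mul_eq_zero.mp e2.symm with h | h
        · exact h
        · exact absurd h hn'
      rw [hj] at e1
      have e3 : i * b' = k * a' := by
        have hdd' : (dd : ℤ) ≠ 0 := by exact_mod_cast hdd.ne'
        have : (dd : ℤ) * (i * b' - k * a') = 0 := by rw [e1]; ring
        rcases mul_eq_zero.mp this with h | h
        · exact absurd h hdd'
        · linarith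
      have hcop' : IsCoprime (b' : ℤ) (a' : ℤ) := Nat.isCoprime_iff_coprime.mpr hcop.symm
      have hdvd : (b' : ℤ) ∣ k := hcop'.dvd_of_dvd_mul_right ⟨i, by rw [← e3]; ring⟩
      obtain ⟨c, hc⟩ := hdvd
      have hb'' : (b' : ℤ) ≠ 0 := by exact_mod_cast hb'.ne'
      have hi : i = a' * c := by
        have : (b' : ℤ) * i = b' * (a' * c) := by rw [mul_comm, e3, hc]; ring
        exact mul_left_cancel₀ hb'' this
      refine mem_zpowers_iff.mpr ⟨c, ?_⟩
      rw [hijk, hj, zpow_zero, mul_one, hw, ((hxz.pow_left a').pow_right b').mul_zpow, hi, hc,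
        zpow_mul, zpow_mul, zpow_natCast, zpow_natCast]
    · rw [zpowers_le]
      refine ⟨(presπ p).ker.mul_mem (pow_mem hxk _) (pow_mem hzk _), ?_⟩
      show w ∈ commutator (PresH p)
      rw [← presθ_ker p, MonoidHom.mem_ker, hw, hx, hz]
      simp only [map_mul, map_pow, map_inv]
      set u := presθ p A
      set v := presθ p B
      have h1 : v * u * v⁻¹ = u := by rw [mul_comm v u, mul_inv_cancel_right]
      rw [h1, pow_succ, mul_inv_rev, mul_inv_cancel_left, ← pow_mul, inv_pow, ← pow_mul]
      have : dd * b' * a' = dd * a' * b' := by ring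
      rw [this, mul_inv_cancel]
  -- the order of `w`
  obtain ⟨Γ, _, α, β, ⟨hxα, hxβ⟩, ⟨hzα, hzβ⟩, ⟨hyα, hyβ⟩, hord⟩ :=
    model_exists dd a' b' σ l n hdd hb' hn hcop hs hrn
  let f : Bool → Γ := fun b => cond b α β
  have hft : FreeGroup.lift f (FreeGroup.of true) = α := FreeGroup.lift_apply_of
  have hff : FreeGroup.lift f (FreeGroup.of false) = β := FreeGroup.lift_apply_of
  have hrel : ∀ r ∈ mrels dd a' b' l n, ∀ b, Commute (FreeGroup.lift f r) (f b) := by
    intro r hr
    unfold mrels at hr
    rcases hr with rfl | rfl | rfl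
    · intro b
      rw [map_pow, hft]
      cases b
      · exact hxβ
      · exact hxα
    · intro b
      rw [map_mul, map_inv, map_pow, map_pow, hft, hff]
      cases b
      · exact hyβ
      · exact hyα
    · intro b
      rw [map_mul, map_mul, map_mul, map_inv, map_inv, map_pow, hft, hff]
      cases b
      · exact hzβ
      · exact hzα
  let Φ : PresH p →* Γ := QuotientGroup.lift (presC p) (FreeGroup.lift f)
    (presC_le_ker_lift (mrels dd a' b' l n) f hrel)
  have hΦA : Φ A = α := hft
  have hΦB : Φ B = β := hff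
  have hΦw : Φ w = (α ^ (dd * b')) ^ a' *
      (β * α * β⁻¹ * (α ^ (dd * a' + 1))⁻¹) ^ b' := by
    rw [hw, hx, hz]
    simp only [map_mul, map_pow, map_inv, hΦA, hΦB]
  have hgo : g ∣ orderOf w := by
    apply hord
    rw [← hΦw, ← map_pow, pow_orderOf_eq_one, map_one]
  have hcard : Nat.card (zpowers w) = g := by
    rw [Nat.card_zpowers]
    exact Nat.dvd_antisymm (orderOf_dvd_of_pow_eq_one hwg) hgo
  have e1 : presM p ≃* zpowers w := MulEquiv.subgroupCongr hM
  have e2 : zpowers w ≃* Multiplicative (ZMod g) :=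
    mulEquivOfCyclicCardEq
      (hcard.trans ((Nat.card_congr Multiplicative.toAdd).trans (Nat.card_zmod g)).symm)
  exact hasSchurMultiplier_of_mulEquiv
    (hasSchurMultiplier_presM p (presHom_presentedGroup_of_surjective (mrels dd a' b' l n))) (e1.trans e2)

end Main

end Cfsg.Agent.Lib.Helper70.Meta
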