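import Mathlib

set_option autoImplicit false

namespace Cfsg.Agent.Lib.Helper70

open Subgroup
open scoped commutatorElement
open scoped IsMulCommutative

section NormMap

variable {E : Type*} [Group E] (E₀ : Subgroup E) (Z : Subgroup E) [hZn : Z.Normal]
  (hZ : Z ≤ E₀) {W : Type*} [Group W] (ψ : E₀ →* W)
  (hψ : ∀ z : E₀, (z : E) ∈ Z → ψ z ∈ center W)

/-- `x ↦ ψ (t⁻¹ x t)` as a homomorphism `Z →* center W` -/
def conjHom (t : E) : Z →* center W where
  toFun x := ⟨ψ ⟨t⁻¹ * x * t, hZ (hZn.conj_mem' x x.2 t)⟩, hψ _ (hZn.conj_mem' x x.2 t)⟩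
  map_one' := by
    apply Subtype.ext
    have : (⟨t⁻¹ * ((1 : Z) : E) * t, hZ (hZn.conj_mem' _ (1 : Z).2 t)⟩ : E₀) = 1 := by
      apply Subtype.ext; simp
    exact (congrArg ψ this).trans (map_one ψ)
  map_mul' x y := by
    apply Subtype.ext
    have : (⟨t⁻¹ * ((x * y : Z) : E) * t, hZ (hZn.conj_mem' _ (x * y).2 t)⟩ : E₀) =
        ⟨t⁻¹ * x * t, hZ (hZn.conj_mem' x x.2 t)⟩ * ⟨t⁻¹ * y * t, hZ (hZn.conj_mem' y y.2 t)⟩ := by
      apply Subtype.ext; simp [mul_assoc]
    exact (congrArg ψ this).trans (map_mul ψ _ _)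

theorem conjHom_apply (t : E) (x : Z) :
    ((conjHom E₀ Z hZ ψ hψ t x : center W) : W) =
      ψ ⟨t⁻¹ * x * t, hZ (hZn.conj_mem' x x.2 t)⟩ := rfl

variable [E₀.FiniteIndex]

/-- the norm (transfer) map `Z →* center W`, `x ↦ ∏ ψ (t⁻¹ x t)` over coset representatives -/
noncomputable def normMap : Z →* center W :=
  letI := E₀.fintypeQuotientOfFiniteIndex
  ∏ q : E ⧸ E₀, conjHom E₀ Z hZ ψ hψ (Quotient.out q)

theorem normMap_apply (x : Z) :
    letI := E₀.fintypeQuotientOfFiniteIndex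
    normMap E₀ Z hZ ψ hψ x = ∏ q : E ⧸ E₀, conjHom E₀ Z hZ ψ hψ (Quotient.out q) x := by
  unfold normMap
  rw [MonoidHom.finsetProd_apply]

omit [E₀.FiniteIndex] in
include hZ in
theorem smul_eq_of_mem_normal (x : E) (hx : x ∈ Z) (q : E ⧸ E₀) : x • q = q := by
  obtain ⟨t, rfl⟩ := QuotientGroup.mk_surjective q
  rw [MulAction.Quotient.smul_mk, smul_eq_mul, QuotientGroup.eq]
  have : (x * t)⁻¹ * t = t⁻¹ * x⁻¹ * t := by group
  rw [this]
  exact hZ (hZn.conj_mem' _ (Z.inv_mem hx) t)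

/-- the norm map is invariant under conjugation by elements of `E` -/
theorem normMap_conj (g : E) (x : Z) :
    normMap E₀ Z hZ ψ hψ ⟨g * x * g⁻¹, hZn.conj_mem x x.2 g⟩ = normMap E₀ Z hZ ψ hψ x := by
  let _ := E₀.fintypeQuotientOfFiniteIndex
  rw [normMap_apply, normMap_apply]
  refine Fintype.prod_equiv (MulAction.toPerm g⁻¹) _ _ ?_
  intro q
  apply Subtype.ext
  rw [conjHom_apply, conjHom_apply]
  simp only [MulAction.toPerm_apply]
  set t := Quotient.out q with ht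
  set t' := Quotient.out (g⁻¹ • q) with ht'
  have hmem : t'⁻¹ * (g⁻¹ * t) ∈ E₀ := by
    rw [← QuotientGroup.eq]
    have h1 : ((g⁻¹ * t : E) : E ⧸ E₀) = g⁻¹ • q := by
      rw [← smul_eq_mul, ← MulAction.Quotient.smul_mk, ht, QuotientGroup.out_eq']
    rw [h1, ht', QuotientGroup.out_eq']
  let h : E₀ := ⟨t'⁻¹ * (g⁻¹ * t), hmem⟩
  have hc : (⟨t'⁻¹ * x * t', hZ (hZn.conj_mem' x x.2 t')⟩ : E₀) ∈ Z.subgroupOf E₀ :=
    hZn.conj_mem' x x.2 t'
  have key : (⟨t⁻¹ * (g * x * g⁻¹) * t, hZ (hZn.conj_mem' _ (hZn.conj_mem x x.2 g) t)⟩ : E₀) =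
      h⁻¹ * ⟨t'⁻¹ * x * t', hZ (hZn.conj_mem' x x.2 t')⟩ * h := by
    apply Subtype.ext
    simp only [h, Subgroup.coe_mul, Subgroup.coe_inv]
    group
  rw [key, map_mul, map_mul, map_inv]
  have hcen := hψ ⟨t'⁻¹ * x * t', hZ (hZn.conj_mem' x x.2 t')⟩ (hZn.conj_mem' x x.2 t')
  rw [Subgroup.mem_center_iff] at hcen
  rw [mul_assoc, ← hcen, ← mul_assoc, inv_mul_cancel, one_mul]

/-- Mathlib's transfer evaluated on an element of a normal subgroup contained in `E₀` -/
theorem transfer_eq_prod_conj {A : Type*} [CommGroup A] (ϕ : E₀ →* A) (x : E) (hx : x ∈ Z) :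
    letI := E₀.fintypeQuotientOfFiniteIndex
    MonoidHom.transfer ϕ x = ∏ q : E ⧸ E₀,
      ϕ ⟨(Quotient.out q)⁻¹ * x * Quotient.out q, hZ (hZn.conj_mem' x hx _)⟩ := by
  let _ := E₀.fintypeQuotientOfFiniteIndex
  let T : E₀.LeftTransversal :=
    ⟨Set.range Quotient.out, isComplement_range_left Quotient.out_eq'⟩
  rw [MonoidHom.transfer_def ϕ T]
  unfold Subgroup.leftTransversals.diff
  refine Finset.prod_congr rfl fun q _ => ?_
  congr 1
  apply Subtype.ext
  simp only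
  rw [Subgroup.smul_apply_eq_smul_apply_inv_smul, smul_eq_of_mem_normal E₀ Z hZ x⁻¹ (Z.inv_mem hx)]
  have : ((T.2.leftQuotientEquiv q : Set.range (Quotient.out : E ⧸ E₀ → E)) : E) = Quotient.out q :=
    IsComplement.leftQuotientEquiv_apply Quotient.out_eq' q
  rw [this, smul_eq_mul, mul_assoc]

/-- on `Z ∩ [E, E]` the norm map lands in the commutator subgroup -/
theorem normMap_mem_commutator (x : Z) (hx : (x : E) ∈ commutator E) :
    ((normMap E₀ Z hZ ψ hψ x : center W) : W) ∈ commutator W := by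
  let _ := E₀.fintypeQuotientOfFiniteIndex
  let ϕ : E₀ →* Abelianization W := Abelianization.of.comp ψ
  have h1 : MonoidHom.transfer ϕ (x : E) = 1 :=
    Abelianization.commutator_subset_ker (MonoidHom.transfer ϕ) hx
  rw [transfer_eq_prod_conj E₀ Z hZ ϕ x x.2] at h1
  rw [← Abelianization.ker_of W, MonoidHom.mem_ker]
  have h2 : Abelianization.of ((normMap E₀ Z hZ ψ hψ x : center W) : W) =
      (Abelianization.of.comp (center W).subtype) (normMap E₀ Z hZ ψ hψ x) := rfl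
  rw [h2, normMap_apply, map_prod, ← h1]
  rfl

omit hZn [E₀.FiniteIndex] in
theorem map_coe_prod_center {V : Type*} [Group V] (j : W →* V) {ι : Type*} (s : Finset ι)
    (f : ι → center W) (g : ι → center V) (h : ∀ q, j (f q : W) = (g q : V)) :
    j ((∏ q ∈ s, f q : center W) : W) = ((∏ q ∈ s, g q : center V) : V) := by
  classical
  induction s using Finset.induction_on with
  | empty => simp
  | insert a s ha ih =>
    rw [Finset.prod_insert ha, Finset.prod_insert ha, Subgroup.coe_mul, map_mul, ih, h,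
      Subgroup.coe_mul]

/-- if `j ∘ ψ` and `ι` differ by central elements, then on `Z ∩ [E, E]` the composite of the norm
map with `j` is the `index`-th power -/
theorem normMap_comp_eq_pow {V : Type*} [Group V] (j : W →* V) (ι : E →* V)
    (hι : ∀ z ∈ Z, ι z ∈ center V) (hl : ∀ y : E₀, (ι y)⁻¹ * j (ψ y) ∈ center V)
    (x : Z) (hx : (x : E) ∈ commutator E) :
    j ((normMap E₀ Z hZ ψ hψ x : center W) : W) = ι x ^ E₀.index := by
  let _ := E₀.fintypeQuotientOfFiniteIndex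
  let l : E₀ →* center V := MonoidHom.mk' (fun y => ⟨(ι y)⁻¹ * j (ψ y), hl y⟩) (by
    intro a b
    apply Subtype.ext
    have hc := Subgroup.mem_center_iff.mp (hl a)
    simp only [Subgroup.coe_mul, map_mul, mul_inv_rev]
    calc (ι b)⁻¹ * (ι a)⁻¹ * (j (ψ a) * j (ψ b))
        = (ι b)⁻¹ * ((ι a)⁻¹ * j (ψ a)) * j (ψ b) := by group
      _ = (ι a)⁻¹ * j (ψ a) * ((ι b)⁻¹ * j (ψ b)) := by rw [hc (ι b)⁻¹, mul_assoc])
  have h1 : MonoidHom.transfer l (x : E) = 1 :=
    Abelianization.commutator_subset_ker (MonoidHom.transfer l) hx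
  rw [transfer_eq_prod_conj E₀ Z hZ l x x.2] at h1
  have hxc := Subgroup.mem_center_iff.mp (hι x x.2)
  have h2 : ∀ q : E ⧸ E₀, j ((conjHom E₀ Z hZ ψ hψ (Quotient.out q) x : center W) : W) =
      (((⟨ι x, hι x x.2⟩ : center V) *
        l ⟨(Quotient.out q)⁻¹ * x * Quotient.out q, hZ (hZn.conj_mem' x x.2 _)⟩ : center V) : V) := by
    intro q
    rw [conjHom_apply, Subgroup.coe_mul]
    show _ = ι x * ((ι ((Quotient.out q)⁻¹ * x * Quotient.out q))⁻¹ * j (ψ _))
    have hconj : ι ((Quotient.out q)⁻¹ * x * Quotient.out q) = ι x := by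
      rw [map_mul, map_mul, map_inv, mul_assoc, ← hxc, inv_mul_cancel_left]
    rw [hconj, mul_inv_cancel_left]
  rw [normMap_apply, map_coe_prod_center j Finset.univ _ _ h2, Finset.prod_mul_distrib, h1, mul_one,
    Finset.prod_const, Finset.card_univ, Subgroup.coe_pow, Subgroup.index_eq_card,
    Nat.card_eq_fintype_card]

end NormMap

end Cfsg.Agent.Lib.Helper70
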