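import Mathlib
import Cfsg.Agent.Lib.Helper22.NseDefs

/-!
# K-NSE-AS (keystone 343102): Sylow counting for a cyclic Sylow `p`-subgroup

If `p ^ k ‖ |G|` and `G` has an element of order `p ^ k`, then the elements of order `p ^ k` are the
generators of the (cyclic) Sylow `p`-subgroups: their number is `φ(p ^ k) * n_p`.
-/

set_option autoImplicit false

namespace Cfsg.Agent.Lib.Helper70.Nse

open Cfsg.Agent.Lib.Helper22.Nse

/-- number of elements of order `|P|` in a subgroup `P` containing an element of that order -/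
lemma as_card_gens {G : Type*} [Group G] [Finite G] (P : Subgroup G) (m : ℕ) (hm : Nat.card P = m)
    (y : G) (hy : y ∈ P) (hyo : orderOf y = m) :
    Nat.card {x : G // orderOf x = m ∧ x ∈ P} = Nat.totient m := by
  classical
  haveI : Fintype P := Fintype.ofFinite P
  have hcyc : IsCyclic P := by
    apply isCyclic_of_orderOf_eq_card (⟨y, hy⟩ : P)
    rw [Subgroup.orderOf_mk, hyo, hm]
  have h1 := IsCyclic.card_orderOf_eq_totient (α := P) (d := m)
    (by rw [← Nat.card_eq_fintype_card, hm])
  rw [← h1, ← Fintype.card_subtype, ← Nat.card_eq_fintype_card]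
  apply Nat.card_congr
  exact
    { toFun := fun x => ⟨⟨x.1, x.2.2⟩, by rw [Subgroup.orderOf_mk]; exact x.2.1⟩
      invFun := fun a => ⟨a.1.1, by rw [Subgroup.orderOf_coe]; exact a.2, a.1.2⟩
      left_inv := fun x => rfl
      right_inv := fun a => rfl }

theorem sylowHyp_of_group {G : Type*} [Group G] [Finite G] :
    SylowHyp (Nat.card G) (Cfsg.Agent.S3995.s G) := by
  classical
  intro p k hp hk hdvd hndvd hS
  haveI : Fact p.Prime := ⟨hp⟩
  obtain ⟨g, hg⟩ := (Cfsg.Agent.S3995.s_ne_zero_iff (G := G) (p ^ k)).1 hS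
  have hN : Nat.card G ≠ 0 := Nat.card_pos.ne'
  have hfac : (Nat.card G).factorization p = k := by
    apply le_antisymm
    · by_contra hlt
      push Not at hlt
      exact hndvd ((Nat.Prime.pow_dvd_iff_le_factorization hp hN).2 hlt)
    · exact (Nat.Prime.pow_dvd_iff_le_factorization hp hN).1 hdvd
  have hcardP : ∀ P : Sylow p G, Nat.card P = p ^ k := fun P => by
    rw [Sylow.card_eq_multiplicity, hfac]
  haveI : Fintype (Sylow p G) := Fintype.ofFinite _
  refine ⟨Nat.card (Sylow p G), ?_, ?_, ?_⟩
  · -- counting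
    have hzc : ∀ x : {x : G // orderOf x = p ^ k},
        Nat.card (Subgroup.zpowers x.1) = p ^ (Nat.card G).factorization p := fun x => by
      rw [Nat.card_zpowers, x.2, hfac]
    let F : {x : G // orderOf x = p ^ k} → Sylow p G :=
      fun x => Sylow.ofCard (Subgroup.zpowers x.1) (hzc x)
    have hF : ∀ x, ((F x : Sylow p G) : Subgroup G) = Subgroup.zpowers x.1 := fun x => rfl
    let P0 : Sylow p G := F ⟨g, hg⟩
    have hgP0 : g ∈ (P0 : Subgroup G) := by
      rw [hF]; exact Subgroup.mem_zpowers g
    have hfib : ∀ P : Sylow p G,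
        Nat.card {x : {x : G // orderOf x = p ^ k} // F x = P} = Nat.totient (p ^ k) := by
      intro P
      -- an element of order p^k in P
      let y : P := (Sylow.equiv P0 P) ⟨g, hgP0⟩
      have hyo : orderOf (y : G) = p ^ k := by
        rw [Subgroup.orderOf_coe, MulEquiv.orderOf_eq, Subgroup.orderOf_mk, hg]
      rw [← as_card_gens (P : Subgroup G) (p ^ k) (hcardP P) (y : G) y.2 hyo]
      apply Nat.card_congr
      exact
        { toFun := fun x => ⟨x.1.1, x.1.2, by
            have h1 : ((F x.1 : Sylow p G) : Subgroup G) = (P : Subgroup G) := by rw [x.2]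
            rw [← h1, hF]; exact Subgroup.mem_zpowers _⟩
          invFun := fun x => ⟨⟨x.1, x.2.1⟩, by
            apply Sylow.ext
            rw [hF]
            apply Subgroup.eq_of_le_of_card_ge
            · exact (Subgroup.zpowers_le).2 x.2.2
            · rw [Nat.card_zpowers, x.2.1]; exact (hcardP P).le⟩
          left_inv := fun x => rfl
          right_inv := fun x => rfl }
    have h1 : Cfsg.Agent.S3995.s G (p ^ k)
        = Nat.card (Σ P : Sylow p G, {x : {x : G // orderOf x = p ^ k} // F x = P}) := by
      unfold Cfsg.Agent.S3995.s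
      exact Nat.card_congr (Equiv.sigmaFiberEquiv F).symm
    rw [h1, Nat.card_sigma]
    simp only [hfib, Finset.sum_const, Finset.card_univ, smul_eq_mul]
    rw [Nat.card_eq_fintype_card, mul_comm]
  · have h := card_sylow_modEq_one p G
    have h2 : 1 % p = 1 := Nat.mod_eq_of_lt hp.one_lt
    rw [← h2]; exact h
  · obtain ⟨P⟩ : Nonempty (Sylow p G) := inferInstance
    exact (Sylow.card_dvd_index P).trans (Subgroup.index_dvd_card _)

end Cfsg.Agent.Lib.Helper70.Nse
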