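import Mathlib
import Cfsg.Agent.Lib.Helper22.NseDefs
import Cfsg.Agent.Lib.Helper70.NseAS

/-!
# K-NSE-A (keystone 343101): a finite group satisfies the abstract hypotheses `NseHyp`
-/

set_option autoImplicit false

namespace Cfsg.Agent.Lib.Helper70.Nse

open Cfsg.Agent.Lib.Helper22.Nse

/-- `φ(m)` divides the number of elements of order `m`. -/
lemma a_totient_dvd_s {G : Type*} [Group G] [Finite G] (m : ℕ) :
    Nat.totient m ∣ Cfsg.Agent.S3995.s G m := by
  classical
  haveI : Fintype (Subgroup G) := Fintype.ofFinite _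
  let F : {x : G // orderOf x = m} → Subgroup G := fun x => Subgroup.zpowers x.1
  have h1 : Cfsg.Agent.S3995.s G m
      = Nat.card (Σ H : Subgroup G, {x : {x : G // orderOf x = m} // F x = H}) := by
    unfold Cfsg.Agent.S3995.s
    exact Nat.card_congr (Equiv.sigmaFiberEquiv F).symm
  rw [h1, Nat.card_sigma]
  apply Finset.dvd_sum
  intro H _
  by_cases hne : Nonempty {x : {x : G // orderOf x = m} // F x = H}
  · obtain ⟨⟨⟨x0, hx0⟩, hF0⟩⟩ := hne
    have hH : Subgroup.zpowers x0 = H := hF0
    have hc : Nat.card {x : {x : G // orderOf x = m} // F x = H}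
        = Nat.card {x : G // orderOf x = m ∧ x ∈ H} := by
      apply Nat.card_congr
      exact
        { toFun := fun x => ⟨x.1.1, x.1.2, by
            have h2 : Subgroup.zpowers x.1.1 = H := x.2
            have h3 := Subgroup.mem_zpowers x.1.1
            rwa [h2] at h3⟩
          invFun := fun x => ⟨⟨x.1, x.2.1⟩, by
            show Subgroup.zpowers x.1 = H
            apply Subgroup.eq_of_le_of_card_ge
            · exact (Subgroup.zpowers_le).2 x.2.2
            · rw [Nat.card_zpowers, x.2.1, ← hH, Nat.card_zpowers, hx0]⟩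
          left_inv := fun x => rfl
          right_inv := fun x => rfl }
    rw [hc, as_card_gens H m (by rw [← hH, Nat.card_zpowers, hx0]) x0
      (by rw [← hH]; exact Subgroup.mem_zpowers _) hx0]
  · rw [not_nonempty_iff] at hne
    rw [Nat.card_of_isEmpty]
    exact dvd_zero _

theorem nseHyp_of_group {G : Type*} [Group G] [Finite G] (V : Finset ℕ)
    (h : ((fun m : ℕ => Nat.card {g : G // orderOf g = m}) '' Set.range (orderOf : G → ℕ)) = (↑V : Set ℕ)) :
    NseHyp (Nat.card G) (Cfsg.Agent.S3995.s G) V := by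
  classical
  have hN : 0 < Nat.card G := Nat.card_pos
  refine ⟨hN, Cfsg.Agent.S3995.s_one, fun m hm => Cfsg.Agent.S3995.frob_s m hm, ?_, ?_, ?_,
    fun m => a_totient_dvd_s m, ?_, ?_, ?_⟩
  · -- dvd
    intro m hm
    obtain ⟨g, hg⟩ := (Cfsg.Agent.S3995.s_ne_zero_iff (G := G) m).1 hm
    rw [← hg]; exact orderOf_dvd_natCard g
  · -- closed
    intro m d hm hd
    obtain ⟨g, hg⟩ := (Cfsg.Agent.S3995.s_ne_zero_iff (G := G) m).1 hm
    exact (Cfsg.Agent.S3995.s_ne_zero_iff (G := G) d).2
      (Cfsg.Agent.S3995.exists_orderOf_of_dvd hd g hg)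
  · -- cauchy
    intro p hp hpN
    haveI : Fact p.Prime := ⟨hp⟩
    obtain ⟨g, hg⟩ := exists_prime_orderOf_dvd_card' p hpN
    exact (Cfsg.Agent.S3995.s_ne_zero_iff (G := G) p).2 ⟨g, hg⟩
  · -- total
    letI : Fintype G := Fintype.ofFinite G
    have h2 := sum_card_orderOf_eq_card_pow_eq_one (G := G) hN.ne'
    have h3 : ∑ d ∈ (Nat.card G).divisors, Cfsg.Agent.S3995.s G d
        = Nat.card {g : G // g ^ (Nat.card G) = 1} := by
      rw [Nat.card_eq_fintype_card (α := {g : G // g ^ (Nat.card G) = 1}),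
        Fintype.card_subtype, ← h2]
      refine Finset.sum_congr rfl (fun d _ => ?_)
      unfold Cfsg.Agent.S3995.s
      rw [Nat.card_eq_fintype_card, Fintype.card_subtype]
    rw [h3]
    symm
    apply Nat.card_congr
    exact
      { toFun := fun x => x.1
        invFun := fun g => ⟨g, pow_card_eq_one'⟩
        left_inv := fun x => rfl
        right_inv := fun g => rfl }
  · -- mem
    intro m hm
    obtain ⟨g, hg⟩ := (Cfsg.Agent.S3995.s_ne_zero_iff (G := G) m).1 hm
    have : Cfsg.Agent.S3995.s G m ∈ (↑V : Set ℕ) := by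
      rw [← h]
      exact ⟨m, ⟨g, hg⟩, rfl⟩
    exact this
  · -- attained
    intro v hv
    have : v ∈ (↑V : Set ℕ) := hv
    rw [← h] at this
    obtain ⟨m, _, hm⟩ := this
    exact ⟨m, hm⟩

end Cfsg.Agent.Lib.Helper70.Nse
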