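import Mathlib
import Cfsg.Agent.Lib.Helper22.NseDefs
import Cfsg.Agent.Lib.Helper07.Order60

/-!
# K-NSE-D5 (keystone 343114): recognition of `A₅` from the element-order counts

A group of order 60 with 20 elements of order 3, 24 of order 5 and no element of order `> 5`
is simple, hence isomorphic to `A₅`.
-/

set_option autoImplicit false

namespace Cfsg.Agent.Lib.Helper70.Nse

open Cfsg.Agent.S3995 (s)

section
variable {G : Type*} [Group G] [Finite G]

/-- An element whose order is coprime to the index of a normal subgroup lies in it. -/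
lemma d_mem_of_coprime (N : Subgroup G) [N.Normal] (g : G)
    (h : Nat.Coprime (orderOf g) N.index) : g ∈ N := by
  have h1 : orderOf (QuotientGroup.mk' N g) ∣ orderOf g := orderOf_map_dvd _ g
  have h2 : orderOf (QuotientGroup.mk' N g) ∣ Nat.card (G ⧸ N) := orderOf_dvd_natCard _
  rw [← Subgroup.index_eq_card] at h2
  have h3 : orderOf (QuotientGroup.mk' N g) = 1 :=
    Nat.eq_one_of_dvd_coprimes h h1 h2
  rw [orderOf_eq_one_iff] at h3
  exact (QuotientGroup.eq_one_iff g).1 h3

/-- Elements of pairwise different orders inside `N`. -/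
lemma d_sum_le_card (N : Subgroup G) (T : Finset ℕ) :
    ∑ m ∈ T, Nat.card {x : G // x ∈ N ∧ orderOf x = m} ≤ Nat.card N := by
  classical
  have h1 : Nat.card (Σ m : T, {x : G // x ∈ N ∧ orderOf x = m.1})
      = ∑ m ∈ T, Nat.card {x : G // x ∈ N ∧ orderOf x = m} := by
    rw [Nat.card_sigma]
    exact Finset.sum_coe_sort T (fun m => Nat.card {x : G // x ∈ N ∧ orderOf x = m})
  rw [← h1]
  apply Nat.card_le_card_of_injective
    (fun x : (Σ m : T, {x : G // x ∈ N ∧ orderOf x = m.1}) => (⟨x.2.1, x.2.2.1⟩ : N))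
  rintro ⟨⟨m, hm⟩, ⟨x, hxN, hx⟩⟩ ⟨⟨m', hm'⟩, ⟨x', hxN', hx'⟩⟩ hxy
  have hxx : x = x' := congrArg Subtype.val hxy
  subst hxx
  have hmm : m = m' := by
    simp only at hx hx'
    rw [← hx, ← hx']
  subst hmm
  rfl

/-- If all elements with order in `T` lie in `N`, their number is at most `|N|`. -/
lemma d_sum_s_le_card (N : Subgroup G) (T : Finset ℕ) (hT : ∀ g : G, orderOf g ∈ T → g ∈ N) :
    ∑ m ∈ T, s G m ≤ Nat.card N := by
  refine le_trans (le_of_eq ?_) (d_sum_le_card N T)
  refine Finset.sum_congr rfl (fun m hm => ?_)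
  unfold Cfsg.Agent.S3995.s
  apply Nat.card_congr
  exact
    { toFun := fun x => ⟨x.1, hT _ (by rw [x.2]; exact hm), x.2⟩
      invFun := fun x => ⟨x.1, x.2.2⟩
      left_inv := fun x => rfl
      right_inv := fun x => rfl }

/-- Conjugation by an element of order 5 on a conjugation-stable set: count modulo 5. -/
lemma d_conj_count (g : G) (hg : orderOf g = 5) (p : G → Prop)
    (hp : ∀ x, p x → p (g * x * g⁻¹)) :
    Nat.card {x : G // p x} ≡ Nat.card {x : G // p x ∧ g * x * g⁻¹ = x} [MOD 5] := by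
  classical
  haveI : Fact (Nat.Prime 5) := ⟨by norm_num⟩
  haveI : Fintype {x : G // p x} := Fintype.ofFinite _
  let f : Function.End {x : G // p x} := fun x => ⟨g * x.1 * g⁻¹, hp x.1 x.2⟩
  have hfk : ∀ k : ℕ, ∀ x : {x : G // p x}, ((f ^ k) x).1 = g ^ k * x.1 * (g ^ k)⁻¹ := by
    intro k
    induction k with
    | zero =>
      intro x
      rw [pow_zero, pow_zero, inv_one, mul_one, one_mul]
      rfl
    | succ k ih =>
      intro x
      rw [pow_succ']
      show g * ((f ^ k) x).1 * g⁻¹ = _
      rw [ih, pow_succ']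
      group
  have hf5 : f ^ 5 ^ 1 = 1 := by
    funext x
    apply Subtype.ext
    rw [pow_one, hfk, ← hg, pow_orderOf_eq_one, inv_one, mul_one, one_mul]
    rfl
  have h := Equiv.Perm.card_fixedPoints_modEq (p := 5) (n := 1) hf5
  rw [Fintype.card_eq_nat_card, Fintype.card_eq_nat_card] at h
  have e : Nat.card ↥(Function.fixedPoints f) = Nat.card {x : G // p x ∧ g * x * g⁻¹ = x} := by
    apply Nat.card_congr
    exact
      { toFun := fun y => ⟨y.1.1, y.1.2, congrArg Subtype.val y.2⟩
        invFun := fun x => ⟨⟨x.1, x.2.1⟩, Subtype.ext x.2.2⟩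
        left_inv := fun y => rfl
        right_inv := fun x => rfl }
  rw [← e]
  exact h

end

end Cfsg.Agent.Lib.Helper70.Nse
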