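import Cfsg.Agent.Lib.Helper70.OTsO14a
import Cfsg.Agent.Lib.Helper99.OTsO4
import Cfsg.Agent.Lib.Helper99.OTsO9

/-!
# K-OTs-O14 (597314, S5973 + S5987, architect helper99): the derangement family B, exact signature
-/

set_option autoImplicit false
set_option linter.unusedSectionVars false
set_option linter.unusedVariables false

namespace Cfsg.Agent.Lib.Helper70.OTs

open Module Cfsg.Agent.Lib.Helper98.Elus Cfsg.Agent.Lib.Helper98.Sy Cfsg.Agent.Lib.Helper99.OTs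

universe u
variable {F : Type u} [Field F] {V : Type u} [AddCommGroup V] [Module F V]

/-- **O14.** -/
theorem exists_derangement_B [Fintype F] (p f : ℕ) [Fact p.Prime] [CharP F p] (hF : Fintype.card F = p ^ f)
    (r : ℕ) [Fact r.Prime] (hpr : p ≠ r) (hr2 : r ≠ 2) (hrF : (r : F) ≠ 0)
    (heven : Even (orderOf ((Fintype.card F : ℕ) : ZMod r))) (τ : Prop) (d m j : ℕ) (hj : 1 ≤ j)
    (hjt : j ≤ (r - 1) / orderOf ((Fintype.card F : ℕ) : ZMod r))
    (hjd : orderOf ((Fintype.card F : ℕ) : ZMod r) * j ≤ 2 * d)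
    (hval : ¬ (τ ↔ Even j) → orderOf ((Fintype.card F : ℕ) : ZMod r) * j + 2 ≤ 2 * d)
    (h1 : (τ ↔ Even j) → 2 * d - orderOf ((Fintype.card F : ℕ) : ZMod r) * j < 2 * m)
    (h2 : ¬ (τ ↔ Even j) → 2 * d - orderOf ((Fintype.card F : ℕ) : ZMod r) * j < 2 * m + 2) :
    ∃ (V : Type u) (_ : AddCommGroup V) (_ : Module F V) (_ : FiniteDimensional F V)
      (Q : QuadraticForm F V) (y : V →ₗ[F] V),
      NonDeg (QuadraticMap.polarBilin Q) ⊤ ∧ finrank F V = 2 * d ∧ (PlusOn Q ⊤ ↔ τ) ∧ QIso Q y ∧ y ^ r = 1 ∧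
      (∀ z : F, y ≠ z • 1) ∧ ∀ W : Submodule F V, Inv y W → TS Q W → finrank F W ≠ m :=
  exists_derangement_B_of p f hF r hpr hr2 hrF heven τ d m j hj hjt hjd hval h1 h2
    (fun V _ _ _ Q hV d hd y hy hiso =>
      Cfsg.Agent.Lib.Helper99.OTs.plusOn_V0_iff Q hV d hd p f hF r hpr hr2 hrF y hy hiso)
    (fun e τ hτ => Cfsg.Agent.Lib.Helper99.OTs.exists_fixed_part e τ hτ)

end Cfsg.Agent.Lib.Helper70.OTs
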