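import Cfsg.Agent.Lib.Helper70.R3Gen
import Cfsg.Agent.Lib.Helper24.UFTab
import Cfsg.Agent.Lib.Helper24.FT_E6
import Cfsg.Agent.Lib.Helper24.CFAll
import Cfsg.Agent.Lib.Helper24.CO_E6
import Cfsg.Agent.Lib.Helper24.Add_E6
import Cfsg.Agent.Lib.Helper24.HA_E6
import Cfsg.Agent.Lib.Helper24.TriTables
import Cfsg.Agent.Lib.Helper24.TriNegTables

/-!
# K-R3-E6 (keystone 178809, S1788): `E_6(F)` has `2`-rank at least `3` in characteristic `2`

The three root subgroups `X_69, X_70, X_71` of `chevE6` commute pairwise.  The verified facts for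
`chevE6` are assembled from the per-family tables of Helper24 (no `E_7`/`E_8` tables needed).
-/

set_option autoImplicit false

namespace Cfsg.Agent.Lib.Helper70.R3

open Cfsg Cfsg.Lie Cfsg.Agent.Lib.Helper24

/-- the verified facts for `chevE6`, from the `E_6` tables alone -/
theorem facts_E6_light : Facts chevE6 where
  table := tableOK_E6_all
  cartanF := cartanFOK_all chevE6 (by simp)
  cartanOK := cartanOK_E6_all
  add := addOK_E6_all
  hroot := fun r hr => hRootOK_E6_all r (Nat.zero_le _) hr
  tri := triOK_all chevE6 (by simp)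
  triNeg := triOKneg_all chevE6 (by simp)

theorem commE6_69_70 : commFullOK chevE6 69 70 = true := by decide +kernel
theorem commE6_69_71 : commFullOK chevE6 69 71 = true := by decide +kernel
theorem commE6_70_71 : commFullOK chevE6 70 71 = true := by decide +kernel

/-- 178809 K-R3-E6 -/
theorem prank_e6 (F : Type) [Field F] [Fintype F] [CharP F 2] :
    Cfsg.PRankAtLeast 2 3 (Cfsg.Lie.chevE6.group F) :=
  prank_of_three_roots' facts_E6_light ufacts_E6 69 70 71 (by norm_num) (by norm_num)
    (by decide +kernel) (by decide +kernel) (by decide +kernel)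
    commE6_69_70 (by decide +kernel) commE6_69_71 (by decide +kernel)
    commE6_70_71 (by decide +kernel)

end Cfsg.Agent.Lib.Helper70.R3
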