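import Cfsg.Agent.Lib.Helper24.UFact
import Cfsg.Agent.Lib.Helper24.CommFormula
import Cfsg.Agent.Lib.Helper44.OmegaRank

/-!
# K-R3 (S1788), generic lemma for the untwisted exceptional Chevalley groups

Three (or two) positive roots whose root subgroups commute pairwise give an elementary abelian
subgroup `F × F × F` (or `F × F`) of `D.group F` in characteristic 2.  Injectivity comes from
Helper24's `Facts.ordProd_inj` (unique factorisation along any increasing list of positive roots).
-/

set_option autoImplicit false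

namespace Cfsg.Agent.Lib.Helper70.R3

open Cfsg Cfsg.Lie Cfsg.Agent.Lib.Helper24

section generic

variable {F : Type*} [Field F] {D : ChevalleyDatum}

/-- root elements commute when the commutator formula has been checked and has no terms -/
theorem commute_of_commFullOK_nil (hF : Facts D) (r s : ℕ) (h : commFullOK D r s = true)
    (h0 : D.commTerms r s = []) (t u : F) : Commute (hF.xGL r t) (hF.xGL s u) := by
  have h1 := hF.comm_of_commFullOK r s h t u
  have h2 : D.commWord F r s t u = [] := by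
    unfold ChevalleyDatum.commWord
    rw [h0]; rfl
  rw [h2] at h1
  have h3 : hF.wordGL ([] : List (ℕ × F)) = 1 := by simp [Facts.wordGL]
  rw [h3, mul_one] at h1
  exact h1.symm

/-- the product of three root elements, as an element of the Chevalley group -/
def triple (hF : Facts D) (r1 r2 r3 : ℕ) (v : F × F × F) : D.group F :=
  ⟨hF.xGL r1 v.1 * hF.xGL r2 v.2.1 * hF.xGL r3 v.2.2,
    Subgroup.mul_mem _ (Subgroup.mul_mem _ (hF.xGL_mem_group _ _) (hF.xGL_mem_group _ _))
      (hF.xGL_mem_group _ _)⟩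

theorem triple_add (hF : Facts D) (r1 r2 r3 : ℕ)
    (c12 : ∀ t u : F, Commute (hF.xGL r1 t) (hF.xGL r2 u))
    (c13 : ∀ t u : F, Commute (hF.xGL r1 t) (hF.xGL r3 u))
    (c23 : ∀ t u : F, Commute (hF.xGL r2 t) (hF.xGL r3 u)) (v w : F × F × F) :
    triple hF r1 r2 r3 (v + w) = triple hF r1 r2 r3 v * triple hF r1 r2 r3 w := by
  apply Subtype.ext
  simp only [triple, Subgroup.coe_mul, Prod.fst_add, Prod.snd_add]
  rw [← hF.xGL_mul, ← hF.xGL_mul, ← hF.xGL_mul]
  have e1 : Commute (hF.xGL r3 v.2.2) (hF.xGL r1 w.1 * hF.xGL r2 w.2.1) :=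
    Commute.mul_right (c13 _ _).symm (c23 _ _).symm
  rw [Commute.mul_mul_mul_comm e1, Commute.mul_mul_mul_comm (c12 w.1 v.2.1).symm]

/-- the group homomorphism `(a, b, c) ↦ x_{r1}(a) x_{r2}(b) x_{r3}(c)` -/
def tripleHom (hF : Facts D) (r1 r2 r3 : ℕ)
    (c12 : ∀ t u : F, Commute (hF.xGL r1 t) (hF.xGL r2 u))
    (c13 : ∀ t u : F, Commute (hF.xGL r1 t) (hF.xGL r3 u))
    (c23 : ∀ t u : F, Commute (hF.xGL r2 t) (hF.xGL r3 u)) :
    Multiplicative (F × F × F) →* D.group F where
  toFun v := triple hF r1 r2 r3 (Multiplicative.toAdd v)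
  map_one' := by
    apply Subtype.ext
    simp [triple, hF.xGL_zero]
  map_mul' v w := by
    rw [toAdd_mul]
    exact triple_add hF r1 r2 r3 c12 c13 c23 _ _

theorem triple_injective (hF : Facts D) (hU : UFacts D) (r1 r2 r3 : ℕ) (h12 : r1 < r2)
    (h23 : r2 < r3) (hp1 : D.IsPosRoot r1) (hp2 : D.IsPosRoot r2) (hp3 : D.IsPosRoot r3) :
    Function.Injective (triple (F := F) hF r1 r2 r3) := by
  intro v w hvw
  have hval := congrArg Subtype.val hvw
  simp only [triple] at hval
  obtain ⟨Λ, hΛ⟩ := hU.grade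
  obtain ⟨hg0, hmono⟩ := gradeOK_spec D hF.cartanF Λ hU.half hΛ
  let tv : ℕ → F := fun r => if r = r1 then v.1 else if r = r2 then v.2.1 else v.2.2
  let tw : ℕ → F := fun r => if r = r1 then w.1 else if r = r2 then w.2.1 else w.2.2
  have h21 : r2 ≠ r1 := by omega
  have h31 : r3 ≠ r1 := by omega
  have h32 : r3 ≠ r2 := by omega
  have ev : hF.ordProd [r1, r2, r3] tv = hF.xGL r1 v.1 * hF.xGL r2 v.2.1 * hF.xGL r3 v.2.2 := by
    rw [hF.ordProd_cons, hF.ordProd_cons, hF.ordProd_cons, hF.ordProd_nil, mul_one, mul_assoc]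
    simp only [tv, if_true, if_neg h21, if_neg h31, if_neg h32]
  have ew : hF.ordProd [r1, r2, r3] tw = hF.xGL r1 w.1 * hF.xGL r2 w.2.1 * hF.xGL r3 w.2.2 := by
    rw [hF.ordProd_cons, hF.ordProd_cons, hF.ordProd_cons, hF.ordProd_nil, mul_one, mul_assoc]
    simp only [tw, if_true, if_neg h21, if_neg h31, if_neg h32]
  have hsort : [r1, r2, r3].Pairwise (· < ·) := by
    simp only [List.pairwise_cons, List.mem_cons, List.not_mem_nil, or_false, forall_eq_or_imp,
      forall_eq, IsEmpty.forall_iff, implies_true, List.Pairwise.nil, and_true]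
    exact ⟨⟨h12, by omega⟩, h23⟩
  have hpos : ∀ r ∈ [r1, r2, r3], D.IsPosRoot r := by
    intro r hr
    simp only [List.mem_cons, List.not_mem_nil, or_false] at hr
    rcases hr with rfl | rfl | rfl
    · exact hp1
    · exact hp2
    · exact hp3
  have key := hF.ordProd_inj hU.negNe hU.unit Λ hg0 hmono [r1, r2, r3] hsort hpos tv tw
    (by rw [ev, ew]; exact hval)
  have k1 := key r1 (by simp)
  have k2 := key r2 (by simp)
  have k3 := key r3 (by simp)
  simp only [tv, tw, if_true, if_neg h21, if_neg h31, if_neg h32] at k1 k2 k3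
  exact Prod.ext k1 (Prod.ext k2 k3)

end generic

/-- **Generic K-R3 lemma.**  Three positive roots `r1 < r2 < r3` of a Chevalley datum with
verified tables whose root subgroups commute pairwise give `2`-rank at least `3` in
characteristic `2`. -/
theorem prank_of_three_roots {F : Type} [Field F] [Fintype F] [CharP F 2] {D : ChevalleyDatum}
    (hF : Facts D) (hU : UFacts D) (r1 r2 r3 : ℕ) (h12 : r1 < r2) (h23 : r2 < r3)
    (hp1 : D.IsPosRoot r1) (hp2 : D.IsPosRoot r2) (hp3 : D.IsPosRoot r3)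
    (c12 : ∀ t u : F, Commute (hF.xGL r1 t) (hF.xGL r2 u))
    (c13 : ∀ t u : F, Commute (hF.xGL r1 t) (hF.xGL r3 u))
    (c23 : ∀ t u : F, Commute (hF.xGL r2 t) (hF.xGL r3 u)) :
    Cfsg.PRankAtLeast 2 3 (D.group F) := by
  refine Cfsg.Agent.Lib.Helper44.prankAtLeast_of_injective 2 3
    (tripleHom hF r1 r2 r3 c12 c13 c23) ?_ ?_ ?_
  · intro v w hvw
    have := triple_injective hF hU r1 r2 r3 h12 h23 hp1 hp2 hp3 hvw
    exact Multiplicative.toAdd.injective this
  · intro a
    apply Multiplicative.toAdd.injective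
    rw [toAdd_pow, toAdd_one]
    obtain ⟨x, y, z⟩ := Multiplicative.toAdd a
    have h2 : (2 : F) = 0 := CharTwo.two_eq_zero
    ext <;> simp [h2]
  · rw [Nat.card_eq_fintype_card, Fintype.card_multiplicative, Fintype.card_prod, Fintype.card_prod]
    have h2 : 2 ≤ Fintype.card F := Fintype.one_lt_card
    calc 2 ^ 3 = 2 * (2 * 2) := by norm_num
      _ ≤ Fintype.card F * (Fintype.card F * Fintype.card F) :=
        Nat.mul_le_mul h2 (Nat.mul_le_mul h2 h2)

/-- the version with the commutation decided by Helper24's `commFullOK` check -/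
theorem prank_of_three_roots' {F : Type} [Field F] [Fintype F] [CharP F 2] {D : ChevalleyDatum}
    (hF : Facts D) (hU : UFacts D) (r1 r2 r3 : ℕ) (h12 : r1 < r2) (h23 : r2 < r3)
    (hp1 : D.IsPosRoot r1) (hp2 : D.IsPosRoot r2) (hp3 : D.IsPosRoot r3)
    (c12 : commFullOK D r1 r2 = true) (n12 : D.commTerms r1 r2 = [])
    (c13 : commFullOK D r1 r3 = true) (n13 : D.commTerms r1 r3 = [])
    (c23 : commFullOK D r2 r3 = true) (n23 : D.commTerms r2 r3 = []) :
    Cfsg.PRankAtLeast 2 3 (D.group F) :=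
  prank_of_three_roots hF hU r1 r2 r3 h12 h23 hp1 hp2 hp3
    (commute_of_commFullOK_nil hF r1 r2 c12 n12) (commute_of_commFullOK_nil hF r1 r3 c13 n13)
    (commute_of_commFullOK_nil hF r2 r3 c23 n23)

end Cfsg.Agent.Lib.Helper70.R3
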