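import Mathlib
import Cfsg.Agent.Lib.Helper07.SchurRed2
import Cfsg.Agent.Lib.Helper07.SchurSL2
import Cfsg.Agent.Lib.Helper07.A6Final
import Cfsg.Agent.Lib.Helper07.SL2Tori
import Cfsg.Agent.Lib.Helper70.HexaCover
import Cfsg.Agent.Lib.Helper70.SchurPullback
import Cfsg.Agent.S3951

set_option autoImplicit false

namespace Cfsg.Agent.Lib.Helper70.Nine

open Matrix Cfsg.Agent.Lib.Helper07

universe u

theorem charP_three_of_card_nine {F : Type u} [Field F] [Fintype F] (hF : Fintype.card F = 9) :
    CharP F 3 := by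
  obtain ⟨p, hp⟩ := CharP.exists F
  have := hp
  have : Fact p.Prime := ⟨CharP.char_is_prime F p⟩
  obtain ⟨n, hpp, hn⟩ := FiniteField.card F p
  rw [hF] at hn
  have h3 : p ∣ 3 ^ 2 := by
    rw [show (3 : ℕ) ^ 2 = 9 by norm_num, hn]
    exact dvd_pow_self p n.ne_zero
  have : p = 3 := (Nat.prime_dvd_prime_iff_eq hpp Nat.prime_three).mp (hpp.dvd_of_dvd_pow h3)
  subst this
  exact hp

theorem addEquiv_of_card_nine {F : Type u} [Field F] [Fintype F] (hF : Fintype.card F = 9) :
    Nonempty (F ≃+ ZMod 3 × ZMod 3) := by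
  have := charP_three_of_card_nine hF
  let _ : Algebra (ZMod 3) F := ZMod.algebra F 3
  have hcard := Module.card_eq_pow_finrank (K := ZMod 3) (V := F)
  rw [hF, ZMod.card] at hcard
  have hfr : Module.finrank (ZMod 3) F = 2 := by
    have : (3 : ℕ) ^ 2 = 3 ^ Module.finrank (ZMod 3) F := by rw [← hcard]; norm_num
    exact (Nat.pow_right_injective (by norm_num : 2 ≤ 3) this).symm
  let b := Module.finBasisOfFinrankEq (ZMod 3) F hfr
  exact ⟨(b.equivFun.trans (LinearEquiv.finTwoArrow (ZMod 3) (ZMod 3))).toAddEquiv⟩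

section main

variable {F : Type u} [Field F] [Fintype F]

local notation "G" => Matrix.SpecialLinearGroup (Fin 2) F

/-- central elements of `SL₂` square to one -/
theorem sq_eq_one_of_mem_center (x : G) (hx : x ∈ Subgroup.center G) : x ^ 2 = 1 := by
  rw [Matrix.SpecialLinearGroup.mem_center_iff] at hx
  obtain ⟨r, hr, hx⟩ := hx
  rw [Fintype.card_fin] at hr
  apply Subtype.ext
  rw [Matrix.SpecialLinearGroup.coe_pow, ← hx, Matrix.SpecialLinearGroup.coe_one, ← map_pow, hr,
    map_one]

/-- a stem extension of `SL₂(9)` with kernel of order three -/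
theorem exists_stem_cover (hF : Fintype.card F = 9) :
    ∃ (Γ : Type u) (_ : Group Γ) (_ : Finite Γ) (σ : Γ →* G),
      Cfsg.IsStemExtension σ ∧ Nonempty (σ.ker ≃* Multiplicative (ZMod 3)) := by
  classical
  obtain ⟨e⟩ := psl_two_nine_equiv_alt hF
  let pr : G →* alternatingGroup (Fin 6) :=
    e.toMonoidHom.comp (QuotientGroup.mk' (Subgroup.center G))
  have hpr : Function.Surjective pr :=
    e.surjective.comp (QuotientGroup.mk'_surjective _)
  have hker : ∀ x ∈ pr.ker, x ^ 4 = 1 := by
    intro x hx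
    have h1 : e (QuotientGroup.mk' (Subgroup.center G) x) = 1 := hx
    have h2 : QuotientGroup.mk' (Subgroup.center G) x = 1 := e.map_eq_one_iff.mp h1
    have h3 : x ∈ Subgroup.center G := (QuotientGroup.eq_one_iff x).mp h2
    have h4 := sq_eq_one_of_mem_center x h3
    calc x ^ 4 = (x ^ 2) ^ 2 := by rw [← pow_mul]
      _ = 1 := by rw [h4, one_pow]
  have hstem := pullbackFst_isStem pr hpr Hexa.πE Hexa.πE_surjective Hexa.ker_πE_le_center
    Hexa.ker_πE_le_commutator 4 hker Hexa.pow_four_of_mem_ker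
  refine ⟨pullbackSub pr Hexa.πE, inferInstance, inferInstance, pullbackFst pr Hexa.πE, hstem, ?_⟩
  have e1 : (pullbackFst pr Hexa.πE).ker ≃* Hexa.πE.ker := pullbackKerEquiv pr Hexa.πE
  have hc : Nat.card Hexa.πE.ker = 3 := Hexa.card_ker_πE
  have : Fact (Nat.Prime 3) := ⟨Nat.prime_three⟩
  have e2 : Hexa.πE.ker ≃* Multiplicative (ZMod 3) :=
    mulEquivOfPrimeCardEq (p := 3) hc ((Nat.card_congr Multiplicative.toAdd).trans (Nat.card_zmod 3))
  exact ⟨e1.trans e2⟩

/-- the Sylow 3-subgroup of `SL₂(9)` has multiplier a quotient of `ℤ/3` -/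
theorem multQuot_USL (hF : Fintype.card F = 9) :
    MultQuot (USL : Subgroup G) (Multiplicative (ZMod 3)) := by
  obtain ⟨a⟩ := addEquiv_of_card_nine hF
  have hinj : Function.Injective (upSLHom (F := F)) := by
    intro x y hxy
    exact Multiplicative.toAdd.injective (upSL_injective hxy)
  have e1 : Multiplicative F ≃* (USL : Subgroup G) := MonoidHom.ofInjective hinj
  have e2 : Multiplicative F ≃* Multiplicative (ZMod 3 × ZMod 3) := AddEquiv.toMultiplicative a
  have h := multQuot_of_hasSchurMultiplier (Cfsg.Agent.S3951.result 3 3 (dvd_refl 3))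
  exact multQuot_of_mulEquiv (e1.symm.trans e2) h

/-- the kernel of every finite stem extension of `SL₂(9)` is a quotient of `ℤ/3` -/
theorem exists_surjective_of_stem (hF : Fintype.card F = 9) {Γ : Type u} [Group Γ] [Finite Γ]
    (σ : Γ →* G) (hσ : Cfsg.IsStemExtension σ) :
    ∃ π : Multiplicative (ZMod 3) →* σ.ker, Function.Surjective π := by
  classical
  have hch : CharP F 3 := charP_three_of_card_nine hF
  have : Fact (Nat.Prime 3) := ⟨Nat.prime_three⟩
  -- the kernel is a 3-group
  have hpg : IsPGroup 3 σ.ker := by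
    have hcard : ∀ r : ℕ, r.Prime → r ∣ Nat.card σ.ker → r = 3 := by
      intro r hr hdvd
      by_contra hr3
      have : Fact r.Prime := ⟨hr⟩
      obtain ⟨z, hz⟩ := exists_prime_orderOf_dvd_card' r hdvd
      have hzk : (z : Γ) ∈ σ.ker := z.2
      have hzo : orderOf (z : Γ) = r := by rw [Subgroup.orderOf_coe]; exact hz
      by_cases hr2 : r = 2
      · subst hr2
        have hodd : Odd (Fintype.card F) := by rw [hF]; decide
        let R : Sylow 2 G := default
        obtain ⟨k, hk1, ⟨e⟩⟩ := sylow_two_SL_two_quaternion hodd R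
        have : NeZero (2 ^ k) := ⟨by positivity⟩
        have hQ : TrivMult (QuaternionGroup (2 ^ k)) :=
          trivMult_of_hasCyclicSchurMultiplier (Cfsg.Agent.S3963.result (2 ^ k))
        have hR : TrivMult (R : Subgroup G) := trivMult_of_mulEquiv e hQ
        exact no_order_r_of_sylow_trivMult σ hσ 2 R hR z hzk hzo
      · let R : Sylow r G := default
        have : IsCyclic (R : Subgroup G) := sylow_SL_two_isCyclic 3 r hr2 hr3 R
        have hR : TrivMult (R : Subgroup G) :=
          trivMult_of_hasCyclicSchurMultiplier Cfsg.Agent.S3979.result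
        exact no_order_r_of_sylow_trivMult σ hσ r R hR z hzk hzo
    have hne : Nat.card σ.ker ≠ 0 := Nat.card_pos.ne'
    have := Nat.eq_prime_pow_of_unique_prime_dvd hne (fun {d} hd hdd => hcard d hd hdd)
    exact IsPGroup.of_card this
  have hR : MultQuot ((sylUSL 3 : Sylow 3 G) : Subgroup G) (Multiplicative (ZMod 3)) := by
    rw [sylUSL_coe]
    exact multQuot_USL hF
  exact exists_surjective_of_sylow_multQuot σ hσ 3 (sylUSL 3) hR hpg

/-- `SL₂(9)` has Schur multiplier cyclic of order three -/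
theorem sl_two_nine_multiplier (hF : Fintype.card F = 9) :
    Cfsg.HasCyclicSchurMultiplier G 3 :=
  ⟨exists_stem_cover hF, fun Γ _ _ σ hσ => exists_surjective_of_stem hF σ hσ⟩

end main

end Cfsg.Agent.Lib.Helper70.Nine
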