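import Mathlib
import Cfsg.Prelude.Def_JordanBlocks
import Cfsg.Agent.Lib.Helper73.UCDefs
import Cfsg.Agent.Lib.Helper73.SPCDefs

/-!
# K-SPC-C12 (keystone 267621, S2676): all systems of top blocks arise

`c (l,k,s) = T (d k) l k` if `d l = d k` and `s + 1 = d k`, else `0`.
-/

set_option autoImplicit false

namespace Cfsg.Agent.Lib.Helper70.SPC

open Matrix Cfsg.Agent.Lib.Helper73.UC Cfsg.Agent.Lib.Helper73.SPC

variable {F : Type*}

/-- transport of the entry of `T` along an equality of block sizes -/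
theorem T_entry_eq {t : ℕ} (d : Fin t → ℕ)
    (T : ∀ i : ℕ, Matrix {k : Fin t // d k = i} {k : Fin t // d k = i} F)
    (i : ℕ) (l k : Fin t) (hl : d l = i) (hk : d k = i) :
    T (d k) ⟨l, hl.trans hk.symm⟩ ⟨k, rfl⟩ = T i ⟨l, hl⟩ ⟨k, hk⟩ := by
  subst hk
  rfl

/-- the coefficient system with prescribed top blocks -/
noncomputable def cTop [Zero F] {t : ℕ} (d : Fin t → ℕ)
    (T : ∀ i : ℕ, Matrix {k : Fin t // d k = i} {k : Fin t // d k = i} F) (p : CIdx d) : F :=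
  if h : d p.1 = d p.2.1 ∧ (p.2.2 : ℕ) + 1 = d p.2.1 then T (d p.2.1) ⟨p.1, h.1⟩ ⟨p.2.1, rfl⟩ else 0

/-- LEAF C12 (all tops arise). -/
theorem exists_AC_of_topBlocks [Field F] {t : ℕ} (d : Fin t → ℕ) (hd : ∀ k, 1 ≤ d k)
    (T : ∀ i : ℕ, Matrix {k : Fin t // d k = i} {k : Fin t // d k = i} F)
    (hT : ∀ i, (T i)ᵀ = (-1 : F) ^ i • T i) :
    ∃ c ∈ AC d, ∀ i, topBlock d hd c i = T i := by
  refine ⟨cTop d T, ?_, ?_⟩
  · rintro ⟨l, k, s⟩
    show cTop d T (cswap ⟨l, k, s⟩) = (-1 : F) ^ ((s : ℕ) + 1) * cTop d T ⟨l, k, s⟩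
    by_cases h : d l = d k ∧ (s : ℕ) + 1 = d k
    · have h' : d k = d l ∧ (s : ℕ) + 1 = d l := ⟨h.1.symm, h.2.trans h.1.symm⟩
      have e1 : cTop d T (cswap ⟨l, k, s⟩) = T (d l) ⟨k, h'.1⟩ ⟨l, rfl⟩ := by
        unfold cTop cswap
        simp only [Fin.val_cast]
        rw [dif_pos h']
      have e2 : cTop d T ⟨l, k, s⟩ = T (d k) ⟨l, h.1⟩ ⟨k, rfl⟩ := by
        unfold cTop
        rw [dif_pos h]
      rw [e1, e2]
      rw [T_entry_eq d T (d k) k l rfl h.1]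
      have := congrFun (congrFun (hT (d k)) ⟨l, h.1⟩) ⟨k, rfl⟩
      simp only [Matrix.transpose_apply, Matrix.smul_apply, smul_eq_mul] at this
      rw [this]
      congr 2
      exact h.2.symm
    · have h' : ¬ (d k = d l ∧ (s : ℕ) + 1 = d l) := by
        rintro ⟨h1, h2⟩
        exact h ⟨h1.symm, h2.trans h1.symm⟩
      have e1 : cTop d T (cswap ⟨l, k, s⟩) = 0 := by
        unfold cTop cswap
        simp only [Fin.val_cast]
        rw [dif_neg h']
      have e2 : cTop d T ⟨l, k, s⟩ = 0 := by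
        unfold cTop
        rw [dif_neg h]
      rw [e1, e2, mul_zero]
  · intro i
    ext ⟨l, hl⟩ ⟨k, hk⟩
    have hlk : d l = d k := hl.trans hk.symm
    have hk1 : d k - 1 + 1 = d k := by have := hd k; omega
    show topC d hd (cTop d T) l k = T i ⟨l, hl⟩ ⟨k, hk⟩
    unfold topC
    simp only [Matrix.of_apply]
    rw [dif_pos hlk]
    unfold cTop
    rw [dif_pos ⟨hlk, hk1⟩]
    exact T_entry_eq d T i l k hl hk

end Cfsg.Agent.Lib.Helper70.SPC
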