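import Mathlib
import Cfsg.Prelude.Def_KGroupFacts
import Cfsg.Agent.Lib.Helper70.SchurPres2

set_option autoImplicit false

namespace Cfsg.Agent.Lib.Helper70

open Subgroup
open scoped commutatorElement

universe u v w

/-- extension of homomorphisms into a divisible group from a subgroup meeting the commutator
subgroup trivially -/
theorem exists_extension_of_inf_commutator_eq_bot {H : Type*} [Group H] {D : Type*} [CommGroup D]
    (hD : Module.Baer ℤ (Additive D)) (S : Subgroup H) (hS : S ⊓ commutator H = ⊥) (f : S →* D) :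
    ∃ χ : H →* D, ∀ s : S, χ s = f s := by
  let j : S →* Abelianization H := Abelianization.of.comp S.subtype
  have hj : Function.Injective j := by
    rw [injective_iff_map_eq_one]
    intro s hs
    have h1 : (s : H) ∈ (Abelianization.of : H →* Abelianization H).ker := hs
    rw [Abelianization.ker_of] at h1
    have h2 : (s : H) ∈ S ⊓ commutator H := ⟨s.2, h1⟩
    rw [hS, Subgroup.mem_bot] at h2
    exact Subtype.ext h2
  let e : S ≃* j.range := MonoidHom.ofInjective hj
  let fbar : j.range →* D := f.comp e.symm.toMonoidHom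
  obtain ⟨h, hh⟩ := Module.Baer.extension_property_addMonoidHom hD
    (MonoidHom.toAdditive j.range.subtype) (fun a b hab => Subtype.ext hab)
    (MonoidHom.toAdditive fbar)
  refine ⟨(MonoidHom.toAdditive.symm h).comp Abelianization.of, ?_⟩
  intro s
  have := DFunLike.congr_fun hh (Additive.ofMul (e s))
  have h2 : fbar (e s) = f s := by
    show f (e.symm (e s)) = f s
    rw [MulEquiv.symm_apply_apply]
  rw [← h2]
  exact congrArg Additive.toMul this

/-- **lifting to a Schur cover**: a Schur cover `σ : Γ → Q` maps to every central extension of `Q` with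
divisible kernel. -/
theorem exists_lift_of_schur_cover {Q : Type u} [Group Q] [Finite Q] {A : Type*} [CommGroup A]
    (hA : Cfsg.HasSchurMultiplier Q A) {Γ : Type v} [Group Γ] [Finite Γ] (σ : Γ →* Q)
    (hσ : Cfsg.IsStemExtension σ) (hk : Nonempty (σ.ker ≃* A)) {E : Type w} [Group E] (τ : E →* Q)
    (hτ : Function.Surjective τ) (hτc : τ.ker ≤ center E) {D : Type*} [CommGroup D]
    (hD : Module.Baer ℤ (Additive D)) (ι : D →* E) (hι : Function.Injective ι)
    (hιr : ι.range = τ.ker) :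
    ∃ ρ : Γ →* E, τ.comp ρ = σ := by
  classical
  have hp : Function.Surjective (presHom (id : Q → Q)) :=
    presHom_surjective _ Function.surjective_id
  have hMfin : Finite (SchurM Q) := finite_presM' hp
  obtain ⟨eA⟩ := schurMultiplier_unique hA
  obtain ⟨ek⟩ := hk
  -- the map `H → Γ`
  obtain ⟨φ, hφ⟩ := exists_lift_presH (id : Q → Q) σ hσ.1 hσ.2.1
  have hφs := lift_surjective_of_stem' hp σ hσ φ hφ
  have hφM := map_presM_of_stem' hp σ hσ φ hφ
  have hφ' : ∀ h, σ (φ h) = presπ id h := fun h => DFunLike.congr_fun hφ h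
  -- the map `H → E`
  obtain ⟨ψ, hψ⟩ := exists_lift_presH (id : Q → Q) τ hτ hτc
  have hψ' : ∀ h, τ (ψ h) = presπ id h := fun h => DFunLike.congr_fun hψ h
  -- `φ` is injective on `M`
  have hcard : Nat.card (SchurM Q) = Nat.card σ.ker :=
    Nat.card_congr (eA.symm.trans ek.symm).toEquiv
  let φM : SchurM Q →* σ.ker := (φ.comp (SchurM Q).subtype).codRestrict σ.ker (fun m => by
    rw [← hφM]; exact ⟨m, m.2, rfl⟩)
  have hφMs : Function.Surjective φM := by
    rintro ⟨z, hz⟩
    rw [← hφM] at hz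
    obtain ⟨m, hm, rfl⟩ := hz
    exact ⟨⟨m, hm⟩, rfl⟩
  have hφMi : Function.Injective φM :=
    (Function.Surjective.bijective_of_nat_card_le hφMs hcard.le).1
  let S : Subgroup (PresH (id : Q → Q)) := φ.ker
  have hSker : S ≤ (presπ (id : Q → Q)).ker := by
    intro s hs
    rw [MonoidHom.mem_ker, ← hφ', MonoidHom.mem_ker.mp hs, map_one]
  have hSM : S ⊓ commutator (PresH (id : Q → Q)) = ⊥ := by
    rw [eq_bot_iff]
    rintro s ⟨hs1, hs2⟩
    have hsM : s ∈ SchurM Q := ⟨hSker hs1, hs2⟩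
    have h1 : φM ⟨s, hsM⟩ = 1 := Subtype.ext (MonoidHom.mem_ker.mp hs1)
    have h2 := hφMi (h1.trans (map_one φM).symm)
    rw [Subgroup.mem_bot]
    exact congrArg Subtype.val h2
  -- the character `λ` on `S`
  have hψS : ∀ s : S, ψ s ∈ ι.range := by
    intro s
    rw [hιr, MonoidHom.mem_ker, hψ']
    exact hSker s.2
  let eι : D ≃* ι.range := MonoidHom.ofInjective hι
  let lam : S →* D := eι.symm.toMonoidHom.comp ((ψ.comp S.subtype).codRestrict ι.range hψS)
  have hlam : ∀ s : S, ι (lam s) = ψ s := by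
    intro s
    have : (eι (lam s) : E) = ψ s := by
      show (eι (eι.symm _) : E) = _
      rw [MulEquiv.apply_symm_apply]
      rfl
    exact this
  obtain ⟨χ, hχ⟩ := exists_extension_of_inf_commutator_eq_bot hD S hSM lam
  have hιc : ∀ d : D, ι d ∈ center E := by
    intro d
    apply hτc
    rw [← hιr]
    exact ⟨d, rfl⟩
  -- the corrected map
  let ρ' : PresH (id : Q → Q) →* E :=
    { toFun := fun h => ψ h * ι (χ h)⁻¹
      map_one' := by simp
      map_mul' := by
        intro a b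
        have hc := Subgroup.mem_center_iff.mp (hιc (χ a)⁻¹) (ψ b)
        rw [map_mul, map_mul, mul_inv, map_mul]
        calc ψ a * ψ b * (ι (χ a)⁻¹ * ι (χ b)⁻¹) = ψ a * (ψ b * ι (χ a)⁻¹) * ι (χ b)⁻¹ := by group
          _ = ψ a * (ι (χ a)⁻¹ * ψ b) * ι (χ b)⁻¹ := by rw [hc]
          _ = _ := by group }
  have hρ' : ∀ h, ρ' h = ψ h * ι (χ h)⁻¹ := fun h => rfl
  have hρ'ker : φ.ker ≤ ρ'.ker := by
    intro s hs
    rw [MonoidHom.mem_ker, hρ']
    have h1 := hχ ⟨s, hs⟩
    have h2 := hlam ⟨s, hs⟩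
    simp only at h1 h2
    rw [map_inv, h1, h2, mul_inv_cancel]
  refine ⟨φ.liftOfSurjective hφs ⟨ρ', hρ'ker⟩, ?_⟩
  apply MonoidHom.ext
  intro g
  obtain ⟨h, rfl⟩ := hφs g
  rw [MonoidHom.comp_apply, MonoidHom.liftOfRightInverse_comp_apply, hφ']
  show τ (ρ' h) = _
  rw [hρ', map_mul, hψ']
  have : ι (χ h)⁻¹ ∈ τ.ker := by rw [← hιr]; exact ⟨_, rfl⟩
  rw [MonoidHom.mem_ker.mp this, mul_one]

theorem exists_zpow_eq_units_complex (x : ℂˣ) {n : ℤ} (hn : n ≠ 0) : ∃ z : ℂˣ, z ^ n = x := by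
  have key : ∀ (m : ℕ), m ≠ 0 → ∀ y : ℂˣ, ∃ z : ℂˣ, z ^ m = y := by
    intro m hm y
    obtain ⟨w, hw⟩ := IsAlgClosed.exists_pow_nat_eq (y : ℂ) (Nat.pos_of_ne_zero hm)
    have hw0 : w ≠ 0 := by
      rintro rfl
      rw [zero_pow hm] at hw
      exact y.ne_zero hw.symm
    refine ⟨Units.mk0 w hw0, ?_⟩
    apply Units.ext
    simp [hw]
  obtain ⟨m, rfl | rfl⟩ := Int.eq_nat_or_neg n
  · obtain ⟨z, hz⟩ := key m (by simpa using hn) x
    exact ⟨z, by simpa using hz⟩
  · obtain ⟨z, hz⟩ := key m (by simpa using hn) x⁻¹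
    refine ⟨z, ?_⟩
    rw [zpow_neg, zpow_natCast, hz, inv_inv]

theorem baer_units_complex : Module.Baer ℤ (Additive ℂˣ) := by
  have : DivisibleBy (Additive ℂˣ) ℤ := by
    apply divisibleByOfSMulRightSurj
    intro n hn a
    obtain ⟨z, hz⟩ := exists_zpow_eq_units_complex (Additive.toMul a) hn
    exact ⟨Additive.ofMul z, by
      show Additive.ofMul (z ^ n) = a
      rw [hz]; rfl⟩
  exact Module.Baer.of_divisible _


end Cfsg.Agent.Lib.Helper70
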