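import Mathlib
import Cfsg.Prelude.Def_KGroupFacts
import Cfsg.Agent.Lib.Helper70.SchurLift

set_option autoImplicit false

namespace Cfsg.Agent.Lib.Helper70

open Subgroup
open scoped commutatorElement

universe u v w

/-- general lifting theorem: a Schur cover maps to a central extension `τ : E → Q` whose kernel `D`
has the extension property for homomorphisms from complements of the multiplier. -/
theorem exists_lift_of_schur_cover_of_ext {Q : Type u} [Group Q] [Finite Q] {A : Type*} [CommGroup A]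
    (hA : Cfsg.HasSchurMultiplier Q A) {Γ : Type v} [Group Γ] [Finite Γ] (σ : Γ →* Q)
    (hσ : Cfsg.IsStemExtension σ) (hk : Nonempty (σ.ker ≃* A)) {E : Type w} [Group E] (τ : E →* Q)
    (hτ : Function.Surjective τ) (hτc : τ.ker ≤ center E) {D : Type*} [CommGroup D]
    (ι : D →* E) (hι : Function.Injective ι) (hιr : ι.range = τ.ker)
    (hext : ∀ (S : Subgroup (PresH (id : Q → Q))), S ≤ (presπ (id : Q → Q)).ker → S ⊓ SchurM Q = ⊥ →
      (∀ r ∈ (presπ (id : Q → Q)).ker, ∃ s ∈ S, ∃ m ∈ SchurM Q, r = s * m) →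
      ∀ f : S →* D, ∃ χ : PresH (id : Q → Q) →* D, ∀ s : S, χ s = f s) :
    ∃ ρ : Γ →* E, τ.comp ρ = σ := by
  classical
  have hp : Function.Surjective (presHom (id : Q → Q)) :=
    presHom_surjective _ Function.surjective_id
  have hMfin : Finite (SchurM Q) := finite_presM' hp
  obtain ⟨eA⟩ := schurMultiplier_unique hA
  obtain ⟨ek⟩ := hk
  obtain ⟨φ, hφ⟩ := exists_lift_presH (id : Q → Q) σ hσ.1 hσ.2.1
  have hφs := lift_surjective_of_stem' hp σ hσ φ hφ
  have hφM := map_presM_of_stem' hp σ hσ φ hφ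
  have hφ' : ∀ h, σ (φ h) = presπ id h := fun h => DFunLike.congr_fun hφ h
  obtain ⟨ψ, hψ⟩ := exists_lift_presH (id : Q → Q) τ hτ hτc
  have hψ' : ∀ h, τ (ψ h) = presπ id h := fun h => DFunLike.congr_fun hψ h
  have hcard : Nat.card (SchurM Q) = Nat.card σ.ker :=
    Nat.card_congr (eA.symm.trans ek.symm).toEquiv
  let φM : SchurM Q →* σ.ker := (φ.comp (SchurM Q).subtype).codRestrict σ.ker (fun m => by
    rw [← hφM]; exact ⟨m, m.2, rfl⟩)
  have hφMs : Function.Surjective φM := by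
    rintro ⟨z, hz⟩
    rw [← hφM] at hz
    obtain ⟨m, hm, rfl⟩ := hz
    exact ⟨⟨m, hm⟩, rfl⟩
  have hφMi : Function.Injective φM :=
    (Function.Surjective.bijective_of_nat_card_le hφMs hcard.le).1
  let S : Subgroup (PresH (id : Q → Q)) := φ.ker
  have hSker : S ≤ (presπ (id : Q → Q)).ker := by
    intro s hs
    rw [MonoidHom.mem_ker, ← hφ', MonoidHom.mem_ker.mp hs, map_one]
  have hSM : S ⊓ SchurM Q = ⊥ := by
    rw [eq_bot_iff]
    rintro s ⟨hs1, hsM⟩
    have h1 : φM ⟨s, hsM⟩ = 1 := Subtype.ext (MonoidHom.mem_ker.mp hs1)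
    have h2 := hφMi (h1.trans (map_one φM).symm)
    rw [Subgroup.mem_bot]
    exact congrArg Subtype.val h2
  have hdec : ∀ r ∈ (presπ (id : Q → Q)).ker, ∃ s ∈ S, ∃ m ∈ SchurM Q, r = s * m := by
    intro r hr
    have h1 : φ r ∈ σ.ker := by rw [MonoidHom.mem_ker, hφ']; exact hr
    rw [← hφM] at h1
    obtain ⟨m, hm, hmr⟩ := h1
    refine ⟨r * m⁻¹, ?_, m, hm, by group⟩
    show φ (r * m⁻¹) = 1
    rw [map_mul, map_inv, hmr, mul_inv_cancel]
  have hψS : ∀ s : S, ψ s ∈ ι.range := by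
    intro s
    rw [hιr, MonoidHom.mem_ker, hψ']
    exact hSker s.2
  let eι : D ≃* ι.range := MonoidHom.ofInjective hι
  let lam : S →* D := eι.symm.toMonoidHom.comp ((ψ.comp S.subtype).codRestrict ι.range hψS)
  have hlam : ∀ s : S, ι (lam s) = ψ s := by
    intro s
    have : (eι (lam s) : E) = ψ s := by
      show (eι (eι.symm _) : E) = _
      rw [MulEquiv.apply_symm_apply]
      rfl
    exact this
  obtain ⟨χ, hχ⟩ := hext S hSker hSM hdec lam
  have hιc : ∀ d : D, ι d ∈ center E := by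
    intro d
    apply hτc
    rw [← hιr]
    exact ⟨d, rfl⟩
  let ρ' : PresH (id : Q → Q) →* E :=
    { toFun := fun h => ψ h * ι (χ h)⁻¹
      map_one' := by simp
      map_mul' := by
        intro a b
        have hc := Subgroup.mem_center_iff.mp (hιc (χ a)⁻¹) (ψ b)
        rw [map_mul, map_mul, mul_inv, map_mul]
        calc ψ a * ψ b * (ι (χ a)⁻¹ * ι (χ b)⁻¹) = ψ a * (ψ b * ι (χ a)⁻¹) * ι (χ b)⁻¹ := by group
          _ = ψ a * (ι (χ a)⁻¹ * ψ b) * ι (χ b)⁻¹ := by rw [hc]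
          _ = _ := by group }
  have hρ' : ∀ h, ρ' h = ψ h * ι (χ h)⁻¹ := fun h => rfl
  have hρ'ker : φ.ker ≤ ρ'.ker := by
    intro s hs
    rw [MonoidHom.mem_ker, hρ']
    have h1 := hχ ⟨s, hs⟩
    have h2 := hlam ⟨s, hs⟩
    simp only at h1 h2
    rw [map_inv, h1, h2, mul_inv_cancel]
  refine ⟨φ.liftOfSurjective hφs ⟨ρ', hρ'ker⟩, ?_⟩
  apply MonoidHom.ext
  intro g
  obtain ⟨h, rfl⟩ := hφs g
  rw [MonoidHom.comp_apply, MonoidHom.liftOfRightInverse_comp_apply, hφ']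
  show τ (ρ' h) = _
  rw [hρ', map_mul, hψ']
  have : ι (χ h)⁻¹ ∈ τ.ker := by rw [← hιr]; exact ⟨_, rfl⟩
  rw [MonoidHom.mem_ker.mp this, mul_one]

/-- extension of homomorphisms by coprimality: if `t ^ d ∈ S` for all `t`, the target has exponent
dividing `m`, and `d`, `m` are coprime. -/
theorem exists_extension_of_coprime {T : Type*} [CommGroup T] {Z : Type*} [CommGroup Z]
    (S : Subgroup T) (d m : ℕ) (hdm : Nat.Coprime d m) (hd : ∀ t : T, t ^ d ∈ S)
    (hm : ∀ z : Z, z ^ m = 1) (f : S →* Z) : ∃ χ : T →* Z, ∀ s : S, χ s = f s := by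
  rcases Nat.eq_zero_or_pos m with rfl | hmpos
  · -- `m = 0` forces `d = 1`
    have hd1 : d = 1 := by simpa using hdm
    subst hd1
    have hS : ∀ t : T, t ∈ S := fun t => by simpa using hd t
    refine ⟨f.comp (MonoidHom.mk' (fun t => (⟨t, hS t⟩ : S)) (fun a b => rfl)), fun s => rfl⟩
  by_cases hm1 : m = 1
  · subst hm1
    refine ⟨1, fun s => ?_⟩
    have := hm (f s)
    rw [pow_one] at this
    rw [this]; rfl
  have hm2 : 1 < m := by omega
  obtain ⟨d', -, hd'⟩ := Nat.exists_mul_mod_eq_one_of_coprime hdm hm2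
  have hpow : ∀ z : Z, z ^ (d * d') = z := by
    intro z
    have h1 := Nat.div_add_mod (d * d') m
    rw [hd'] at h1
    rw [← h1, pow_add, pow_mul, hm, one_pow, one_mul, pow_one]
  refine ⟨MonoidHom.mk' (fun t => (f ⟨t ^ d, hd t⟩) ^ d') ?_, ?_⟩
  · intro a b
    have : (⟨(a * b) ^ d, hd (a * b)⟩ : S) = ⟨a ^ d, hd a⟩ * ⟨b ^ d, hd b⟩ :=
      Subtype.ext (mul_pow a b d)
    show (f ⟨(a * b) ^ d, hd (a * b)⟩) ^ d' = _
    rw [this, map_mul, mul_pow]
  · intro s
    show (f ⟨(s : T) ^ d, hd s⟩) ^ d' = f s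
    have : (⟨(s : T) ^ d, hd s⟩ : S) = s ^ d := Subtype.ext rfl
    rw [this, map_pow, ← pow_mul, hpow]

end Cfsg.Agent.Lib.Helper70
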