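import Mathlib
import Cfsg.Prelude.Def_KGroupFacts
import Cfsg.Agent.Lib.Helper70.SchurLift2

set_option autoImplicit false

namespace Cfsg.Agent.Lib.Helper70

open Subgroup
open scoped commutatorElement

universe u v w

theorem map_commutator_eq_of_surjective {H Q : Type*} [Group H] [Group Q] (π : H →* Q)
    (hπ : Function.Surjective π) : (commutator H).map π = commutator Q := by
  rw [commutator_def, commutator_def, Subgroup.map_commutator,
    ← MonoidHom.range_eq_map, MonoidHom.range_eq_top.mpr hπ]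

/-- if `π h` has `n`-th power in the commutator subgroup of `Q` then `h ^ n` is a commutator element
of `H` times an element of the kernel -/
theorem exists_commutator_mul_ker_of_pow {H Q : Type*} [Group H] [Group Q] (π : H →* Q)
    (hπ : Function.Surjective π) (h : H) (n : ℕ)
    (hn : (Abelianization.of (π h)) ^ n = 1) :
    ∃ c ∈ commutator H, ∃ b ∈ π.ker, h ^ n = c * b := by
  have h1 : π (h ^ n) ∈ commutator Q := by
    rw [← Abelianization.ker_of, MonoidHom.mem_ker, map_pow, map_pow]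
    exact hn
  rw [← map_commutator_eq_of_surjective π hπ] at h1
  obtain ⟨c, hc, hcπ⟩ := h1
  refine ⟨c, hc, c⁻¹ * h ^ n, ?_, by group⟩
  rw [MonoidHom.mem_ker, map_mul, map_inv, hcπ, inv_mul_cancel]

/-- a homomorphism over `Q` from any extension onto a stem extension is surjective -/
theorem surjective_of_comp_eq_of_stem {Q : Type*} [Group Q] {Γ₁ Γ₂ : Type*} [Group Γ₁] [Group Γ₂]
    (σ₁ : Γ₁ →* Q) (hσ₁ : Function.Surjective σ₁) (σ₂ : Γ₂ →* Q) (hσ₂ : Cfsg.IsStemExtension σ₂)
    (ρ : Γ₁ →* Γ₂) (hρ : σ₂.comp ρ = σ₁) : Function.Surjective ρ := by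
  obtain ⟨hτs, hτc, hτk⟩ := hσ₂
  have hφ' : ∀ h, σ₂ (ρ h) = σ₁ h := fun h => DFunLike.congr_fun hρ h
  have hdecomp : ∀ δ : Γ₂, ∃ h : Γ₁, δ * (ρ h)⁻¹ ∈ σ₂.ker := by
    intro δ
    obtain ⟨h, hh⟩ := hσ₁ (σ₂ δ)
    refine ⟨h, ?_⟩
    rw [MonoidHom.mem_ker, map_mul, map_inv, hφ', hh, mul_inv_cancel]
  have hcomm : commutator Γ₂ ≤ ρ.range := by
    rw [commutator_eq_closure, Subgroup.closure_le]
    rintro c ⟨a, b, rfl⟩
    obtain ⟨ha, hza⟩ := hdecomp a
    obtain ⟨hb, hzb⟩ := hdecomp b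
    have := commutatorElement_central_mul (hτc hza) (hτc hzb) (ρ ha) (ρ hb)
    rw [inv_mul_cancel_right, inv_mul_cancel_right] at this
    rw [SetLike.mem_coe, this, ← map_commutatorElement]
    exact ⟨_, rfl⟩
  intro δ
  obtain ⟨h, hz⟩ := hdecomp δ
  have h1 : δ * (ρ h)⁻¹ ∈ ρ.range := hcomm (hτk hz)
  have h2 := ρ.range.mul_mem h1 (⟨h, rfl⟩ : ρ h ∈ ρ.range)
  rw [inv_mul_cancel_right] at h2
  exact h2

theorem card_eq_of_surjective_of_kerEquiv {Q Γ A : Type*} [Group Q] [Group Γ] [Group A] (σ : Γ →* Q)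
    (hσ : Function.Surjective σ) (hk : Nonempty (σ.ker ≃* A)) :
    Nat.card Γ = Nat.card Q * Nat.card A := by
  obtain ⟨ek⟩ := hk
  rw [Subgroup.card_eq_card_quotient_mul_card_subgroup σ.ker,
    Nat.card_congr (QuotientGroup.quotientKerEquivOfSurjective σ hσ).toEquiv,
    Nat.card_congr ek.toEquiv]

/-- the extension property for complements of the multiplier, under coprimality -/
theorem exists_extension_presH_of_coprime {Q : Type u} [Group Q] [Finite Q] {A : Type*} [CommGroup A]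
    [Finite A] (hcop : Nat.Coprime (Nat.card (Abelianization Q)) (Nat.card A))
    (S : Subgroup (PresH (id : Q → Q))) (hS : S ≤ (presπ (id : Q → Q)).ker)
    (hSM : S ⊓ SchurM Q = ⊥)
    (hdec : ∀ r ∈ (presπ (id : Q → Q)).ker, ∃ s ∈ S, ∃ m ∈ SchurM Q, r = s * m) (f : S →* A) :
    ∃ χ : PresH (id : Q → Q) →* A, ∀ s : S, χ s = f s := by
  have hp : Function.Surjective (presHom (id : Q → Q)) :=
    presHom_surjective _ Function.surjective_id
  have hπs := presπ_surjective' (id : Q → Q) hp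
  let j : S →* Abelianization (PresH (id : Q → Q)) := Abelianization.of.comp S.subtype
  have hj : Function.Injective j := by
    rw [injective_iff_map_eq_one]
    intro s hs
    have h1 : (s : PresH (id : Q → Q)) ∈
        (Abelianization.of : PresH (id : Q → Q) →* Abelianization (PresH (id : Q → Q))).ker := hs
    rw [Abelianization.ker_of] at h1
    have h2 : (s : PresH (id : Q → Q)) ∈ S ⊓ SchurM Q := ⟨s.2, hS s.2, h1⟩
    rw [hSM, Subgroup.mem_bot] at h2
    exact Subtype.ext h2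
  let e : S ≃* j.range := MonoidHom.ofInjective hj
  let fbar : j.range →* A := f.comp e.symm.toMonoidHom
  have hd : ∀ t : Abelianization (PresH (id : Q → Q)),
      t ^ Nat.card (Abelianization Q) ∈ j.range := by
    intro t
    obtain ⟨h, rfl⟩ := QuotientGroup.mk_surjective t
    obtain ⟨c, hc, b, hb, hcb⟩ := exists_commutator_mul_ker_of_pow (presπ (id : Q → Q)) hπs h
      (Nat.card (Abelianization Q)) (pow_card_eq_one')
    obtain ⟨s, hs, m, hm, rfl⟩ := hdec b hb
    refine ⟨⟨s, hs⟩, ?_⟩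
    show Abelianization.of s = (Abelianization.of h) ^ Nat.card (Abelianization Q)
    rw [← map_pow, hcb, map_mul, map_mul]
    have h1 : Abelianization.of c = (1 : Abelianization (PresH (id : Q → Q))) := by
      rw [← MonoidHom.mem_ker, Abelianization.ker_of]; exact hc
    have h2 : Abelianization.of m = (1 : Abelianization (PresH (id : Q → Q))) := by
      rw [← MonoidHom.mem_ker, Abelianization.ker_of]; exact presM_le_commutator _ hm
    rw [h1, h2, one_mul, mul_one]
  obtain ⟨χ, hχ⟩ := exists_extension_of_coprime j.range _ _ hcop hd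
    (fun a : A => pow_card_eq_one') fbar
  refine ⟨χ.comp Abelianization.of, ?_⟩
  intro s
  have := hχ (e s)
  have h2 : fbar (e s) = f s := by
    show f (e.symm (e s)) = f s
    rw [MulEquiv.symm_apply_apply]
  rw [← h2, ← this]
  rfl

/-- **uniqueness of Schur covers under coprimality** -/
theorem exists_equiv_over_of_coprime {Q : Type u} [Group Q] [Finite Q] {A : Type*} [CommGroup A]
    (hA : Cfsg.HasSchurMultiplier Q A)
    (hcop : Nat.Coprime (Nat.card (Abelianization Q)) (Nat.card A))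
    {Γ₁ : Type v} {Γ₂ : Type w} [Group Γ₁] [Finite Γ₁] [Group Γ₂] [Finite Γ₂]
    (σ₁ : Γ₁ →* Q) (σ₂ : Γ₂ →* Q) (h₁ : Cfsg.IsStemExtension σ₁) (h₂ : Cfsg.IsStemExtension σ₂)
    (k₁ : Nonempty (σ₁.ker ≃* A)) (k₂ : Nonempty (σ₂.ker ≃* A)) :
    ∃ e : Γ₁ ≃* Γ₂, σ₂.comp e.toMonoidHom = σ₁ := by
  obtain ⟨ek₂⟩ := k₂
  have : Finite A := Finite.of_equiv _ ek₂.toEquiv
  let ι : A →* Γ₂ := σ₂.ker.subtype.comp ek₂.symm.toMonoidHom
  have hι : Function.Injective ι := Subtype.val_injective.comp ek₂.symm.injective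
  have hιr : ι.range = σ₂.ker := by
    ext g
    constructor
    · rintro ⟨a, rfl⟩
      exact (ek₂.symm a).2
    · intro hg
      exact ⟨ek₂ ⟨g, hg⟩, by simp [ι]⟩
  obtain ⟨ρ, hρ⟩ := exists_lift_of_schur_cover_of_ext hA σ₁ h₁ k₁ σ₂ h₂.1 h₂.2.1 ι hι hιr
    (fun S hS hSM hdec f => exists_extension_presH_of_coprime hcop S hS hSM hdec f)
  have hρs := surjective_of_comp_eq_of_stem σ₁ h₁.1 σ₂ h₂ ρ hρ
  have hcard : Nat.card Γ₁ = Nat.card Γ₂ := by
    rw [card_eq_of_surjective_of_kerEquiv σ₁ h₁.1 k₁, card_eq_of_surjective_of_kerEquiv σ₂ h₂.1 ⟨ek₂⟩]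
  have hbij := Function.Surjective.bijective_of_nat_card_le hρs hcard.le
  refine ⟨MulEquiv.ofBijective ρ hbij, ?_⟩
  apply MonoidHom.ext
  intro g
  exact DFunLike.congr_fun hρ g

end Cfsg.Agent.Lib.Helper70
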