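import Mathlib
import Cfsg.Prelude.Def_KGroupFacts
import Cfsg.Agent.Lib.Helper70.SchurUnique

set_option autoImplicit false

namespace Cfsg.Agent.Lib.Helper70

open Subgroup
open scoped commutatorElement

universe u v w

/-- in a finite commutative group of order divisible by `ℓ`, some element is not an `ℓ`-th power -/
theorem exists_not_pow_of_dvd_card {M : Type*} [CommGroup M] [Finite M] (ℓ : ℕ) [Fact ℓ.Prime]
    (h : ℓ ∣ Nat.card M) : ∃ m₀ : M, ∀ m : M, m₀ ≠ m ^ ℓ := by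
  obtain ⟨x, hx⟩ := exists_prime_orderOf_dvd_card' ℓ h
  have hninj : ¬ Function.Injective (powMonoidHom ℓ : M →* M) := by
    intro hinj
    have h1 : (powMonoidHom ℓ : M →* M) x = (powMonoidHom ℓ : M →* M) 1 := by
      simp only [powMonoidHom_apply, one_pow]
      rw [← hx]; exact pow_orderOf_eq_one x
    have h2 := hinj h1
    rw [h2, orderOf_one] at hx
    exact (Fact.out : ℓ.Prime).one_lt.ne hx
  have hnsurj : ¬ Function.Surjective (powMonoidHom ℓ : M →* M) :=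
    fun hs => hninj (Finite.injective_iff_surjective.mpr hs)
  by_contra hcon
  apply hnsurj
  intro m₀
  by_contra hm
  apply hcon
  refine ⟨m₀, fun m hmm => hm ⟨m, ?_⟩⟩
  simpa using hmm.symm

/-- a non-extendable homomorphism: the obstruction in `Ext(Q^ab, M)` -/
theorem exists_nonextendable {H V Z : Type*} [Group H] [CommGroup V] [CommGroup Z] [Finite Z]
    {κ : Type*} [Finite κ] (bV : Module.Basis κ ℤ (Additive V)) (θ : H →* V)
    (hθ : θ.ker = commutator H) (S : Subgroup H) (hS : S ⊓ commutator H = ⊥)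
    (ℓ : ℕ) [Fact ℓ.Prime] (hZ : ℓ ∣ Nat.card Z) (h c s₀ : H) (hc : c ∈ commutator H)
    (hs₀ : s₀ ∈ S) (hpow : h ^ ℓ = c * s₀) (hnot : ∀ s ∈ S, h * s⁻¹ ∉ commutator H) :
    ∃ μ : S →* Z, ¬ ∃ χ : H →* Z, ∀ s : S, χ s = μ s := by
  classical
  have hℓ : ℓ.Prime := Fact.out
  have : Module.Free ℤ (Additive V) := Module.Free.of_basis bV
  have hθc : ∀ x ∈ commutator H, θ x = 1 := fun x hx => by
    rw [← MonoidHom.mem_ker, hθ]; exact hx
  -- injectivity of `θ` on `S`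
  have hinj : ∀ s ∈ S, θ s = 1 → s = 1 := by
    intro s hs h1
    have : s ∈ S ⊓ commutator H := ⟨hs, by rw [← hθ]; exact h1⟩
    rw [hS, Subgroup.mem_bot] at this
    exact this
  -- torsion-freeness of `V`
  have htf : ∀ x : V, x ^ ℓ = 1 → x = 1 := by
    intro x hx
    have h1 : (ℓ : ℤ) • Additive.ofMul x = (ℓ : ℤ) • (0 : Additive V) := by
      rw [smul_zero, natCast_zsmul, ← ofMul_pow, hx]; rfl
    have hℓ0 : (ℓ : ℤ) ≠ 0 := by exact_mod_cast hℓ.ne_zero
    exact congrArg Additive.toMul (smul_right_injective (Additive V) hℓ0 h1)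
  -- `s₀` is not an `ℓ`-th power in `S`
  have hs₀pow : ∀ s ∈ S, s₀ ≠ s ^ ℓ := by
    intro s hs heq
    apply hnot s hs
    rw [← hθ, MonoidHom.mem_ker]
    apply htf
    rw [map_mul, map_inv, mul_pow, inv_pow, ← map_pow, ← map_pow, hpow, ← heq, map_mul, hθc c hc,
      one_mul, mul_inv_cancel]
  -- the lattice `L = θ(S)` and a basis
  let L : Submodule ℤ (Additive V) := AddSubgroup.toIntSubmodule (Subgroup.toAddSubgroup (S.map θ))
  have hL : ∀ a : Additive V, a ∈ L ↔ Additive.toMul a ∈ S.map θ := fun a => Iff.rfl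
  obtain ⟨r, ⟨bL⟩⟩ := Submodule.nonempty_basis_of_pid bV L
  let vv : S → L := fun s => ⟨Additive.ofMul (θ s), (hL _).mpr ⟨s, s.2, rfl⟩⟩
  have hvv_mul : ∀ s t : S, vv (s * t) = vv s + vv t := by
    intro s t
    apply Subtype.ext
    show Additive.ofMul (θ ((s * t : S) : H)) = Additive.ofMul (θ s) + Additive.ofMul (θ t)
    rw [Subgroup.coe_mul, map_mul]; rfl
  have hvv_surj : Function.Surjective vv := by
    rintro ⟨a, ha⟩
    obtain ⟨s, hs, hsa⟩ := (hL a).mp ha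
    exact ⟨⟨s, hs⟩, Subtype.ext (congrArg Additive.ofMul hsa)⟩
  have hvv_pow : ∀ (s : S) (n : ℕ), vv (s ^ n) = (n : ℤ) • vv s := by
    intro s n
    apply Subtype.ext
    show Additive.ofMul (θ ((s ^ n : S) : H)) = ((n : ℤ) • vv s : L)
    rw [Subgroup.coe_pow, map_pow, ofMul_pow, Submodule.coe_smul, natCast_zsmul]
  have hvv_inj : Function.Injective vv := by
    intro s t hst
    have h1 : θ s = θ t := congrArg (fun a : L => Additive.toMul (a : Additive V)) hst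
    have h2 : (s : H) * (t : H)⁻¹ = 1 := by
      apply hinj _ (S.mul_mem s.2 (S.inv_mem t.2))
      rw [map_mul, map_inv, h1, mul_inv_cancel]
    exact Subtype.ext (mul_inv_eq_one.mp h2)
  -- a coordinate of `vv s₀` not divisible by `ℓ`
  have hcoord : ∃ i, ¬ (ℓ : ℤ) ∣ bL.repr (vv ⟨s₀, hs₀⟩) i := by
    by_contra hcon
    push Not at hcon
    choose k hk using hcon
    let w : L := ∑ i, k i • bL i
    obtain ⟨s, hs⟩ := hvv_surj w
    have h1 : vv ⟨s₀, hs₀⟩ = (ℓ : ℤ) • w := by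
      rw [← bL.sum_repr (vv ⟨s₀, hs₀⟩), Finset.smul_sum]
      apply Finset.sum_congr rfl
      intro i _
      rw [hk i, smul_smul]
    have h2 : vv ⟨s₀, hs₀⟩ = vv (s ^ ℓ) := by rw [h1, hvv_pow, hs]
    have h3 := hvv_inj h2
    exact hs₀pow s s.2 (congrArg Subtype.val h3)
  obtain ⟨i, hi⟩ := hcoord
  obtain ⟨m₀, hm₀⟩ := exists_not_pow_of_dvd_card (M := Z) ℓ hZ
  let μ : S →* Z := MonoidHom.mk' (fun s => m₀ ^ (bL.repr (vv s) i)) (by
    intro s t
    show m₀ ^ (bL.repr (vv (s * t)) i) = _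
    rw [hvv_mul, map_add, Finsupp.add_apply, zpow_add])
  refine ⟨μ, ?_⟩
  rintro ⟨χ, hχ⟩
  have hχc : ∀ x ∈ commutator H, χ x = 1 := fun x hx =>
    Abelianization.commutator_subset_ker χ hx
  have h1 : χ h ^ ℓ = m₀ ^ (bL.repr (vv ⟨s₀, hs₀⟩) i) := by
    rw [← map_pow, hpow, map_mul, hχc c hc, one_mul]
    exact hχ ⟨s₀, hs₀⟩
  have hcop : IsCoprime (ℓ : ℤ) (bL.repr (vv ⟨s₀, hs₀⟩) i) :=
    ((Nat.prime_iff_prime_int.mp hℓ).irreducible.coprime_iff_not_dvd).mpr hi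
  obtain ⟨a, b, hab⟩ := hcop
  apply hm₀ (m₀ ^ a * χ h ^ b)
  calc m₀ = m₀ ^ (a * (ℓ : ℤ) + b * (bL.repr (vv ⟨s₀, hs₀⟩) i)) := by rw [hab, zpow_one]
    _ = (m₀ ^ a * χ h ^ b) ^ ℓ := by
      rw [zpow_add, mul_pow, zpow_mul, zpow_natCast, mul_comm b, zpow_mul, ← h1]
      congr 1
      rw [← zpow_natCast, ← zpow_natCast, ← zpow_mul, ← zpow_mul, mul_comm]

end Cfsg.Agent.Lib.Helper70
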