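import Mathlib
import Cfsg.Prelude.Def_KGroupFacts
import Cfsg.Agent.Lib.Helper70.SchurPres2

set_option autoImplicit false

namespace Cfsg.Agent.Lib.Helper70

open Subgroup
open scoped commutatorElement

universe u v w

theorem map_commutator_le' {G G' : Type*} [Group G] [Group G'] (f : G →* G') :
    (commutator G).map f ≤ commutator G' := by
  rw [_root_.commutator_def, _root_.commutator_def, Subgroup.map_commutator]
  exact Subgroup.commutator_mono le_top le_top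

theorem prodMap_isStem {Γ₁ Γ₂ Q₁ Q₂ : Type*} [Group Γ₁] [Group Γ₂] [Group Q₁] [Group Q₂]
    (σ₁ : Γ₁ →* Q₁) (σ₂ : Γ₂ →* Q₂) (h₁ : Cfsg.IsStemExtension σ₁) (h₂ : Cfsg.IsStemExtension σ₂) :
    Cfsg.IsStemExtension (σ₁.prodMap σ₂) := by
  refine ⟨?_, ?_, ?_⟩
  · rintro ⟨q₁, q₂⟩
    obtain ⟨a, rfl⟩ := h₁.1 q₁
    obtain ⟨b, rfl⟩ := h₂.1 q₂
    exact ⟨(a, b), rfl⟩
  · rintro ⟨a, b⟩ hab
    have ha : a ∈ center Γ₁ := h₁.2.1 (congrArg Prod.fst (MonoidHom.mem_ker.mp hab))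
    have hb : b ∈ center Γ₂ := h₂.2.1 (congrArg Prod.snd (MonoidHom.mem_ker.mp hab))
    rw [Subgroup.mem_center_iff]
    rintro ⟨g₁, g₂⟩
    exact Prod.ext (Subgroup.mem_center_iff.mp ha g₁) (Subgroup.mem_center_iff.mp hb g₂)
  · rintro ⟨a, b⟩ hab
    have ha : a ∈ commutator Γ₁ := h₁.2.2 (congrArg Prod.fst (MonoidHom.mem_ker.mp hab))
    have hb : b ∈ commutator Γ₂ := h₂.2.2 (congrArg Prod.snd (MonoidHom.mem_ker.mp hab))
    have h1 : ((a, 1) : Γ₁ × Γ₂) ∈ commutator (Γ₁ × Γ₂) :=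
      map_commutator_le' (MonoidHom.inl Γ₁ Γ₂) ⟨a, ha, rfl⟩
    have h2 : ((1, b) : Γ₁ × Γ₂) ∈ commutator (Γ₁ × Γ₂) :=
      map_commutator_le' (MonoidHom.inr Γ₁ Γ₂) ⟨b, hb, rfl⟩
    have := (commutator (Γ₁ × Γ₂)).mul_mem h1 h2
    simpa using this

/-- the kernel of a product map -/
def prodMapKerEquiv {Γ₁ Γ₂ Q₁ Q₂ : Type*} [Group Γ₁] [Group Γ₂] [Group Q₁] [Group Q₂]
    (σ₁ : Γ₁ →* Q₁) (σ₂ : Γ₂ →* Q₂) : (σ₁.prodMap σ₂).ker ≃* σ₁.ker × σ₂.ker where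
  toFun x := (⟨x.1.1, congrArg Prod.fst (MonoidHom.mem_ker.mp x.2)⟩,
    ⟨x.1.2, congrArg Prod.snd (MonoidHom.mem_ker.mp x.2)⟩)
  invFun y := ⟨(y.1.1, y.2.1), by
    rw [MonoidHom.mem_ker]
    exact Prod.ext (MonoidHom.mem_ker.mp y.1.2) (MonoidHom.mem_ker.mp y.2.2)⟩
  left_inv x := rfl
  right_inv y := rfl
  map_mul' x y := rfl

open scoped IsMulCommutative in
/-- a "bilinear" commutator has order dividing the order of the commutator quotient -/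
theorem commutator_pow_card_abelianization {Γ Q : Type*} [Group Γ] [Group Q] [Finite Q]
    (K : Subgroup Γ) (τ : K →* Q) (hτs : Function.Surjective τ)
    (hτk : ∀ k : K, τ k = 1 → (k : Γ) ∈ center Γ)
    (y : Γ) (hy : ∀ k : K, ⁅(k : Γ), y⁆ ∈ center Γ) (g : K) :
    ⁅(g : Γ), y⁆ ^ Nat.card (Abelianization Q) = 1 := by
  let f : K →* center Γ :=
    { toFun := fun k => ⟨⁅(k : Γ), y⁆, hy k⟩
      map_one' := by
        apply Subtype.ext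
        show ⁅((1 : K) : Γ), y⁆ = 1
        simp [commutatorElement_def]
      map_mul' := by
        intro a b
        apply Subtype.ext
        show ⁅((a * b : K) : Γ), y⁆ = ⁅(a : Γ), y⁆ * ⁅(b : Γ), y⁆
        have hb := Subgroup.mem_center_iff.mp (hy b)
        have h1 : ⁅((a * b : K) : Γ), y⁆ = (a : Γ) * ⁅(b : Γ), y⁆ * (a : Γ)⁻¹ * ⁅(a : Γ), y⁆ := by
          simp only [commutatorElement_def, Subgroup.coe_mul]; group
        rw [h1, hb (a : Γ), mul_inv_cancel_right]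
        exact (Subgroup.mem_center_iff.mp (hy a) _) }
  have hf : ∀ k : K, ((f k : center Γ) : Γ) = ⁅(k : Γ), y⁆ := fun k => rfl
  set d := Nat.card (Abelianization Q) with hd
  have h1 : (Abelianization.of (τ g)) ^ d = 1 := pow_card_eq_one'
  have h2 : τ (g ^ d) ∈ commutator Q := by
    rw [← Abelianization.ker_of, MonoidHom.mem_ker, map_pow, map_pow]; exact h1
  have h3 : (commutator K).map τ = commutator Q := by
    rw [_root_.commutator_def, _root_.commutator_def, Subgroup.map_commutator,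
      ← MonoidHom.range_eq_map, MonoidHom.range_eq_top.mpr hτs]
  rw [← h3] at h2
  obtain ⟨c, hc, hcg⟩ := h2
  have hk : τ (c⁻¹ * g ^ d) = 1 := by rw [map_mul, map_inv, hcg, inv_mul_cancel]
  have hfc : f c = 1 := MonoidHom.mem_ker.mp (Abelianization.commutator_subset_ker f hc)
  have hfk : f (c⁻¹ * g ^ d) = 1 := by
    apply Subtype.ext
    rw [hf]
    have := Subgroup.mem_center_iff.mp (hτk _ hk) y
    show ⁅((c⁻¹ * g ^ d : K) : Γ), y⁆ = 1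
    rw [commutatorElement_eq_one_iff_commute]
    exact this.symm
  have hfg : f (g ^ d) = 1 := by
    have : g ^ d = c * (c⁻¹ * g ^ d) := by group
    rw [this, map_mul, hfc, hfk, one_mul]
  have := congrArg (Subtype.val) hfg
  rw [map_pow] at this
  simpa [hf] using this

theorem exists_surj_prod_of_coprime {Q₁ : Type u} {Q₂ : Type v} [Group Q₁] [Group Q₂]
    [Finite Q₁] [Finite Q₂]
    (hcop : Nat.Coprime (Nat.card (Abelianization Q₁)) (Nat.card (Abelianization Q₂)))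
    {Γ : Type w} [Group Γ] (σ : Γ →* Q₁ × Q₂) (hσ : Cfsg.IsStemExtension σ) :
    ∃ π : SchurM Q₁ × SchurM Q₂ →* σ.ker, Function.Surjective π := by
  obtain ⟨hσs, hσc, hσk⟩ := hσ
  let Γ₁ : Subgroup Γ := ((MonoidHom.snd Q₁ Q₂).comp σ).ker
  let Γ₂ : Subgroup Γ := ((MonoidHom.fst Q₁ Q₂).comp σ).ker
  have hΓ₁ : ∀ g : Γ, g ∈ Γ₁ ↔ (σ g).2 = 1 := fun g => Iff.rfl
  have hΓ₂ : ∀ g : Γ, g ∈ Γ₂ ↔ (σ g).1 = 1 := fun g => Iff.rfl
  let τ₁ : Γ₁ →* Q₁ := ((MonoidHom.fst Q₁ Q₂).comp σ).comp Γ₁.subtype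
  let τ₂ : Γ₂ →* Q₂ := ((MonoidHom.snd Q₁ Q₂).comp σ).comp Γ₂.subtype
  have hτ₁ : ∀ g : Γ₁, τ₁ g = (σ (g : Γ)).1 := fun g => rfl
  have hτ₂ : ∀ g : Γ₂, τ₂ g = (σ (g : Γ)).2 := fun g => rfl
  have hτ₁s : Function.Surjective τ₁ := by
    intro q
    obtain ⟨g, hg⟩ := hσs (q, 1)
    exact ⟨⟨g, by rw [hΓ₁, hg]⟩, by rw [hτ₁]; simp [hg]⟩
  have hτ₂s : Function.Surjective τ₂ := by
    intro q
    obtain ⟨g, hg⟩ := hσs (1, q)
    exact ⟨⟨g, by rw [hΓ₂, hg]⟩, by rw [hτ₂]; simp [hg]⟩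
  have hker₁ : ∀ k : Γ₁, τ₁ k = 1 → (k : Γ) ∈ σ.ker := by
    intro k hk
    rw [MonoidHom.mem_ker]
    exact Prod.ext hk ((hΓ₁ _).mp k.2)
  have hker₂ : ∀ k : Γ₂, τ₂ k = 1 → (k : Γ) ∈ σ.ker := by
    intro k hk
    rw [MonoidHom.mem_ker]
    exact Prod.ext ((hΓ₂ _).mp k.2) hk
  -- mixed commutators lie in the kernel
  have hmix : ∀ g₁ ∈ Γ₁, ∀ g₂ ∈ Γ₂, ⁅g₁, g₂⁆ ∈ σ.ker := by
    intro g₁ h1 g₂ h2
    rw [MonoidHom.mem_ker, map_commutatorElement, commutatorElement_eq_one_iff_commute]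
    show σ g₁ * σ g₂ = σ g₂ * σ g₁
    apply Prod.ext
    · show (σ g₁).1 * (σ g₂).1 = (σ g₂).1 * (σ g₁).1
      rw [(hΓ₂ _).mp h2, mul_one, one_mul]
    · show (σ g₁).2 * (σ g₂).2 = (σ g₂).2 * (σ g₁).2
      rw [(hΓ₁ _).mp h1, mul_one, one_mul]
  -- the two preimages commute
  have hcomm : ∀ g₁ ∈ Γ₁, ∀ g₂ ∈ Γ₂, g₁ * g₂ = g₂ * g₁ := by
    intro g₁ h1 g₂ h2
    have e1 : ⁅g₁, g₂⁆ ^ Nat.card (Abelianization Q₁) = 1 :=
      commutator_pow_card_abelianization Γ₁ τ₁ hτ₁s (fun k hk => hσc (hker₁ k hk)) g₂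
        (fun k => hσc (hmix k k.2 g₂ h2)) ⟨g₁, h1⟩
    have e2 : ⁅g₂, g₁⁆ ^ Nat.card (Abelianization Q₂) = 1 :=
      commutator_pow_card_abelianization Γ₂ τ₂ hτ₂s (fun k hk => hσc (hker₂ k hk)) g₁
        (fun k => by
          have := hσc (hmix g₁ h1 k k.2)
          rw [← commutatorElement_inv]
          exact (center Γ).inv_mem this) ⟨g₂, h2⟩
    have e2' : ⁅g₁, g₂⁆ ^ Nat.card (Abelianization Q₂) = 1 := by
      rw [← commutatorElement_inv g₂ g₁, inv_pow, e2, inv_one]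
    have h3 : orderOf ⁅g₁, g₂⁆ ∣ 1 := by
      have := Nat.dvd_gcd (orderOf_dvd_of_pow_eq_one e1) (orderOf_dvd_of_pow_eq_one e2')
      rwa [hcop.gcd_eq_one] at this
    have h4 : ⁅g₁, g₂⁆ = 1 := orderOf_eq_one_iff.mp (Nat.dvd_one.mp h3)
    exact (commutatorElement_eq_one_iff_commute.mp h4)
  -- the multiplication map
  let μ : Γ₁ × Γ₂ →* Γ := MonoidHom.noncommCoprod Γ₁.subtype Γ₂.subtype
    (fun a b => hcomm a a.2 b b.2)
  have hμ : ∀ x : Γ₁ × Γ₂, μ x = (x.1 : Γ) * (x.2 : Γ) := fun x => rfl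
  have hμs : Function.Surjective μ := by
    intro g
    obtain ⟨g₁, hg₁⟩ := hσs ((σ g).1, 1)
    have h1 : g₁ ∈ Γ₁ := by rw [hΓ₁, hg₁]
    have h2 : g₁⁻¹ * g ∈ Γ₂ := by rw [hΓ₂, map_mul, map_inv, hg₁]; simp
    exact ⟨(⟨g₁, h1⟩, ⟨g₁⁻¹ * g, h2⟩), by rw [hμ]; simp⟩
  -- lifts
  obtain ⟨φ₁, hφ₁⟩ := exists_lift_presH (id : Q₁ → Q₁) τ₁ hτ₁s (fun k hk => by
    have := hσc (hker₁ k (MonoidHom.mem_ker.mp hk))
    rw [Subgroup.mem_center_iff] at this ⊢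
    intro g
    exact Subtype.ext (this g))
  obtain ⟨φ₂, hφ₂⟩ := exists_lift_presH (id : Q₂ → Q₂) τ₂ hτ₂s (fun k hk => by
    have := hσc (hker₂ k (MonoidHom.mem_ker.mp hk))
    rw [Subgroup.mem_center_iff] at this ⊢
    intro g
    exact Subtype.ext (this g))
  have hM₁ := map_presM_of_central (p := (id : Q₁ → Q₁)) (presHom_surjective _ Function.surjective_id) τ₁ (fun k hk => by
    have := hσc (hker₁ k (MonoidHom.mem_ker.mp hk))
    rw [Subgroup.mem_center_iff] at this ⊢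
    intro g
    exact Subtype.ext (this g)) φ₁ hφ₁
  have hM₂ := map_presM_of_central (p := (id : Q₂ → Q₂)) (presHom_surjective _ Function.surjective_id) τ₂ (fun k hk => by
    have := hσc (hker₂ k (MonoidHom.mem_ker.mp hk))
    rw [Subgroup.mem_center_iff] at this ⊢
    intro g
    exact Subtype.ext (this g)) φ₂ hφ₂
  have hφ₁' : ∀ h, τ₁ (φ₁ h) = presπ id h := fun h => DFunLike.congr_fun hφ₁ h
  have hφ₂' : ∀ h, τ₂ (φ₂ h) = presπ id h := fun h => DFunLike.congr_fun hφ₂ h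
  let f₁ : SchurM Q₁ →* σ.ker :=
    ((Γ₁.subtype.comp φ₁).comp (SchurM Q₁).subtype).codRestrict σ.ker (fun m => by
      apply hker₁
      rw [hφ₁']
      exact presM_le_ker _ m.2)
  let f₂ : SchurM Q₂ →* σ.ker :=
    ((Γ₂.subtype.comp φ₂).comp (SchurM Q₂).subtype).codRestrict σ.ker (fun m => by
      apply hker₂
      rw [hφ₂']
      exact presM_le_ker _ m.2)
  have hf₁ : ∀ m : SchurM Q₁, ((f₁ m : σ.ker) : Γ) = ((φ₁ (m : PresH id) : Γ₁) : Γ) := fun m => rfl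
  have hf₂ : ∀ m : SchurM Q₂, ((f₂ m : σ.ker) : Γ) = ((φ₂ (m : PresH id) : Γ₂) : Γ) := fun m => rfl
  have hcen : ∀ a b : σ.ker, Commute a b := by
    intro a b
    have := Subgroup.mem_center_iff.mp (hσc b.2) (a : Γ)
    exact Subtype.ext this
  refine ⟨MonoidHom.noncommCoprod f₁ f₂ (fun a b => hcen _ _), ?_⟩
  rintro ⟨z, hz⟩
  -- write z = c₁ c₂
  have hz' : z ∈ (commutator (Γ₁ × Γ₂)).map μ := by
    have : (commutator (Γ₁ × Γ₂)).map μ = commutator Γ := by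
      rw [_root_.commutator_def, _root_.commutator_def, Subgroup.map_commutator,
        ← MonoidHom.range_eq_map, MonoidHom.range_eq_top.mpr hμs]
    rw [this]; exact hσk hz
  obtain ⟨⟨c₁, c₂⟩, hc, hcz⟩ := hz'
  have hc₁ : c₁ ∈ commutator Γ₁ :=
    map_commutator_le' (MonoidHom.fst Γ₁ Γ₂) ⟨(c₁, c₂), hc, rfl⟩
  have hc₂ : c₂ ∈ commutator Γ₂ :=
    map_commutator_le' (MonoidHom.snd Γ₁ Γ₂) ⟨(c₁, c₂), hc, rfl⟩
  have hzc : z = (c₁ : Γ) * (c₂ : Γ) := hcz.symm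
  have hσz : σ (c₁ : Γ) * σ (c₂ : Γ) = 1 := by
    rw [← map_mul, ← hzc]; exact hz
  have h1 : τ₁ c₁ = 1 := by
    have := congrArg Prod.fst hσz
    rw [hτ₁]
    have h2 : (σ (c₂ : Γ)).1 = 1 := (hΓ₂ _).mp c₂.2
    simpa [h2] using this
  have h2 : τ₂ c₂ = 1 := by
    have := congrArg Prod.snd hσz
    rw [hτ₂]
    have h3 : (σ (c₁ : Γ)).2 = 1 := (hΓ₁ _).mp c₁.2
    simpa [h3] using this
  have hm₁ : c₁ ∈ (presM (id : Q₁ → Q₁)).map φ₁ := by rw [hM₁]; exact ⟨h1, hc₁⟩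
  have hm₂ : c₂ ∈ (presM (id : Q₂ → Q₂)).map φ₂ := by rw [hM₂]; exact ⟨h2, hc₂⟩
  obtain ⟨m₁, hm₁, rfl⟩ := hm₁
  obtain ⟨m₂, hm₂, rfl⟩ := hm₂
  refine ⟨(⟨m₁, hm₁⟩, ⟨m₂, hm₂⟩), Subtype.ext ?_⟩
  rw [MonoidHom.noncommCoprod_apply, Subgroup.coe_mul, hf₁, hf₂]
  exact hzc.symm

end Cfsg.Agent.Lib.Helper70
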