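import Mathlib
import Cfsg.Agent.Lib.Helper70.SchurLift

set_option autoImplicit false

namespace Cfsg.Agent.Lib.Helper70

open Subgroup
open scoped commutatorElement

universe u v w

/-- **projective representations lift to a Schur cover** -/
theorem exists_projective_lift_of_schur_cover {Q : Type u} [Group Q] [Finite Q] {A : Type*} [CommGroup A]
    (hA : Cfsg.HasSchurMultiplier Q A) {Γ : Type v} [Group Γ] [Finite Γ] (σ : Γ →* Q)
    (hσ : Cfsg.IsStemExtension σ) (hk : Nonempty (σ.ker ≃* A)) (n : ℕ)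
    (γ : Q →* (GL (Fin n) ℂ ⧸ Subgroup.center (GL (Fin n) ℂ))) :
    ∃ ρ : Γ →* GL (Fin n) ℂ,
      (QuotientGroup.mk' (Subgroup.center (GL (Fin n) ℂ))).comp ρ = γ.comp σ := by
  rcases Nat.eq_zero_or_pos n with rfl | hn
  · refine ⟨1, ?_⟩
    apply MonoidHom.ext
    intro g
    have : Subsingleton (GL (Fin 0) ℂ ⧸ Subgroup.center (GL (Fin 0) ℂ)) :=
      (QuotientGroup.mk_surjective (s := Subgroup.center (GL (Fin 0) ℂ))).subsingleton
    exact Subsingleton.elim _ _
  have : Nonempty (Fin n) := ⟨⟨0, hn⟩⟩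
  let G := GL (Fin n) ℂ
  let Z : Subgroup G := Subgroup.center G
  let P : Subgroup (Q × G) :=
    (γ.comp (MonoidHom.fst Q G)).eqLocus ((QuotientGroup.mk' Z).comp (MonoidHom.snd Q G))
  have hP : ∀ t : Q × G, t ∈ P ↔ γ t.1 = (QuotientGroup.mk t.2 : G ⧸ Z) := fun t => Iff.rfl
  let τ : P →* Q := (MonoidHom.fst Q G).comp P.subtype
  have hτ : Function.Surjective τ := by
    intro q
    obtain ⟨g, hg⟩ := QuotientGroup.mk_surjective (γ q)
    exact ⟨⟨(q, g), (hP _).mpr hg.symm⟩, rfl⟩
  have hker : ∀ t : P, t ∈ τ.ker ↔ (t : Q × G).1 = 1 := fun t => by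
    rw [MonoidHom.mem_ker]; rfl
  have hker2 : ∀ t : P, t ∈ τ.ker → (t : Q × G).2 ∈ Z := by
    intro t ht
    rw [hker] at ht
    have := (hP t).mp t.2
    rw [ht, map_one] at this
    exact (QuotientGroup.eq_one_iff _).mp this.symm
  have hτc : τ.ker ≤ center P := by
    intro t ht
    rw [Subgroup.mem_center_iff]
    intro s
    apply Subtype.ext
    apply Prod.ext
    · show (s : Q × G).1 * (t : Q × G).1 = (t : Q × G).1 * (s : Q × G).1
      rw [(hker t).mp ht, mul_one, one_mul]
    · exact Subgroup.mem_center_iff.mp (hker2 t ht) _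
  have hscal : ∀ z : ℂˣ, Matrix.GeneralLinearGroup.scalar (Fin n) z ∈ Z := by
    intro z
    show _ ∈ Subgroup.center G
    rw [Matrix.GeneralLinearGroup.center_eq_range_scalar]
    exact ⟨z, rfl⟩
  let ι : ℂˣ →* P :=
    { toFun := fun z => ⟨(1, Matrix.GeneralLinearGroup.scalar (Fin n) z), by
        rw [hP, map_one]
        exact ((QuotientGroup.eq_one_iff _).mpr (hscal z)).symm⟩
      map_one' := by
        apply Subtype.ext
        simp
      map_mul' := by
        intro a b
        apply Subtype.ext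
        simp }
  have hι : Function.Injective ι := by
    intro a b hab
    have h1 : Matrix.GeneralLinearGroup.scalar (Fin n) a = Matrix.GeneralLinearGroup.scalar (Fin n) b :=
      congrArg (fun t : P => (t : Q × G).2) hab
    have h2 := congrArg (fun g : G => (g : Matrix (Fin n) (Fin n) ℂ) ⟨0, hn⟩ ⟨0, hn⟩) h1
    simp at h2
    exact Units.ext h2
  have hιr : ι.range = τ.ker := by
    ext t
    constructor
    · rintro ⟨z, rfl⟩
      rw [hker]
      rfl
    · intro ht
      have h1 := hker2 t ht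
      change (t : Q × G).2 ∈ Subgroup.center G at h1
      rw [Matrix.GeneralLinearGroup.center_eq_range_scalar] at h1
      obtain ⟨z, hz⟩ := h1
      refine ⟨z, ?_⟩
      apply Subtype.ext
      apply Prod.ext
      · exact ((hker t).mp ht).symm
      · exact hz
  obtain ⟨ρ₀, hρ₀⟩ := exists_lift_of_schur_cover hA σ hσ hk τ hτ hτc baer_units_complex ι hι hιr
  refine ⟨((MonoidHom.snd Q G).comp P.subtype).comp ρ₀, ?_⟩
  apply MonoidHom.ext
  intro g
  have h1 := (hP _).mp (ρ₀ g).2
  have h2 : ((ρ₀ g : P) : Q × G).1 = σ g := DFunLike.congr_fun hρ₀ g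
  rw [h2] at h1
  exact h1.symm

end Cfsg.Agent.Lib.Helper70
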