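import Mathlib
import Cfsg.Prelude.Def_KGroupFacts
import Cfsg.Agent.Lib.Helper70.SchurBasic
import Cfsg.Agent.Lib.Helper70.SchurPres
import Cfsg.Agent.Lib.Helper70.SchurPres2
import Cfsg.Agent.Lib.Helper70.NormMap

set_option autoImplicit false

namespace Cfsg.Agent.Lib.Helper70

open Subgroup
open scoped commutatorElement
open scoped IsMulCommutative

universe u

theorem exists_lift_of_isFreeGroup {L : Type*} [Group L] [IsFreeGroup L] {E Q : Type*} [Group E]
    [Group Q] (π : E →* Q) (hπ : Function.Surjective π) (f : L →* Q) :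
    ∃ ψ : L →* E, π.comp ψ = f := by
  refine ⟨IsFreeGroup.lift (fun g => Classical.choose (hπ (f (IsFreeGroup.of g)))), ?_⟩
  apply IsFreeGroup.ext_hom
  intro a
  rw [MonoidHom.comp_apply, IsFreeGroup.lift_of]
  exact Classical.choose_spec (hπ (f (IsFreeGroup.of a)))

section Tr

variable {G : Type u} [Group G] (P : Subgroup G)

/-- the map `H' → H` between the free central extensions induced by the inclusion `P ≤ G` -/
def presIncl : PresH (id : P → P) →* PresH (id : G → G) :=
  QuotientGroup.map (presC (id : P → P)) (presC (id : G → G)) (FreeGroup.map Subtype.val) (by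
    have h0 : (presHom (id : G → G)).comp (FreeGroup.map (Subtype.val : P → G)) =
        P.subtype.comp (presHom (id : P → P)) := by
      ext x; simp [presHom]
    have h1 : presR (id : P → P) ≤ (presR (id : G → G)).comap (FreeGroup.map Subtype.val) := by
      intro x hx
      rw [Subgroup.mem_comap]
      show (presHom (id : G → G)) (FreeGroup.map Subtype.val x) = 1
      have := DFunLike.congr_fun h0 x
      rw [MonoidHom.comp_apply] at this
      rw [this, MonoidHom.comp_apply]
      have hx' : presHom (id : P → P) x = 1 := hx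
      rw [hx', map_one]
    unfold presC
    rw [← Subgroup.map_le_iff_le_comap, Subgroup.map_commutator]
    exact Subgroup.commutator_mono (Subgroup.map_le_iff_le_comap.mpr h1) le_top)

theorem presIncl_mk (x : FreeGroup P) :
    presIncl P (QuotientGroup.mk x) = QuotientGroup.mk (FreeGroup.map Subtype.val x) := rfl

theorem presπ_presIncl (h : PresH (id : P → P)) :
    presπ (id : G → G) (presIncl P h) = (presπ (id : P → P) h : G) := by
  obtain ⟨x, rfl⟩ := QuotientGroup.mk_surjective h
  rw [presIncl_mk, presπ_mk, presπ_mk]
  have h0 : (presHom (id : G → G)).comp (FreeGroup.map (Subtype.val : P → G)) =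
      P.subtype.comp (presHom (id : P → P)) := by
    ext x; simp [presHom]
  exact DFunLike.congr_fun h0 x

variable [P.FiniteIndex]

/-- the preimage of `P` in the free group on `G` -/
def presE₀ : Subgroup (FreeGroup G) := P.comap (presHom (id : G → G))

instance presE₀_finiteIndex : (presE₀ P).FiniteIndex := ⟨by
  rw [presE₀, Subgroup.index_comap_of_surjective _ (presHom_surjective _ Function.surjective_id)]
  exact FiniteIndex.index_ne_zero⟩

omit [P.FiniteIndex] in
theorem presE₀_index : (presE₀ P).index = P.index := by
  rw [presE₀, Subgroup.index_comap_of_surjective _ (presHom_surjective _ Function.surjective_id)]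

omit [P.FiniteIndex] in
theorem presR_le_presE₀ : presR (id : G → G) ≤ presE₀ P := by
  intro x hx
  show presHom (id : G → G) x ∈ P
  have : presHom (id : G → G) x = 1 := hx
  rw [this]
  exact P.one_mem

/-- the restriction of the presentation map to the preimage of `P` -/
def presE₀Hom : presE₀ P →* P :=
  ((presHom (id : G → G)).comp (presE₀ P).subtype).codRestrict P (fun y => y.2)

theorem mem_commutator_of_mk_mem {X : Type*} {Q : Type*} [Group Q] (p : X → Q) (r : FreeGroup X)
    (h : (QuotientGroup.mk r : PresH p) ∈ commutator (PresH p)) : r ∈ commutator (FreeGroup X) := by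
  have hmap : (commutator (FreeGroup X)).map (QuotientGroup.mk' (presC p)) = commutator (PresH p) := by
    rw [_root_.commutator_def, _root_.commutator_def, Subgroup.map_commutator]
    congr 1 <;> exact (MonoidHom.range_eq_map _).symm.trans
      (MonoidHom.range_eq_top.mpr (QuotientGroup.mk'_surjective _))
  rw [← hmap] at h
  obtain ⟨c, hc, hcr⟩ := h
  have h1 : c⁻¹ * r ∈ presC p := QuotientGroup.eq.mp hcr
  have h2 : r = c * (c⁻¹ * r) := by group
  rw [h2]
  exact (commutator (FreeGroup X)).mul_mem hc (presC_le_commutator p h1)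

/-- transfer and corestriction between the multipliers of `G` and of a subgroup of finite index -/
theorem exists_tr_cor : ∃ (tr : presM (id : G → G) →* presM (id : P → P))
    (cor : presM (id : P → P) →* presM (id : G → G)), ∀ x, cor (tr x) = x ^ P.index := by
  classical
  obtain ⟨ψ, hψ0⟩ := exists_lift_of_isFreeGroup (presπ (id : P → P))
    (presπ_surjective' _ (presHom_surjective _ Function.surjective_id)) (presE₀Hom P)
  have hψ1 : ∀ y, presπ (id : P → P) (ψ y) = presE₀Hom P y := fun y => DFunLike.congr_fun hψ0 y
  have hZ := presR_le_presE₀ P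
  have hψ : ∀ z : presE₀ P, (z : FreeGroup G) ∈ presR (id : G → G) →
      ψ z ∈ center (PresH (id : P → P)) := by
    intro z hz
    apply presπ_ker_le_center
    rw [MonoidHom.mem_ker, hψ1]
    apply Subtype.ext
    exact hz
  let N := normMap (presE₀ P) (presR (id : G → G)) hZ ψ hψ
  -- `N` kills `[R, F]`
  have hNC : ∀ c ∈ presC (id : G → G), ∀ hc : c ∈ presR (id : G → G), N ⟨c, hc⟩ = 1 := by
    intro c hc
    unfold presC at hc
    rw [Subgroup.commutator_def] at hc
    induction hc using Subgroup.closure_induction with
    | mem c hc =>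
      obtain ⟨r, hr, g, -, rfl⟩ := hc
      intro hc'
      have h1 : (⟨⁅r, g⁆, hc'⟩ : presR (id : G → G)) =
          ⟨r, hr⟩ * ⟨g * (⟨r, hr⟩⁻¹ : presR (id : G → G)) * g⁻¹,
            (presR_normal _).conj_mem _ (⟨r, hr⟩⁻¹ : presR (id : G → G)).2 g⟩ := by
        apply Subtype.ext
        simp only [Subgroup.coe_mul, Subgroup.coe_inv, commutatorElement_def]
        group
      rw [h1, map_mul, normMap_conj, map_inv, mul_inv_cancel]
    | one => intro hc'; exact map_one N
    | mul a b ha hb iha ihb =>
      intro hc'
      have ha' : a ∈ presR (id : G → G) := presC_le_presR _ (by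
        unfold presC; rw [Subgroup.commutator_def]; exact ha)
      have hb' : b ∈ presR (id : G → G) := presC_le_presR _ (by
        unfold presC; rw [Subgroup.commutator_def]; exact hb)
      have : (⟨a * b, hc'⟩ : presR (id : G → G)) = ⟨a, ha'⟩ * ⟨b, hb'⟩ := rfl
      rw [this, map_mul, iha ha', ihb hb', one_mul]
    | inv a ha iha =>
      intro hc'
      have ha' : a ∈ presR (id : G → G) := presC_le_presR _ (by
        unfold presC; rw [Subgroup.commutator_def]; exact ha)
      have : (⟨a⁻¹, hc'⟩ : presR (id : G → G)) = (⟨a, ha'⟩)⁻¹ := rfl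
      rw [this, map_inv, iha ha', inv_one]
  let mkR : presR (id : G → G) →* (presπ (id : G → G)).ker :=
    ((QuotientGroup.mk' (presC (id : G → G))).comp (presR (id : G → G)).subtype).codRestrict _
      (fun r => r.2)
  have hmkR : Function.Surjective mkR := by
    rintro ⟨h, hh⟩
    obtain ⟨r, hr, rfl⟩ := (mem_presπ_ker _ h).mp hh
    exact ⟨⟨r, hr⟩, rfl⟩
  have hker : mkR.ker ≤ N.ker := by
    rintro ⟨r, hr⟩ hr1
    rw [MonoidHom.mem_ker] at hr1 ⊢
    have h1 : (QuotientGroup.mk r : PresH (id : G → G)) = 1 := congrArg Subtype.val hr1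
    exact hNC r ((QuotientGroup.eq_one_iff r).mp h1) hr
  let trK := mkR.liftOfSurjective hmkR ⟨N, hker⟩
  have htrK : ∀ r, trK (mkR r) = N r := fun r =>
    MonoidHom.liftOfRightInverse_comp_apply _ _ _ ⟨N, hker⟩ r
  -- representatives of multiplier elements
  have hrep : ∀ x : presM (id : G → G), ∃ r : presR (id : G → G),
      (r : FreeGroup G) ∈ commutator (FreeGroup G) ∧
      mkR r = Subgroup.inclusion (presM_le_ker _) x := by
    rintro ⟨x, hx1, hx2⟩
    obtain ⟨r, hr, rfl⟩ := (mem_presπ_ker _ x).mp hx1
    exact ⟨⟨r, hr⟩, mem_commutator_of_mk_mem _ r hx2, rfl⟩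
  have hNker : ∀ r, ((N r : center (PresH (id : P → P))) : PresH (id : P → P)) ∈
      (presπ (id : P → P)).ker := by
    intro r
    have h1 : N r ∈ (presπ (id : P → P)).ker.subgroupOf (center (PresH (id : P → P))) := by
      show normMap (presE₀ P) (presR (id : G → G)) hZ ψ hψ r ∈ _
      rw [normMap_apply]
      apply Subgroup.prod_mem
      intro q _
      rw [Subgroup.mem_subgroupOf, conjHom_apply, MonoidHom.mem_ker, hψ1]
      apply Subtype.ext
      exact (presR_normal (id : G → G)).conj_mem' (r : FreeGroup G) r.2 _
    exact h1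
  let tr : presM (id : G → G) →* presM (id : P → P) :=
    ((center (PresH (id : P → P))).subtype.comp
      (trK.comp (Subgroup.inclusion (presM_le_ker _)))).codRestrict _ (by
      intro x
      obtain ⟨r, hrc, hr⟩ := hrep x
      show ((trK (Subgroup.inclusion (presM_le_ker _) x) : center (PresH (id : P → P))) :
        PresH (id : P → P)) ∈ presM (id : P → P)
      rw [← hr, htrK]
      exact ⟨hNker r, normMap_mem_commutator _ _ hZ ψ hψ r hrc⟩)
  let cor : presM (id : P → P) →* presM (id : G → G) :=
    ((presIncl P).comp (presM (id : P → P)).subtype).codRestrict _ (by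
      rintro ⟨y, hy1, hy2⟩
      refine ⟨?_, ?_⟩
      · show presπ (id : G → G) (presIncl P y) = 1
        rw [presπ_presIncl, show presπ (id : P → P) y = 1 from hy1]
        rfl
      · have h1 : (commutator (PresH (id : P → P))).map (presIncl P) ≤
            commutator (PresH (id : G → G)) := by
          rw [_root_.commutator_def, _root_.commutator_def, Subgroup.map_commutator]
          exact Subgroup.commutator_mono le_top le_top
        exact h1 ⟨y, hy2, rfl⟩)
  refine ⟨tr, cor, ?_⟩
  intro x
  obtain ⟨r, hrc, hr⟩ := hrep x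
  apply Subtype.ext
  show presIncl P ((trK (Subgroup.inclusion (presM_le_ker _) x) : center (PresH (id : P → P))) :
    PresH (id : P → P)) = ((x ^ P.index : presM (id : G → G)) : PresH (id : G → G))
  rw [← hr, htrK]
  have hι : ∀ z ∈ presR (id : G → G),
      (QuotientGroup.mk' (presC (id : G → G))) z ∈ center (PresH (id : G → G)) := by
    intro z hz
    apply presπ_ker_le_center
    exact hz
  have hl : ∀ y : presE₀ P, ((QuotientGroup.mk' (presC (id : G → G))) (y : FreeGroup G))⁻¹ *
      presIncl P (ψ y) ∈ center (PresH (id : G → G)) := by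
    intro y
    apply presπ_ker_le_center
    rw [MonoidHom.mem_ker, map_mul, map_inv, presπ_presIncl, hψ1]
    show (presHom (id : G → G) (y : FreeGroup G))⁻¹ * presHom (id : G → G) (y : FreeGroup G) = 1
    rw [inv_mul_cancel]
  have := normMap_comp_eq_pow (presE₀ P) (presR (id : G → G)) hZ ψ hψ (presIncl P)
    (QuotientGroup.mk' (presC (id : G → G))) hι hl r hrc
  rw [this, presE₀_index, Subgroup.coe_pow]
  congr 1
  have := congrArg Subtype.val hr
  exact this

end Tr

end Cfsg.Agent.Lib.Helper70
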