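import Mathlib
import Cfsg.Prelude.Def_KGroupFacts
import Cfsg.Agent.Lib.Helper70.SchurUnique
import Cfsg.Agent.Lib.Helper70.SchurNonExt

set_option autoImplicit false

namespace Cfsg.Agent.Lib.Helper70

open Subgroup
open scoped commutatorElement

universe u v w

/-- if all Schur covers of `Q` are isomorphic over `Q` then `|Q^ab|` and `|M(Q)|` are coprime -/
theorem coprime_of_forall_equiv_over {Q : Type u} [Group Q] [Finite Q] {A : Type v} [CommGroup A]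
    (hA : Cfsg.HasSchurMultiplier Q A)
    (hiso : ∀ (Γ₁ Γ₂ : Type u) [Group Γ₁] [Finite Γ₁] [Group Γ₂] [Finite Γ₂] (σ₁ : Γ₁ →* Q)
      (σ₂ : Γ₂ →* Q), Cfsg.IsStemExtension σ₁ → Cfsg.IsStemExtension σ₂ →
      Nonempty (σ₁.ker ≃* A) → Nonempty (σ₂.ker ≃* A) →
      ∃ e : Γ₁ ≃* Γ₂, σ₂.comp e.toMonoidHom = σ₁) :
    Nat.Coprime (Nat.card (Abelianization Q)) (Nat.card A) := by
  classical
  by_contra hncop
  obtain ⟨ℓ, hℓ, hℓQ, hℓA⟩ := Nat.Prime.not_coprime_iff_dvd.mp hncop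
  have : Fact ℓ.Prime := ⟨hℓ⟩
  have hp : Function.Surjective (presHom (id : Q → Q)) :=
    presHom_surjective _ Function.surjective_id
  have hMfin : Finite (SchurM Q) := finite_presM' hp
  obtain ⟨eA⟩ := schurMultiplier_unique hA
  have hℓM : ℓ ∣ Nat.card (SchurM Q) := by
    rw [← Nat.card_congr eA.toEquiv]; exact hℓA
  have hπs := presπ_surjective' (id : Q → Q) hp
  have hBc := presπ_ker_le_center (id : Q → Q)
  -- a complement `S₂`
  obtain ⟨S₂, hS₂, hS₂M, hdec₂⟩ := exists_presComplement (p := (id : Q → Q))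
    (presπ (id : Q → Q)).ker le_rfl (fun r hr => ⟨r, hr, 1, Subgroup.one_mem _, (mul_one r).symm⟩)
  have hS₂c : S₂ ⊓ commutator (PresH (id : Q → Q)) = ⊥ := by
    rw [eq_bot_iff, ← hS₂M]
    rintro s ⟨hs1, hs2⟩
    exact ⟨hs1, hS₂ hs1, hs2⟩
  -- an element of order `ℓ` in `Q^ab`
  obtain ⟨qbar, hqbar⟩ := exists_prime_orderOf_dvd_card' ℓ hℓQ
  obtain ⟨q, rfl⟩ := QuotientGroup.mk_surjective qbar
  obtain ⟨h, rfl⟩ := hπs q
  have hqℓ : (Abelianization.of (presπ (id : Q → Q) h)) ^ ℓ = 1 := by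
    rw [← hqbar]; exact pow_orderOf_eq_one _
  obtain ⟨c, hc, b, hb, hcb⟩ := exists_commutator_mul_ker_of_pow (presπ (id : Q → Q)) hπs h ℓ hqℓ
  obtain ⟨s₀, hs₀, m₁, hm₁, rfl⟩ := hdec₂ b hb
  have hpow : h ^ ℓ = (c * m₁) * s₀ := by
    rw [hcb]
    have := Subgroup.mem_center_iff.mp (hBc (hS₂ hs₀)) m₁
    rw [mul_assoc, this]
  have hnot : ∀ s ∈ S₂, h * s⁻¹ ∉ commutator (PresH (id : Q → Q)) := by
    intro s hs hmem
    have h1 : presπ (id : Q → Q) (h * s⁻¹) ∈ commutator Q := by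
      rw [← map_commutator_eq_of_surjective _ hπs]
      exact ⟨_, hmem, rfl⟩
    rw [map_mul, map_inv, MonoidHom.mem_ker.mp (hS₂ hs), inv_one, mul_one,
      ← Abelianization.ker_of, MonoidHom.mem_ker] at h1
    have h2 : orderOf (Abelianization.of (presπ (id : Q → Q) h)) = 1 := by rw [h1, orderOf_one]
    have h3 : orderOf (Abelianization.of (presπ (id : Q → Q) h)) = ℓ := hqbar
    rw [h2] at h3
    exact hℓ.one_lt.ne h3
  obtain ⟨μ, hμ⟩ := exists_nonextendable (Z := SchurM Q) (FreeAbelianGroup.basis Q)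
    (presθ (id : Q → Q)) (presθ_ker _) S₂ hS₂c ℓ hℓM h (c * m₁) s₀
    (Subgroup.mul_mem _ hc (presM_le_commutator _ hm₁)) hs₀ hpow hnot
  apply hμ
  have hMc : ∀ m : SchurM Q, (m : PresH (id : Q → Q)) ∈ center (PresH (id : Q → Q)) :=
    fun m => presM_le_center _ m.2
  -- the second complement `S₁`, the graph of `μ`
  let g : S₂ →* PresH (id : Q → Q) := MonoidHom.mk' (fun s => (s : PresH (id : Q → Q)) * (μ s : PresH (id : Q → Q))) (by
    intro s t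
    have h1 := Subgroup.mem_center_iff.mp (hMc (μ s)) (t : PresH (id : Q → Q))
    show ((s * t : S₂) : PresH (id : Q → Q)) * ((μ (s * t) : SchurM Q) : PresH (id : Q → Q)) = _
    rw [map_mul, Subgroup.coe_mul, Subgroup.coe_mul]
    calc (s : PresH (id : Q → Q)) * t * (μ s * μ t) = s * (t * μ s) * μ t := by group
      _ = s * (μ s * t) * μ t := by rw [h1]
      _ = _ := by group)
  have hg : ∀ s : S₂, g s = (s : PresH (id : Q → Q)) * (μ s : PresH (id : Q → Q)) := fun s => rfl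
  let S₁ : Subgroup (PresH (id : Q → Q)) := g.range
  have hS₁ : S₁ ≤ (presπ (id : Q → Q)).ker := by
    rintro _ ⟨s, rfl⟩
    rw [hg]
    exact Subgroup.mul_mem _ (hS₂ s.2) (presM_le_ker _ (μ s).2)
  have hS₁M : S₁ ⊓ SchurM Q = ⊥ := by
    rw [eq_bot_iff]
    rintro _ ⟨⟨s, rfl⟩, hsM⟩
    rw [hg] at hsM
    have h1 : (s : PresH (id : Q → Q)) ∈ SchurM Q := by
      have := Subgroup.mul_mem _ hsM (Subgroup.inv_mem _ (μ s).2)
      rwa [mul_inv_cancel_right] at this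
    have h2 : (s : PresH (id : Q → Q)) ∈ S₂ ⊓ SchurM Q := ⟨s.2, h1⟩
    rw [hS₂M, Subgroup.mem_bot] at h2
    have h3 : s = 1 := Subtype.ext h2
    rw [Subgroup.mem_bot, h3, map_one]
  have hdec₁ : ∀ r ∈ (presπ (id : Q → Q)).ker, ∃ s ∈ S₁, ∃ m ∈ SchurM Q, r = s * m := by
    intro r hr
    obtain ⟨s, hs, m, hm, rfl⟩ := hdec₂ r hr
    refine ⟨g ⟨s, hs⟩, ⟨_, rfl⟩, (μ ⟨s, hs⟩ : PresH (id : Q → Q))⁻¹ * m,
      Subgroup.mul_mem _ (Subgroup.inv_mem _ (μ ⟨s, hs⟩).2) hm, ?_⟩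
    rw [hg]; group
  have hn₁ : S₁.Normal := normal_of_le_center (hS₁.trans hBc)
  have hn₂ : S₂.Normal := normal_of_le_center (hS₂.trans hBc)
  have hf₁ : Finite (PresH (id : Q → Q) ⧸ S₁) := finite_cover' S₁ hp hS₁ hS₁M hdec₁
  have hf₂ : Finite (PresH (id : Q → Q) ⧸ S₂) := finite_cover' S₂ hp hS₂ hS₂M hdec₂
  obtain ⟨k₁⟩ := coverHom_kerEquiv S₁ hS₁ hS₁M hdec₁
  obtain ⟨k₂⟩ := coverHom_kerEquiv S₂ hS₂ hS₂M hdec₂
  obtain ⟨e, he⟩ := hiso (PresH (id : Q → Q) ⧸ S₁) (PresH (id : Q → Q) ⧸ S₂) (coverHom S₁ hS₁)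
    (coverHom S₂ hS₂) (coverHom_isStem' S₁ hS₁ hp hdec₁) (coverHom_isStem' S₂ hS₂ hp hdec₂)
    ⟨k₁.symm.trans eA.symm⟩ ⟨k₂.symm.trans eA.symm⟩
  have he' : ∀ x : PresH (id : Q → Q),
      coverHom S₂ hS₂ (e (QuotientGroup.mk x)) = presπ (id : Q → Q) x := by
    intro x
    have := DFunLike.congr_fun he (QuotientGroup.mk x)
    exact this
  -- the difference character
  have hex : ∀ x : PresH (id : Q → Q), ∃ m : SchurM Q,
      (QuotientGroup.mk (m : PresH (id : Q → Q)) : PresH (id : Q → Q) ⧸ S₂) =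
        e (QuotientGroup.mk x) * (QuotientGroup.mk x)⁻¹ := by
    intro x
    have h1 : e (QuotientGroup.mk x) * (QuotientGroup.mk x : PresH (id : Q → Q) ⧸ S₂)⁻¹ ∈
        (coverHom S₂ hS₂).ker := by
      rw [MonoidHom.mem_ker, map_mul, map_inv, he' x, coverHom_mk, mul_inv_cancel]
    obtain ⟨r, hr, hrx⟩ := (mem_coverHom_ker S₂ hS₂ _).mp h1
    obtain ⟨s, hs, m, hm, rfl⟩ := hdec₂ r hr
    refine ⟨⟨m, hm⟩, ?_⟩
    rw [← hrx, QuotientGroup.mk_mul, (QuotientGroup.eq_one_iff s).mpr hs, one_mul]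
  have hq₂inj : ∀ m m' : SchurM Q,
      (QuotientGroup.mk (m : PresH (id : Q → Q)) : PresH (id : Q → Q) ⧸ S₂) =
        QuotientGroup.mk (m' : PresH (id : Q → Q)) → m = m' := by
    intro m m' hmm
    have h1 : (m : PresH (id : Q → Q))⁻¹ * m' ∈ S₂ := QuotientGroup.eq.mp hmm
    have h2 : (m : PresH (id : Q → Q))⁻¹ * m' ∈ S₂ ⊓ SchurM Q :=
      ⟨h1, Subgroup.mul_mem _ (Subgroup.inv_mem _ m.2) m'.2⟩
    rw [hS₂M, Subgroup.mem_bot] at h2
    exact Subtype.ext (inv_mul_eq_one.mp h2)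
  choose χ₀ hχ₀ using hex
  let χ : PresH (id : Q → Q) →* SchurM Q := MonoidHom.mk' χ₀ (by
    intro x y
    apply hq₂inj
    have hL : (QuotientGroup.mk ((χ₀ (x * y) : SchurM Q) : PresH (id : Q → Q)) : PresH (id : Q → Q) ⧸ S₂) =
        e (QuotientGroup.mk x) * e (QuotientGroup.mk y) *
          ((QuotientGroup.mk x : PresH (id : Q → Q) ⧸ S₂) * QuotientGroup.mk y)⁻¹ := by
      rw [hχ₀, QuotientGroup.mk_mul, map_mul, QuotientGroup.mk_mul]
    have hR : (QuotientGroup.mk ((χ₀ x * χ₀ y : SchurM Q) : PresH (id : Q → Q)) : PresH (id : Q → Q) ⧸ S₂) =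
        (e (QuotientGroup.mk x) * (QuotientGroup.mk x)⁻¹) *
          (e (QuotientGroup.mk y) * (QuotientGroup.mk y)⁻¹) := by
      rw [Subgroup.coe_mul, QuotientGroup.mk_mul, hχ₀ x, hχ₀ y]
    have hcen : (QuotientGroup.mk (χ₀ y : PresH (id : Q → Q)) : PresH (id : Q → Q) ⧸ S₂) *
        (QuotientGroup.mk x)⁻¹ = (QuotientGroup.mk x)⁻¹ * QuotientGroup.mk (χ₀ y : PresH (id : Q → Q)) := by
      rw [← QuotientGroup.mk_inv, ← QuotientGroup.mk_mul, ← QuotientGroup.mk_mul,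
        Subgroup.mem_center_iff.mp (hMc (χ₀ y)) x⁻¹]
    rw [hχ₀ y] at hcen
    rw [hL, hR]
    calc e (QuotientGroup.mk x) * e (QuotientGroup.mk y) *
          ((QuotientGroup.mk x : PresH (id : Q → Q) ⧸ S₂) * QuotientGroup.mk y)⁻¹
        = e (QuotientGroup.mk x) * (e (QuotientGroup.mk y) * (QuotientGroup.mk y)⁻¹ *
          (QuotientGroup.mk x)⁻¹) := by group
      _ = e (QuotientGroup.mk x) * ((QuotientGroup.mk x)⁻¹ *
          (e (QuotientGroup.mk y) * (QuotientGroup.mk y)⁻¹)) := by rw [hcen]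
      _ = _ := by group)
  have hχ : ∀ x, χ x = χ₀ x := fun x => rfl
  have hχc : ∀ x ∈ commutator (PresH (id : Q → Q)), χ x = 1 := fun x hx =>
    Abelianization.commutator_subset_ker χ hx
  refine ⟨χ⁻¹, ?_⟩
  intro s
  have h1 : χ (g s) = (μ s)⁻¹ := by
    apply hq₂inj
    rw [hχ, hχ₀]
    have h2 : (QuotientGroup.mk (g s) : PresH (id : Q → Q) ⧸ S₁) = 1 :=
      (QuotientGroup.eq_one_iff _).mpr ⟨s, rfl⟩
    rw [h2, map_one, one_mul, hg, QuotientGroup.mk_mul, (QuotientGroup.eq_one_iff _).mpr s.2,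
      one_mul, Subgroup.coe_inv, QuotientGroup.mk_inv]
  have h3 : χ (g s) = χ s := by
    rw [hg, map_mul, hχc _ (presM_le_commutator _ (μ s).2), mul_one]
  rw [MonoidHom.inv_apply, ← h3, h1, inv_inv]

end Cfsg.Agent.Lib.Helper70
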