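import Mathlib

set_option autoImplicit false

namespace Cfsg.Agent.Lib.Helper70.Spin

open CliffordAlgebra

noncomputable section

variable (n : ℕ)

/-- The sum of squares on `ℚ^n`. -/
def sq : QuadraticForm ℚ (Fin n → ℚ) :=
  QuadraticMap.weightedSumSquares ℚ (fun _ : Fin n => (1 : ℚ))

theorem sq_apply (v : Fin n → ℚ) : sq n v = ∑ i, v i * v i := by
  simp [sq, QuadraticMap.weightedSumSquares_apply]

/-- The Clifford algebra of the sum of squares. -/
abbrev Cl : Type := CliffordAlgebra (sq n)

variable {n}

/-- Basis vectors in the Clifford algebra. -/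
def e (c : Fin n) : Cl n := ι (sq n) (Pi.single c 1)

theorem e_sq (c : Fin n) : e c * e c = 1 := by
  unfold e
  rw [ι_sq_scalar, sq_apply]
  simp [Pi.single_apply]

theorem e_anti {c d : Fin n} (h : c ≠ d) : e c * e d = -(e d * e c) := by
  unfold e
  apply ι_mul_ι_comm_of_isOrtho
  unfold QuadraticMap.IsOrtho
  rw [sq_apply, sq_apply, sq_apply]
  simp only [Pi.add_apply, Pi.single_apply]
  rw [← Finset.sum_add_distrib]
  apply Finset.sum_congr rfl
  intro i _
  by_cases h1 : i = c <;> by_cases h2 : i = d <;> simp [h1, h2, h, Ne.symm h]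

theorem e_injective : Function.Injective (e : Fin n → Cl n) := by
  intro c d hcd
  by_contra hne
  have h1 : e c * e d = 1 := by rw [← hcd, e_sq]
  have h2 : e d * e c = 1 := by rw [hcd, e_sq]
  have h3 := e_anti hne
  rw [h1, h2] at h3
  have h4 : (2 : Cl n) = 0 := by
    have : (1 : Cl n) + 1 = 0 := by nth_rewrite 1 [h3]; simp
    rw [← this]; norm_num
  have h5 : (algebraMap ℚ (Cl n)) 2 = 0 := by rw [map_ofNat]; exact h4
  simp at h5

/-- The product of the basis vectors along a word. -/
def wd (l : List (Fin n)) : Cl n := (l.map e).prod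

@[simp] theorem wd_nil : wd ([] : List (Fin n)) = 1 := rfl

@[simp] theorem wd_cons (c : Fin n) (l : List (Fin n)) : wd (c :: l) = e c * wd l := by
  simp [wd]

theorem wd_append (l₁ l₂ : List (Fin n)) : wd (l₁ ++ l₂) = wd l₁ * wd l₂ := by
  simp [wd]

theorem e_mul_wd (c : Fin n) (l : List (Fin n)) :
    e c * wd l = (-1 : ℚ) ^ (l.length + l.count c) • (wd l * e c) := by
  induction l with
  | nil => simp
  | cons d l ih =>
    by_cases hd : d = c
    · subst hd
      rw [wd_cons, List.length_cons, List.count_cons_self, ← mul_assoc, e_sq, one_mul, ih,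
        smul_mul_assoc, mul_assoc, e_sq, mul_one, smul_smul, ← pow_add]
      have : Even (l.length + 1 + (l.count d + 1) + (l.length + l.count d)) := ⟨l.length + l.count d + 1, by ring⟩
      rw [this.neg_one_pow, one_smul]
    · have hcd : c ≠ d := fun h => hd h.symm
      rw [wd_cons, ← mul_assoc, e_anti hcd, neg_mul, mul_assoc, ih, List.length_cons,
        List.count_cons_of_ne hd]
      have : l.length + 1 + l.count c = (l.length + l.count c) + 1 := by ring
      rw [this, pow_succ, mul_smul_comm, mul_assoc]
      simp

/-- A word in which every letter occurs an even number of times is `±1`. -/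
theorem wd_eq_one_or_neg_one : ∀ (k : ℕ) (l : List (Fin n)), l.length = k →
    (∀ c, Even (l.count c)) → wd l = 1 ∨ wd l = -1 := by
  intro k
  induction k using Nat.strong_induction_on with
  | _ k ih =>
    intro l hl hev
    cases l with
    | nil => left; rfl
    | cons c l =>
      have hc := hev c
      rw [List.count_cons_self] at hc
      have hmem : c ∈ l := by
        rw [← List.count_pos_iff]
        rcases Nat.eq_zero_or_pos (l.count c) with h0 | h0
        · rw [h0] at hc; simp at hc
        · exact h0
      obtain ⟨s, t, rfl⟩ := List.append_of_mem hmem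
      have hev' : ∀ d, Even ((s ++ t).count d) := by
        intro d
        have hd := hev d
        by_cases hdc : c = d
        · subst hdc
          simp only [List.count_cons_self, List.count_append] at hd ⊢
          have : s.count c + (t.count c + 1) + 1 = (s.count c + t.count c) + 2 := by ring
          rw [this, Nat.even_add] at hd
          simpa using hd
        · simp only [List.count_cons_of_ne hdc, List.count_append] at hd ⊢
          exact hd
      have hlen : (s ++ t).length < k := by
        rw [← hl]; simp only [List.length_cons, List.length_append]; omega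
      have key : wd (c :: (s ++ c :: t)) = (-1 : ℚ) ^ (s.length + s.count c) • wd (s ++ t) := by
        rw [wd_cons, wd_append, wd_cons, ← mul_assoc, e_mul_wd, smul_mul_assoc,
          mul_assoc (wd s), ← mul_assoc (e c), e_sq, one_mul, wd_append]
      rw [key]
      rcases ih _ hlen (s ++ t) rfl hev' with h1 | h1 <;>
        rcases neg_one_pow_eq_or ℚ (s.length + s.count c) with h2 | h2 <;>
        rw [h1, h2] <;> simp

/-- The twisted conjugation by a basis vector. -/
def theta (c : Fin n) : Cl n →ₗ[ℚ] Cl n :=
  (LinearMap.mulLeft ℚ (e c)).comp ((LinearMap.mulRight ℚ (e c)).comp involute.toLinearMap)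

theorem theta_apply (c : Fin n) (x : Cl n) : theta c x = e c * (involute x * e c) := rfl

theorem involute_wd (l : List (Fin n)) : involute (wd l) = (-1 : ℚ) ^ l.length • wd l := by
  have h := involute_prod_map_ι (Q := sq n) (l.map fun c => Pi.single c (1 : ℚ))
  rw [List.map_map, List.length_map] at h
  exact h

theorem theta_wd (c : Fin n) (l : List (Fin n)) :
    theta c (wd l) = (-1 : ℚ) ^ (l.count c) • wd l := by
  rw [theta_apply, involute_wd, smul_mul_assoc, mul_smul_comm, ← mul_assoc, e_mul_wd,
    smul_mul_assoc, mul_assoc, e_sq, mul_one, smul_smul, ← pow_add]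
  have : l.length + (l.length + l.count c) = 2 * l.length + l.count c := by ring
  rw [this, pow_add, pow_mul]
  simp

/-- The span of the words that are even in the letters of `S`. -/
def evenSpan (S : Finset (Fin n)) : Submodule ℚ (Cl n) :=
  Submodule.span ℚ (wd '' {l | ∀ c ∈ S, Even (l.count c)})

theorem adjoin_range_e : Algebra.adjoin ℚ (Set.range (e : Fin n → Cl n)) = ⊤ := by
  rw [eq_top_iff, ← adjoin_range_ι]
  apply Algebra.adjoin_le
  rintro _ ⟨v, rfl⟩
  have hv : ι (sq n) v = ∑ c, v c • e c := by
    have h1 : v = ∑ c, v c • (Pi.single c (1 : ℚ) : Fin n → ℚ) := by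
      ext j
      simp [Finset.sum_apply, Pi.single_apply]
    conv_lhs => rw [h1]
    simp [map_sum, e]
  rw [hv]
  exact Subalgebra.sum_mem _ fun c _ => Subalgebra.smul_mem _ (Algebra.subset_adjoin (Set.mem_range_self c)) _

theorem evenSpan_empty : evenSpan (∅ : Finset (Fin n)) = ⊤ := by
  have h1 : (Algebra.adjoin ℚ (Set.range (e : Fin n → Cl n))).toSubmodule = ⊤ := by
    rw [adjoin_range_e]; rfl
  rw [Algebra.adjoin_eq_span] at h1
  rw [eq_top_iff, ← h1]
  apply Submodule.span_mono
  intro x hx
  obtain ⟨l, hl, rfl⟩ := Submonoid.exists_list_of_mem_closure hx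
  have : ∃ l' : List (Fin n), l'.map e = l := by
    clear hx
    induction l with
    | nil => exact ⟨[], rfl⟩
    | cons a l ih =>
      obtain ⟨c, rfl⟩ := hl a (by simp)
      obtain ⟨l', rfl⟩ := ih fun y hy => hl y (by simp [hy])
      exact ⟨c :: l', rfl⟩
  obtain ⟨l', rfl⟩ := this
  exact ⟨l', by simp, rfl⟩

theorem evenSpan_insert (S : Finset (Fin n)) (c : Fin n) (x : Cl n) (hx : x ∈ evenSpan S)
    (hc : theta c x = x) : x ∈ evenSpan (insert c S) := by
  let T : Cl n →ₗ[ℚ] Cl n := (1 / 2 : ℚ) • (LinearMap.id + theta c)
  have hT : T x = x := by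
    simp only [T, LinearMap.smul_apply, LinearMap.add_apply, LinearMap.id_apply, hc]
    rw [← two_smul ℚ x, smul_smul]; norm_num
  rw [← hT]
  have hmap : (evenSpan S).map T ≤ evenSpan (insert c S) := by
    unfold evenSpan
    rw [Submodule.map_span, Submodule.span_le]
    rintro _ ⟨_, ⟨l, hl, rfl⟩, rfl⟩
    simp only [T, LinearMap.smul_apply, LinearMap.add_apply, LinearMap.id_apply, theta_wd]
    rcases Nat.even_or_odd (l.count c) with he | ho
    · have h12 : (1 / 2 : ℚ) * 2 = 1 := by norm_num
      rw [he.neg_one_pow, one_smul, ← two_smul ℚ (wd l), smul_smul, h12, one_smul]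
      apply Submodule.subset_span
      refine ⟨l, ?_, rfl⟩
      intro d hd
      rcases Finset.mem_insert.mp hd with rfl | hd
      · exact he
      · exact hl d hd
    · rw [ho.neg_one_pow, neg_one_smul, add_neg_cancel, smul_zero]
      exact Submodule.zero_mem _
  exact hmap (Submodule.mem_map_of_mem hx)

theorem evenSpan_univ_le : evenSpan (Finset.univ : Finset (Fin n)) ≤ Submodule.span ℚ {(1 : Cl n)} := by
  unfold evenSpan
  rw [Submodule.span_le]
  rintro _ ⟨l, hl, rfl⟩
  rcases wd_eq_one_or_neg_one l.length l rfl (fun c => hl c (Finset.mem_univ c)) with h | h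
  · rw [h]; exact Submodule.subset_span rfl
  · rw [h]; exact Submodule.neg_mem _ (Submodule.subset_span rfl)

/-- An even element of the Clifford algebra commuting with all basis vectors is a scalar. -/
theorem exists_eq_algebraMap_of_commute (x : Cl n) (hx : ∀ c, x * e c = e c * x)
    (hev : involute x = x) : ∃ q : ℚ, x = algebraMap ℚ (Cl n) q := by
  have hth : ∀ c, theta c x = x := by
    intro c
    rw [theta_apply, hev, hx, ← mul_assoc, e_sq, one_mul]
  have h1 : ∀ S : Finset (Fin n), x ∈ evenSpan S := by
    intro S
    induction S using Finset.induction_on with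
    | empty => rw [evenSpan_empty]; trivial
    | insert c S _ ih => exact evenSpan_insert S c x ih (hth c)
  have h2 := evenSpan_univ_le (h1 Finset.univ)
  obtain ⟨q, hq⟩ := Submodule.mem_span_singleton.mp h2
  exact ⟨q, by rw [← hq, Algebra.algebraMap_eq_smul_one]⟩

end

end Cfsg.Agent.Lib.Helper70.Spin
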