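import Mathlib
import Cfsg.Agent.Lib.Helper49.StSUDefs

/-!
# K-StSU-C5a1 (keystone 254620): the elimination step `flagStab_step` for `SU_n(q)`

Route: ONE generic Siegel/Eichler element
`E(e_p, v, c) : x ↦ x + x_{rev p} v + (c x_{rev p} - hJ(x, v)) e_p`
(`p = j`: upper triangular, `p = rev j`: lower triangular; `v` supported strictly between `j` and
`rev j`; `c + c^q = - hJ(v, v)`).  At most three such elements clear the column `j` below the
diagonal.
-/

set_option autoImplicit false
set_option linter.unusedSectionVars false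
set_option linter.unusedVariables false

namespace Cfsg.Agent.Lib.Helper70.StSU

open Cfsg Cfsg.Agent.Lib.Helper49.StSU Matrix

variable {n : ℕ} {F : Type*} [Field F] {q : ℕ}

/-! ### the form -/

theorem hJ_add_left (u u' v : Fin n → F) :
    hJ n F q (u + u') v = hJ n F q u v + hJ n F q u' v := by
  simp only [hJ, Pi.add_apply, add_mul, Finset.sum_add_distrib]

theorem hJ_smul_left (c : F) (u v : Fin n → F) : hJ n F q (c • u) v = c * hJ n F q u v := by
  simp only [hJ, Pi.smul_apply, smul_eq_mul, Finset.mul_sum, mul_assoc]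

theorem hJ_add_right (hadd : ∀ x y : F, (x + y) ^ q = x ^ q + y ^ q) (u v v' : Fin n → F) :
    hJ n F q u (v + v') = hJ n F q u v + hJ n F q u v' := by
  simp only [hJ, Pi.add_apply, hadd, mul_add, Finset.sum_add_distrib]

theorem hJ_smul_right (c : F) (u v : Fin n → F) : hJ n F q u (c • v) = c ^ q * hJ n F q u v := by
  simp only [hJ, Pi.smul_apply, smul_eq_mul, mul_pow, Finset.mul_sum]
  exact Finset.sum_congr rfl fun i _ => by ring

theorem q_ne_zero (ok : Ok n F q) : q ≠ 0 := by
  rintro rfl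
  have := ok.frob_frob 0
  simp at this

theorem neg_pow_q (ok : Ok n F q) (x : F) : (-x) ^ q = -(x ^ q) := by
  have h := ok.frob_add x (-x)
  rw [add_neg_cancel, zero_pow (q_ne_zero ok)] at h
  exact eq_neg_of_add_eq_zero_right h.symm

theorem sub_pow_q (ok : Ok n F q) (x y : F) : (x - y) ^ q = x ^ q - y ^ q := by
  rw [sub_eq_add_neg, ok.frob_add, neg_pow_q ok, ← sub_eq_add_neg]

theorem sum_pow_q (ok : Ok n F q) {ι : Type*} (s : Finset ι) (f : ι → F) :
    (∑ i ∈ s, f i) ^ q = ∑ i ∈ s, (f i) ^ q := by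
  classical
  induction s using Finset.induction_on with
  | empty => simp [zero_pow (q_ne_zero ok)]
  | insert a s ha ih => rw [Finset.sum_insert ha, Finset.sum_insert ha, ok.frob_add, ih]

theorem hJ_symm (ok : Ok n F q) (u v : Fin n → F) : hJ n F q v u = (hJ n F q u v) ^ q := by
  unfold hJ
  rw [sum_pow_q ok]
  rw [← Equiv.sum_comp Fin.revPerm]
  refine Finset.sum_congr rfl fun i _ => ?_
  rw [Fin.revPerm_apply, mul_pow, ok.frob_frob, Fin.rev_rev, mul_comm]

theorem hJ_single_right (ok : Ok n F q) (x : Fin n → F) (p : Fin n) :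
    hJ n F q x (Pi.single p 1) = x (Fin.rev p) := by
  unfold hJ
  rw [Finset.sum_eq_single (Fin.rev p)]
  · rw [Fin.rev_rev, Pi.single_eq_same, one_pow, mul_one]
  · intro b _ hb
    have : Fin.rev b ≠ p := fun h => hb (by rw [← h, Fin.rev_rev])
    rw [Pi.single_eq_of_ne this, zero_pow (q_ne_zero ok), mul_zero]
  · intro h; exact absurd (Finset.mem_univ _) h

theorem hJ_single_left (x : Fin n → F) (p : Fin n) :
    hJ n F q (Pi.single p 1) x = (x (Fin.rev p)) ^ q := by
  unfold hJ
  rw [Finset.sum_eq_single p]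
  · rw [Pi.single_eq_same, one_mul]
  · intro b _ hb
    rw [Pi.single_eq_of_ne hb, zero_mul]
  · intro h; exact absurd (Finset.mem_univ _) h

theorem hJ_zero_right (ok : Ok n F q) (x : Fin n → F) : hJ n F q x 0 = 0 := by
  simp [hJ, zero_pow (q_ne_zero ok)]

/-! ### the Siegel element -/

/-- `x ↦ x + x_{rev p} v + (c x_{rev p} - hJ(x, v)) e_p` -/
def siegFun (q : ℕ) (p : Fin n) (v : Fin n → F) (c : F) (x : Fin n → F) : Fin n → F :=
  x + x (Fin.rev p) • v + (c * x (Fin.rev p) - hJ n F q x v) • Pi.single p 1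

theorem siegFun_apply (p : Fin n) (v : Fin n → F) (c : F) (x : Fin n → F) (a : Fin n) :
    siegFun q p v c x a =
      x a + x (Fin.rev p) * v a + (c * x (Fin.rev p) - hJ n F q x v) * (if a = p then 1 else 0) := by
  simp only [siegFun, Pi.add_apply, Pi.smul_apply, smul_eq_mul, Pi.single_apply]

theorem hJ_siegFun (ok : Ok n F q) (p : Fin n) (hp : Fin.rev p ≠ p) (v : Fin n → F)
    (hv : v (Fin.rev p) = 0) (c : F) (hc : c + c ^ q = -hJ n F q v v) (x y : Fin n → F) :
    hJ n F q (siegFun q p v c x) (siegFun q p v c y) = hJ n F q x y := by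
  have hadd := ok.frob_add
  have huu : hJ n F q (Pi.single p (1 : F)) (Pi.single p 1) = 0 := by
    rw [hJ_single_left, Pi.single_eq_of_ne hp, zero_pow (q_ne_zero ok)]
  have huv : hJ n F q (Pi.single p (1 : F)) v = 0 := by
    rw [hJ_single_left, hv, zero_pow (q_ne_zero ok)]
  have hvu : hJ n F q v (Pi.single p (1 : F)) = 0 := by
    rw [hJ_single_right ok, hv]
  have hvy : hJ n F q v y = (hJ n F q y v) ^ q := hJ_symm ok y v
  unfold siegFun
  simp only [hJ_add_left, hJ_add_right hadd, hJ_smul_left, hJ_smul_right, hJ_single_right ok,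
    hJ_single_left, huv, hvy, sub_pow_q ok, mul_pow, Pi.add_apply, Pi.smul_apply,
    smul_eq_mul, Pi.single_eq_of_ne hp, hv, mul_zero, add_zero]
  linear_combination (x (Fin.rev p) * (y (Fin.rev p)) ^ q) * hc

/-- the matrix of the Siegel element -/
def siegMat (q : ℕ) (p : Fin n) (v : Fin n → F) (c : F) : Matrix (Fin n) (Fin n) F :=
  fun a b => (if a = b then 1 else 0) + (if b = Fin.rev p then v a else 0) +
    (if a = p then (if b = Fin.rev p then c else 0) - (v (Fin.rev b)) ^ q else 0)

theorem siegMat_mulVec (p : Fin n) (v : Fin n → F) (c : F) (x : Fin n → F) :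
    siegMat q p v c *ᵥ x = siegFun q p v c x := by
  funext a
  rw [siegFun_apply]
  simp only [Matrix.mulVec, dotProduct, siegMat, add_mul, Finset.sum_add_distrib, ite_mul,
    one_mul, zero_mul, Finset.sum_ite_eq, Finset.sum_ite_eq', Finset.mem_univ, if_true]
  by_cases hap : a = p
  · simp only [hap, if_true, sub_mul, Finset.sum_sub_distrib, ite_mul, zero_mul,
      Finset.sum_ite_eq', Finset.mem_univ, mul_one, hJ]
    have : ∑ i, v (Fin.rev i) ^ q * x i = ∑ i, x i * v (Fin.rev i) ^ q :=
      Finset.sum_congr rfl fun i _ => mul_comm _ _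
    rw [this]
    ring
  · simp only [hap, if_false, Finset.sum_const_zero, mul_zero, add_zero]
    ring

theorem siegMat_diag (ok : Ok n F q) (p : Fin n) (hp : Fin.rev p ≠ p) (v : Fin n → F)
    (hv : v (Fin.rev p) = 0) (c : F) (a : Fin n) : siegMat q p v c a a = 1 := by
  unfold siegMat
  by_cases h1 : a = Fin.rev p
  · have h2 : a ≠ p := fun h => hp (h1 ▸ h)
    simp [h1, hv, hp]
  · by_cases h2 : a = p
    · subst h2
      simp [h1, hv, zero_pow (q_ne_zero ok)]
    · simp [h1, h2]

theorem siegMat_upper (ok : Ok n F q) (p : Fin n) (hp : p < Fin.rev p) (v : Fin n → F)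
    (hv : ∀ a, v a ≠ 0 → p < a ∧ a < Fin.rev p) (c : F) :
    (siegMat q p v c).BlockTriangular id := by
  intro a b hab
  have hab' : b < a := hab
  unfold siegMat
  have h1 : ¬ a = b := fun h => by subst h; exact lt_irrefl _ hab'
  have h2 : (if b = Fin.rev p then v a else 0) = 0 := by
    split_ifs with h
    · by_contra hva
      have := (hv a hva).2
      rw [← h] at this
      exact lt_asymm this hab'
    · rfl
  have h3 : (if a = p then (if b = Fin.rev p then c else 0) - (v (Fin.rev b)) ^ q else 0) = 0 := by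
    split_ifs with h h'
    · exfalso
      rw [h, h'] at hab'
      exact lt_asymm hab' hp
    · have : v (Fin.rev b) = 0 := by
        by_contra hvb
        have := (hv _ hvb).2
        rw [Fin.rev_lt_rev] at this
        rw [h] at hab'
        exact lt_asymm this hab'
      rw [this, zero_pow (q_ne_zero ok), sub_zero]
    · rfl
  rw [if_neg h1, h2, h3]
  simp

theorem siegMat_lower (ok : Ok n F q) (p : Fin n) (hp : p < Fin.rev p) (v : Fin n → F)
    (hv : ∀ a, v a ≠ 0 → p < a ∧ a < Fin.rev p) (c : F) :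
    (siegMat q (Fin.rev p) v c).BlockTriangular (⇑OrderDual.toDual) := by
  intro a b hab
  have hab' : a < b := hab
  unfold siegMat
  rw [Fin.rev_rev]
  have h1 : ¬ a = b := fun h => by subst h; exact lt_irrefl _ hab'
  have h2 : (if b = p then v a else 0) = 0 := by
    split_ifs with h
    · by_contra hva
      have := (hv a hva).1
      rw [← h] at this
      exact lt_asymm this hab'
    · rfl
  have h3 : (if a = Fin.rev p then (if b = p then c else 0) - (v (Fin.rev b)) ^ q else 0) = 0 := by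
    split_ifs with h h'
    · exfalso
      rw [h, h'] at hab'
      exact lt_asymm hab' hp
    · have : v (Fin.rev b) = 0 := by
        by_contra hvb
        have := (hv _ hvb).1
        rw [h] at hab'
        have h4 : Fin.rev b < p := by
          rw [← Fin.rev_lt_rev, Fin.rev_rev]; exact hab'
        exact lt_asymm this h4
      rw [this, zero_pow (q_ne_zero ok), sub_zero]
    · rfl
  rw [if_neg h1, h2, h3]
  simp

/-- the upper Siegel element as an element of the group -/
theorem exists_sieg_upper (ok : Ok n F q) (p : Fin n) (hp : p < Fin.rev p) (v : Fin n → F)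
    (hv : ∀ a, v a ≠ 0 → p < a ∧ a < Fin.rev p) (c : F) (hc : c + c ^ q = -hJ n F q v v) :
    ∃ g : GJ n F q, g ∈ Bsub n F q ∧ ∀ x, mat g *ᵥ x = siegFun q p v c x := by
  have hp' : Fin.rev p ≠ p := ne_of_gt hp
  have hv0 : v (Fin.rev p) = 0 := by
    by_contra h
    exact lt_irrefl _ (hv _ h).2
  have htri := siegMat_upper ok p hp v hv c
  have hdet : (siegMat q p v c).det = 1 := by
    rw [Matrix.det_of_isUpperTriangular htri]
    simp [siegMat_diag ok p hp' v hv0 c]
  have hpres : ∀ x y, hJ n F q (siegMat q p v c *ᵥ x) (siegMat q p v c *ᵥ y) = hJ n F q x y := by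
    intro x y
    rw [siegMat_mulVec, siegMat_mulVec]
    exact hJ_siegFun ok p hp' v hv0 c hc x y
  refine ⟨⟨⟨siegMat q p v c, hdet⟩, hpres⟩, ?_, fun x => siegMat_mulVec p v c x⟩
  exact htri

/-- the lower Siegel element as an element of the group -/
theorem exists_sieg_lower (ok : Ok n F q) (p : Fin n) (hp : p < Fin.rev p) (v : Fin n → F)
    (hv : ∀ a, v a ≠ 0 → p < a ∧ a < Fin.rev p) (c : F) (hc : c + c ^ q = -hJ n F q v v) :
    ∃ g : GJ n F q, g ∈ Bminus n F q ∧ ∀ x, mat g *ᵥ x = siegFun q (Fin.rev p) v c x := by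
  have hp' : Fin.rev (Fin.rev p) ≠ Fin.rev p := by rw [Fin.rev_rev]; exact ne_of_lt hp
  have hv0 : v (Fin.rev (Fin.rev p)) = 0 := by
    rw [Fin.rev_rev]
    by_contra h
    exact lt_irrefl _ (hv _ h).1
  have htri := siegMat_lower ok p hp v hv c
  have hdet : (siegMat q (Fin.rev p) v c).det = 1 := by
    rw [Matrix.det_of_isLowerTriangular _ htri]
    simp [siegMat_diag ok (Fin.rev p) hp' v hv0 c]
  have hpres : ∀ x y, hJ n F q (siegMat q (Fin.rev p) v c *ᵥ x) (siegMat q (Fin.rev p) v c *ᵥ y) =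
      hJ n F q x y := by
    intro x y
    rw [siegMat_mulVec, siegMat_mulVec]
    exact hJ_siegFun ok (Fin.rev p) hp' v hv0 c hc x y
  refine ⟨⟨⟨siegMat q (Fin.rev p) v c, hdet⟩, hpres⟩, ?_, fun x => siegMat_mulVec _ v c x⟩
  exact htri

/-! ### the elimination on vectors -/

theorem siegFun_fix (ok : Ok n F q) (p : Fin n) (hp : p < Fin.rev p) (v : Fin n → F)
    (hv : ∀ a, v a ≠ 0 → p < a ∧ a < Fin.rev p) (c : F) (p' : Fin n)
    (hp' : p' = p ∨ p' = Fin.rev p) (x : Fin n → F) (hx : ∀ l, p ≤ l → x l = 0) :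
    siegFun q p' v c x = x := by
  have h1 : x (Fin.rev p') = 0 := by
    rcases hp' with rfl | rfl
    · exact hx _ (le_of_lt hp)
    · rw [Fin.rev_rev]; exact hx _ le_rfl
  have h2 : hJ n F q x v = 0 := by
    unfold hJ
    refine Finset.sum_eq_zero fun i _ => ?_
    by_cases hi : p ≤ i
    · rw [hx i hi, zero_mul]
    · have : v (Fin.rev i) = 0 := by
        by_contra hvi
        have := (hv _ hvi).2
        rw [Fin.rev_lt_rev] at this
        exact hi (le_of_lt this)
      rw [this, zero_pow (q_ne_zero ok), mul_zero]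
  unfold siegFun
  rw [h1, h2]
  simp

theorem exists_clear_of_ne (ok : Ok n F q) (p : Fin n) (hp : p < Fin.rev p) (w : Fin n → F)
    (hw0 : hJ n F q w w = 0) (hwtop : ∀ l, Fin.rev p < l → w l = 0) (hβ : w (Fin.rev p) ≠ 0) :
    ∃ h ∈ Bsub n F q ⊔ Bminus n F q,
      (∀ x : Fin n → F, (∀ l, p ≤ l → x l = 0) → mat h *ᵥ x = x) ∧
      ∀ l, p < l → (mat h *ᵥ w) l = 0 := by
  obtain ⟨β, hβdef⟩ : ∃ β, β = w (Fin.rev p) := ⟨_, rfl⟩
  rw [← hβdef] at hβ
  -- middle part
  let v : Fin n → F := fun a => if p < a ∧ a < Fin.rev p then -β⁻¹ * w a else 0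
  have hv : ∀ a, v a ≠ 0 → p < a ∧ a < Fin.rev p := by
    intro a ha
    by_contra hcon
    exact ha (if_neg hcon)
  have hvfix : (hJ n F q v v) ^ q = hJ n F q v v := (hJ_symm ok v v).symm
  have hvfix' : (-hJ n F q v v) ^ q = -hJ n F q v v := by rw [neg_pow_q ok, hvfix]
  obtain ⟨c₀, hc₀⟩ := ok.tr_surj _ hvfix'
  have ha0 : aPar F q + (aPar F q) ^ q = 0 := by rw [ok.a_pow]; ring
  -- choice of c
  obtain ⟨c, hc, hα⟩ : ∃ c : F, c + c ^ q = -hJ n F q v v ∧
      w p + (c * β - hJ n F q w v) ≠ 0 := by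
    by_cases h : w p + (c₀ * β - hJ n F q w v) = 0
    · refine ⟨c₀ + aPar F q, ?_, ?_⟩
      · rw [ok.frob_add]; linear_combination hc₀ + ha0
      · have : w p + ((c₀ + aPar F q) * β - hJ n F q w v) = aPar F q * β := by
          linear_combination h
        rw [this]
        exact mul_ne_zero ok.a_ne hβ
    · exact ⟨c₀, hc₀, h⟩
  obtain ⟨α, hαdef⟩ : ∃ α, α = w p + (c * β - hJ n F q w v) := ⟨_, rfl⟩
  rw [← hαdef] at hα
  obtain ⟨g₁, hg₁B, hg₁⟩ := exists_sieg_upper ok p hp v hv c hc
  obtain ⟨w₁, hw₁def⟩ : ∃ w₁, w₁ = siegFun q p v c w := ⟨_, rfl⟩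
  have hvp : v p = 0 := if_neg (fun h => lt_irrefl _ h.1)
  have hvr : v (Fin.rev p) = 0 := if_neg (fun h => lt_irrefl _ h.2)
  -- coordinates of w₁
  have hw₁p : w₁ p = α := by
    rw [hw₁def, siegFun_apply, if_pos rfl, hvp, hαdef, ← hβdef]; ring
  have hw₁r : w₁ (Fin.rev p) = β := by
    rw [hw₁def, siegFun_apply, if_neg (ne_of_gt hp), hvr, ← hβdef]; ring
  have hw₁mid : ∀ l, p < l → l < Fin.rev p → w₁ l = 0 := by
    intro l h1 h2
    rw [hw₁def, siegFun_apply, if_neg (ne_of_gt h1), ← hβdef]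
    have : v l = -β⁻¹ * w l := if_pos ⟨h1, h2⟩
    rw [this]
    field_simp
    ring
  have hw₁top : ∀ l, Fin.rev p < l → w₁ l = 0 := by
    intro l h1
    rw [hw₁def, siegFun_apply, if_neg (ne_of_gt (lt_trans hp h1)), hwtop l h1]
    have : v l = 0 := if_neg (fun h => lt_asymm h.2 h1)
    rw [this]; ring
  -- isotropy of w₁
  have hw₁0 : hJ n F q w₁ w₁ = 0 := by
    rw [hw₁def, hJ_siegFun ok p (ne_of_gt hp) v hvr c hc, hw0]
  have hiso : α * β ^ q + β * α ^ q = 0 := by
    have : hJ n F q w₁ w₁ =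
        w₁ p * (w₁ (Fin.rev p)) ^ q + w₁ (Fin.rev p) * (w₁ (Fin.rev (Fin.rev p))) ^ q := by
      unfold hJ
      apply Finset.sum_eq_add p (Fin.rev p) (ne_of_lt hp)
      · intro i _ hi
        rcases lt_trichotomy i p with h | h | h
        · have : Fin.rev p < Fin.rev i := Fin.rev_lt_rev.2 h
          rw [hw₁top _ this, zero_pow (q_ne_zero ok), mul_zero]
        · exact absurd h hi.1
        · rcases lt_trichotomy i (Fin.rev p) with h' | h' | h'
          · rw [hw₁mid i h h', zero_mul]
          · exact absurd h' hi.2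
          · rw [hw₁top i h', zero_mul]
      · intro h; exact absurd (Finset.mem_univ _) h
      · intro h; exact absurd (Finset.mem_univ _) h
    rw [this, Fin.rev_rev, hw₁p, hw₁r] at hw₁0
    exact hw₁0
  -- the lower element
  have hqα : α ^ q ≠ 0 := pow_ne_zero _ hα
  obtain ⟨c₃, hc₃def⟩ : ∃ c₃, c₃ = -β / α := ⟨_, rfl⟩
  have hc₃ : c₃ + c₃ ^ q = -hJ n F q (0 : Fin n → F) 0 := by
    rw [hJ_zero_right ok, neg_zero, hc₃def, div_pow, neg_pow_q ok]
    field_simp
    linear_combination -hiso
  have hv0 : ∀ a, (0 : Fin n → F) a ≠ 0 → p < a ∧ a < Fin.rev p := fun a ha => absurd rfl ha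
  obtain ⟨g₃, hg₃B, hg₃⟩ := exists_sieg_lower ok p hp 0 hv0 c₃ hc₃
  refine ⟨g₃ * g₁, ?_, ?_, ?_⟩
  · rw [sup_comm]; exact Subgroup.mul_mem_sup hg₃B hg₁B
  · intro x hx
    rw [mat_mul, ← Matrix.mulVec_mulVec, hg₁, siegFun_fix ok p hp v hv c p (Or.inl rfl) x hx, hg₃,
      siegFun_fix ok p hp 0 hv0 c₃ _ (Or.inr rfl) x hx]
  · intro l hl
    rw [mat_mul, ← Matrix.mulVec_mulVec, hg₁, hg₃, ← hw₁def, siegFun_apply, Fin.rev_rev,
      hJ_zero_right ok]
    by_cases hlr : l = Fin.rev p
    · rw [if_pos hlr, hlr, hw₁r, hw₁p, hc₃def]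
      simp only [Pi.zero_apply, mul_zero, add_zero, sub_zero, mul_one]
      field_simp
      ring
    · rw [if_neg hlr]
      rcases lt_or_gt_of_ne hlr with h | h
      · rw [hw₁mid l hl h]; simp
      · rw [hw₁top l h]; simp

theorem exists_clear (ok : Ok n F q) (p : Fin n) (hp : p < Fin.rev p) (w : Fin n → F)
    (hw0 : hJ n F q w w = 0) (hwtop : ∀ l, Fin.rev p < l → w l = 0) :
    ∃ h ∈ Bsub n F q ⊔ Bminus n F q,
      (∀ x : Fin n → F, (∀ l, p ≤ l → x l = 0) → mat h *ᵥ x = x) ∧
      ∀ l, p < l → (mat h *ᵥ w) l = 0 := by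
  by_cases hβ : w (Fin.rev p) = 0
  · by_cases hall : ∀ l, p < l → w l = 0
    · refine ⟨1, Subgroup.one_mem _, fun x _ => by rw [mat_one, Matrix.one_mulVec],
        fun l hl => ?_⟩
      rw [mat_one, Matrix.one_mulVec]; exact hall l hl
    · have hex : ∃ l, p < l ∧ l < Fin.rev p ∧ l ≠ Fin.rev l ∧ w l ≠ 0 := by
        by_contra hcon
        push Not at hcon
        apply hall
        intro l hl
        rcases lt_trichotomy l (Fin.rev p) with h | h | h
        · by_cases hlr : l = Fin.rev l
          · have hsum : hJ n F q w w = w l * (w (Fin.rev l)) ^ q := by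
              unfold hJ
              apply Finset.sum_eq_single l
              · intro i _ hi
                rcases lt_trichotomy i p with h1 | h1 | h1
                · have : Fin.rev p < Fin.rev i := Fin.rev_lt_rev.2 h1
                  rw [hwtop _ this, zero_pow (q_ne_zero ok), mul_zero]
                · rw [h1, hβ, zero_pow (q_ne_zero ok), mul_zero]
                · rcases lt_trichotomy i (Fin.rev p) with h2 | h2 | h2
                  · have hne : i ≠ Fin.rev i := by
                      intro hi'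
                      apply hi
                      have e1 := congrArg Fin.val hi'
                      have e2 := congrArg Fin.val hlr
                      rw [Fin.val_rev] at e1 e2
                      apply Fin.ext; omega
                    rw [hcon i h1 h2 hne, zero_mul]
                  · rw [h2, hβ, zero_mul]
                  · rw [hwtop i h2, zero_mul]
              · intro h'; exact absurd (Finset.mem_univ _) h'
            rw [hw0, ← hlr, ← pow_succ'] at hsum
            exact (pow_eq_zero_iff (Nat.succ_ne_zero _)).1 hsum.symm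
          · exact hcon l hl h hlr
        · rw [h]; exact hβ
        · exact hwtop l h
      obtain ⟨l, hl1, hl2, hl3, hl4⟩ := hex
      -- lower element with `v' = e_{rev l}`, `c' = 0`
      have hv' : ∀ a, (Pi.single (Fin.rev l) (1 : F) : Fin n → F) a ≠ 0 →
          p < a ∧ a < Fin.rev p := by
        intro a ha
        have : a = Fin.rev l := by
          by_contra hne
          exact ha (Pi.single_eq_of_ne hne _)
        rw [this]
        constructor
        · have := Fin.rev_lt_rev.2 hl2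
          rwa [Fin.rev_rev] at this
        · exact Fin.rev_lt_rev.2 hl1
      have hvv : hJ n F q (Pi.single (Fin.rev l) (1 : F)) (Pi.single (Fin.rev l) 1) = 0 := by
        rw [hJ_single_left, Fin.rev_rev, Pi.single_eq_of_ne hl3, zero_pow (q_ne_zero ok)]
      have hc' : (0 : F) + 0 ^ q = -hJ n F q (Pi.single (Fin.rev l) (1 : F))
          (Pi.single (Fin.rev l) 1) := by
        rw [hvv, zero_pow (q_ne_zero ok)]; ring
      obtain ⟨g', hg'B, hg'⟩ := exists_sieg_lower ok p hp _ hv' 0 hc'
      obtain ⟨w', hw'def⟩ : ∃ w', w' = siegFun q (Fin.rev p) (Pi.single (Fin.rev l) (1 : F)) 0 w :=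
        ⟨_, rfl⟩
      have hw'0 : hJ n F q w' w' = 0 := by
        have hpp : Fin.rev (Fin.rev p) ≠ Fin.rev p := by rw [Fin.rev_rev]; exact ne_of_lt hp
        have hvz : (Pi.single (Fin.rev l) (1 : F) : Fin n → F) (Fin.rev (Fin.rev p)) = 0 := by
          rw [Fin.rev_rev]
          apply Pi.single_eq_of_ne
          intro h
          have := Fin.rev_lt_rev.2 hl2
          rw [Fin.rev_rev, ← h] at this
          exact lt_irrefl _ this
        rw [hw'def, hJ_siegFun ok (Fin.rev p) hpp _ hvz 0 hc', hw0]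
      have hw'top : ∀ l', Fin.rev p < l' → w' l' = 0 := by
        intro l' h1
        rw [hw'def, siegFun_apply, if_neg (ne_of_gt h1), hwtop l' h1]
        have : (Pi.single (Fin.rev l) (1 : F) : Fin n → F) l' = 0 := by
          apply Pi.single_eq_of_ne
          intro h
          rw [h] at h1
          exact lt_asymm h1 (Fin.rev_lt_rev.2 hl1)
        rw [this]; ring
      have hw'r : w' (Fin.rev p) ≠ 0 := by
        rw [hw'def, siegFun_apply, if_pos rfl, hβ, hJ_single_right ok, Fin.rev_rev, Fin.rev_rev]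
        have : (Pi.single (Fin.rev l) (1 : F) : Fin n → F) (Fin.rev p) = 0 := by
          apply Pi.single_eq_of_ne
          intro h
          rw [Fin.rev_inj] at h
          rw [h] at hl1
          exact lt_irrefl _ hl1
        rw [this]
        simpa using hl4
      obtain ⟨h₁, hh₁, hfix₁, hclear₁⟩ := exists_clear_of_ne ok p hp w' hw'0 hw'top hw'r
      refine ⟨h₁ * g', ?_, ?_, ?_⟩
      · exact Subgroup.mul_mem _ hh₁ (le_sup_right (a := Bsub n F q) hg'B)
      · intro x hx
        rw [mat_mul, ← Matrix.mulVec_mulVec, hg',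
          siegFun_fix ok p hp _ hv' 0 _ (Or.inr rfl) x hx, hfix₁ x hx]
      · intro l' hl'
        rw [mat_mul, ← Matrix.mulVec_mulVec, hg', ← hw'def]
        exact hclear₁ l' hl'
  · exact exists_clear_of_ne ok p hp w hw0 hwtop hβ

/-! ### the flag stabilisers -/

theorem flagStab_inv (j : ℕ) (g : GJ n F q) (hg : g ∈ FlagStab n F q j) :
    g⁻¹ ∈ FlagStab n F q j := by
  have h1 : (mat g).BlockTriangular (fun a : Fin n => min a.val j) := by
    intro x y hxy
    have hxy' : min y.val j < min x.val j := hxy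
    have h2 : y.val < j ∧ y.val < x.val := by omega
    exact hg y x h2.1 (Fin.lt_def.2 h2.2)
  have h2 := blockTriangular_inv _ g h1
  intro a b ha hab
  apply h2
  show min a.val j < min b.val j
  have : a.val < b.val := Fin.lt_def.1 hab
  omega

/-- KEYSTONE 254620  K-StSU-C5a1  `flagStab_step`: the elimination step. -/
theorem flagStab_step (ok : Ok n F q) (j : ℕ) (hj : j < n / 2) (g : GJ n F q)
    (hg : g ∈ FlagStab n F q j) :
    ∃ h ∈ Bsub n F q ⊔ Bminus n F q, h * g ∈ FlagStab n F q (j + 1) := by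
  have hjn : j < n := by omega
  obtain ⟨p, hpdef⟩ : ∃ p : Fin n, p.val = j := ⟨⟨j, hjn⟩, rfl⟩
  have hp : p < Fin.rev p := by
    rw [Fin.lt_def, Fin.val_rev, hpdef]; omega
  obtain ⟨w, hwdef⟩ : ∃ w : Fin n → F, w = fun l => mat g l p := ⟨_, rfl⟩
  have hwcol : w = mat g *ᵥ Pi.single p 1 := by
    rw [Matrix.mulVec_single_one, hwdef]; rfl
  have hw0 : hJ n F q w w = 0 := by
    rw [hwcol, hJ_mat, hJ_single_left, Pi.single_eq_of_ne (ne_of_gt hp), zero_pow (q_ne_zero ok)]
  have hginv := flagStab_inv j g hg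
  have hwtop : ∀ l, Fin.rev p < l → w l = 0 := by
    intro l hl
    have ha : Fin.rev l < p := by
      have := Fin.rev_lt_rev.2 hl
      rwa [Fin.rev_rev] at this
    have h1 : hJ n F q w (Pi.single (Fin.rev l) 1) = w l := by
      rw [hJ_single_right ok, Fin.rev_rev]
    have h2 : hJ n F q w (Pi.single (Fin.rev l) 1) =
        hJ n F q (Pi.single p 1) (mat g⁻¹ *ᵥ Pi.single (Fin.rev l) 1) := by
      have e : (Pi.single (Fin.rev l) 1 : Fin n → F) =
          mat g *ᵥ (mat g⁻¹ *ᵥ Pi.single (Fin.rev l) 1) := by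
        rw [Matrix.mulVec_mulVec, mat_mul_inv, Matrix.one_mulVec]
      rw [hwcol]
      conv_lhs => rw [e]
      rw [hJ_mat]
    rw [← h1, h2, hJ_single_left, Matrix.mulVec_single_one]
    have h3 : mat g⁻¹ (Fin.rev p) (Fin.rev l) = 0 :=
      hginv (Fin.rev l) (Fin.rev p) (by rw [← hpdef]; exact Fin.lt_def.1 ha) (lt_trans ha hp)
    show (mat g⁻¹ (Fin.rev p) (Fin.rev l)) ^ q = 0
    rw [h3, zero_pow (q_ne_zero ok)]
  obtain ⟨h, hh, hfix, hclear⟩ := exists_clear ok p hp w hw0 hwtop
  refine ⟨h, hh, ?_⟩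
  intro a b ha hab
  have hcol : mat (h * g) b a = (mat h *ᵥ (fun i => mat g i a)) b := by
    rw [mat_mul]; rfl
  rw [hcol]
  rcases Nat.lt_succ_iff_lt_or_eq.1 ha with ha' | ha'
  · have hap : a < p := by rw [Fin.lt_def, hpdef]; exact ha'
    rw [hfix _ (fun l hl => hg a l ha' (lt_of_lt_of_le hap hl))]
    exact hg a b ha' hab
  · have hap : a = p := Fin.ext (by rw [hpdef]; exact ha')
    rw [hap] at hab ⊢
    rw [← hwdef]
    exact hclear b hab

end Cfsg.Agent.Lib.Helper70.StSU
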