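import Mathlib
import Cfsg.Prelude.Def_Transfer
import Cfsg.Agent.Lib.Helper40.T1904Defs
import Cfsg.Agent.Lib.Helper03.PGroupFrattini
import Cfsg.Agent.Lib.Helper91.FrattiniElem

/-!
# K-S1904-7a `special_of_ea` (Thompson's lemma on 2-groups without `SCN_3`, the special case)
-/

set_option autoImplicit false

namespace Cfsg.Agent.Lib.Helper70.T1904

open Cfsg.Agent.Lib.Helper40.T1904
open scoped commutatorElement

variable {X : Type*} [Group X]

/-- If `X / N` is abelian, `A` has odd order and `[X, A] = X`, then `A` has no non-trivial fixed point on `X / N`. -/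
theorem fix_quot_aux [Finite X] {A : Subgroup (MulAut X)} (h : Ctx X A) (N : Subgroup X) (hNn : N.Normal)
    (hab : ∀ x y : X, ⁅x, y⁆ ∈ N) (x : X) (hx : ∀ φ ∈ A, x⁻¹ * φ x ∈ N) : x ∈ N := by
  classical
  have := hNn
  have : Fintype A := Fintype.ofFinite A
  have hcomm : ∀ a b : X ⧸ N, a * b = b * a := by
    intro a b
    obtain ⟨a, rfl⟩ := QuotientGroup.mk_surjective a
    obtain ⟨b, rfl⟩ := QuotientGroup.mk_surjective b
    rw [← QuotientGroup.mk_mul, ← QuotientGroup.mk_mul, QuotientGroup.eq]
    have : (a * b)⁻¹ * (b * a) = ⁅b⁻¹, a⁻¹⁆ := by rw [commutatorElement_def]; group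
    rw [this]
    exact hab _ _
  let _ : CommGroup (X ⧸ N) := { (inferInstance : Group (X ⧸ N)) with mul_comm := hcomm }
  let τ : X → X ⧸ N := fun y => ∏ φ : A, ((φ : MulAut X) y : X ⧸ N)
  have hτmul : ∀ a b, τ (a * b) = τ a * τ b := by
    intro a b
    show ∏ φ : A, (((φ : MulAut X) (a * b) : X) : X ⧸ N) = _
    rw [← Finset.prod_mul_distrib]
    refine Finset.prod_congr rfl fun φ _ => ?_
    rw [map_mul]
    rfl
  have hτone : τ 1 = 1 := by
    show ∏ φ : A, (((φ : MulAut X) 1 : X) : X ⧸ N) = 1
    refine Finset.prod_eq_one fun φ _ => ?_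
    rw [map_one]
    rfl
  have hτinv : ∀ a, τ a⁻¹ = (τ a)⁻¹ := by
    intro a
    have := hτmul a a⁻¹
    rw [mul_inv_cancel, hτone] at this
    exact (eq_inv_of_mul_eq_one_right this.symm)
  have hτact : ∀ φ₀ ∈ A, ∀ y, τ (φ₀ y) = τ y := by
    intro φ₀ hφ₀ y
    have := Equiv.prod_comp (Equiv.mulRight (⟨φ₀, hφ₀⟩ : A)) (fun ψ : A => (((ψ : MulAut X) y : X) : X ⧸ N))
    show ∏ φ : A, (((φ : MulAut X) (φ₀ y) : X) : X ⧸ N) = ∏ φ : A, (((φ : MulAut X) y : X) : X ⧸ N)
    exact this
  let T : Subgroup X :=
    { carrier := {y | τ y = 1}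
      one_mem' := hτone
      mul_mem' := by
        intro a b ha hb
        show τ (a * b) = 1
        rw [hτmul, ha, hb, mul_one]
      inv_mem' := by
        intro a ha
        show τ a⁻¹ = 1
        rw [hτinv, ha, inv_one] }
  have hT : T = ⊤ := by
    rw [eq_top_iff, ← h.hgen, Subgroup.closure_le]
    rintro g ⟨φ, hφ, y, rfl⟩
    show τ (y⁻¹ * φ y) = 1
    rw [hτmul, hτinv, hτact φ hφ, inv_mul_cancel]
  have hx1 : τ x = 1 := by
    have : x ∈ T := by rw [hT]; exact Subgroup.mem_top x
    exact this
  have hx2 : τ x = (x : X ⧸ N) ^ Fintype.card A := by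
    show ∏ φ : A, (((φ : MulAut X) x : X) : X ⧸ N) = _
    have : ∀ φ : A, (((φ : MulAut X) x : X) : X ⧸ N) = (x : X ⧸ N) := by
      intro φ
      exact (QuotientGroup.eq.mpr (hx φ φ.2)).symm
    rw [Finset.prod_congr rfl (fun φ _ => this φ), Finset.prod_const, Finset.card_univ]
  have hx3 : (x : X ⧸ N) ^ Nat.card A = 1 := by
    rw [Nat.card_eq_fintype_card, ← hx2, hx1]
  obtain ⟨k, hk⟩ := h.h2 x
  have hx4 : (x : X ⧸ N) ^ (2 ^ k) = 1 := by
    rw [← QuotientGroup.mk_pow, hk]
    rfl
  have hcop : Nat.Coprime (Nat.card A) (2 ^ k) :=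
    Nat.Coprime.pow_right k (Nat.coprime_two_left.mpr h.hodd).symm
  have hx5 : orderOf (x : X ⧸ N) ∣ 1 := by
    rw [← Nat.Coprime.gcd_eq_one hcop]
    exact Nat.dvd_gcd (orderOf_dvd_of_pow_eq_one hx3) (orderOf_dvd_of_pow_eq_one hx4)
  have hx6 : (x : X ⧸ N) = 1 := orderOf_eq_one_iff.mp (Nat.dvd_one.mp hx5)
  exact (QuotientGroup.eq_one_iff x).mp hx6

theorem char_mem_iff {H : Subgroup X} [hH : H.Characteristic] (φ : MulAut X) (n : X) :
    φ n ∈ H ↔ n ∈ H := by
  have := SetLike.ext_iff.mp (hH.fixed φ) n
  rw [Subgroup.mem_comap] at this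
  simpa using this

/-- K7a.  The special case: structure. -/
theorem special_of_ea [Finite X] {A : Subgroup (MulAut X)} (h : Ctx X A)
    (hna : ¬ IsMulCommutative X) (hea : EAmodZ X) (hZ2 : ∀ z ∈ Subgroup.center X, z * z = 1)
    (hZ : Nat.card (Subgroup.center X) = 4) :
    Cfsg.IsSpecial 2 X ∧ Nat.card {x : X // orderOf x = 2} = 3 ∧
      (∀ x : X, orderOf x = 2 → x ∈ Subgroup.center X) ∧
      (∀ x : X, x * x = 1 → x ∈ Subgroup.center X) ∧ commutator X = Subgroup.center X := by
  classical
  have : Fact (Nat.Prime 2) := ⟨Nat.prime_two⟩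
  -- (1) commutator X = Z
  have hcZ : commutator X ≤ Subgroup.center X := by
    rw [commutator_def, Subgroup.commutator_le]
    intro a _ b _
    exact hea.2 a b
  have hcne : commutator X ≠ ⊥ := by
    intro h0
    apply hna
    rw [isMulCommutative_iff]
    intro a b
    have h1 : ⁅a, b⁆ ∈ commutator X := by
      rw [commutator_def]
      exact Subgroup.commutator_mem_commutator (Subgroup.mem_top a) (Subgroup.mem_top b)
    rw [h0, Subgroup.mem_bot, commutatorElement_eq_one_iff_mul_comm] at h1
    exact h1
  have hZcard : ((Subgroup.center X : Subgroup X) : Set X).ncard = 4 := by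
    rw [← Nat.card_coe_set_eq]
    exact hZ
  have hcomm : commutator X = Subgroup.center X := by
    by_contra hne
    have hdvd : Nat.card (commutator X) ∣ 4 := hZ ▸ Subgroup.card_dvd_of_le hcZ
    have hne1 : Nat.card (commutator X) ≠ 1 := by
      intro h1
      exact hcne (Subgroup.card_eq_one.mp h1)
    have hne4 : Nat.card (commutator X) ≠ 4 := by
      intro h4
      exact hne (Subgroup.eq_of_le_of_card_ge hcZ (by rw [hZ, h4]))
    have h2 : Nat.card (commutator X) = 2 := by
      have hle : Nat.card (commutator X) ≤ 4 := Nat.le_of_dvd (by norm_num) hdvd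
      have hpos : 0 < Nat.card (commutator X) := Nat.card_pos
      interval_cases hc : Nat.card (commutator X) <;> simp_all
    have hidx : ((commutator X).subgroupOf (Subgroup.center X)).index = 2 := by
      have e1 : Nat.card ((commutator X).subgroupOf (Subgroup.center X)) = 2 := by
        rw [← h2]
        exact Nat.card_congr (Subgroup.subgroupOfEquivOfLe hcZ).toEquiv
      have e2 := Subgroup.card_mul_index ((commutator X).subgroupOf (Subgroup.center X))
      rw [e1, hZ] at e2
      omega
    obtain ⟨z, hzZ, hzN⟩ : ∃ z ∈ Subgroup.center X, z ∉ commutator X := by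
      by_contra hcon
      apply hne
      refine le_antisymm hcZ ?_
      intro z hz
      by_contra hzn
      exact hcon ⟨z, hz, hzn⟩
    apply hzN
    refine fix_quot_aux h (commutator X) inferInstance (fun a b => ?_) z ?_
    · rw [commutator_def]
      exact Subgroup.commutator_mem_commutator (Subgroup.mem_top a) (Subgroup.mem_top b)
    · intro φ _
      have hφZ : φ z ∈ Subgroup.center X := (char_mem_iff φ z).mpr hzZ
      have hφN : φ z ∉ commutator X := fun h1 => hzN ((char_mem_iff φ z).mp h1)
      have key := (Subgroup.mul_mem_iff_of_index_two hidx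
        (a := (⟨z⁻¹, (Subgroup.center X).inv_mem hzZ⟩ : Subgroup.center X))
        (b := (⟨φ z, hφZ⟩ : Subgroup.center X))).mpr
      have h3 : (⟨z⁻¹, (Subgroup.center X).inv_mem hzZ⟩ : Subgroup.center X) *
          (⟨φ z, hφZ⟩ : Subgroup.center X) ∈ (commutator X).subgroupOf (Subgroup.center X) := by
        apply key
        simp only [Subgroup.mem_subgroupOf]
        constructor
        · intro h1
          exact absurd ((commutator X).inv_mem_iff.mp h1) hzN
        · intro h1
          exact absurd h1 hφN
      simpa [Subgroup.mem_subgroupOf] using h3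
  -- (2) frattini
  have hfle : frattini X ≤ Subgroup.center X :=
    Cfsg.Agent.Lib.Helper91.frattini_le_of_sq_comm (Subgroup.center X) hea.1
      (fun x y => by have := hea.2 x y; rwa [commutatorElement_def] at this)
  have hfge : Subgroup.center X ≤ frattini X := by
    rw [← hcomm]
    exact Cfsg.Agent.Lib.Helper03.commutator_le_frattini_of_isPGroup h.h2
  -- (3) involutions are central
  have hinv : ∀ t : X, t * t = 1 → t ∈ Subgroup.center X := by
    intro t ht
    by_contra htZ
    let S : Set X := insert t ((Subgroup.center X : Subgroup X) : Set X)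
    have hScomm : ∀ a ∈ S, ∀ b ∈ S, a * b = b * a := by
      intro a ha b hb
      rcases Set.mem_insert_iff.mp ha with rfl | ha
      · rcases Set.mem_insert_iff.mp hb with rfl | hb
        · rfl
        · exact Subgroup.mem_center_iff.mp hb a
      · exact (Subgroup.mem_center_iff.mp ha b).symm
    have hNab : Ab (Subgroup.closure S) := by
      have hc := Subgroup.isMulCommutative_closure hScomm
      intro a ha b hb
      have := (isMulCommutative_iff.mp hc) ⟨a, ha⟩ ⟨b, hb⟩
      exact congrArg Subtype.val this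
    have hNn : (Subgroup.closure S).Normal := by
      constructor
      intro n hn g
      induction hn using Subgroup.closure_induction with
      | mem x hx =>
        rcases Set.mem_insert_iff.mp hx with rfl | hx
        · have e : g * x * g⁻¹ = ⁅g, x⁆ * x := by rw [commutatorElement_def]; group
          rw [e]
          exact (Subgroup.closure S).mul_mem (Subgroup.subset_closure (Set.mem_insert_of_mem _ (hea.2 g x)))
            (Subgroup.subset_closure (Set.mem_insert _ _))
        · have e : g * x * g⁻¹ = x := by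
            rw [Subgroup.mem_center_iff.mp hx g]; group
          rw [e]
          exact Subgroup.subset_closure (Set.mem_insert_of_mem _ hx)
      | one => simp
      | mul a b _ _ ha hb =>
        have e : g * (a * b) * g⁻¹ = (g * a * g⁻¹) * (g * b * g⁻¹) := by group
        rw [e]
        exact (Subgroup.closure S).mul_mem ha hb
      | inv a _ ha =>
        have e : g * a⁻¹ * g⁻¹ = (g * a * g⁻¹)⁻¹ := by group
        rw [e]
        exact (Subgroup.closure S).inv_mem ha
    have hle := h.hR (Subgroup.closure S) hNn hNab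
    have hsub : S ⊆ {x | x ∈ Subgroup.closure S ∧ x * x = 1} := by
      intro x hx
      refine ⟨Subgroup.subset_closure hx, ?_⟩
      rcases Set.mem_insert_iff.mp hx with rfl | hx
      · exact ht
      · exact hZ2 x hx
    have hScard : S.ncard = 5 := by
      rw [Set.ncard_insert_of_notMem htZ (Set.toFinite _), hZcard]
    have h5 : S.ncard ≤ {x | x ∈ Subgroup.closure S ∧ x * x = 1}.ncard :=
      Set.ncard_le_ncard hsub (Set.toFinite _)
    have h6 : Nat.card {t : X // t ∈ Subgroup.closure S ∧ t * t = 1} =
        {x | x ∈ Subgroup.closure S ∧ x * x = 1}.ncard := Nat.card_coe_set_eq _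
    omega
  have hord : ∀ x : X, orderOf x = 2 → x ∈ Subgroup.center X := by
    intro x hx
    apply hinv
    have := pow_orderOf_eq_one x
    rw [hx, pow_two] at this
    exact this
  -- (5) count
  have hcount : Nat.card {x : X // orderOf x = 2} = 3 := by
    have hset : {x : X | orderOf x = 2} = ((Subgroup.center X : Subgroup X) : Set X) \ {1} := by
      ext x
      simp only [Set.mem_ofPred_eq, Set.mem_sdiff, SetLike.mem_coe, Set.mem_singleton_iff]
      constructor
      · intro hx
        refine ⟨hord x hx, ?_⟩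
        rintro rfl
        rw [orderOf_one] at hx
        omega
      · rintro ⟨hxZ, hx1⟩
        exact orderOf_eq_prime (by rw [pow_two]; exact hZ2 x hxZ) hx1
    have e : Nat.card {x : X // orderOf x = 2} = ({x : X | orderOf x = 2}).ncard :=
      Nat.card_coe_set_eq _
    rw [e, hset, Set.ncard_sdiff_singleton_of_mem (Subgroup.center X).one_mem, hZcard]
  exact ⟨⟨h.h2, le_antisymm hfle hfge, hcomm⟩, hcount, hord, hinv, hcomm⟩

end Cfsg.Agent.Lib.Helper70.T1904
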