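import Cfsg.Agent.Lib.Helper43.UFBasic

set_option autoImplicit false
set_option linter.unusedSimpArgs false
set_option linter.unusedVariables false
set_option linter.unusedSectionVars false

/-! S5700 keystone 570009 (K-UF-T1a): the Eichler step for a type I pair. -/

namespace Cfsg.Agent.Lib.Helper70.UF

open Module Matrix Cfsg.Agent.Lib.Helper19 Cfsg.Agent.Lib.Helper43 Cfsg.Agent.Lib.Helper43.UF

variable {F : Type*} [Field F] [Fintype F] {ι : Type} [Fintype ι] [DecidableEq ι]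
variable {Q : QuadraticForm F (ι → F)}
variable (hQ : (QuadraticMap.polarBilin Q).Nondegenerate) (hn : 7 ≤ Fintype.card ι)

local notation "ℬ" => QuadraticMap.polarBilin Q

/-- `x, J x ∈ KL x` -/
theorem t1a_self_mem_KL (U : UData Q) (x : ι → F) : x ∈ KL U x :=
  Submodule.subset_span (by simp)

theorem t1a_J_self_mem_KL (U : UData Q) (x : ι → F) : U.J x ∈ KL U x :=
  Submodule.subset_span (by simp)

/-- a `J`-stable subspace containing `x` contains `KL x` -/
theorem t1a_KL_le (U : UData Q) (R : Submodule F (ι → F)) (hR : ∀ z ∈ R, U.J z ∈ R) (x : ι → F)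
    (hx : x ∈ R) : KL U x ≤ R := by
  unfold KL
  rw [Submodule.span_le]
  intro z hz
  rcases hz with rfl | hz
  · exact hx
  · rw [Set.mem_singleton_iff] at hz
    rw [hz]; exact hR x hx

theorem t1a_sup_J_stable (U : UData Q) (x y : ι → F) :
    ∀ z ∈ KL U x ⊔ KL U y, U.J z ∈ KL U x ⊔ KL U y := by
  intro z hz
  obtain ⟨z1, hz1, z2, hz2, rfl⟩ := Submodule.mem_sup.mp hz
  rw [map_add]
  exact Submodule.add_mem _ (Submodule.mem_sup_left (J_mem_KL U x z1 hz1))
    (Submodule.mem_sup_right (J_mem_KL U y z2 hz2))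

/-- if `c ⊥ x, J x` then `HOrth c x` -/
theorem t1a_hOrth_of_orth (U : UData Q) (c x : ι → F) (h1 : ℬ x c = 0) (h2 : ℬ (U.J x) c = 0) :
    U.HOrth c x := by
  have h : U.HOrth x c := ⟨h1, h2⟩
  exact h.symm

/-- the action of a unitary Eichler element `eich c y` (`y` singular) on `b ⊥ F[J] c, F[J] y` and on `a ⊥ F[J] y` -/
theorem t1a_lo_eich_sing (U : UData Q) (c y : ι → F) (hc : Q c = 0) (hy : Q y = 0)
    (hcy : U.HOrth c y) (v : ι → F) :
    lo Q (eich U hQ hn c y) v = v + ℬ v c • U.J y - ℬ v (U.J c) • y + ℬ v y • U.J c -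
      ℬ v (U.J y) • c := by
  rw [lo_eich hQ hn U c y hc hcy v, hy]
  simp only [zero_mul, mul_zero, sub_zero, add_zero]
  module

include hQ hn in
/-- K-UF-T1a (570009). -/
theorem eich_step (U : UData Q) (M : Subgroup ↥(Cfsg.Omega F ⇑Q))
    (hH : ∀ k : ↥(Cfsg.Omega F ⇑Q), (∀ x, lo Q k (U.J x) = U.J (lo Q k x)) → k ∈ M)
    (h14 : 14 ≤ Fintype.card ι) (a b : ι → F) (ha0 : a ≠ 0) (ha : Q a = 0) (hb : Q b = 0)
    (hab : U.HOrth a b) (hbKa : b ∉ KL U a) (haRS : a ∈ RS Q hQ hn M b)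
    (y : ι → F) (hy : Q y = 0) (hay : U.HOrth a y) (hby : U.HOrth b y) (hyR : y ∉ KL U a ⊔ KL U b) :
    y ∈ RS Q hQ hn M b ∧ U.J y ∈ RS Q hQ hn M b := by
  classical
  set S : Finset (ι → F) := {b, U.J b, y, U.J y} with hS
  have hScard : S.card ≤ 4 := Finset.card_le_four
  -- `a ∉ span S`
  have hspan : Submodule.span F (S : Set (ι → F)) = KL U b ⊔ KL U y := by
    unfold KL
    rw [← Submodule.span_union, hS]
    congr 1
    ext z
    simp only [Finset.coe_insert, Finset.coe_singleton, Set.mem_insert_iff,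
      Set.mem_singleton_iff, Set.mem_union]
    tauto
  have haS : a ∉ Submodule.span F (S : Set (ι → F)) := by
    rw [hspan]
    intro hmem
    obtain ⟨β', hβ', η, hη, hsum⟩ := Submodule.mem_sup.mp hmem
    by_cases hη0 : η = 0
    · rw [hη0, add_zero] at hsum
      rw [hsum] at hβ'
      exact hbKa (mem_KL_symm U b a hβ' ha0)
    · have hyη : y ∈ KL U η := mem_KL_symm U y η hη hη0
      have hηR : η ∈ KL U a ⊔ KL U b := by
        have : η = a - β' := by rw [← hsum]; abel
        rw [this]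
        exact Submodule.sub_mem _ (Submodule.mem_sup_left (t1a_self_mem_KL U a))
          (Submodule.mem_sup_right hβ')
      exact hyR (t1a_KL_le U _ (t1a_sup_J_stable U a b) η hηR hyη)
  obtain ⟨c, hc, hcS, hac⟩ := exists_singular_orth_finset_one hQ hn S (by omega) a haS
  have hcb : U.HOrth c b :=
    t1a_hOrth_of_orth U c b (hcS b (by simp [hS])) (hcS (U.J b) (by simp [hS]))
  have hcy : U.HOrth c y :=
    t1a_hOrth_of_orth U c y (hcS y (by simp [hS])) (hcS (U.J y) (by simp [hS]))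
  -- inner products with `b` and `a`
  have hbc : ℬ b c = 0 := hcb.symm.1
  have hbJc : ℬ b (U.J c) = 0 := hcb.symm.B_right_J
  have hbJJc : ℬ b (U.J (U.J c)) = 0 := hcb.J_left.symm.B_right_J
  have hby0 : ℬ b y = 0 := hby.1
  have hbJy : ℬ b (U.J y) = 0 := hby.B_right_J
  have hay0 : ℬ a y = 0 := hay.1
  have haJy : ℬ a (U.J y) = 0 := hay.B_right_J
  set s : F := ℬ a (U.J c) with hs
  have haJJc : ℬ a (U.J (U.J c)) = U.tr * s - U.nm := by
    rw [U.sq, map_sub, map_smul, map_smul, hac, smul_eq_mul, smul_eq_mul, mul_one]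
  -- the two Eichler elements
  have hk₁ : eich U hQ hn c y ∈ M := hH _ (eich_comm hQ hn U c y hc hcy)
  have hJc : Q (U.J c) = 0 := U.Q_J c hc
  have hJcy : U.HOrth (U.J c) y := hcy.J_left
  have hk₂ : eich U hQ hn (U.J c) y ∈ M := hH _ (eich_comm hQ hn U (U.J c) y hJc hJcy)
  have hfix₁ : lo Q (eich U hQ hn c y) b = b := by
    rw [t1a_lo_eich_sing hQ hn U c y hc hy hcy b, hbc, hbJc, hby0, hbJy]
    simp
  have hfix₂ : lo Q (eich U hQ hn (U.J c) y) b = b := by
    rw [t1a_lo_eich_sing hQ hn U (U.J c) y hJc hy hJcy b, hbJc, hbJJc, hby0, hbJy]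
    simp
  have hmove₁ : lo Q (eich U hQ hn c y) a = a + (U.J y - s • y) := by
    rw [t1a_lo_eich_sing hQ hn U c y hc hy hcy a, hac, hay0, haJy, ← hs]
    simp only [one_smul, zero_smul, add_zero, sub_zero]
    abel
  have hmove₂ : lo Q (eich U hQ hn (U.J c) y) a =
      a + (s • U.J y - (U.tr * s - U.nm) • y) := by
    rw [t1a_lo_eich_sing hQ hn U (U.J c) y hJc hy hJcy a, haJJc, hay0, haJy, ← hs]
    simp only [zero_smul, add_zero, sub_zero]
    abel
  have hp : U.J y - s • y ∈ RS Q hQ hn M b := by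
    have h1 := RS_fix hQ hn M _ hk₁ b hb hfix₁ haRS
    rw [hmove₁] at h1
    have h2 := RS_sub hQ hn M b hb h1 haRS
    rwa [add_sub_cancel_left] at h2
  have hq : s • U.J y - (U.tr * s - U.nm) • y ∈ RS Q hQ hn M b := by
    have h1 := RS_fix hQ hn M _ hk₂ b hb hfix₂ haRS
    rw [hmove₂] at h1
    have h2 := RS_sub hQ hn M b hb h1 haRS
    rwa [add_sub_cancel_left] at h2
  -- solve the linear system
  set d : F := s ^ 2 - U.tr * s + U.nm with hd
  have hd0 : d ≠ 0 := by
    have := U.normForm_ne_zero s 1 (fun h => one_ne_zero h.2)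
    rw [hd]
    intro h0
    apply this
    rw [← h0]; ring
  have hdy : d • y ∈ RS Q hQ hn M b := by
    have h1 := RS_sub hQ hn M b hb hq (RS_smul hQ hn M b hp s)
    have : s • U.J y - (U.tr * s - U.nm) • y - s • (U.J y - s • y) = d • y := by
      rw [hd]; module
    rwa [this] at h1
  have hyRS : y ∈ RS Q hQ hn M b := by
    have h1 := RS_smul hQ hn M b hdy d⁻¹
    rwa [smul_smul, inv_mul_cancel₀ hd0, one_smul] at h1
  refine ⟨hyRS, ?_⟩
  have h1 := RS_add hQ hn M b hb hp (RS_smul hQ hn M b hyRS s)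
  rwa [sub_add_cancel] at h1

end Cfsg.Agent.Lib.Helper70.UF
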